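import Cfsg.Statements.S0638
import Mathlib
import Cfsg.Agent.Lib.Helper26.GrpMeta
import Cfsg.Agent.Lib.Helper17.NormalRankTwo

set_option autoImplicit false
open Cfsg

namespace Cfsg.Agent.S0638


theorem omega_aux {R : Type*} [Group R] [Finite R] {p : ℕ} [Fact p.Prime] (hp : p ≠ 2)
    (hR : IsPGroup p R) (hm : Cfsg.IsMetacyclic R) (hnc : ¬ IsCyclic R) :
    Cfsg.IsElementaryAbelian p (Subgroup.closure {x : R | x ^ p = 1}) ∧
      Nat.card (Subgroup.closure {x : R | x ^ p = 1}) = p ^ 2 := by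
  obtain ⟨V, Z, hV, hVc, -, -, -, -, hVab⟩ := Cfsg.Agent.Lib.Helper26.metacyclic_omega hp hR hm
  have hcl : Subgroup.closure {x : R | x ^ p = 1} = V := by
    apply le_antisymm
    · rw [Subgroup.closure_le]
      intro x hx
      exact (hV x).mpr hx
    · intro x hx
      exact Subgroup.subset_closure ((hV x).mp hx)
  rw [hcl]
  have htop : ¬ IsCyclic ↥(⊤ : Subgroup R) := by
    intro h
    exact hnc (isCyclic_of_surjective (Subgroup.topEquiv : (⊤ : Subgroup R) ≃* R).toMonoidHom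
      (Subgroup.topEquiv : (⊤ : Subgroup R) ≃* R).surjective)
  obtain ⟨A, -, -, hA, hAc⟩ := Cfsg.Agent.Lib.Helper17.exists_normal_rank_two hp hR ⊤
    inferInstance htop
  have hAV : A ≤ V := fun x hx => (hV x).mpr (hA.2 x hx)
  refine ⟨⟨⟨⟨fun a b => Subtype.ext (hVab a.1 a.2 b.1 b.2)⟩⟩, fun a ha => (hV a).mp ha⟩, ?_⟩
  apply le_antisymm hVc
  rw [← hAc]
  exact Subgroup.card_le_of_le hAV


/-- For odd p, in a non-cyclic metacyclic p-group the elements of order dividing p generate an elementary abelian subgroup of order p². -/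
theorem result {R : Type*} [Group R] [Finite R] {p : ℕ} [Fact p.Prime] (hp : p ≠ 2) (hR : IsPGroup p R) (hm : Cfsg.IsMetacyclic R) (hnc : ¬ IsCyclic R) : Cfsg.IsElementaryAbelian p (Cfsg.omegaOne p (⊤ : Subgroup R)) ∧ Nat.card ↥(Cfsg.omegaOne p (⊤ : Subgroup R)) = p ^ 2 := by
  have h := omega_aux hp hR hm hnc
  have heq : Cfsg.omegaOne p (⊤ : Subgroup R) = Subgroup.closure {x : R | x ^ p = 1} := by
    unfold Cfsg.omegaOne
    congr 1
    ext x
    simp
  rw [heq]
  exact h

end Cfsg.Agent.S0638
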