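import Cfsg.Statements.S4207
import Cfsg.Agent.Lib.Helper22.PGen

set_option autoImplicit false
open Cfsg

namespace Cfsg.Agent.S4207

open Cfsg.Agent.Lib.Helper22

/-- A tuple generating modulo the Frattini subgroup generates. -/
theorem closure_eq_top_of_mk {P : Type*} [Group P] [Finite P] {r : ℕ} (z : Fin r → P)
    (h : Subgroup.closure (Set.range (fun i => (QuotientGroup.mk (z i) : P ⧸ frattini P))) = ⊤) :
    Subgroup.closure (Set.range z) = ⊤ := by
  apply frattini_nongenerating
  have h1 : (Subgroup.closure (Set.range z)).map (QuotientGroup.mk' (frattini P)) = ⊤ := by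
    rw [MonoidHom.map_closure, ← Set.range_comp]
    exact h
  have h2 := Subgroup.comap_map_eq (QuotientGroup.mk' (frattini P)) (Subgroup.closure (Set.range z))
  rw [h1, Subgroup.comap_top, QuotientGroup.ker_mk'] at h2
  exact h2.symm

/-- Let `P` be a group of order `p^n` whose Frattini subgroup has index `p^r`. Then any group of automorphisms of `P` each of which induces the identity on the Frattini quotient has order dividing `p^(r(n-r))`; in particular it is a `p`-group. -/
theorem result {P : Type*} [Group P] [Finite P] {p n r : ℕ} [Fact p.Prime] (hP : Nat.card P = p ^ n) (hr : (frattini P).index = p ^ r) (A : Subgroup (MulAut P)) (hA : ∀ α ∈ A, ∀ x : P, α x * x⁻¹ ∈ frattini P) : Nat.card A ∣ p ^ (r * (n - r)) := by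
  classical
  have hp : p.Prime := Fact.out
  obtain ⟨g, hg⟩ := exists_generators_of_card_eq_pow p r (P ⧸ frattini P) (by rw [← hr]; rfl)
  choose y hy using fun i => QuotientGroup.mk_surjective (g i)
  let Ω : SubMulAction A (Fin r → P) :=
    { carrier := {z | ∀ i, z i * (y i)⁻¹ ∈ frattini P}
      smul_mem' := by
        intro α z hz i
        have h1 := hA α α.2 (z i)
        have h2 := (frattini P).mul_mem h1 (hz i)
        have h3 : (α • z) i = (α : MulAut P) (z i) := rfl
        rw [h3]
        simpa [mul_assoc] using h2 }
  have hfree : ∀ z : Ω, MulAction.stabilizer A z = ⊥ := by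
    intro z
    rw [eq_bot_iff]
    intro α hα
    rw [MulAction.mem_stabilizer_iff] at hα
    have hα' : ∀ i, (α : MulAut P) ((z : Fin r → P) i) = (z : Fin r → P) i := by
      intro i
      have := congrArg (fun w : Ω => (w : Fin r → P) i) hα
      exact this
    have hgen : Subgroup.closure (Set.range (z : Fin r → P)) = ⊤ := by
      apply closure_eq_top_of_mk
      have : (fun i => (QuotientGroup.mk ((z : Fin r → P) i) : P ⧸ frattini P)) = g := by
        funext i
        rw [← hy i, QuotientGroup.eq]
        have h1 := (frattini P).inv_mem (z.2 i)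
        have h2 : ((z : Fin r → P) i)⁻¹ * y i = ((z : Fin r → P) i)⁻¹ * (((z : Fin r → P) i * (y i)⁻¹)⁻¹) * ((z : Fin r → P) i)⁻¹⁻¹ := by
          group
        rw [h2]
        exact (inferInstance : (frattini P).Normal).conj_mem _ h1 _
      rw [this]; exact hg
    have h1 : ((α : MulAut P) : P ≃* P).toMonoidHom = MonoidHom.id P := by
      apply MonoidHom.eq_of_eqOn_dense hgen
      rintro _ ⟨i, rfl⟩
      exact hα' i
    rw [Subgroup.mem_bot]
    apply Subtype.ext
    ext x
    exact congrArg (fun f : P →* P => f x) h1
  have e1 := MulAction.selfEquivOrbitsQuotientProd hfree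
  have hcard1 : Nat.card Ω = Nat.card (Quotient (MulAction.orbitRel A Ω)) * Nat.card A := by
    rw [Nat.card_congr e1, Nat.card_prod]
  let e2 : Ω ≃ (Fin r → frattini P) :=
    { toFun := fun z i => ⟨(z : Fin r → P) i * (y i)⁻¹, z.2 i⟩
      invFun := fun u => ⟨fun i => (u i : P) * y i, fun i => by simp⟩
      left_inv := by
        intro z
        apply Subtype.ext
        funext i
        simp
      right_inv := by
        intro u
        funext i
        apply Subtype.ext
        simp }
  have hcard2 : Nat.card Ω = Nat.card (frattini P) ^ r := by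
    rw [Nat.card_congr e2, Nat.card_fun, Nat.card_eq_fintype_card (α := Fin r), Fintype.card_fin]
  have hΦ : Nat.card (frattini P) = p ^ (n - r) := by
    have h1 := Subgroup.card_mul_index (frattini P)
    rw [hr, hP] at h1
    have hrn : r ≤ n := by
      have : p ^ r ∣ p ^ n := ⟨_, by rw [← h1, mul_comm]⟩
      exact (Nat.pow_dvd_pow_iff_le_right hp.one_lt).mp this
    have h2 : p ^ n = p ^ (n - r) * p ^ r := by rw [← pow_add]; congr 1; omega
    rw [h2] at h1
    exact Nat.eq_of_mul_eq_mul_right (pow_pos hp.pos r) h1
  rw [hcard2, hΦ, ← pow_mul, mul_comm (n - r) r] at hcard1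
  exact ⟨_, by rw [hcard1, mul_comm]⟩

end Cfsg.Agent.S4207
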