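import Cfsg.Statements.S1896
import Mathlib
import Cfsg.Agent.Lib.Helper1.Class2
import Cfsg.Agent.Lib.Helper23.Recog
import Cfsg.Agent.S4207

set_option autoImplicit false
open Cfsg

namespace Cfsg.Agent.S1896


open scoped commutatorElement

theorem eq_pow_of_order_two {X : Type*} [Group X] [Finite X] {a y : X} {m : ℕ} (ha : orderOf a = 2 ^ (m + 1))
    (hy : y ∈ Subgroup.zpowers a) (hy2 : orderOf y = 2) : y = a ^ (2 ^ m) := by
  rw [← mem_powers_iff_mem_zpowers] at hy
  obtain ⟨s, rfl⟩ := hy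
  have h1 : (a ^ s) ^ 2 = 1 := by rw [← hy2]; exact pow_orderOf_eq_one _
  rw [← pow_mul] at h1
  have h2 : 2 ^ (m + 1) ∣ s * 2 := ha ▸ orderOf_dvd_of_pow_eq_one h1
  rw [pow_succ] at h2
  obtain ⟨t, rfl⟩ := Nat.dvd_of_mul_dvd_mul_right (by norm_num) h2
  have he : (a ^ 2 ^ m) ^ 2 = 1 := by
    rw [← pow_mul, ← pow_succ, ← ha]; exact pow_orderOf_eq_one _
  simp only [] at hy2 ⊢
  rw [pow_mul] at hy2 ⊢
  rcases Nat.even_or_odd' t with ⟨q, rfl | rfl⟩
  · rw [pow_mul, he, one_pow, orderOf_one] at hy2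
    omega
  · rw [pow_succ, pow_mul, he, one_pow, one_mul]

theorem choose_two_pow (t : ℕ) : (2 ^ (t + 1)).choose 2 = 2 ^ t * (2 ^ (t + 1) - 1) := by
  rw [Nat.choose_two_right, pow_succ 2 t, mul_comm (2 ^ t) 2, mul_assoc, Nat.mul_div_cancel_left _ (by norm_num)]

theorem comm_of_mem_zpowers {X : Type*} [Group X] {g x y : X} (hx : x ∈ Subgroup.zpowers g)
    (hy : y ∈ Subgroup.zpowers g) : x * y = y * x := by
  obtain ⟨s, rfl⟩ := hx
  obtain ⟨t, rfl⟩ := hy
  exact (Commute.zpow_zpow_self g s t)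

theorem mul_inv_mem_of_relIndex_dvd_two {Y : Type*} [Group Y] {H K : Subgroup Y} (h : H.relIndex K ∣ 2)
    {x y : Y} (hx : x ∈ K) (hy : y ∈ K) (hxy : x ∈ H ↔ y ∈ H) : x * y⁻¹ ∈ H := by
  rcases (Nat.dvd_prime Nat.prime_two).1 h with h1 | h2
  · exact (Subgroup.relIndex_eq_one.1 h1) (K.mul_mem hx (K.inv_mem hy))
  · have := Subgroup.mul_mem_iff_of_index_two (H := H.subgroupOf K) h2 (a := ⟨x, hx⟩) (b := ⟨y, hy⟩⁻¹)
    rw [Subgroup.inv_mem_iff] at this
    simp only [Subgroup.mem_subgroupOf] at this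
    exact this.2 hxy

theorem index_dvd_two {Y : Type*} [Group Y] (K : Subgroup Y) [K.Normal] (hc : IsCyclic (Y ⧸ K))
    (hsq : ∀ y : Y, y ^ 2 ∈ K) : K.index ∣ 2 := by
  rw [Subgroup.index_eq_card, ← IsCyclic.exponent_eq_card]
  apply Monoid.exponent_dvd_of_forall_pow_eq_one
  intro g
  induction g using QuotientGroup.induction_on with
  | H y => rw [← QuotientGroup.mk_pow]; exact (QuotientGroup.eq_one_iff _).2 (hsq y)

theorem sup_eq_top_of_index {Y : Type*} [Group Y] [Finite Y] {M M' : Subgroup Y} (h : M.index ∣ 2)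
    (hc : Nat.card M' = Nat.card M) (hne : M' ≠ M) : M ⊔ M' = ⊤ := by
  have h1 : (M ⊔ M').index ∣ 2 := (Subgroup.index_dvd_of_le le_sup_left).trans h
  rcases (Nat.dvd_prime Nat.prime_two).1 h1 with h1 | h2
  · exact Subgroup.index_eq_one.1 h1
  · exfalso
    have h3 : M.index = 2 := by
      rcases (Nat.dvd_prime Nat.prime_two).1 h with h3 | h3
      · rw [Subgroup.index_eq_one] at h3
        rw [h3, top_sup_eq, Subgroup.index_top] at h2
        omega
      · exact h3
    have h4 := Subgroup.card_mul_index M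
    have h5 := Subgroup.card_mul_index (M ⊔ M')
    rw [h3] at h4
    rw [h2] at h5
    have h6 : M = M ⊔ M' := Subgroup.eq_of_le_of_card_ge le_sup_left (by omega)
    have h7 : M' ≤ M := by rw [h6]; exact le_sup_right
    exact hne (Subgroup.eq_of_le_of_card_ge h7 hc.ge)


open Cfsg.Agent.Lib.Helper1 in
theorem key {X : Type*} [Group X] [Finite X] (hX : IsPGroup 2 X) (a b c : X)
    (hNa : (Subgroup.zpowers a).Normal) (hNb : (Subgroup.zpowers b).Normal)
    (hab : orderOf b = orderOf a) (hac : orderOf c = orderOf a)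
    (h01 : Subgroup.zpowers a ⊔ Subgroup.zpowers b = ⊤)
    (h02 : Subgroup.zpowers a ⊔ Subgroup.zpowers c = ⊤)
    (h12 : Subgroup.zpowers b ⊔ Subgroup.zpowers c = ⊤)
    (hne : Subgroup.zpowers a ≠ ⊤) :
    Nonempty (X ≃* QuaternionGroup 2) ∨
      ∃ n : ℕ, Nonempty (X ≃* Multiplicative (ZMod (2 ^ n)) × Multiplicative (ZMod (2 ^ n))) := by
  haveI : Fact (Nat.Prime 2) := ⟨Nat.prime_two⟩
  obtain ⟨m, hm⟩ := IsPGroup.iff_orderOf.mp hX a
  obtain ⟨n, hn⟩ := IsPGroup.iff_card.mp hX
  have hca : Nat.card (Subgroup.zpowers a) = 2 ^ m := by rw [Nat.card_zpowers, hm]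
  have hcb : Nat.card (Subgroup.zpowers b) = 2 ^ m := by rw [Nat.card_zpowers, hab, hm]
  by_cases hD : Subgroup.zpowers a ⊓ Subgroup.zpowers b = ⊥
  · right
    refine ⟨m, ?_⟩
    have comm : ∀ (x : Subgroup.zpowers a) (y : Subgroup.zpowers b),
        Commute ((Subgroup.zpowers a).subtype x) ((Subgroup.zpowers b).subtype y) := fun x y =>
      Subgroup.commute_of_normal_of_disjoint _ _ hNa hNb (disjoint_iff.2 hD) x y x.2 y.2
    have hinj : Function.Injective (MonoidHom.noncommCoprod _ _ comm) := by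
      rw [MonoidHom.noncommCoprod_injective]
      refine ⟨Subgroup.subtype_injective _, Subgroup.subtype_injective _, ?_⟩
      rw [Subgroup.range_subtype, Subgroup.range_subtype]
      exact disjoint_iff.2 hD
    have hsurj : Function.Surjective (MonoidHom.noncommCoprod _ _ comm) := by
      rw [← MonoidHom.range_eq_top, MonoidHom.noncommCoprod_range, Subgroup.range_subtype,
        Subgroup.range_subtype, h01]
    have e := MulEquiv.ofBijective _ ⟨hinj, hsurj⟩
    have e1 : Subgroup.zpowers a ≃* Multiplicative (ZMod (2 ^ m)) :=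
      mulEquivOfCyclicCardEq (by rw [hca, Nat.card_eq_fintype_card, Fintype.card_multiplicative, ZMod.card])
    have e2 : Subgroup.zpowers b ≃* Multiplicative (ZMod (2 ^ m)) :=
      mulEquivOfCyclicCardEq (by rw [hcb, Nat.card_eq_fintype_card, Fintype.card_multiplicative, ZMod.card])
    exact ⟨e.symm.trans (MulEquiv.prodCongr e1 e2)⟩
  · left
    have hDc : ∀ d ∈ Subgroup.zpowers a ⊓ Subgroup.zpowers b, d ∈ Subgroup.center X := by
      intro d hd
      rw [Subgroup.mem_center_iff]
      intro g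
      have hg : g ∈ Subgroup.zpowers a ⊔ Subgroup.zpowers b := by rw [h01]; trivial
      obtain ⟨y, hy, z, hz, rfl⟩ := Subgroup.mem_sup_of_normal_right.1 hg
      rw [mul_assoc, comm_of_mem_zpowers hz hd.2, ← mul_assoc, comm_of_mem_zpowers hy hd.1, mul_assoc]
    have hcomD : ∀ u ∈ Subgroup.zpowers a, ∀ v ∈ Subgroup.zpowers b,
        ⁅v, u⁆ ∈ Subgroup.zpowers a ⊓ Subgroup.zpowers b := by
      intro u hu v hv
      rw [commutatorElement_def]
      constructor
      · exact Subgroup.mul_mem _ (hNa.conj_mem u hu v) (Subgroup.inv_mem _ hu)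
      · have := Subgroup.mul_mem _ hv (hNb.conj_mem v⁻¹ (Subgroup.inv_mem _ hv) u)
        simpa [mul_assoc] using this
    have hcl2 : Class2 X := by
      have h1 : ∀ u ∈ Subgroup.zpowers a, ∀ v ∈ Subgroup.zpowers b,
          Commute (QuotientGroup.mk' (Subgroup.center X) v) (QuotientGroup.mk' (Subgroup.center X) u) := by
        intro u hu v hv
        rw [← commutatorElement_eq_one_iff_commute, ← map_commutatorElement]
        exact (QuotientGroup.eq_one_iff _).2 (hDc _ (hcomD u hu v hv))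
      have h2 : ∀ u ∈ Subgroup.zpowers a, ∀ u' ∈ Subgroup.zpowers a,
          Commute (QuotientGroup.mk' (Subgroup.center X) u) (QuotientGroup.mk' (Subgroup.center X) u') :=
        fun u hu u' hu' => (show Commute u u' from comm_of_mem_zpowers hu hu').map _
      have h3 : ∀ u ∈ Subgroup.zpowers b, ∀ u' ∈ Subgroup.zpowers b,
          Commute (QuotientGroup.mk' (Subgroup.center X) u) (QuotientGroup.mk' (Subgroup.center X) u') :=
        fun u hu u' hu' => (show Commute u u' from comm_of_mem_zpowers hu hu').map _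
      intro x y
      obtain ⟨u, hu, v, hv, rfl⟩ := Subgroup.mem_sup_of_normal_right.1
        (show x ∈ Subgroup.zpowers a ⊔ Subgroup.zpowers b by rw [h01]; trivial)
      obtain ⟨u', hu', v', hv', rfl⟩ := Subgroup.mem_sup_of_normal_right.1
        (show y ∈ Subgroup.zpowers a ⊔ Subgroup.zpowers b by rw [h01]; trivial)
      have hC : Commute (QuotientGroup.mk' (Subgroup.center X) (u * v))
          (QuotientGroup.mk' (Subgroup.center X) (u' * v')) := by
        rw [map_mul, map_mul]
        exact ((h2 u hu u' hu').mul_right (h1 u hu v' hv').symm).mul_left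
          ((h1 u' hu' v hv).mul_right (h3 v hv v' hv'))
      rw [← commutatorElement_eq_one_iff_commute, ← map_commutatorElement] at hC
      exact (QuotientGroup.eq_one_iff _).1 hC
    obtain ⟨k, hk⟩ : ∃ k, (Subgroup.zpowers a).index = 2 ^ k := by
      have : (Subgroup.zpowers a).index ∣ 2 ^ n := hn ▸ (Subgroup.zpowers a).index_dvd_card
      obtain ⟨k, -, hk⟩ := (Nat.dvd_prime_pow Nat.prime_two).1 this
      exact ⟨k, hk⟩
    have hkb : (Subgroup.zpowers b).index = 2 ^ k := by
      have h1 := (Subgroup.zpowers a).card_mul_index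
      have h2 := (Subgroup.zpowers b).card_mul_index
      rw [hca] at h1
      rw [hcb] at h2
      rw [← hk]
      exact Nat.eq_of_mul_eq_mul_left (pow_pos two_pos m) (h2.trans h1.symm)
    have hk1 : 1 ≤ k := by
      by_contra hcon
      have : k = 0 := by omega
      rw [this, pow_zero, Subgroup.index_eq_one] at hk
      exact hne hk
    have hDcard : Nat.card (Subgroup.zpowers a ⊓ Subgroup.zpowers b : Subgroup X) * 2 ^ k = 2 ^ m := by
      have h1 : (Subgroup.zpowers a ⊓ Subgroup.zpowers b).relIndex (Subgroup.zpowers a) = 2 ^ k := by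
        rw [Subgroup.inf_relIndex_left, ← hkb, ← Subgroup.relIndex_top_right, ← h01,
          Subgroup.relIndex_sup_right]
      have h2 := Subgroup.relIndex_mul_relIndex ⊥ (Subgroup.zpowers a ⊓ Subgroup.zpowers b)
        (Subgroup.zpowers a) bot_le inf_le_left
      rw [Subgroup.relIndex_bot_left, Subgroup.relIndex_bot_left, h1, hca] at h2
      exact h2
    obtain ⟨e, he⟩ : ∃ e, Nat.card (Subgroup.zpowers a ⊓ Subgroup.zpowers b : Subgroup X) = 2 ^ e := by
      have : Nat.card (Subgroup.zpowers a ⊓ Subgroup.zpowers b : Subgroup X) ∣ 2 ^ m := ⟨_, hDcard.symm⟩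
      obtain ⟨e, -, he⟩ := (Nat.dvd_prime_pow Nat.prime_two).1 this
      exact ⟨e, he⟩
    have hek : e + k = m := by
      rw [he, ← pow_add] at hDcard
      exact Nat.pow_right_injective (le_refl 2) hDcard
    have he1 : 1 ≤ e := by
      by_contra hcon
      have : e = 0 := by omega
      rw [this, pow_zero, Subgroup.card_eq_one] at he
      exact hD he
    obtain ⟨t, rfl⟩ : ∃ t, m = t + 2 := ⟨m - 2, by omega⟩
    have hord : ∀ y : X, orderOf y = 2 ^ (t + 2) → orderOf (y ^ 2 ^ (t + 1)) = 2 := by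
      intro y hy
      rw [orderOf_pow_of_dvd (by positivity) (by rw [hy]; exact pow_dvd_pow 2 (by omega)), hy,
        pow_succ 2 (t + 1), Nat.mul_div_cancel_left _ (by positivity)]
    have hpz : ∀ y : X, orderOf y = 2 ^ (t + 2) → y ^ 2 ^ (t + 1) = a ^ 2 ^ (t + 1) := by
      intro y hy
      apply eq_pow_of_order_two (m := t + 1) hm _ (hord y hy)
      have h1 : y ^ 2 ^ k ∈ Subgroup.zpowers a := hk ▸ (Subgroup.zpowers a).pow_index_mem y
      have h2 : y ^ 2 ^ (t + 1) = (y ^ 2 ^ k) ^ 2 ^ (t + 1 - k) := by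
        rw [← pow_mul, ← pow_add]
        congr 2
        omega
      rw [h2]
      exact Subgroup.pow_mem _ h1 _
    have hfr := (pgroup_frattini hX).2
    have hnb : Subgroup.zpowers b ≠ ⊤ := by
      intro h
      rw [h, Subgroup.index_top] at hkb
      have : 2 ^ 1 ≤ 2 ^ k := Nat.pow_le_pow_right (by norm_num) hk1
      omega
    obtain ⟨u, hu, v, hv, huv⟩ := Subgroup.mem_sup_of_normal_right.1
      (show c ∈ Subgroup.zpowers a ⊔ Subgroup.zpowers b by rw [h01]; trivial)
    rw [← mem_powers_iff_mem_zpowers] at hu hv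
    obtain ⟨i, rfl⟩ := hu
    obtain ⟨j, rfl⟩ := hv
    simp only [] at huv
    have hj : Odd j := by
      by_contra hcon
      rw [Nat.not_odd_iff_even] at hcon
      obtain ⟨s, rfl⟩ := hcon
      apply hne
      apply frattini_nongenerating
      rw [eq_top_iff, ← h02]
      apply sup_le le_sup_left
      rw [Subgroup.zpowers_le, ← huv]
      refine Subgroup.mul_mem _ (Subgroup.mem_sup_left (Subgroup.pow_mem _ (Subgroup.mem_zpowers a) i))
        (Subgroup.mem_sup_right ?_)
      rw [← two_mul, pow_mul]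
      exact Subgroup.pow_mem _ (hfr b) s
    have hi : Odd i := by
      by_contra hcon
      rw [Nat.not_odd_iff_even] at hcon
      obtain ⟨s, rfl⟩ := hcon
      apply hnb
      apply frattini_nongenerating
      rw [eq_top_iff, ← h12]
      apply sup_le le_sup_left
      rw [Subgroup.zpowers_le, ← huv]
      refine Subgroup.mul_mem _ (Subgroup.mem_sup_right ?_)
        (Subgroup.mem_sup_left (Subgroup.pow_mem _ (Subgroup.mem_zpowers b) j))
      rw [← two_mul, pow_mul]
      exact Subgroup.pow_mem _ (hfr a) s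
    have hz2 := hord a hm
    have hzz : (a ^ 2 ^ (t + 1)) ^ 2 = 1 := by
      have := pow_orderOf_eq_one (a ^ 2 ^ (t + 1))
      rwa [hz2] at this
    have hzodd : ∀ r : ℕ, Odd r → (a ^ 2 ^ (t + 1)) ^ r = a ^ 2 ^ (t + 1) := by
      rintro r ⟨q, rfl⟩
      rw [pow_succ, pow_mul, hzz, one_pow, one_mul]
    have hwD : ⁅b ^ j, a ^ i⁆ ∈ Subgroup.zpowers a ⊓ Subgroup.zpowers b :=
      hcomD _ (Subgroup.pow_mem _ (Subgroup.mem_zpowers a) i) _ (Subgroup.pow_mem _ (Subgroup.mem_zpowers b) j)
    have hmain : a ^ 2 ^ (t + 1) = ⁅b ^ j, a ^ i⁆ ^ (2 ^ t * (2 ^ (t + 1) - 1)) := by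
      have h1 := hcl2.mul_pow (a ^ i) (b ^ j) (2 ^ (t + 1))
      rw [huv, hpz c (hac.trans hm), choose_two_pow, ← pow_mul a, mul_comm i, pow_mul a, ← pow_mul b,
        mul_comm j, pow_mul b, hpz b (hab.trans hm), hzodd i hi, hzodd j hj, ← pow_two (a ^ 2 ^ (t + 1)), hzz, one_mul] at h1
      exact h1
    have hw_e : ⁅b ^ j, a ^ i⁆ ^ 2 ^ e = 1 := by
      have := pow_card_eq_one' (G := (Subgroup.zpowers a ⊓ Subgroup.zpowers b : Subgroup X))
        (x := ⟨⁅b ^ j, a ^ i⁆, hwD⟩)
      rw [he] at this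
      exact congrArg Subtype.val this
    have hznot : ⁅b ^ j, a ^ i⁆ ^ 2 ^ t ≠ 1 := by
      intro h
      rw [pow_mul, h, one_pow] at hmain
      rw [hmain, orderOf_one] at hz2
      omega
    have hk_eq : k = 1 := by
      by_contra hcon
      have hle : e ≤ t := by omega
      apply hznot
      rw [show t = e + (t - e) by omega, pow_add, pow_mul, hw_e, one_pow]
    have ha2 : a ^ 2 ∈ Subgroup.center X := by
      apply hDc
      refine ⟨Subgroup.pow_mem _ (Subgroup.mem_zpowers a) 2, ?_⟩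
      have := (Subgroup.zpowers b).pow_index_mem a
      rwa [hkb, hk_eq, pow_one] at this
    have hcen : ∀ (g : X) (r : ℕ), ⁅g, a ^ r⁆ ^ 2 = 1 := by
      intro g r
      rw [← hcl2.pow_right, ← pow_mul, mul_comm, pow_mul, commutatorElement_eq_one_iff_mul_comm]
      exact (Subgroup.mem_center_iff.1 (Subgroup.pow_mem _ ha2 r) _)
    have ht : t = 0 := by
      by_contra hcon
      apply hznot
      obtain ⟨t', rfl⟩ : ∃ t', t = t' + 1 := ⟨t - 1, by omega⟩
      rw [pow_succ', pow_mul, hcen, one_pow]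
    subst ht
    have hq1 : ⁅b, a⁆ ≠ 1 := by
      intro h
      apply hznot
      rw [hcl2.pow_left, hcl2.pow_right, h]
      simp
    have hq2 : orderOf ⁅b, a⁆ = 2 := by
      apply orderOf_eq_prime _ hq1
      have := hcen b 1
      rwa [pow_one] at this
    have hq : ⁅b, a⁆ = a ^ 2 ^ 1 :=
      eq_pow_of_order_two (m := 1) hm (hcomD a (Subgroup.mem_zpowers a) b (Subgroup.mem_zpowers b)).1 hq2
    have ha4 : a ^ 4 = 1 := by
      have := pow_orderOf_eq_one a
      rw [hm] at this
      simpa using this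
    apply Cfsg.Agent.Lib.Helper23.nonempty_mulEquiv_quaternionGroup 2 a b
    · rw [hm]; norm_num
    · have := hpz b (hab.trans hm)
      simpa [pow_two] using this
    · rw [commutatorElement_def, mul_inv_eq_iff_eq_mul] at hq
      rw [hq]
      apply eq_inv_of_mul_eq_one_left
      rw [pow_one, ← pow_succ, ← pow_succ]
      exact ha4
    · intro hb
      apply hne
      rw [← h01]
      exact (sup_eq_left.2 ((Subgroup.zpowers_le).2 hb)).symm
    · have := (Subgroup.zpowers a).card_mul_index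
      rw [hca, hk, hk_eq] at this
      rw [← this]; norm_num




/-- A finite metacyclic 2-group whose automorphism group is not a 2-group is isomorphic to the quaternion group of order 8 or to a homocyclic abelian group Z_{2^n} × Z_{2^n}. -/
theorem result {X : Type*} [Group X] [Finite X] (hX : IsPGroup 2 X)
    (hm : Cfsg.IsMetacyclic X) (hA : ¬ IsPGroup 2 (MulAut X)) :
    Nonempty (X ≃* QuaternionGroup 2) ∨
      ∃ n : ℕ, Nonempty (X ≃* Multiplicative (ZMod (2 ^ n)) × Multiplicative (ZMod (2 ^ n))) := by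
  have : Fact (Nat.Prime 2) := ⟨Nat.prime_two⟩
  obtain ⟨N, hN, hNc, hQc⟩ := hm
  obtain ⟨n, hn⟩ := IsPGroup.iff_card.mp hX
  have hfr := (Cfsg.Agent.Lib.Helper1.pgroup_frattini hX).2
  have hM0 : (N ⊔ frattini X).index ∣ 2 := by
    have hcyc : IsCyclic (X ⧸ (N ⊔ frattini X)) := by
      have hsurj : Function.Surjective (QuotientGroup.map N (N ⊔ frattini X) (MonoidHom.id X)
          (fun x hx => Subgroup.mem_sup_left hx)) := by
        intro q
        induction q using QuotientGroup.induction_on with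
        | H y => exact ⟨QuotientGroup.mk y, rfl⟩
      exact isCyclic_of_surjective _ hsurj
    exact index_dvd_two _ hcyc (fun y => Subgroup.mem_sup_right (hfr y))
  have hΦ : (frattini X).relIndex (N ⊔ frattini X) ∣ 2 := by
    rw [Subgroup.relIndex_sup_right]
    have hcq : IsCyclic (↥N ⧸ (frattini X).subgroupOf N) :=
      isCyclic_of_surjective (QuotientGroup.mk' ((frattini X).subgroupOf N)) (QuotientGroup.mk'_surjective _)
    exact index_dvd_two ((frattini X).subgroupOf N) hcq
      (fun y => by rw [Subgroup.mem_subgroupOf]; exact hfr y)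
  let A : Subgroup (MulAut X) :=
    { carrier := {α | ∀ x : X, α x * x⁻¹ ∈ frattini X}
      mul_mem' := by
        intro α β hα hβ x
        have := (frattini X).mul_mem (hα (β x)) (hβ x)
        simpa [MulAut.mul_apply, mul_assoc] using this
      one_mem' := by intro x; simp
      inv_mem' := by
        intro α hα x
        have := (frattini X).inv_mem (hα (α⁻¹ x))
        simpa using this }
  have hA2 : ∀ δ ∈ A, ∀ r : ℕ, Odd r → δ ^ r = 1 → δ = 1 := by
    intro δ hδ r hr hδr
    obtain ⟨r0, hr0⟩ : ∃ r0, (frattini X).index = 2 ^ r0 := by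
      have : (frattini X).index ∣ 2 ^ n := hn ▸ (frattini X).index_dvd_card
      obtain ⟨k, -, hk⟩ := (Nat.dvd_prime_pow Nat.prime_two).1 this
      exact ⟨k, hk⟩
    have hcard := Cfsg.Agent.S4207.result hn hr0 A (fun α hα => hα)
    have h1 : orderOf δ ∣ 2 ^ (r0 * (n - r0)) := by
      have := orderOf_dvd_natCard (⟨δ, hδ⟩ : A)
      rw [Subgroup.orderOf_mk] at this
      exact this.trans hcard
    have h2 : orderOf δ ∣ r := orderOf_dvd_of_pow_eq_one hδr
    have hc : Nat.Coprime (2 ^ (r0 * (n - r0))) r := (Nat.coprime_two_left.2 hr).pow_left _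
    rw [← orderOf_eq_one_iff]
    exact Nat.dvd_one.1 (hc ▸ Nat.dvd_gcd h1 h2)
  have hmove : ∀ δ : MulAut X, δ ≠ 1 → ∀ r : ℕ, Odd r → δ ^ r = 1 →
      (N ⊔ frattini X).map δ.toMonoidHom ≠ N ⊔ frattini X := by
    intro δ hδ r hr hδr hmap
    have hiff : ∀ x, δ x ∈ N ⊔ frattini X ↔ x ∈ N ⊔ frattini X := by
      intro x
      constructor
      · intro hx
        rw [← hmap] at hx
        obtain ⟨y, hy, hyx⟩ := hx
        have : y = x := δ.injective hyx
        exact this ▸ hy
      · intro hx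
        rw [← hmap]
        exact ⟨x, hx, rfl⟩
    have hch : (frattini X).comap δ.toMonoidHom = frattini X :=
      Subgroup.Characteristic.fixed inferInstance δ
    have hiffΦ : ∀ x, δ x ∈ frattini X ↔ x ∈ frattini X := fun x => by
      constructor
      · intro h; rw [← hch]; exact h
      · intro h; rw [← hch] at h; exact h
    have h1 : ∀ x, δ x * x⁻¹ ∈ N ⊔ frattini X := fun x =>
      mul_inv_mem_of_relIndex_dvd_two (K := ⊤) (by rwa [Subgroup.relIndex_top_right]) trivial trivial (hiff x)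
    have h2 : ∀ y ∈ N ⊔ frattini X, δ y * y⁻¹ ∈ frattini X := fun y hy =>
      mul_inv_mem_of_relIndex_dvd_two hΦ ((hiff y).2 hy) hy (hiffΦ y)
    have h3 : δ ^ 2 ∈ A := by
      intro x
      have e : (δ ^ 2) x * x⁻¹ = (δ (δ x * x⁻¹) * (δ x * x⁻¹)⁻¹) * (δ x * x⁻¹) ^ 2 := by
        rw [pow_two, MulAut.mul_apply, map_mul, map_inv, pow_two]
        group
      rw [e]
      exact (frattini X).mul_mem (h2 _ (h1 x)) (hfr _)
    have h4 : δ ^ 2 = 1 := hA2 _ h3 r hr (by rw [← pow_mul, mul_comm, pow_mul, hδr, one_pow])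
    obtain ⟨q, rfl⟩ := hr
    rw [pow_succ, pow_mul, h4, one_pow, one_mul] at hδr
    exact hδ hδr
  obtain ⟨β, hβ⟩ : ∃ β : MulAut X, ∀ k : ℕ, β ^ 2 ^ k ≠ 1 := by
    by_contra hcon
    push Not at hcon
    exact hA hcon
  have hfin : orderOf β ≠ 0 := (orderOf_pos β).ne'
  obtain ⟨s, r, hr, hsr⟩ := Nat.exists_eq_two_pow_mul_odd hfin
  have hγ1 : β ^ 2 ^ s ≠ 1 := hβ s
  have hγr : (β ^ 2 ^ s) ^ r = 1 := by rw [← pow_mul, ← hsr]; exact pow_orderOf_eq_one β
  generalize β ^ 2 ^ s = γ at hγ1 hγr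
  have hγ2 : γ ^ 2 ≠ 1 := by
    intro h
    obtain ⟨q, rfl⟩ := hr
    rw [pow_succ, pow_mul, h, one_pow, one_mul] at hγr
    exact hγ1 hγr
  have hγ2r : (γ ^ 2) ^ r = 1 := by rw [← pow_mul, mul_comm, pow_mul, hγr, one_pow]
  obtain ⟨g, hg⟩ := hNc.exists_generator
  have hNa : Subgroup.zpowers (g : X) = N := by
    have h1 : Subgroup.zpowers g = ⊤ := (Subgroup.eq_top_iff' _).2 hg
    have h2 := MonoidHom.map_zpowers N.subtype g
    rw [h1, ← MonoidHom.range_eq_map, Subgroup.range_subtype] at h2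
    exact h2.symm
  have hmapΦ : ∀ δ : MulAut X, (frattini X).map δ.toMonoidHom = frattini X :=
    fun δ => Subgroup.characteristic_iff_map_eq.1 inferInstance δ
  have hsup : ∀ δ : MulAut X, (N ⊔ frattini X).map δ.toMonoidHom ≠ N ⊔ frattini X →
      Subgroup.zpowers (g : X) ⊔ Subgroup.zpowers (δ g) = ⊤ := by
    intro δ hδ
    apply frattini_nongenerating
    have h1 := sup_eq_top_of_index hM0 (M' := (N ⊔ frattini X).map δ.toMonoidHom)
      (Subgroup.card_map_of_injective δ.injective) hδ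
    rw [Subgroup.map_sup, hmapΦ δ, ← hNa, MonoidHom.map_zpowers] at h1
    rw [sup_sup_distrib_right]
    exact h1
  have hNa' : (Subgroup.zpowers (g : X)).Normal := by rw [hNa]; exact hN
  have h01 := hsup γ (hmove γ hγ1 r hr hγr)
  have h02 := hsup (γ ^ 2) (hmove (γ ^ 2) hγ2 r hr hγ2r)
  apply key hX (g : X) (γ g) ((γ ^ 2) g) hNa' _ (MulEquiv.orderOf_eq γ _) (MulEquiv.orderOf_eq (γ ^ 2) _) h01 h02
  · have h := congrArg (Subgroup.map γ.toMonoidHom) h01
    rw [Subgroup.map_sup, MonoidHom.map_zpowers, MonoidHom.map_zpowers,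
      Subgroup.map_top_of_surjective _ γ.surjective] at h
    rw [pow_two, MulAut.mul_apply]
    exact h
  · intro h
    apply hmove γ hγ1 r hr hγr
    rw [← hNa, h, top_sup_eq]
    exact Subgroup.map_top_of_surjective _ γ.surjective
  · have := hNa'.map γ.toMonoidHom γ.surjective
    rwa [MonoidHom.map_zpowers] at this

end Cfsg.Agent.S1896
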