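import Cfsg.Statements.S1697
import Cfsg.Agent.Lib.Helper11.Fi23o.Chain
import Cfsg.Agent.Lib.Helper11.Fi23o.Prim
import Cfsg.Agent.Lib.Helper11.Fi23a.Upper
import Cfsg.Agent.Lib.Helper11.Fi23c0.Upper
import Cfsg.Agent.Lib.Helper11.Fi23c1.Upper
import Cfsg.Agent.Lib.Helper11.Fi23c2.Upper
import Cfsg.Agent.Lib.Helper11.Fi23c3.Upper
import Cfsg.Agent.Lib.Helper11.Fi23c4.Upper
import Cfsg.Agent.Lib.Helper11.Fi23c5.Upper
import Cfsg.Agent.Lib.Helper11.CoxSimple

set_option autoImplicit false
open Cfsg

namespace Cfsg.Agent.S1697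

open Cfsg.Agent.Lib.Helper11 Cfsg.Spor Cfsg.Spor.Fi23

theorem mono {S T : Set (FreeGroup Gen)} (h : S ⊆ T) :
    (Subgroup.closure S).map (PresentedGroup.mk (coxRelators edges ∪ {r | r ∈ extra})) ≤ (Subgroup.closure T).map (PresentedGroup.mk (coxRelators edges ∪ {r | r ∈ extra})) :=
  Subgroup.map_mono (Subgroup.closure_mono h)

theorem card_le : Nat.card Cfsg.Spor.Fi23 ≠ 0 ∧ Nat.card Cfsg.Spor.Fi23 ≤ 4089470473293004800 := by
  have h6 : Nat.card ((Subgroup.closure (∅ : Set (FreeGroup Gen))).map (PresentedGroup.mk (coxRelators edges ∪ {r | r ∈ extra}))) ≠ 0 ∧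
      Nat.card ((Subgroup.closure (∅ : Set (FreeGroup Gen))).map (PresentedGroup.mk (coxRelators edges ∪ {r | r ∈ extra}))) ≤ 1 := by simp
  have h5 := card_le_step (mono (by simp)) _ _ Fi23c5.upper h6
  have h4 := card_le_step (mono (by intro x hx; simp only [Set.mem_insert_iff, Set.mem_singleton_iff] at hx ⊢; tauto)) _ _ Fi23c4.upper h5
  have h3 := card_le_step (mono (by intro x hx; simp only [Set.mem_insert_iff, Set.mem_singleton_iff] at hx ⊢; tauto)) _ _ Fi23c3.upper h4
  have h2 := card_le_step (mono (by intro x hx; simp only [Set.mem_insert_iff, Set.mem_singleton_iff] at hx ⊢; tauto)) _ _ Fi23c2.upper h3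
  have h1 := card_le_step (mono (by intro x hx; simp only [Set.mem_insert_iff, Set.mem_singleton_iff] at hx ⊢; tauto)) _ _ Fi23c1.upper h2
  have h0 := card_le_step (mono (by intro x hx; simp only [Set.mem_insert_iff, Set.mem_singleton_iff] at hx ⊢; tauto)) _ _ Fi23c0.upper h1
  have h := card_le_top _ _ Fi23a.upper h0
  exact h

theorem genTop : Subgroup.closure (Set.range (fun x : Gen => (PresentedGroup.mk (coxRelators edges ∪ {r | r ∈ extra})) (FreeGroup.of x))) = ⊤ :=
  PresentedGroup.closure_range_of _

theorem perfect : commutator Cfsg.Spor.Fi23 = ⊤ := by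
  apply perfect_of_ab_trivial _ genTop
  have ea := (cox_ab_step edges extra (Abelianization.of) .b .a 1 (by decide) (by decide) (by decide)).symm
  have ec := (cox_ab_step edges extra (Abelianization.of) .b .c 1 (by decide) (by decide) (by decide)).symm
  have ed := (cox_ab_step edges extra (Abelianization.of) .c .d 1 (by decide) (by decide) (by decide)).symm.trans ec
  have ee := (cox_ab_step edges extra (Abelianization.of) .d .e 1 (by decide) (by decide) (by decide)).symm.trans ed
  have eh := (cox_ab_step edges extra (Abelianization.of) .d .h 1 (by decide) (by decide) (by decide)).symm.trans ed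
  have ef := (cox_ab_step edges extra (Abelianization.of) .e .f 1 (by decide) (by decide) (by decide)).symm.trans ee
  have ei := (cox_ab_step edges extra (Abelianization.of) .h .i 1 (by decide) (by decide) (by decide)).symm.trans eh
  have eg := (cox_ab_step edges extra (Abelianization.of) .f .g 1 (by decide) (by decide) (by decide)).symm.trans ef
  have ej := (cox_ab_step edges extra (Abelianization.of) .g .j 1 (by decide) (by decide) (by decide)).symm.trans eg
  have hsq := cox_ab_sq edges extra (Abelianization.of) .b (by decide)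
  have hr := extra_rel edges extra ((((((((a * b) * c) * d) * e) * f) * h)) ^ 9) (by simp [extra])
  have hr2 := congrArg Abelianization.of hr
  simp only [map_pow, map_mul, map_one] at hr2
  rw [ea, ec, ed, ee, ef, eh] at hr2
  have hu : Abelianization.of ((PresentedGroup.mk (coxRelators edges ∪ {r | r ∈ extra})) (FreeGroup.of Gen.b)) = 1 := by
    apply one_of_sq_of_odd _ 31 hsq
    generalize Abelianization.of ((PresentedGroup.mk (coxRelators edges ∪ {r | r ∈ extra})) (FreeGroup.of Gen.b)) = u at hr2 ⊢
    rw [← hr2]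
    have h7 : u * u * u * u * u * u * u = u ^ 7 := by simp [pow_succ]
    rw [h7, ← pow_mul]
  rintro _ ⟨x, rfl⟩
  cases x
  · exact ea.trans hu
  · exact hu
  · exact ec.trans hu
  · exact ed.trans hu
  · exact ee.trans hu
  · exact ef.trans hu
  · exact eg.trans hu
  · exact ej.trans hu
  · exact eh.trans hu
  · exact ei.trans hu

theorem ncl : Subgroup.normalClosure {(PresentedGroup.mk (coxRelators edges ∪ {r | r ∈ extra})) (Fi23o.tE.eval (fun l => Fi23o.LTFm.getD l 1))} = ⊤ := by
  have e : (PresentedGroup.mk (coxRelators edges ∪ {r | r ∈ extra})) (Fi23o.tE.eval (fun l => Fi23o.LTFm.getD l 1)) = ((PresentedGroup.mk (coxRelators edges ∪ {r | r ∈ extra})) (Fi23o.xE.eval (fun l => Fi23o.LTFm.getD l 1)))⁻¹ * (PresentedGroup.mk (coxRelators edges ∪ {r | r ∈ extra})) (FreeGroup.of Gen.b) *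
      (PresentedGroup.mk (coxRelators edges ∪ {r | r ∈ extra})) (Fi23o.xE.eval (fun l => Fi23o.LTFm.getD l 1)) := by
    show (PresentedGroup.mk (coxRelators edges ∪ {r | r ∈ extra})) ((Fi23o.xE.eval (fun l => Fi23o.LTFm.getD l 1))⁻¹ * FreeGroup.of Gen.b * Fi23o.xE.eval (fun l => Fi23o.LTFm.getD l 1)) = _
    rw [map_mul, map_mul, map_inv]
  rw [e]
  apply normalClosure_top_of_conj _ _ _ genTop
  intro N hN hb
  have ha := cox_mem_step edges extra N .b .a 1 (by decide) (by decide) (by decide) hb
  have hc := cox_mem_step edges extra N .b .c 1 (by decide) (by decide) (by decide) hb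
  have hd := cox_mem_step edges extra N .c .d 1 (by decide) (by decide) (by decide) hc
  have he := cox_mem_step edges extra N .d .e 1 (by decide) (by decide) (by decide) hd
  have hh := cox_mem_step edges extra N .d .h 1 (by decide) (by decide) (by decide) hd
  have hf := cox_mem_step edges extra N .e .f 1 (by decide) (by decide) (by decide) he
  have hi := cox_mem_step edges extra N .h .i 1 (by decide) (by decide) (by decide) hh
  have hg := cox_mem_step edges extra N .f .g 1 (by decide) (by decide) (by decide) hf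
  have hj := cox_mem_step edges extra N .g .j 1 (by decide) (by decide) (by decide) hg
  rintro _ ⟨x, rfl⟩
  cases x <;> assumption

/-- The presented Fischer group Fi23 is simple of the expected order (that is, it is a simple group of the order of the Fischer group Fi₂₃). -/
theorem result : Cfsg.IsFi23 Cfsg.Spor.Fi23 := by
  obtain ⟨hcard, hbot⟩ := Fi23o.order card_le
  refine ⟨?_, hcard⟩
  exact model_simple (PresentedGroup.mk (coxRelators edges ∪ {r | r ∈ extra})) _ Fi23o.psi
    (fun l => Fi23o.LTFm.getD l 1) Fi23o.INVm (ntOf Fi23o.ntl) 15 (ntOf_ok Fi23o.ntl _ Fi23o.netsOK)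
    Fi23o.psi_eval Fi23o.hExps Fi23o.hS1 Fi23o.hS2 Fi23o.gExps Fi23o.hgen 31671 _ (by norm_num)
    Fi23a.upper Fi23o.hfix0 Fi23o.htr Fi23o.invnOK _ hbot Fi23o.hbn Fi23o.primL Fi23o.primOK perfect
    Fi23o.tE Fi23o.normOK ncl

end Cfsg.Agent.S1697
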