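import Cfsg.Statements.S1696
import Cfsg.Agent.Lib.Helper11.Fi22o.Chain
import Cfsg.Agent.Lib.Helper11.Fi22o.Prim
import Cfsg.Agent.Lib.Helper11.Fi22b.Upper
import Cfsg.Agent.Lib.Helper11.Fi22c0.Upper
import Cfsg.Agent.Lib.Helper11.Fi22c1.Upper
import Cfsg.Agent.Lib.Helper11.Fi22c2.Upper
import Cfsg.Agent.Lib.Helper11.Fi22c3.Upper
import Cfsg.Agent.Lib.Helper11.Fi22c4.Upper
import Cfsg.Agent.Lib.Helper11.CoxSimple

set_option autoImplicit false
open Cfsg

namespace Cfsg.Agent.S1696

open Cfsg.Agent.Lib.Helper11 Cfsg.Spor Cfsg.Spor.Fi22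

theorem mono {S T : Set (FreeGroup Gen)} (h : S ⊆ T) :
    (Subgroup.closure S).map (PresentedGroup.mk (coxRelators edges ∪ {r | r ∈ extra})) ≤
    (Subgroup.closure T).map (PresentedGroup.mk (coxRelators edges ∪ {r | r ∈ extra})) :=
  Subgroup.map_mono (Subgroup.closure_mono h)

theorem card_le : Nat.card Cfsg.Spor.Fi22 ≠ 0 ∧ Nat.card Cfsg.Spor.Fi22 ≤ 64561751654400 := by
  have h5 : Nat.card ((Subgroup.closure (∅ : Set (FreeGroup Gen))).map
      (PresentedGroup.mk (coxRelators edges ∪ {r | r ∈ extra}))) ≠ 0 ∧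
      Nat.card ((Subgroup.closure (∅ : Set (FreeGroup Gen))).map
      (PresentedGroup.mk (coxRelators edges ∪ {r | r ∈ extra}))) ≤ 1 := by simp
  have h4 := card_le_step (mono (by simp)) _ _ Fi22c4.upper h5
  have h3 := card_le_step (mono (by intro x hx; simp only [Set.mem_insert_iff, Set.mem_singleton_iff] at hx ⊢; tauto)) _ _ Fi22c3.upper h4
  have h2 := card_le_step (mono (by intro x hx; simp only [Set.mem_insert_iff, Set.mem_singleton_iff] at hx ⊢; tauto)) _ _ Fi22c2.upper h3
  have h1 := card_le_step (mono (by intro x hx; simp only [Set.mem_insert_iff, Set.mem_singleton_iff] at hx ⊢; tauto)) _ _ Fi22c1.upper h2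
  have h0 := card_le_step (mono (by intro x hx; simp only [Set.mem_insert_iff, Set.mem_singleton_iff] at hx ⊢; tauto)) _ _ Fi22c0.upper h1
  have h := card_le_top _ _ Fi22b.upper h0
  exact h

theorem genTop : Subgroup.closure (Set.range (fun x : Gen =>
    (PresentedGroup.mk (coxRelators edges ∪ {r | r ∈ extra})) (FreeGroup.of x))) = ⊤ :=
  PresentedGroup.closure_range_of _

theorem perfect : commutator Cfsg.Spor.Fi22 = ⊤ := by
  apply perfect_of_ab_trivial _ genTop
  have st := fun x y hx hy hl => cox_ab_step edges extra (Abelianization.of) x y 1 hx hy hl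
  have hab := st .a .b (by decide) (by decide) (by decide)
  have hbc := st .b .c (by decide) (by decide) (by decide)
  have hcd := st .c .d (by decide) (by decide) (by decide)
  have hde := st .d .e (by decide) (by decide) (by decide)
  have hdh := st .d .h (by decide) (by decide) (by decide)
  have hef := st .e .f (by decide) (by decide) (by decide)
  have hfg := st .f .g (by decide) (by decide) (by decide)
  have hhi := st .h .i (by decide) (by decide) (by decide)
  have hsq := cox_ab_sq edges extra (Abelianization.of) .a (by decide)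
  have hr := extra_rel edges extra ((a * b * c * d * e * f * h) ^ 9) (by simp [extra])
  have hr2 := congrArg Abelianization.of hr
  simp only [map_pow, map_mul, map_one] at hr2
  rw [← hdh, ← hef, ← hde, ← hcd, ← hbc, ← hab] at hr2
  have hu : Abelianization.of ((PresentedGroup.mk (coxRelators edges ∪ {r | r ∈ extra}))
      (FreeGroup.of Gen.a)) = 1 := by
    apply one_of_sq_of_odd _ 31 hsq
    generalize Abelianization.of ((PresentedGroup.mk (coxRelators edges ∪ {r | r ∈ extra}))
      (FreeGroup.of Gen.a)) = u at hr2 ⊢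
    rw [← hr2]
    have h7 : u * u * u * u * u * u * u = u ^ 7 := by simp [pow_succ]
    rw [h7, ← pow_mul]
  rintro _ ⟨x, rfl⟩
  cases x
  · exact hu
  · exact hab ▸ hu
  · exact hbc ▸ hab ▸ hu
  · exact hcd ▸ hbc ▸ hab ▸ hu
  · exact hde ▸ hcd ▸ hbc ▸ hab ▸ hu
  · exact hef ▸ hde ▸ hcd ▸ hbc ▸ hab ▸ hu
  · exact hfg ▸ hef ▸ hde ▸ hcd ▸ hbc ▸ hab ▸ hu
  · exact hdh ▸ hcd ▸ hbc ▸ hab ▸ hu
  · exact hhi ▸ hdh ▸ hcd ▸ hbc ▸ hab ▸ hu

theorem ncl : Subgroup.normalClosure {(PresentedGroup.mk (coxRelators edges ∪ {r | r ∈ extra}))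
    (FreeGroup.of Gen.a)} = ⊤ := by
  apply normalClosure_top_of_mem _ _ genTop
  intro N hN ha
  have st := fun x y hx hy hl => cox_mem_step edges extra N x y 1 hx hy hl
  have hb := st .a .b (by decide) (by decide) (by decide) ha
  have hc := st .b .c (by decide) (by decide) (by decide) hb
  have hd := st .c .d (by decide) (by decide) (by decide) hc
  have he := st .d .e (by decide) (by decide) (by decide) hd
  have hh := st .d .h (by decide) (by decide) (by decide) hd
  have hf := st .e .f (by decide) (by decide) (by decide) he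
  have hg := st .f .g (by decide) (by decide) (by decide) hf
  have hi := st .h .i (by decide) (by decide) (by decide) hh
  rintro _ ⟨x, rfl⟩
  cases x <;> assumption

/-- The presented Fischer group Fi22 is simple of the expected order (that is, it is a simple group of the order of the Fischer group Fi₂₂). -/
theorem result : Cfsg.IsFi22 Cfsg.Spor.Fi22 := by
  obtain ⟨hcard, hbot⟩ := Fi22o.order card_le
  refine ⟨?_, hcard⟩
  exact model_simple (PresentedGroup.mk (coxRelators edges ∪ {r | r ∈ extra})) _ Fi22o.psi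
    (fun l => Fi22o.LTFm.getD l 1) Fi22o.INVm (ntOf Fi22o.ntl) 12 (ntOf_ok Fi22o.ntl _ Fi22o.netsOK)
    Fi22o.psi_eval Fi22o.hExps Fi22o.hS1 Fi22o.hS2 Fi22o.gExps Fi22o.hgen 3510 _ (by norm_num)
    Fi22a.upper Fi22o.hfix0 Fi22o.htr Fi22o.invnOK _ hbot Fi22o.hbn Fi22o.primL Fi22o.primOK perfect
    Fi22o.tE Fi22o.normOK ncl

end Cfsg.Agent.S1696
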