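import Cfsg.Statements.S1688
import Cfsg.Agent.S1689
import Cfsg.Agent.S1696
import Cfsg.Agent.S1697
import Cfsg.Agent.Lib.Helper11.Cover

set_option autoImplicit false
open Cfsg

namespace Cfsg.Agent.S1688

open Cfsg.Agent.Lib.Helper11 Cfsg.Spor

/-- the presentation map of Fi23 -/
noncomputable abbrev mk23 : FreeGroup Fi23.Gen →* Fi23 :=
  PresentedGroup.mk (coxRelators Fi23.edges ∪ {r | r ∈ Fi23.extra})

/-- the subgroup -/
noncomputable abbrev HH : Subgroup Fi23 :=
  (Subgroup.closure ({Fi23.a, Fi23.b, Fi23.c, Fi23.d, Fi23.e, Fi23.f, Fi23.g, Fi23.h, Fi23.i} :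
    Set (FreeGroup Fi23.Gen))).map mk23

/-- the inclusion of diagrams -/
def emb : Fi22.Gen → Fi23.Gen
  | .a => .a | .b => .b | .c => .c | .d => .d | .e => .e | .f => .f | .g => .g | .h => .h | .i => .i

theorem emb_mem (x : Fi22.Gen) : mk23 (FreeGroup.of (emb x)) ∈ HH :=
  Subgroup.mem_map_of_mem _ (Subgroup.subset_closure (by cases x <;> simp [emb]))

/-- the generators of the subgroup -/
noncomputable def f0 (x : Fi22.Gen) : HH := ⟨mk23 (FreeGroup.of (emb x)), emb_mem x⟩

theorem label_eq (x y : Fi22.Gen) :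
    coxLabel Fi23.edges (emb x) (emb y) = coxLabel Fi22.edges x y := by
  cases x <;> cases y <;> rfl

theorem K1 (x y : Fi22.Gen) : (f0 x * f0 y) ^ coxLabel Fi22.edges x y = 1 := by
  apply Subtype.ext
  rw [← label_eq]
  exact cox_rel Fi23.edges Fi23.extra (emb x) (emb y) (by cases x <;> decide) (by cases y <;> decide)

/-- the map from the free group -/
noncomputable def kap : FreeGroup Fi22.Gen →* HH := FreeGroup.lift f0

theorem coe_kap (w : FreeGroup Fi22.Gen) : ((kap w : HH) : Fi23) = mk23 (FreeGroup.map emb w) := by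
  have : HH.subtype.comp kap = mk23.comp (FreeGroup.map emb) := by
    apply FreeGroup.ext_hom
    intro x
    simp [kap, f0]
  exact DFunLike.congr_fun this w

theorem kap_spider : kap ((Fi22.d * Fi22.c * Fi22.b * Fi22.d * Fi22.e * Fi22.f * Fi22.d * Fi22.h * Fi22.i) ^ 10) = 1 := by
  apply Subtype.ext
  rw [coe_kap]
  simp only [map_pow, map_mul, FreeGroup.map.of, emb]
  have := extra_rel Fi23.edges Fi23.extra ((Fi23.d * Fi23.c * Fi23.b * Fi23.d * Fi23.e * Fi23.f * Fi23.d * Fi23.h * Fi23.i) ^ 10) (by simp [Fi23.extra])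
  rw [map_pow, map_mul, map_mul, map_mul, map_mul, map_mul, map_mul, map_mul, map_mul] at this
  exact this

theorem kap_e7a : kap ((Fi22.a * Fi22.b * Fi22.c * Fi22.d * Fi22.e * Fi22.f * Fi22.h) ^ 9) = 1 := by
  apply Subtype.ext
  rw [coe_kap]
  simp only [map_pow, map_mul, FreeGroup.map.of, emb]
  have := extra_rel Fi23.edges Fi23.extra ((Fi23.a * Fi23.b * Fi23.c * Fi23.d * Fi23.e * Fi23.f * Fi23.h) ^ 9) (by simp [Fi23.extra])
  rw [map_pow, map_mul, map_mul, map_mul, map_mul, map_mul, map_mul] at this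
  exact this

theorem kap_surj : Function.Surjective kap := by
  rintro ⟨y, hy⟩
  obtain ⟨w, hw, rfl⟩ := Subgroup.mem_map.1 hy
  have hle : Subgroup.closure ({Fi23.a, Fi23.b, Fi23.c, Fi23.d, Fi23.e, Fi23.f, Fi23.g, Fi23.h, Fi23.i} :
      Set (FreeGroup Fi23.Gen)) ≤ (FreeGroup.map emb).range := by
    rw [Subgroup.closure_le]
    intro s hs
    simp only [Set.mem_insert_iff, Set.mem_singleton_iff] at hs
    rcases hs with rfl | rfl | rfl | rfl | rfl | rfl | rfl | rfl | rfl
    · exact ⟨FreeGroup.of .a, rfl⟩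
    · exact ⟨FreeGroup.of .b, rfl⟩
    · exact ⟨FreeGroup.of .c, rfl⟩
    · exact ⟨FreeGroup.of .d, rfl⟩
    · exact ⟨FreeGroup.of .e, rfl⟩
    · exact ⟨FreeGroup.of .f, rfl⟩
    · exact ⟨FreeGroup.of .g, rfl⟩
    · exact ⟨FreeGroup.of .h, rfl⟩
    · exact ⟨FreeGroup.of .i, rfl⟩
  obtain ⟨w', rfl⟩ := hle hw
  exact ⟨w', Subtype.ext (coe_kap w')⟩

theorem genTop : Subgroup.closure (Set.range f0) = ⊤ := by
  have h1 : kap.range = Subgroup.closure (Set.range f0) := FreeGroup.range_lift_eq_closure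
  rw [← h1]
  exact MonoidHom.range_eq_top.2 kap_surj

theorem perfect : commutator HH = ⊤ := by
  apply perfect_of_ab_trivial _ genTop
  have sq : ∀ x, (Abelianization.of (f0 x)) ^ 2 = 1 := by
    intro x
    have h := K1 x x
    have h1 : coxLabel Fi22.edges x x = 1 := by simp [coxLabel]
    rw [h1, pow_one] at h
    rw [pow_two, ← map_mul, h, map_one]
  have st : ∀ x y, coxLabel Fi22.edges x y = 2 * 1 + 1 →
      Abelianization.of (f0 x) = Abelianization.of (f0 y) := by
    intro x y hl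
    apply eq_of_braid 1 (sq x) (sq y)
    rw [← map_mul, ← map_pow, ← hl, K1, map_one]
  have eb := (st .a .b (by decide)).symm
  have ec := (st .b .c (by decide)).symm.trans eb
  have ed := (st .c .d (by decide)).symm.trans ec
  have ee := (st .d .e (by decide)).symm.trans ed
  have eh := (st .d .h (by decide)).symm.trans ed
  have ef := (st .e .f (by decide)).symm.trans ee
  have eg := (st .f .g (by decide)).symm.trans ef
  have ei := (st .h .i (by decide)).symm.trans eh
  have hr2 := congrArg Abelianization.of kap_e7a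
  simp only [kap, map_pow, map_mul, map_one, FreeGroup.lift_apply_of] at hr2
  rw [eb, ec, ed, ee, ef, eh] at hr2
  have hu : Abelianization.of (f0 .a) = 1 := by
    apply one_of_sq_of_odd _ 31 (sq .a)
    generalize Abelianization.of (f0 .a) = u at hr2 ⊢
    rw [← hr2]
    have h7 : u * u * u * u * u * u * u = u ^ 7 := by simp [pow_succ]
    rw [h7, ← pow_mul]
  rintro _ ⟨x, rfl⟩
  cases x
  · exact hu
  · exact eb.trans hu
  · exact ec.trans hu
  · exact ed.trans hu
  · exact ee.trans hu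
  · exact ef.trans hu
  · exact eg.trans hu
  · exact eh.trans hu
  · exact ei.trans hu

/-- the central element as an expression -/
def zE : WExp := .pow (.mul (.mul (.mul (.mul (.mul (.mul (.l 2) (.l 3)) (.l 4)) (.l 5)) (.l 6)) (.l 7)) (.l 9)) 9

set_option maxHeartbeats 0 in
theorem zOK : normChk (ntOf Fi23o.ntl) 15 (Fi23o.hExps.map (fun e => e.letters Fi23o.INVm))
    (zE.letters Fi23o.INVm) (zE.letters Fi23o.INVm) = true := by decide +kernel

theorem z_central : kap ((Fi22.b * Fi22.c * Fi22.d * Fi22.e * Fi22.f * Fi22.g * Fi22.h) ^ 9) ∈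
    Subgroup.center HH := by
  have hinj := inj_of_stabL_bot Fi23o.psi _ (Fi23o.order Cfsg.Agent.S1697.card_le).2
  have hc := comm_of_normChk mk23 Fi23o.psi (fun l => Fi23o.LTFm.getD l 1) Fi23o.INVm
    (ntOf Fi23o.ntl) 15 (ntOf_ok Fi23o.ntl _ Fi23o.netsOK) Fi23o.psi_eval hinj Fi23o.hExps zE zOK
  have hz : ((kap ((Fi22.b * Fi22.c * Fi22.d * Fi22.e * Fi22.f * Fi22.g * Fi22.h) ^ 9) : HH) : Fi23) =
      mk23 (zE.eval (fun l => Fi23o.LTFm.getD l 1)) := by
    rw [coe_kap]
    simp only [map_pow, map_mul, FreeGroup.map.of, emb]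
    rfl
  have hle : HH ≤ Subgroup.centralizer {mk23 (zE.eval (fun l => Fi23o.LTFm.getD l 1))} := by
    unfold HH
    rw [MonoidHom.map_closure, Subgroup.closure_le]
    rintro _ ⟨s, hs, rfl⟩
    obtain ⟨e, he, rfl⟩ := Fi23o.hS1 s hs
    rw [SetLike.mem_coe, Subgroup.mem_centralizer_iff]
    intro y hy
    rw [Set.mem_singleton_iff] at hy
    rw [hy]
    exact (hc e he).symm
  rw [Subgroup.mem_center_iff]
  rintro ⟨y, hy⟩
  apply Subtype.ext
  have := (Subgroup.mem_centralizer_iff.1 (hle hy)) _ (Set.mem_singleton _)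
  show y * _ = _ * y
  rw [hz]
  exact this.symm

theorem lift_comp (w : FreeGroup Fi22.Gen) :
    FreeGroup.lift (fun x => QuotientGroup.mk' (Subgroup.center HH) (f0 x)) w =
      QuotientGroup.mk' (Subgroup.center HH) (kap w) := by
  have : FreeGroup.lift (fun x => QuotientGroup.mk' (Subgroup.center HH) (f0 x)) =
      (QuotientGroup.mk' (Subgroup.center HH)).comp kap := by
    apply FreeGroup.ext_hom
    intro x
    simp [kap]
  exact DFunLike.congr_fun this w

theorem theta_rels : ∀ r ∈ coxRelators Fi22.edges ∪ {r | r ∈ Fi22.extra},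
    FreeGroup.lift (fun x => QuotientGroup.mk' (Subgroup.center HH) (f0 x)) r = 1 := by
  apply lift_rels
  · intro x _ y _
    rw [← map_mul, ← map_pow, K1, map_one]
  · intro r hr
    rw [lift_comp]
    simp only [Fi22.extra, List.mem_cons, List.mem_nil_iff, or_false] at hr
    rcases hr with rfl | rfl | rfl
    · rw [kap_spider, map_one]
    · rw [kap_e7a, map_one]
    · exact (QuotientGroup.eq_one_iff _).2 z_central

/-- the map from Fi22 -/
noncomputable def theta : Fi22 →* HH ⧸ Subgroup.center HH :=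
  PresentedGroup.toGroup (f := fun x => QuotientGroup.mk' (Subgroup.center HH) (f0 x)) theta_rels

theorem theta_surj : Function.Surjective theta := by
  intro q
  obtain ⟨y, rfl⟩ := QuotientGroup.mk'_surjective _ q
  obtain ⟨w, rfl⟩ := kap_surj y
  exact ⟨PresentedGroup.mk _ w, lift_comp w⟩

theorem cardHH : Nat.card HH = 2 * Nat.card Fi22 := by
  have h1 := HH.index_mul_card
  have h2 : HH.index = 31671 := Cfsg.Agent.S1689.result.1
  rw [h2, Cfsg.Agent.S1697.result.2] at h1
  rw [Cfsg.Agent.S1696.result.2]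
  omega

/-- In the presented Fischer group Fi₂₃, the subgroup generated by the images of a, …, i is a non-split double cover of the presented Fischer group Fi₂₂. -/
theorem result : Cfsg.IsNonsplitDoubleCover (((Subgroup.closure ({Cfsg.Spor.Fi23.a, Cfsg.Spor.Fi23.b, Cfsg.Spor.Fi23.c, Cfsg.Spor.Fi23.d, Cfsg.Spor.Fi23.e, Cfsg.Spor.Fi23.f, Cfsg.Spor.Fi23.g, Cfsg.Spor.Fi23.h, Cfsg.Spor.Fi23.i} : Set (FreeGroup Cfsg.Spor.Fi23.Gen))).map (PresentedGroup.mk (Cfsg.Spor.coxRelators Cfsg.Spor.Fi23.edges ∪ {r | r ∈ Cfsg.Spor.Fi23.extra})))) Cfsg.Spor.Fi22 := by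
  haveI : IsSimpleGroup Cfsg.Spor.Fi22 := Cfsg.Agent.S1696.result.1
  exact Cfsg.Agent.Lib.Helper11.nonsplit_double_cover theta theta_surj perfect cardHH
    (by rw [Cfsg.Agent.S1696.result.2]; norm_num)

end Cfsg.Agent.S1688
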