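import Cfsg.Statements.S0472
import Cfsg.Agent.S1688
import Cfsg.Agent.S1696
import Cfsg.Agent.S1697
import Cfsg.Agent.Lib.Helper3.TTReal2

set_option autoImplicit false
open Cfsg

namespace Cfsg.Agent.S0472

open Cfsg.Agent.Lib.Helper11 Cfsg.Agent.Lib.Helper3 Cfsg.Spor Cfsg.Spor.Fi23

set_option maxRecDepth 100000

set_option maxHeartbeats 0 in
theorem relOK : Fi23o.primL.all (fun x =>
    wordId (ntOf Fi23o.ntl) 15 ((WExp.pow (ttExp Fi23o.tE x.2.2.1) 2).letters Fi23o.INVm) ||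
    wordId (ntOf Fi23o.ntl) 15 ((WExp.pow (ttExp Fi23o.tE x.2.2.1) 3).letters Fi23o.INVm)) = true := by
  decide +kernel

theorem t_sq : (PresentedGroup.mk (coxRelators edges ∪ {r | r ∈ extra})) (Fi23o.tE.eval (fun l => Fi23o.LTFm.getD l 1)) *
    (PresentedGroup.mk (coxRelators edges ∪ {r | r ∈ extra})) (Fi23o.tE.eval (fun l => Fi23o.LTFm.getD l 1)) = 1 := by
  have e : (PresentedGroup.mk (coxRelators edges ∪ {r | r ∈ extra})) (Fi23o.tE.eval (fun l => Fi23o.LTFm.getD l 1)) = ((PresentedGroup.mk (coxRelators edges ∪ {r | r ∈ extra})) (Fi23o.xE.eval (fun l => Fi23o.LTFm.getD l 1)))⁻¹ * (PresentedGroup.mk (coxRelators edges ∪ {r | r ∈ extra})) (FreeGroup.of Gen.b) *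
      (PresentedGroup.mk (coxRelators edges ∪ {r | r ∈ extra})) (Fi23o.xE.eval (fun l => Fi23o.LTFm.getD l 1)) := by
    show (PresentedGroup.mk (coxRelators edges ∪ {r | r ∈ extra})) ((Fi23o.xE.eval (fun l => Fi23o.LTFm.getD l 1))⁻¹ * FreeGroup.of Gen.b * Fi23o.xE.eval (fun l => Fi23o.LTFm.getD l 1)) = _
    rw [map_mul, map_mul, map_inv]
  rw [e]
  have hb := cox_sq edges extra .b (by decide)
  generalize (PresentedGroup.mk (coxRelators edges ∪ {r | r ∈ extra})) (Fi23o.xE.eval (fun l => Fi23o.LTFm.getD l 1)) = x at *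
  generalize (PresentedGroup.mk (coxRelators edges ∪ {r | r ∈ extra})) (FreeGroup.of Gen.b) = b at *
  have : x⁻¹ * b * x * (x⁻¹ * b * x) = x⁻¹ * (b * b) * x := by group
  rw [this]
  rw [hb]
  group


/-- The Fischer group of order 4089470473293004800 exists as a 3-transposition group: a simple group of that order generated by a conjugacy class of 31671 3-transpositions, the centraliser of each being a non-split double cover of a simple group of order 64561751654400. -/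
theorem result : ∃ (G : Type) (_ : Group G) (_ : Finite G), Cfsg.IsFi23 G ∧ ∃ D : Set G, Cfsg.IsThreeTranspositionClass D ∧ Nat.card D = 31671 ∧ ∀ d ∈ D, ∃ (K : Type) (_ : Group K), Cfsg.IsFi22 K ∧ Cfsg.IsNonsplitDoubleCover (Subgroup.centralizer ({d} : Set G)) K := by
  obtain ⟨hcard, hbot⟩ := Fi23o.order Cfsg.Agent.S1697.card_le
  have hfin : Finite Cfsg.Spor.Fi23 := Nat.finite_of_card_ne_zero (by rw [hcard]; norm_num)
  obtain ⟨h1, h2, h3⟩ := model_threeTr (PresentedGroup.mk (coxRelators edges ∪ {r | r ∈ extra})) _ Fi23o.psi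
    (fun l => Fi23o.LTFm.getD l 1) Fi23o.INVm (ntOf Fi23o.ntl) 15 (ntOf_ok Fi23o.ntl _ Fi23o.netsOK)
    Fi23o.psi_eval Fi23o.hExps Fi23o.hS1 Fi23o.hS2 Fi23o.gExps Fi23o.hgen 31671 _ (by norm_num)
    Fi23a.upper Fi23o.hfix0 Fi23o.htr Fi23o.invnOK _ hbot Fi23o.hbn Fi23o.primL Fi23o.primOK
    Cfsg.Agent.S1697.perfect Fi23o.tE Fi23o.normOK Cfsg.Agent.S1697.ncl t_sq relOK
  refine ⟨Cfsg.Spor.Fi23, inferInstance, hfin, Cfsg.Agent.S1697.result, _, h1, h2, ?_⟩
  intro d hd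
  obtain ⟨e⟩ := h3 d hd
  exact ⟨Cfsg.Spor.Fi22, inferInstance, Cfsg.Agent.S1696.result,
    nonsplitDoubleCover_congr e Cfsg.Agent.S1688.result⟩

end Cfsg.Agent.S0472
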