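import Cfsg.Statements.S0589
import Cfsg.Agent.Lib.Lead.FrobConj

set_option autoImplicit false
open Pointwise
open Cfsg

namespace Cfsg.Agent.S0589

/-- Let H be a Frobenius complement in a finite group G and L a subgroup of G whose order divides the order of H. Then L is contained in some conjugate of H. -/
theorem result {G : Type*} [Group G] [Finite G] (H : Subgroup G) (hH : Cfsg.IsFrobeniusComplement H) (L : Subgroup G) (hL : Nat.card L ∣ Nat.card H) : ∃ x : G, L ≤ MulAut.conj x • H := by
  open Cfsg.Agent.Lib.Lead Cfsg.Agent.Lib.Helper1 Pointwise in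
  obtain ⟨N, hN, hNn, hNc⟩ := Cfsg.Agent.S0035.result H hH
  have hcN : Nat.card N = H.index := by
    rw [← frob_card_kernel hH, ← hN]; rfl
  have hcop : (Nat.card N).Coprime (Nat.card H) := by
    rw [hcN]
    obtain ⟨t, ht⟩ := frob_index_mod hH
    have h1 : 0 < H.index := Nat.pos_of_ne_zero H.index_ne_zero_of_finite
    have h2 : H.index = 1 + Nat.card H * t := by omega
    rw [h2]
    simp
  apply frob_le_conj hH L
  intro x hx hx1
  have h1 : x ∉ N := by
    intro hxN
    have h2 : x ∈ N ⊓ L := Subgroup.mem_inf.mpr ⟨hxN, hx⟩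
    rw [(Subgroup.disjoint_of_coprime_natCard (Nat.Coprime.of_dvd_right hL hcop)).eq_bot,
      Subgroup.mem_bot] at h2
    exact hx1 h2
  have h2 : x ∉ Cfsg.frobeniusKernel H := by
    rw [← hN]; exact h1
  exact (not_mem_frobeniusKernel_iff.1 h2).2

end Cfsg.Agent.S0589
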