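import Cfsg.Statements.S0037
import Cfsg.Agent.Lib.Lead.FrobConj

set_option autoImplicit false
open Pointwise
open Cfsg

namespace Cfsg.Agent.S0037

/-- Of two Frobenius complements in one finite group, the one of smaller (or equal) order is conjugate to a subgroup of the other. -/
theorem result {G : Type*} [Group G] [Finite G] (H H₀ : Subgroup G)
    (hH : Cfsg.IsFrobeniusComplement H) (hH₀ : Cfsg.IsFrobeniusComplement H₀) (hle : Nat.card H₀ ≤ Nat.card H) :
    ∃ g : G, MulAut.conj g • H₀ ≤ H := by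
  open Cfsg.Agent.Lib.Lead Cfsg.Agent.Lib.Helper1 Pointwise in
  obtain ⟨N, hN, hNn, hNc⟩ := Cfsg.Agent.S0035.result H hH
  obtain ⟨N₀, hN₀, hN₀n, hN₀c⟩ := Cfsg.Agent.S0035.result H₀ hH₀
  have hcN : Nat.card N = H.index := by
    rw [← frob_card_kernel hH, ← hN]; rfl
  have hcN₀ : Nat.card N₀ = H₀.index := by
    rw [← frob_card_kernel hH₀, ← hN₀]; rfl
  have hidx : H.index ≤ H₀.index := by
    by_contra hlt
    push Not at hlt
    have h1 := H.index_mul_card
    have h2 := H₀.index_mul_card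
    have h3 : H₀.index * Nat.card H₀ < H.index * Nat.card H :=
      Nat.mul_lt_mul_of_lt_of_le hlt hle Nat.card_pos
    omega
  have hNN : N ≤ N₀ := by
    rcases frob_normal_comparable hH hN hNn N₀ hN₀n with h | h
    · exact (Subgroup.eq_of_le_of_card_ge h (by rw [hcN, hcN₀]; exact hidx)).ge
    · exact h
  obtain ⟨g, hg⟩ := frob_le_conj hH H₀ (by
    intro x hx hx1
    have h1 : x ∉ N₀ := by
      intro hxN
      have : x ∈ N₀ ⊓ H₀ := Subgroup.mem_inf.mpr ⟨hxN, hx⟩
      rw [frob_kernel_inf hN₀, Subgroup.mem_bot] at this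
      exact hx1 this
    have h2 : x ∉ Cfsg.frobeniusKernel H := by
      rw [← hN]
      exact fun h => h1 (hNN h)
    exact (not_mem_frobeniusKernel_iff.1 h2).2)
  refine ⟨g⁻¹, ?_⟩
  intro x hx
  rw [mem_conj_smul] at hx
  have := hg hx
  rw [mem_conj_smul] at this
  simpa [mul_assoc] using this

end Cfsg.Agent.S0037
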