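import Cfsg.Statements.S0039
import Cfsg.Agent.Lib.Lead.Frobenius

set_option autoImplicit false
open Cfsg

namespace Cfsg.Agent.S0039

/-- In a finite group that is a semidirect product of a normal subgroup K by a nontrivial subgroup H, H is a Frobenius complement exactly when each nonidentity element of H acts without nonidentity fixed points on K by conjugation. -/
theorem result {G : Type*} [Group G] [Finite G] (K H : Subgroup G) [K.Normal]
    (hc : Subgroup.IsComplement' K H) (hK : K ≠ ⊥) (hH : H ≠ ⊥) :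
    Cfsg.IsFrobeniusComplement H ↔ ∀ h ∈ H, h ≠ 1 → K ⊓ Subgroup.centralizer {h} = ⊥ := by
  open Cfsg.Agent.Lib.Lead Cfsg.Agent.Lib.Helper1 Pointwise in
  have hdisj : K ⊓ H = ⊥ := hc.disjoint.eq_bot
  constructor
  · intro hF h hh hh1
    rw [eq_bot_iff]
    intro k hk
    have hkc : k * h = h * k := by
      have := Subgroup.mem_centralizer_iff.1 hk.2 h (Set.mem_singleton h)
      exact this.symm
    have h1 : h ∈ MulAut.conj k • H := by
      rw [mem_conj_smul]
      have : k⁻¹ * h * k = h := by rw [mul_assoc, ← hkc]; group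
      rw [this]; exact hh
    have h2 := frob_inv_mul_mem hF (g := 1) (g' := k) hh1 (by simpa using hh) h1
    have h3 : k ∈ K ⊓ H := Subgroup.mem_inf.mpr ⟨hk.1, by simpa using h2⟩
    rwa [hdisj] at h3
  · intro hfix
    refine ⟨hH, ?_, ?_⟩
    · intro htop
      rw [htop, inf_top_eq] at hdisj
      exact hK hdisj
    · intro g hg
      rw [eq_bot_iff]
      intro x hx
      obtain ⟨⟨⟨k, hk⟩, ⟨h₀, hh₀⟩⟩, hkh⟩ := hc.2 g
      simp only at hkh
      have hx2 : x ∈ MulAut.conj g • H := hx.2
      rw [mem_conj_smul, ← hkh] at hx2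
      -- y := k⁻¹ x k ∈ H
      have hy : k⁻¹ * x * k ∈ H := by
        have : k⁻¹ * x * k = h₀ * ((k * h₀)⁻¹ * x * (k * h₀)) * h₀⁻¹ := by group
        rw [this]
        exact H.mul_mem (H.mul_mem hh₀ hx2) (H.inv_mem hh₀)
      have h1 : x⁻¹ * (k⁻¹ * x * k) ∈ K ⊓ H := by
        refine Subgroup.mem_inf.mpr ⟨?_, H.mul_mem (H.inv_mem hx.1) hy⟩
        have : x⁻¹ * (k⁻¹ * x * k) = (x⁻¹ * k⁻¹ * x⁻¹⁻¹) * k := by group
        rw [this]
        exact K.mul_mem (‹K.Normal›.conj_mem _ (K.inv_mem hk) _) hk
      rw [hdisj, Subgroup.mem_bot] at h1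
      by_contra hx1
      have hx1' : x ≠ 1 := hx1
      have h2 : k ∈ K ⊓ Subgroup.centralizer {x} := by
        refine Subgroup.mem_inf.mpr ⟨hk, ?_⟩
        rw [Subgroup.mem_centralizer_iff]
        intro z hz
        rw [Set.mem_singleton_iff] at hz
        subst hz
        have h3 : k⁻¹ * z * k = z := by
          have := inv_mul_eq_one.1 h1
          exact this.symm
        calc z * k = k * (k⁻¹ * z * k) := by group
          _ = k * z := by rw [h3]
      rw [hfix x hx.1 hx1', Subgroup.mem_bot] at h2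
      apply hg
      rw [← hkh, h2, one_mul]
      exact hh₀

end Cfsg.Agent.S0039
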