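import Cfsg.Statements.S0041
import Cfsg.Agent.Lib.Lead.Fpf

set_option autoImplicit false
open Cfsg

namespace Cfsg.Agent.S0041

/-- A group acting on a nontrivial abelian group so that no nonidentity element has a nonidentity fixed point is cyclic, provided it is abelian or its order is a product of two (possibly equal) primes. -/
theorem result {G : Type*} [Group G] [Finite G] (A V : Subgroup G) [IsMulCommutative V]
    (hV : V ≠ ⊥) (hAV : A ≤ Subgroup.normalizer (V : Set G)) (hfpf : ∀ a ∈ A, a ≠ 1 → V ⊓ Subgroup.centralizer {a} = ⊥)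
    (hA : IsMulCommutative A ∨ ∃ p q : ℕ, p.Prime ∧ q.Prime ∧ Nat.card A = p * q) : IsCyclic A := by
  open Cfsg.Agent.Lib.Lead Cfsg.Agent.Lib.Helper1 Pointwise in
  have hcop := fpf_coprime_abelian hAV hfpf
  have hab : IsMulCommutative A → IsCyclic A := by
    intro hcomm
    by_contra hnc
    have h1 := Cfsg.Agent.S0058.result A V hnc hAV hcop
    apply hV
    rw [← h1, eq_bot_iff]
    exact iSup₂_le (fun a ha => (hfpf a ha.1 ha.2).le)
  rcases hA with hA | ⟨p, q, hp, hq, hA⟩
  · exact hab hA
  · by_cases hpq : p = q
    · subst hpq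
      have := Fact.mk hp
      exact hab (IsPGroup.isMulCommutative_of_card_eq_prime_sq (p := p) (by rw [hA, sq]))
    · apply isCyclic_of_card_mul_of_no_frob hp hq hpq hA
      intro Y hY
      apply hV
      rw [eq_bot_iff]
      intro w hw
      have h1 := frob_action_pow_eq_one' hAV (fun x hx hx1 w hw hxw => by
        have h2 : w ∈ V ⊓ Subgroup.centralizer {x} := by
          refine Subgroup.mem_inf.mpr ⟨hw, ?_⟩
          rw [Subgroup.mem_centralizer_iff]
          intro z hz
          rw [Set.mem_singleton_iff] at hz
          subst hz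
          calc z * w = (z * w * z⁻¹) * z := by group
            _ = w * z := by rw [hxw]
        rw [hfpf x hx hx1, Subgroup.mem_bot] at h2
        exact h2) Y hY hw
      have h2 : orderOf w ∣ Y.index := orderOf_dvd_of_pow_eq_one h1
      have h3 : orderOf w ∣ Nat.card V := by
        have := orderOf_dvd_natCard (⟨w, hw⟩ : V)
        rwa [Subgroup.orderOf_mk] at this
      have h4 : (Nat.card V).Coprime Y.index :=
        Nat.Coprime.of_dvd_right Y.index_dvd_card hcop.symm
      have h5 : orderOf w = 1 := Nat.eq_one_of_dvd_coprimes h4 h3 h2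
      rw [Subgroup.mem_bot]
      exact orderOf_eq_one_iff.1 h5

end Cfsg.Agent.S0041
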