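import Cfsg.Statements.S0040
import Cfsg.Agent.Lib.Lead.AbelianCyclic
import Cfsg.Agent.S0016
import Cfsg.Agent.S0039
import Cfsg.Agent.S0041

set_option autoImplicit false
open Cfsg

namespace Cfsg.Agent.S0040

/-- abelian subgroups of a Frobenius complement are cyclic -/
theorem abelian_cyclic {G : Type*} [Group G] [Finite G] (H : Subgroup G)
    (hH : Cfsg.IsFrobeniusComplement H) (B : Subgroup G) (hBH : B ≤ H) (hB : IsMulCommutative B) :
    IsCyclic B := by
  open Cfsg.Agent.Lib.Lead in
  obtain ⟨N, hN, hNn, -⟩ := Cfsg.Agent.S0035.result H hH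
  obtain ⟨W, hW1, hWN, hWc, hHW⟩ := frob_exists_invariant_abelian hH hN hNn
  apply Cfsg.Agent.S0041.result B W hW1 (hBH.trans hHW) ?_ (Or.inl hB)
  intro a ha ha1
  rw [eq_bot_iff]
  intro w hw
  have h1 : a * w * a⁻¹ = w := by
    have := Subgroup.mem_centralizer_iff.1 hw.2 a rfl
    rw [this]; group
  exact frob_fpf hH hN (hBH ha) ha1 (hWN hw.1) h1

/-- Sylow subgroups of Frobenius complements: if H complements a nontrivial normal subgroup K and every nonidentity element of H has trivial centraliser in K, then each Sylow subgroup of H is cyclic or isomorphic to a generalized quaternion group. -/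
theorem result {G : Type*} [Group G] [Finite G] (K H : Subgroup G) [K.Normal]
    (hc : Subgroup.IsComplement' K H) (hK : K ≠ ⊥) (hfpf : ∀ h ∈ H, h ≠ 1 → K ⊓ Subgroup.centralizer {h} = ⊥)
    (p : ℕ) [Fact p.Prime] (P : Sylow p H) :
    IsCyclic P ∨ ∃ n : ℕ, Nonempty (P ≃* QuaternionGroup (2 ^ n)) := by
  by_cases hH1 : H = ⊥
  · left
    have : Subsingleton H := by rw [hH1]; infer_instance
    have : Subsingleton (P : Subgroup H) := inferInstance
    infer_instance
  have hF : Cfsg.IsFrobeniusComplement H := (Cfsg.Agent.S0039.result K H hc hK hH1).2 hfpf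
  have hU := Cfsg.Agent.Lib.Lead.unique_of_abelian_cyclic (Q := (P : Subgroup H)) P.2 (by
    intro B hB
    have hinj : Function.Injective (H.subtype.comp (P : Subgroup H).subtype) :=
      H.subtype_injective.comp (P : Subgroup H).subtype_injective
    have h1 : IsMulCommutative (B.map (H.subtype.comp (P : Subgroup H).subtype)) :=
      Subgroup.map_isMulCommutative _ _
    have h2 := abelian_cyclic H hF (B.map (H.subtype.comp (P : Subgroup H).subtype)) (by
      rintro _ ⟨b, -, rfl⟩
      exact b.1.2) h1
    exact isCyclic_of_surjective (B.equivMapOfInjective _ hinj).symm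
      (B.equivMapOfInjective _ hinj).symm.surjective)
  rcases Cfsg.Agent.S0016.main p P.2 hU with h | ⟨-, h⟩
  · exact Or.inl h
  · exact Or.inr h

end Cfsg.Agent.S0040
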