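import Cfsg.Statements.S0031
import Cfsg.Agent.Lib.Helper1.SZ

set_option autoImplicit false
open Cfsg

namespace Cfsg.Agent.S0031

open scoped Pointwise

/-- A fixed-point-free automorphism of a finite group maps some Sylow p-subgroup to itself. -/
theorem result {G : Type*} [Group G] [Finite G] (φ : G ≃* G)
    (hφ : MonoidHom.FixedPointFree (φ : G →* G)) (p : ℕ) [Fact p.Prime] :
    ∃ P : Sylow p G, (P : Subgroup G).map (φ : G →* G) = P := by
  obtain ⟨P₀⟩ : Nonempty (Sylow p G) := inferInstance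
  have h0 : (((show MulAut G from φ) • P₀ : Sylow p G) : Subgroup G) =
      (P₀ : Subgroup G).map (φ : G →* G) := rfl
  obtain ⟨g, hg⟩ := MulAction.exists_smul_eq G ((show MulAut G from φ) • P₀ : Sylow p G) P₀
  have hg' : MulAut.conj g • (P₀ : Subgroup G).map (φ : G →* G) = P₀ := by
    rw [← h0, ← Sylow.pointwise_smul_def, ← Sylow.smul_def, hg]
  obtain ⟨y, hy⟩ := hφ.commutatorMap_surjective g
  rw [MonoidHom.commutatorMap_apply] at hy
  refine ⟨y⁻¹ • P₀, ?_⟩
  rw [Sylow.smul_def, Sylow.pointwise_smul_def, Cfsg.Agent.Lib.Helper1.map_conj_smul]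
  conv_rhs => rw [← hg', ← Cfsg.Agent.Lib.Helper1.conj_mul_smul]
  congr 2
  rw [← hy]
  simp [div_eq_mul_inv]

end Cfsg.Agent.S0031
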