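import Mathlib
import Cfsg.Statements.S0068

set_option autoImplicit false
open Cfsg

namespace Cfsg.Agent.S0068

theorem inverts {G : Type*} [Group G] [Finite G] (K : Subgroup G) [K.Normal] (s : G)
    (hs : orderOf s = 2) (hfix : K ⊓ Subgroup.centralizer {s} = ⊥) :
    ∀ k ∈ K, s * k * s⁻¹ = k⁻¹ := by
  have hs2 : s * s = 1 := by
    have := pow_orderOf_eq_one s
    rwa [hs, pow_two] at this
  have hsinv : s⁻¹ = s := inv_eq_of_mul_eq_one_left hs2
  let f : K → K := fun k => ⟨(k : G)⁻¹ * (s * k * s⁻¹),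
    K.mul_mem (K.inv_mem k.2) (‹K.Normal›.conj_mem _ k.2 s)⟩
  have hinj : Function.Injective f := by
    intro k l hkl
    have h1 : (k : G)⁻¹ * (s * k * s⁻¹) = (l : G)⁻¹ * (s * l * s⁻¹) := congrArg Subtype.val hkl
    have h2 : (l : G) * (k : G)⁻¹ ∈ K ⊓ Subgroup.centralizer {s} := by
      refine Subgroup.mem_inf.mpr ⟨K.mul_mem l.2 (K.inv_mem k.2), ?_⟩
      rw [Subgroup.mem_centralizer_singleton_iff]
      have h3 : (l : G) * (k : G)⁻¹ = s * l * s⁻¹ * (s * k * s⁻¹)⁻¹ := by
        calc (l : G) * (k : G)⁻¹ = l * ((k : G)⁻¹ * (s * k * s⁻¹)) * (s * k * s⁻¹)⁻¹ := by group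
          _ = l * ((l : G)⁻¹ * (s * l * s⁻¹)) * (s * k * s⁻¹)⁻¹ := by rw [h1]
          _ = _ := by group
      have h4 : s * l * s⁻¹ * (s * k * s⁻¹)⁻¹ = s * ((l : G) * (k : G)⁻¹) * s⁻¹ := by group
      rw [h4] at h3
      calc (l : G) * (k : G)⁻¹ * s = s * ((l : G) * (k : G)⁻¹) * s⁻¹ * s := by rw [← h3]
        _ = s * ((l : G) * (k : G)⁻¹) := by group
    rw [hfix, Subgroup.mem_bot] at h2
    have : (l : G) = k := by
      calc (l : G) = (l : G) * (k : G)⁻¹ * k := by group
        _ = k := by rw [h2, one_mul]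
    exact Subtype.ext this.symm
  have hsurj : Function.Surjective f := Finite.surjective_of_injective hinj
  intro k hk
  obtain ⟨l, hl⟩ := hsurj ⟨k, hk⟩
  have hl' : (l : G)⁻¹ * (s * l * s⁻¹) = k := congrArg Subtype.val hl
  rw [← hl', hsinv]
  calc s * ((l : G)⁻¹ * (s * l * s)) * s = s * (l : G)⁻¹ * (s * l) * (s * s) := by group
    _ = s * (l : G)⁻¹ * (s * l) := by rw [hs2, mul_one]
    _ = s * (l : G)⁻¹ * (s * s) * s⁻¹ * l := by group
    _ = s * (l : G)⁻¹ * s⁻¹ * l := by rw [hs2, mul_one]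
    _ = s * (l : G)⁻¹ * s * l := by rw [hsinv]
    _ = ((l : G)⁻¹ * (s * l * s))⁻¹ := by
      rw [mul_inv_rev, mul_inv_rev, mul_inv_rev, inv_inv, hsinv]; group

/-- Frobenius complements of even order: if H complements a nontrivial normal subgroup K, each nonidentity element of H has trivial centraliser in K, and H has even order, then H contains a unique involution s, K is abelian, and s inverts every element of K. -/
theorem result {G : Type*} [Group G] [Finite G] (K H : Subgroup G) [K.Normal]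
    (hc : Subgroup.IsComplement' K H) (hK : K ≠ ⊥) (hfpf : ∀ h ∈ H, h ≠ 1 → K ⊓ Subgroup.centralizer {h} = ⊥)
    (heven : 2 ∣ Nat.card H) :
    (∃ s ∈ H, orderOf s = 2 ∧ (∀ t ∈ H, orderOf t = 2 → t = s) ∧ ∀ k ∈ K, s * k * s⁻¹ = k⁻¹) ∧ IsMulCommutative K := by
  have : Fact (Nat.Prime 2) := ⟨Nat.prime_two⟩
  obtain ⟨s', hs'⟩ := exists_prime_orderOf_dvd_card' (G := H) 2 heven
  set s : G := (s' : G) with hsdef
  have hsH : s ∈ H := s'.2
  have hs : orderOf s = 2 := by rw [hsdef, Subgroup.orderOf_coe, hs']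
  have hne : ∀ t : G, orderOf t = 2 → t ≠ 1 := by
    rintro t ht rfl
    simp at ht
  have hinv : ∀ t ∈ H, orderOf t = 2 → ∀ k ∈ K, t * k * t⁻¹ = k⁻¹ := fun t htH ht =>
    inverts K t ht (hfpf t htH (hne t ht))
  refine ⟨⟨s, hsH, hs, ?_, hinv s hsH hs⟩, ?_⟩
  · intro t htH ht
    by_contra hts
    have hst : s * t ≠ 1 := by
      intro h
      apply hts
      have hs2 : s * s = 1 := by
        have := pow_orderOf_eq_one s
        rwa [hs, pow_two] at this
      calc t = (s * s) * t := by rw [hs2, one_mul]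
        _ = s * (s * t) := by group
        _ = s := by rw [h, mul_one]
    have h1 := hfpf (s * t) (H.mul_mem hsH htH) hst
    apply hK
    rw [eq_bot_iff, ← h1]
    intro k hk
    refine Subgroup.mem_inf.mpr ⟨hk, ?_⟩
    rw [Subgroup.mem_centralizer_singleton_iff]
    have e1 := hinv t htH ht k hk
    have e2 := hinv s hsH hs k⁻¹ (K.inv_mem hk)
    rw [inv_inv] at e2
    calc k * (s * t) = (s * k⁻¹ * s⁻¹) * (s * t) := by rw [e2]
      _ = s * k⁻¹ * t := by group
      _ = s * (t * k * t⁻¹) * t := by rw [e1]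
      _ = s * t * k := by group
  · refine ⟨⟨fun a b => Subtype.ext ?_⟩⟩
    have ea := hinv s hsH hs a a.2
    have eb := hinv s hsH hs b b.2
    have eab := hinv s hsH hs (a * b) (K.mul_mem a.2 b.2)
    have : ((a : G) * b)⁻¹ = (a : G)⁻¹ * (b : G)⁻¹ := by
      rw [← eab, ← ea, ← eb]; group
    have h2 : ((a : G) * b) = (b : G) * a := by
      have := congrArg (·⁻¹) this
      simpa using this
    exact h2

end Cfsg.Agent.S0068
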