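import Cfsg.Statements.S0666
import Cfsg.Agent.S0035
import Cfsg.Agent.Lib.Helper23.Basic

set_option autoImplicit false
open Cfsg
open scoped Pointwise

namespace Cfsg.Agent.S0666

/-- A Frobenius group acting on a nontrivial abelian group of order prime to that of its kernel, with the kernel acting without nontrivial fixed points, has a complement with a nontrivial fixed point. -/
theorem result {G : Type*} [Group G] [Finite G] (V F : Subgroup G) (hVab : IsMulCommutative V) (hV1 : V ≠ ⊥) (hFV : F ≤ Subgroup.normalizer (V : Set G)) (H : Subgroup ↥F) (hH : Cfsg.IsFrobeniusComplement H) (hcop : (Nat.card V).Coprime (Nat.card (Cfsg.frobeniusKernel H))) (hCK : V ⊓ Subgroup.centralizer (Subtype.val '' Cfsg.frobeniusKernel H : Set G) = ⊥) : V ⊓ Subgroup.centralizer ((H.map F.subtype : Subgroup G) : Set G) ≠ ⊥ := by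
  classical
  intro hbot
  obtain ⟨N, hNK, hNn, hNc⟩ := Cfsg.Agent.S0035.result H hH
  letI : CommGroup V := { (inferInstance : Group V) with mul_comm := fun a b => mul_comm' a b }
  haveI : Fintype N := Fintype.ofFinite N
  haveI : Fintype H := Fintype.ofFinite H
  let act : F → V →* V := fun x =>
    { toFun := fun v => ⟨x * v * x⁻¹, (Subgroup.mem_normalizer_iff.mp (hFV x.2) v).mp v.2⟩
      map_one' := Subtype.ext (by simp)
      map_mul' := fun v w => Subtype.ext (by simp [mul_assoc]) }
  have act_val : ∀ (x : F) (v : V), ((act x v : V) : G) = x * v * (x : G)⁻¹ := fun x v => rfl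
  have act_mul : ∀ (x y : F) (v : V), act (x * y) v = act x (act y v) := fun x y v =>
    Subtype.ext (by simp only [act_val, Subgroup.coe_mul, mul_inv_rev, mul_assoc])
  have act_one : ∀ v : V, act 1 v = v := fun v => Subtype.ext (by simp [act_val])
  -- fixed points of the kernel
  have h3 : ∀ v : V, ∏ n : N, act n v = 1 := by
    intro v
    set w := ∏ n : N, act n v with hw
    have hfix : ∀ k : N, act k w = w := by
      intro k
      rw [hw, map_prod]
      simp only [← act_mul]
      exact Fintype.prod_equiv (Equiv.mulLeft k) _ _ (fun n => rfl)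
    have hmem : (w : G) ∈ V ⊓ Subgroup.centralizer (Subtype.val '' Cfsg.frobeniusKernel H : Set G) := by
      refine Subgroup.mem_inf.mpr ⟨w.2, ?_⟩
      rw [Subgroup.mem_centralizer_iff]
      rintro _ ⟨k, hk, rfl⟩
      have hkN : k ∈ N := by
        have : k ∈ (N : Set F) := hNK ▸ hk
        exact this
      have := congrArg Subtype.val (hfix ⟨k, hkN⟩)
      rw [act_val] at this
      calc (k : G) * w = (k * w * (k : G)⁻¹) * k := by group
        _ = w * k := by rw [this]
    rw [hCK, Subgroup.mem_bot] at hmem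
    exact Subtype.ext hmem
  have h4 : ∀ v : V, ∏ h : H, act h v = 1 := by
    intro v
    set w := ∏ h : H, act h v with hw
    have hfix : ∀ k : H, act k w = w := by
      intro k
      rw [hw, map_prod]
      simp only [← act_mul]
      exact Fintype.prod_equiv (Equiv.mulLeft k) _ _ (fun n => rfl)
    have hmem : (w : G) ∈ V ⊓ Subgroup.centralizer ((H.map F.subtype : Subgroup G) : Set G) := by
      refine Subgroup.mem_inf.mpr ⟨w.2, ?_⟩
      rw [Subgroup.mem_centralizer_iff]
      rintro _ ⟨k, hk, rfl⟩
      have := congrArg Subtype.val (hfix ⟨k, hk⟩)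
      rw [act_val] at this
      show (k : G) * w = w * k
      calc (k : G) * w = (k * w * (k : G)⁻¹) * k := by group
        _ = w * k := by rw [this]
    rw [hbot, Subgroup.mem_bot] at hmem
    exact Subtype.ext hmem
  have hT1 : ∀ v : V, ∏ n : N, ∏ h : H, act ((n : F) * h * (n : F)⁻¹) v = 1 := by
    intro v
    apply Finset.prod_eq_one
    intro n _
    have : ∀ h : H, act ((n : F) * h * (n : F)⁻¹) v = act n (act h (act (n : F)⁻¹ v)) := fun h => by
      rw [act_mul, act_mul]
    simp only [this]
    rw [← map_prod, h4, map_one]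
  have hdisj : ∀ g : F, g ∈ N → g ∈ H → g = 1 := by
    intro g h1 h2
    have := hNc.disjoint.le_bot (Subgroup.mem_inf.mpr ⟨h1, h2⟩)
    exact this
  have hT2 : ∀ (v : V) (h : H), h ≠ 1 → ∏ n : N, act ((n : F) * h * (n : F)⁻¹) v = 1 := by
    intro v h hh
    let f : N → N := fun n => ⟨(n : F) * h * (n : F)⁻¹ * (h : F)⁻¹, by
      have h1 : (h : F) * (n : F)⁻¹ * (h : F)⁻¹ ∈ N := hNn.conj_mem _ (N.inv_mem n.2) _
      have h2 := N.mul_mem n.2 h1
      have e : (n : F) * ((h : F) * (n : F)⁻¹ * (h : F)⁻¹) = (n : F) * h * (n : F)⁻¹ * (h : F)⁻¹ := by group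
      rwa [e] at h2⟩
    have hinj : Function.Injective f := by
      intro n m hnm
      have h1 : (n : F) * h * (n : F)⁻¹ = (m : F) * h * (m : F)⁻¹ :=
        mul_right_cancel (congrArg Subtype.val hnm)
      set g : F := (m : F)⁻¹ * n with hg
      have hgN : g ∈ N := N.mul_mem (N.inv_mem m.2) n.2
      have h2 : g * h * g⁻¹ = h := by
        rw [hg]
        calc (m : F)⁻¹ * n * h * ((m : F)⁻¹ * n)⁻¹ = (m : F)⁻¹ * ((n : F) * h * (n : F)⁻¹) * m := by group
          _ = h := by rw [h1]; group
      have hgH : g ∈ H := by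
        by_contra hne
        have h3 := hH.2.2 g hne
        have h4 : (h : F) ∈ H ⊓ MulAut.conj g • H := by
          refine Subgroup.mem_inf.mpr ⟨h.2, ?_⟩
          rw [Cfsg.Agent.Lib.Helper23.mem_conj_smul]
          have : g⁻¹ * h * g = h := by
            calc g⁻¹ * h * g = g⁻¹ * (g * h * g⁻¹) * g := by rw [h2]
              _ = h := by group
          rw [this]; exact h.2
        rw [h3, Subgroup.mem_bot] at h4
        exact hh (Subtype.ext h4)
      have hg1 := hdisj g hgN hgH
      apply Subtype.ext
      have : (n : F) = m * g := by rw [hg]; group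
      rw [this, hg1, mul_one]
    have hbij : Function.Bijective f := Finite.injective_iff_bijective.mp hinj
    have e1 : ∀ n : N, act ((n : F) * h * (n : F)⁻¹) v = act (f n) (act h v) := fun n => by
      rw [← act_mul]
      have e2 : ((f n : N) : F) * h = (n : F) * h * (n : F)⁻¹ := by
        show (n : F) * h * (n : F)⁻¹ * (h : F)⁻¹ * h = _
        group
      rw [e2]
    simp only [e1]
    rw [Function.Bijective.prod_comp hbij (fun m : N => act m (act h v))]
    exact h3 _
  have hpow : ∀ v : V, v ^ Fintype.card N = 1 := by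
    intro v
    have h1 := hT1 v
    rw [Finset.prod_comm, Finset.prod_eq_single (1 : H)] at h1
    · simpa [act_one] using h1
    · intro h _ hh
      exact hT2 v h hh
    · intro h; exact absurd (Finset.mem_univ _) h
  have hcard : Fintype.card N = Nat.card (Cfsg.frobeniusKernel H) := by
    rw [← Nat.card_eq_fintype_card, ← hNK]
    rfl
  apply hV1
  rw [eq_bot_iff]
  intro v hv
  have h1 := hpow ⟨v, hv⟩
  have h2 : orderOf (⟨v, hv⟩ : V) ∣ Nat.card V := orderOf_dvd_natCard _
  have h3' : orderOf (⟨v, hv⟩ : V) ∣ Nat.card (Cfsg.frobeniusKernel H) := hcard ▸ orderOf_dvd_of_pow_eq_one h1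
  have h4' := Nat.eq_one_of_dvd_coprimes hcop h2 h3'
  rw [orderOf_eq_one_iff] at h4'
  rw [Subgroup.mem_bot]
  exact congrArg Subtype.val h4'

end Cfsg.Agent.S0666
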