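import Cfsg.Statements.S0648
import Mathlib
import Cfsg.Agent.Lib.Helper17.DStar

set_option autoImplicit false
open Cfsg

namespace Cfsg.Agent.S0648

open scoped commutatorElement
open Cfsg.Agent.Lib.Helper17

theorem comm_mul_left' {G : Type*} [Group G] (x y z : G) : ⁅x * y, z⁆ = x * ⁅y, z⁆ * x⁻¹ * ⁅x, z⁆ := by
  simp only [commutatorElement_def]; group

theorem comm_mul_right' {G : Type*} [Group G] (x y z : G) : ⁅x, y * z⁆ = ⁅x, y⁆ * (y * ⁅x, z⁆ * y⁻¹) := by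
  simp only [commutatorElement_def]; group

theorem conj_comm' {G : Type*} [Group G] (a x y : G) : a * ⁅x, y⁆ * a⁻¹ = ⁅a * x * a⁻¹, a * y * a⁻¹⁆ := by
  simp only [commutatorElement_def]; group

theorem part1 {G : Type*} [Group G] (A B : Subgroup G) (hAB : A ≤ Subgroup.normalizer (B : Set G))
    (hc : ⁅⁅B, B⁆, A⁆ = ⊥) :
    ⁅B, A⁆ ≤ B ∧ ⁅⁅B, A⁆, ⁅B, B⁆⁆ = ⊥ ∧ ⁅⁅B, A⁆, ⁅B, A⁆⁆ ≤ B ⊓ Subgroup.centralizer (B : Set G) := by
  have hDB : ⁅B, A⁆ ≤ B := by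
    rw [Subgroup.commutator_le]
    intro b hb a ha
    rw [commutatorElement_def, mul_assoc, mul_assoc]
    apply B.mul_mem hb
    rw [← mul_assoc]
    exact (Subgroup.mem_normalizer_iff.mp (hAB ha) _).mp (B.inv_mem hb)
  have hBB : ⁅B, B⁆ ≤ B := by
    rw [Subgroup.commutator_le]
    intro x hx y hy
    exact B.mul_mem (B.mul_mem (B.mul_mem hx hy) (B.inv_mem hx)) (B.inv_mem hy)
  have h1 : ⁅⁅B, A⁆, ⁅B, B⁆⁆ = ⊥ := by
    apply Subgroup.commutator_commutator_eq_bot_of_rotate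
    · rw [Subgroup.commutator_comm A, hc, Subgroup.commutator_bot_left]
    · rw [eq_bot_iff, ← hc]
      exact Subgroup.commutator_mono (Subgroup.commutator_mono hBB le_rfl) le_rfl
  refine ⟨hDB, h1, ?_⟩
  have h2 : ⁅⁅⁅B, A⁆, ⁅B, A⁆⁆, B⁆ = ⊥ := by
    apply Subgroup.commutator_commutator_eq_bot_of_rotate
    · rw [eq_bot_iff, ← h1, Subgroup.commutator_comm ⁅B, A⁆ ⁅B, B⁆]
      exact Subgroup.commutator_mono (Subgroup.commutator_mono hDB le_rfl) le_rfl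
    · rw [eq_bot_iff, ← h1, Subgroup.commutator_comm ⁅B, A⁆ ⁅B, B⁆]
      exact Subgroup.commutator_mono (Subgroup.commutator_mono le_rfl hDB) le_rfl
  refine le_inf ((Subgroup.commutator_mono hDB hDB).trans hBB) ?_
  exact Subgroup.commutator_eq_bot_iff_le_centralizer.mp h2

theorem part2 {G : Type*} [Group G] (A B : Subgroup G) (hAB : A ≤ Subgroup.normalizer (B : Set G))
    (hc : ⁅⁅B, B⁆, A⁆ = ⊥) (hA : IsMulCommutative A) (b : G) (hb : b ∈ B) (E : Subgroup G)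
    (hE : E = Subgroup.closure {g : G | ∃ a ∈ A, g = b⁻¹ * a * b * a⁻¹}) (hEAA : ⁅⁅E, A⁆, A⁆ = ⊥) :
    ∀ w ∈ ⁅E, E⁆, w ^ 2 = 1 := by
  obtain ⟨hDB, hDBB, hDD⟩ := part1 A B hAB hc
  let u : G → G := fun a => b⁻¹ * a * b * a⁻¹
  have huE : ∀ a ∈ A, u a ∈ E := by
    intro a ha
    rw [hE]
    exact Subgroup.subset_closure ⟨a, ha, rfl⟩
  have hED : E ≤ ⁅B, A⁆ := by
    rw [hE, Subgroup.closure_le]
    rintro _ ⟨a, ha, rfl⟩
    have : b⁻¹ * a * b * a⁻¹ = ⁅b⁻¹, a⁆ := by rw [commutatorElement_def, inv_inv]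
    rw [this]
    exact Subgroup.commutator_mem_commutator (B.inv_mem hb) ha
  have hEB : E ≤ B := hED.trans hDB
  have hFD : ⁅E, A⁆ ≤ ⁅B, A⁆ := Subgroup.commutator_mono hEB le_rfl
  have central : ∀ x ∈ ⁅B, A⁆, ∀ y ∈ ⁅B, A⁆, ∀ g ∈ B, g * ⁅x, y⁆ * g⁻¹ = ⁅x, y⁆ := by
    intro x hx y hy g hg
    have h1 := (hDD (Subgroup.commutator_mem_commutator hx hy)).2
    have h2 := Subgroup.mem_centralizer_iff.mp h1 g hg
    rw [h2, mul_inv_cancel_right]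
  have fixA : ∀ t ∈ ⁅B, B⁆, ∀ a ∈ A, a * t * a⁻¹ = t := by
    intro t ht a ha
    have h1 : ⁅t, a⁆ ∈ ⁅⁅B, B⁆, A⁆ := Subgroup.commutator_mem_commutator ht ha
    rw [hc, Subgroup.mem_bot, commutatorElement_eq_one_iff_mul_comm] at h1
    rw [← h1, mul_inv_cancel_right]
  have fixD : ∀ t ∈ ⁅B, B⁆, ∀ d ∈ ⁅B, A⁆, d * t * d⁻¹ = t := by
    intro t ht d hd
    have h1 : ⁅d, t⁆ ∈ ⁅⁅B, A⁆, ⁅B, B⁆⁆ := Subgroup.commutator_mem_commutator hd ht
    rw [hDBB, Subgroup.mem_bot, commutatorElement_eq_one_iff_mul_comm] at h1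
    rw [h1, mul_inv_cancel_right]
  have fixF : ∀ f ∈ ⁅E, A⁆, ∀ a ∈ A, a * f * a⁻¹ = f := by
    intro f hf a ha
    have h1 : ⁅f, a⁆ ∈ ⁅⁅E, A⁆, A⁆ := Subgroup.commutator_mem_commutator hf ha
    rw [hEAA, Subgroup.mem_bot, commutatorElement_eq_one_iff_mul_comm] at h1
    rw [← h1, mul_inv_cancel_right]
  have hconjb : ∀ a : G, a * b * a⁻¹ = b * u a := by
    intro a
    show a * b * a⁻¹ = b * (b⁻¹ * a * b * a⁻¹)
    group
  have C1 : ∀ f ∈ ⁅E, A⁆, ∀ a ∈ A, ⁅u a, f⁆ = 1 := by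
    intro f hf a ha
    have ht : ⁅b, f⁆ ∈ ⁅B, B⁆ := Subgroup.commutator_mem_commutator hb (hDB (hFD hf))
    have e1 := fixA _ ht a ha
    rw [conj_comm', hconjb, fixF f hf a ha, comm_mul_left',
      central _ (hED (huE a ha)) _ (hFD hf) b hb] at e1
    exact mul_eq_right.mp e1
  have hwF : ∀ a ∈ A, ∀ a' ∈ A, ⁅a, u a'⁆ ∈ ⁅E, A⁆ := by
    intro a ha a' ha'
    rw [Subgroup.commutator_comm]
    exact Subgroup.commutator_mem_commutator ha (huE a' ha')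
  have C2 : ∀ a ∈ A, ∀ a' ∈ A, ⁅b, ⁅a, u a'⁆⁆ = ⁅u a', u a⁆ := by
    intro a ha a' ha'
    have hw := hwF a ha a' ha'
    have ht : ⁅b, u a'⁆ ∈ ⁅B, B⁆ := Subgroup.commutator_mem_commutator hb (hEB (huE a' ha'))
    have e1 := fixA _ ht a ha
    have e2 : a * u a' * a⁻¹ = ⁅a, u a'⁆ * u a' := by
      rw [commutatorElement_def]; group
    rw [conj_comm', hconjb, e2, comm_mul_left', comm_mul_right' (u a), C1 _ hw a ha, one_mul,
      central _ (hED (huE a ha)) _ (hED (huE a' ha')) _ (hDB (hFD hw)),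
      central _ (hED (huE a ha)) _ (hED (huE a' ha')) b hb,
      comm_mul_right' b, fixD _ ht _ (hFD hw), ← mul_assoc] at e1
    have e3 := mul_eq_right.mp e1
    rw [← commutatorElement_inv (u a) (u a')]
    exact eq_inv_of_mul_eq_one_right e3
  have C4 : ∀ a ∈ A, ∀ a' ∈ A, ⁅u a', u a⁆ ^ 2 = 1 := by
    intro a ha a' ha'
    have hw := hwF a ha a' ha'
    have hw' := hwF a' ha' a ha
    set x := u a with hx
    set y := u a' with hy
    set w := ⁅a, y⁆ with hwdef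
    set w' := ⁅a', x⁆ with hw'def
    have hcomm : a * a' = a' * a := setLike_mul_comm ha ha'
    have e1 : x * (w * y) = u (a * a') := by
      rw [hwdef, commutatorElement_def, hx, hy]
      show b⁻¹ * a * b * a⁻¹ * (a * (b⁻¹ * a' * b * a'⁻¹) * a⁻¹ * (b⁻¹ * a' * b * a'⁻¹)⁻¹ * (b⁻¹ * a' * b * a'⁻¹)) = b⁻¹ * (a * a') * b * (a * a')⁻¹
      group
    have e2 : y * (w' * x) = u (a' * a) := by
      rw [hw'def, commutatorElement_def, hx, hy]
      show b⁻¹ * a' * b * a'⁻¹ * (a' * (b⁻¹ * a * b * a⁻¹) * a'⁻¹ * (b⁻¹ * a * b * a⁻¹)⁻¹ * (b⁻¹ * a * b * a⁻¹)) = b⁻¹ * (a' * a) * b * (a' * a)⁻¹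
      group
    have e3 : x * (w * y) = y * (w' * x) := by rw [e1, e2, hcomm]
    have c1 : x * w = w * x := commutatorElement_eq_one_iff_mul_comm.mp (C1 w hw a ha)
    have c2 : y * w' = w' * y := commutatorElement_eq_one_iff_mul_comm.mp (C1 w' hw' a' ha')
    have h1 : w * (x * y) = w' * (y * x) := by
      calc w * (x * y) = (w * x) * y := (mul_assoc _ _ _).symm
        _ = (x * w) * y := by rw [c1]
        _ = x * (w * y) := mul_assoc _ _ _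
        _ = y * (w' * x) := e3
        _ = (y * w') * x := (mul_assoc _ _ _).symm
        _ = (w' * y) * x := by rw [c2]
        _ = w' * (y * x) := mul_assoc _ _ _
    have e4 : w = w' * ⁅y, x⁆ := by
      calc w = w * (x * y) * (x * y)⁻¹ := by group
        _ = w' * (y * x) * (x * y)⁻¹ := by rw [h1]
        _ = w' * ⁅y, x⁆ := by rw [commutatorElement_def]; group
    have e5 : ⁅b, ⁅y, x⁆⁆ = 1 := by
      rw [commutatorElement_def b, central _ (hED (huE a' ha')) _ (hED (huE a ha)) b hb, mul_inv_cancel]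
    have e6 : ⁅b, w⁆ = ⁅b, w'⁆ := by
      conv_lhs => rw [e4]
      rw [comm_mul_right', e5, mul_one, mul_inv_cancel, mul_one]
    have e7 : ⁅b, w⁆ = ⁅y, x⁆ := C2 a ha a' ha'
    have e8 : ⁅b, w'⁆ = ⁅x, y⁆ := C2 a' ha' a ha
    have e9 : ⁅y, x⁆ = (⁅y, x⁆)⁻¹ := by
      rw [commutatorElement_inv, ← e7, ← e8, e6]
    rw [pow_two]
    nth_rewrite 1 [e9]
    exact inv_mul_cancel _
  -- the subgroup of central involutions
  let Z₂ : Subgroup G :=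
    { carrier := {z | z ∈ B ⊓ Subgroup.centralizer (B : Set G) ∧ z ^ 2 = 1}
      one_mem' := ⟨Subgroup.one_mem _, one_pow 2⟩
      mul_mem' := by
        rintro z z' ⟨hz, hz2⟩ ⟨hz', hz2'⟩
        refine ⟨Subgroup.mul_mem _ hz hz', ?_⟩
        have hcz : Commute z z' := (Subgroup.mem_centralizer_iff.mp hz'.2 z hz.1)
        rw [hcz.mul_pow, hz2, hz2', one_mul]
      inv_mem' := by
        rintro z ⟨hz, hz2⟩
        exact ⟨Subgroup.inv_mem _ hz, by rw [inv_pow, hz2, inv_one]⟩ }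
  have hBZ : ∀ g ∈ B, g ∈ Subgroup.centralizer (Z₂ : Set G) := by
    intro g hg
    rw [Subgroup.mem_centralizer_iff]
    intro z hz
    exact (Subgroup.mem_centralizer_iff.mp hz.1.2 g hg).symm
  let U : Set G := {g : G | ∃ a ∈ A, g = b⁻¹ * a * b * a⁻¹}
  have s1 : E ≤ commInto Z₂ U := by
    rw [hE, Subgroup.closure_le]
    rintro _ ⟨a, ha, rfl⟩
    refine ⟨hBZ _ (hEB (huE a ha)), ?_⟩
    rintro _ ⟨a', ha', rfl⟩
    exact ⟨hDD (Subgroup.commutator_mem_commutator (hED (huE a ha)) (hED (huE a' ha'))), C4 a' ha' a ha⟩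
  have s2 : E ≤ commInto Z₂ (E : Set G) := by
    conv_lhs => rw [hE]
    rw [Subgroup.closure_le]
    rintro _ ⟨a, ha, rfl⟩
    refine ⟨hBZ _ (hEB (huE a ha)), ?_⟩
    intro x hx
    have h1 := (s1 hx).2 _ ⟨a, ha, rfl⟩
    have h2 := Z₂.inv_mem h1
    have h3 : (x * (b⁻¹ * a * b * a⁻¹) * x⁻¹ * (b⁻¹ * a * b * a⁻¹)⁻¹)⁻¹ =
        b⁻¹ * a * b * a⁻¹ * x * (b⁻¹ * a * b * a⁻¹)⁻¹ * x⁻¹ := by group
    rwa [h3] at h2
  have s3 : ⁅E, E⁆ ≤ Z₂ := by
    rw [Subgroup.commutator_le]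
    intro x hx y hy
    exact (s2 hx).2 y hy
  intro w hw
  exact (s3 hw).2

/-- If A acts on B centralizing [B, B], then [B, A] has derived subgroup central in B, and for abelian A and b ∈ B with [[b, A], A, A] = 1 the derived subgroup of the subgroup [b, A] generated by the commutators of b with A has exponent dividing 2. -/
theorem result {G : Type*} [Group G] [Finite G] (A B : Subgroup G) (hAB : A ≤ Subgroup.normalizer (B : Set G)) (hc : ⁅⁅B, B⁆, A⁆ = ⊥) : ⁅⁅B, A⁆, ⁅B, A⁆⁆ ≤ B ⊓ Subgroup.centralizer (B : Set G) ∧ (IsMulCommutative A → ∀ b ∈ B, ⁅⁅(Subgroup.closure {g : G | ∃ a ∈ A, g = b⁻¹ * a * b * a⁻¹}), A⁆, A⁆ = ⊥ → ∀ w ∈ ⁅(Subgroup.closure {g : G | ∃ a ∈ A, g = b⁻¹ * a * b * a⁻¹}), (Subgroup.closure {g : G | ∃ a ∈ A, g = b⁻¹ * a * b * a⁻¹})⁆, w ^ 2 = 1) := by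
  obtain ⟨hDB, hDBB, hDD⟩ := part1 A B hAB hc
  refine ⟨hDD, ?_⟩
  intro hA b hb hEAA
  exact part2 A B hAB hc hA b hb _ rfl hEAA

end Cfsg.Agent.S0648
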