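import Cfsg.Statements.S0650
import Mathlib
import Cfsg.Agent.S0648
import Cfsg.Agent.Lib.Helper4.Basic
import Cfsg.Agent.Lib.Helper17.ClassTwo
import Cfsg.Agent.Lib.Helper1.Coprime

set_option autoImplicit false
open Cfsg

namespace Cfsg.Agent.S0650

open scoped commutatorElement
open Cfsg.Agent.Lib.Helper4

theorem mem_normalizer_of_conj_mem'' {G : Type*} [Group G] {U : Subgroup G} [Finite U] {t : G}
    (h : ∀ u ∈ U, t * u * t⁻¹ ∈ U) : t ∈ Subgroup.normalizer (U : Set G) := by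
  rw [Subgroup.mem_normalizer_iff]
  intro x
  refine ⟨h x, fun hx => ?_⟩
  let f : U → U := fun u => ⟨t * u * t⁻¹, h u u.2⟩
  have hf : Function.Injective f := by
    intro u v huv
    have : t * u * t⁻¹ = t * v * t⁻¹ := congrArg Subtype.val huv
    exact Subtype.ext (mul_left_cancel (mul_right_cancel this))
  obtain ⟨u, hu⟩ := (Finite.injective_iff_surjective.mp hf) ⟨_, hx⟩
  have : t * u * t⁻¹ = t * x * t⁻¹ := congrArg Subtype.val hu
  rw [← mul_left_cancel (mul_right_cancel this)]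
  exact u.2

/-- The Glauberman replacement Theorem: from an abelian A ⊇ [B, B] not normalized by the normal subgroup B and a suitable b ∈ B one gets the abelian subgroup A* = (A ∩ b⁻¹Ab)[A, b] of the same order, containing [B, B], meeting B strictly more than A does but not containing B, mutually normalizing with A, with strictly larger normalizer containing b, and (p odd) of no larger exponent. -/
theorem result {S : Type*} [Group S] [Finite S] {p : ℕ} [Fact p.Prime] (hS : IsPGroup p S) (B : Subgroup S) [B.Normal] (hB2 : p = 2 → IsMulCommutative B) (A : Subgroup S) (hA : IsMulCommutative A) (hBA : ⁅B, B⁆ ≤ A) (hnot : ¬ B ≤ Subgroup.normalizer (A : Set S)) (b : S) (hb : b ∈ B) (hbN : b ∈ Subgroup.normalizer ((Subgroup.normalizer (A : Set S)) : Set S)) (hbA : b ∉ Subgroup.normalizer (A : Set S)) : Nat.card ↥((A ⊓ A.map (MulAut.conj (b⁻¹)).toMonoidHom) ⊔ Subgroup.closure {g : S | ∃ a ∈ A, g = a *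 b⁻¹ * a⁻¹ * b}) = Nat.card A ∧ IsMulCommutative ↥((A ⊓ A.map (MulAut.conj (b⁻¹)).toMonoidHom) ⊔ Subgroup.closure {g : S | ∃ a ∈ A, g = a * b⁻¹ * a⁻¹ * b}) ∧ ⁅B, B⁆ ≤ ((A ⊓ A.map (MulAut.conj (b⁻¹)).toMonoidHom) ⊔ Subgroup.closure {g : S | ∃ a ∈ A, g = a * b⁻¹ * a⁻¹ * b}) ∧ A ⊓ B < ((A ⊓ A.map (MulAut.conj (b⁻¹)).toMonoidHom) ⊔ Subgroup.closure {g : S | ∃ a ∈ A, g = a * b⁻¹ * a⁻¹ * b}) ⊓ B ∧ ((A ⊓ A.map (MulAut.conj (b⁻¹)).toMonoidHom) ⊔ Subgroup.closure {g : S | ∃ a ∈ A, g = a * b⁻¹ * a⁻¹ * b}) ⊓ B < B ∧ A ≤ Subgroup.normalizer (((A ⊓ A.map (MulAut.conj (b⁻¹)).toMonoidHom) ⊔ Subgroup.closure {g : S | ∃ a ∈ A, g = a * b⁻¹ * a⁻¹ * b} : Subgroup S) : Set S) ∧ ((A ⊓ A.map (MulAut.conj (b⁻¹)).toMonoidHom) ⊔ Subgroup.closure {g : S | ∃ a ∈ A, g = a * b⁻¹ * a⁻¹ * b}) ≤ Subgroup.normalizer (A : Set S) ∧ b ∈ Subgroup.normalizer (((A ⊓ A.map (MulAut.conj (b⁻¹)).toMonoidHom) ⊔ Subgroup.closure {g : S | ∃ a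 ∈ A, g = a * b⁻¹ * a⁻¹ * b} : Subgroup S) : Set S) ∧ Subgroup.normalizer (A : Set S) < Subgroup.normalizer (((A ⊓ A.map (MulAut.conj (b⁻¹)).toMonoidHom) ⊔ Subgroup.closure {g : S | ∃ a ∈ A, g = a * b⁻¹ * a⁻¹ * b} : Subgroup S) : Set S) ∧ (p ≠ 2 → Monoid.exponent ↥((A ⊓ A.map (MulAut.conj (b⁻¹)).toMonoidHom) ⊔ Subgroup.closure {g : S | ∃ a ∈ A, g = a * b⁻¹ * a⁻¹ * b}) ∣ Monoid.exponent A) := by
  classical
  set A₁ := A.map (MulAut.conj (b⁻¹)).toMonoidHom with hA₁def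
  set I := A ⊓ A₁ with hIdef
  let c : S → S := fun a => a * b⁻¹ * a⁻¹ * b
  set E := Subgroup.closure {g : S | ∃ a ∈ A, g = a * b⁻¹ * a⁻¹ * b} with hEdef
  set As := I ⊔ E with hAsdef
  set N := Subgroup.normalizer (A : Set S) with hNdef
  have hAc : ∀ x ∈ A, ∀ y ∈ A, x * y = y * x := (isMulCommutative_iff A).mp hA
  -- membership in A₁
  have hA₁ : ∀ y, y ∈ A₁ ↔ b * y * b⁻¹ ∈ A := by
    intro y
    constructor
    · rintro ⟨a, ha, rfl⟩
      have : b * ((MulAut.conj b⁻¹).toMonoidHom a) * b⁻¹ = a := by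
        show b * (b⁻¹ * a * b⁻¹⁻¹) * b⁻¹ = a
        group
      rw [this]; exact ha
    · intro h
      refine ⟨b * y * b⁻¹, h, ?_⟩
      show b⁻¹ * (b * y * b⁻¹) * b⁻¹⁻¹ = y
      group
  have hA₁' : ∀ a ∈ A, b⁻¹ * a * b ∈ A₁ := by
    intro a ha
    rw [hA₁]
    have : b * (b⁻¹ * a * b) * b⁻¹ = a := by group
    rw [this]; exact ha
  have hA₁c : ∀ x ∈ A₁, ∀ y ∈ A₁, x * y = y * x := by
    intro x hx y hy
    have h1 := hAc _ ((hA₁ x).mp hx) _ ((hA₁ y).mp hy)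
    have h2 : b * (x * y) * b⁻¹ = b * (y * x) * b⁻¹ := by
      calc b * (x * y) * b⁻¹ = (b * x * b⁻¹) * (b * y * b⁻¹) := by group
        _ = (b * y * b⁻¹) * (b * x * b⁻¹) := h1
        _ = b * (y * x) * b⁻¹ := by group
    exact mul_left_cancel (mul_right_cancel h2)
  have hNmem : ∀ n ∈ N, ∀ a ∈ A, n * a * n⁻¹ ∈ A := by
    intro n hn a ha
    exact (Subgroup.mem_normalizer_iff.mp hn a).mp ha
  have hbN1 : ∀ n ∈ N, b * n * b⁻¹ ∈ N := fun n hn => (Subgroup.mem_normalizer_iff.mp hbN n).mp hn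
  have hbN2 : ∀ n ∈ N, b⁻¹ * n * b ∈ N := by
    intro n hn
    have := (Subgroup.mem_normalizer_iff.mp (Subgroup.inv_mem _ hbN) n).mp hn
    rwa [inv_inv] at this
  have hAN : A ≤ N := Subgroup.le_normalizer
  have hA₁N : A₁ ≤ N := by
    intro y hy
    have h1 := hbN2 _ (hAN ((hA₁ y).mp hy))
    have h2 : b⁻¹ * (b * y * b⁻¹) * b = y := by group
    rwa [h2] at h1
  have hNA₁ : ∀ n ∈ N, ∀ y ∈ A₁, n * y * n⁻¹ ∈ A₁ := by
    intro n hn y hy
    rw [hA₁]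
    have h1 := hNmem _ (hbN1 n hn) _ ((hA₁ y).mp hy)
    have h2 : b * n * b⁻¹ * (b * y * b⁻¹) * (b * n * b⁻¹)⁻¹ = b * (n * y * n⁻¹) * b⁻¹ := by group
    rwa [h2] at h1
  -- commutators of A and A₁ lie in I
  have hcommI : ∀ a ∈ A, ∀ y ∈ A₁, ⁅a, y⁆ ∈ I := by
    intro a ha y hy
    constructor
    · rw [commutatorElement_def, mul_assoc, mul_assoc]
      apply A.mul_mem ha
      rw [← mul_assoc]
      exact hNmem y (hA₁N hy) _ (A.inv_mem ha)
    · rw [commutatorElement_def]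
      exact A₁.mul_mem (hNA₁ a (hAN ha) y hy) (A₁.inv_mem hy)
  have hIA : ∀ i ∈ I, ∀ a ∈ A, i * a = a * i := fun i hi a ha => hAc i hi.1 a ha
  have hIA₁ : ∀ i ∈ I, ∀ y ∈ A₁, i * y = y * i := fun i hi y hy => hA₁c i hi.2 y hy
  have hc_eq : ∀ a, c a = a * (b⁻¹ * a⁻¹ * b) := fun a => by
    show a * b⁻¹ * a⁻¹ * b = _
    group
  have hyA₁ : ∀ a ∈ A, b⁻¹ * a⁻¹ * b ∈ A₁ := fun a ha => hA₁' _ (A.inv_mem ha)
  have hBn : ∀ x ∈ B, ∀ g : S, g * x * g⁻¹ ∈ B := fun x hx g => ‹B.Normal›.conj_mem x hx g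
  have hcB : ∀ a, c a ∈ B := fun a => B.mul_mem (hBn _ (B.inv_mem hb) a) hb
  have hcN : ∀ a ∈ A, c a ∈ N := by
    intro a ha
    rw [hc_eq]
    exact N.mul_mem (hAN ha) (hA₁N (hyA₁ a ha))
  have hIc : ∀ i ∈ I, ∀ a ∈ A, i * c a = c a * i := by
    intro i hi a ha
    rw [hc_eq, ← mul_assoc, hIA i hi a ha, mul_assoc, hIA₁ i hi _ (hyA₁ a ha), ← mul_assoc]
  have hABb1 : ∀ x ∈ A ⊓ B, b * x * b⁻¹ ∈ A ⊓ B := by
    intro x hx
    refine ⟨?_, hBn x hx.2 b⟩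
    have h1 : b * x * b⁻¹ = x * ⁅x⁻¹, b⁆ := by rw [commutatorElement_def]; group
    rw [h1]
    exact A.mul_mem hx.1 (hBA (Subgroup.commutator_mem_commutator (B.inv_mem hx.2) hb))
  have hABb2 : ∀ x ∈ A ⊓ B, b⁻¹ * x * b ∈ A ⊓ B := by
    intro x hx
    refine ⟨?_, by have := hBn x hx.2 b⁻¹; rwa [inv_inv] at this⟩
    have h1 : b⁻¹ * x * b = x * ⁅x⁻¹, b⁻¹⁆ := by rw [commutatorElement_def]; group
    rw [h1]
    exact A.mul_mem hx.1 (hBA (Subgroup.commutator_mem_commutator (B.inv_mem hx.2) (B.inv_mem hb)))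
  have hABI : A ⊓ B ≤ I := fun x hx => ⟨hx.1, (hA₁ x).mpr (hABb1 x hx).1⟩
  have hBBB : ⁅B, B⁆ ≤ B := Subgroup.commutator_le_left B B
  have hBBI : ⁅B, B⁆ ≤ I := fun x hx => hABI ⟨hBA hx, hBBB hx⟩
  have hIu : ∀ x ∈ I, (b * x * b⁻¹)⁻¹ * x ∈ A ⊓ B := by
    intro x hx
    refine ⟨A.mul_mem (A.inv_mem ((hA₁ x).mp hx.2)) hx.1, ?_⟩
    have h1 : (b * x * b⁻¹)⁻¹ * x = b * (x⁻¹ * b⁻¹ * x⁻¹⁻¹) := by group
    rw [h1]
    exact B.mul_mem hb (hBn _ (B.inv_mem hb) x⁻¹)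
  have hIb2 : ∀ x ∈ I, b⁻¹ * x * b ∈ I := by
    intro x hx
    refine ⟨?_, hA₁' x hx.1⟩
    have h1 : b⁻¹ * x * b = x * (b⁻¹ * ((b * x * b⁻¹)⁻¹ * x) * b) := by group
    rw [h1]
    exact A.mul_mem hx.1 (hABb2 _ (hIu x hx)).1
  have hIb1 : ∀ x ∈ I, b * x * b⁻¹ ∈ I := by
    intro x hx
    refine ⟨(hA₁ x).mp hx.2, ?_⟩
    show b * x * b⁻¹ ∈ A₁
    rw [hA₁]
    have h1 : b * (b * x * b⁻¹) * b⁻¹ = (b * x * b⁻¹) * (b * ((b * x * b⁻¹)⁻¹ * x)⁻¹ * b⁻¹) := by group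
    rw [h1]
    exact A.mul_mem ((hA₁ x).mp hx.2) (hABb1 _ ((A ⊓ B).inv_mem (hIu x hx))).1
  have hprod : ∀ a ∈ A, ∀ a' ∈ A, ∃ k ∈ I, c a * c a' = c (a * a') * k := by
    intro a ha a' ha'
    set y := b⁻¹ * a⁻¹ * b with hy
    set y' := b⁻¹ * a'⁻¹ * b with hy'
    have hyy : y ∈ A₁ := hyA₁ a ha
    have hyy' : y' ∈ A₁ := hyA₁ a' ha'
    have hk : ⁅a'⁻¹, y⁆ ∈ I := hcommI _ (A.inv_mem ha') _ hyy
    refine ⟨⁅a'⁻¹, y⁆, hk, ?_⟩
    have e1 : c (a * a') = a * a' * (y' * y) := by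
      rw [hc_eq, hy, hy']; group
    calc c a * c a' = a * a' * (⁅a'⁻¹, y⁆ * (y * y')) := by
          rw [hc_eq, hc_eq, commutatorElement_def, ← hy, ← hy']; group
      _ = a * a' * ((y * y') * ⁅a'⁻¹, y⁆) := by rw [hIA₁ _ hk _ (A₁.mul_mem hyy hyy')]
      _ = c (a * a') * ⁅a'⁻¹, y⁆ := by rw [e1, hA₁c y hyy y' hyy', mul_assoc (a * a')]
  have hc1 : c 1 = 1 := by show (1 : S) * b⁻¹ * 1⁻¹ * b = 1; group
  have hnf : ∀ x ∈ As, ∃ a ∈ A, ∃ i ∈ I, x = c a * i := by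
    intro x hx
    have hAs2 : As = Subgroup.closure ((I : Set S) ∪ {g : S | ∃ a ∈ A, g = a * b⁻¹ * a⁻¹ * b}) := by
      rw [Subgroup.closure_union, Subgroup.closure_eq]
    rw [hAs2] at hx
    induction hx using Subgroup.closure_induction with
    | mem z hz =>
      rcases hz with hz | ⟨a, ha, rfl⟩
      · exact ⟨1, A.one_mem, z, hz, by rw [hc1, one_mul]⟩
      · exact ⟨a, ha, 1, I.one_mem, (mul_one _).symm⟩
    | one => exact ⟨1, A.one_mem, 1, I.one_mem, by rw [hc1, one_mul]⟩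
    | mul z z' _ _ ih ih' =>
      obtain ⟨a, ha, i, hi, rfl⟩ := ih
      obtain ⟨a', ha', i', hi', rfl⟩ := ih'
      obtain ⟨k, hk, hkk⟩ := hprod a ha a' ha'
      refine ⟨a * a', A.mul_mem ha ha', k * (i * i'), I.mul_mem hk (I.mul_mem hi hi'), ?_⟩
      calc c a * i * (c a' * i') = c a * (i * c a') * i' := by group
        _ = c a * (c a' * i) * i' := by rw [hIc i hi a' ha']
        _ = (c a * c a') * (i * i') := by group
        _ = c (a * a') * (k * (i * i')) := by rw [hkk]; group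
    | inv z _ ih =>
      obtain ⟨a, ha, i, hi, rfl⟩ := ih
      obtain ⟨k, hk, hkk⟩ := hprod a ha a⁻¹ (A.inv_mem ha)
      rw [mul_inv_cancel, hc1, one_mul] at hkk
      refine ⟨a⁻¹, A.inv_mem ha, k⁻¹ * i⁻¹, I.mul_mem (I.inv_mem hk) (I.inv_mem hi), ?_⟩
      have e1 : (c a)⁻¹ = c a⁻¹ * k⁻¹ := by
        rw [← hkk]; group
      have e2 : i⁻¹ * (c a)⁻¹ = (c a)⁻¹ * i⁻¹ := by
        have : Commute i (c a) := hIc i hi a ha
        exact (this.inv_inv).eq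
      rw [_root_.mul_inv_rev, e2, e1, mul_assoc]
  have hIAs : I ≤ As := le_sup_left
  have hcAs : ∀ a ∈ A, c a ∈ As := fun a ha =>
    (le_sup_right : E ≤ As) (Subgroup.subset_closure ⟨a, ha, rfl⟩)
  have h7 : As ≤ N := by
    apply sup_le (inf_le_left.trans hAN)
    rw [hEdef, Subgroup.closure_le]
    rintro _ ⟨a, ha, rfl⟩
    exact hcN a ha
  have hAA : ⁅A, A⁆ = ⊥ := Cfsg.Agent.Lib.Helper17.commutator_self_eq_bot_of_comm hA
  have hgen : ∀ a ∈ A, ∀ a' ∈ A, c a * c a' = c a' * c a := by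
    intro a ha a' ha'
    by_cases hp2 : p = 2
    · exact (isMulCommutative_iff B).mp (hB2 hp2) _ (hcB a) _ (hcB a')
    · have hE'N : Subgroup.closure {g : S | ∃ a ∈ A, g = b⁻¹ * a * b * a⁻¹} ≤ N := by
        rw [Subgroup.closure_le]
        rintro _ ⟨a, ha, rfl⟩
        exact N.mul_mem (hA₁N (hA₁' a ha)) (hAN (A.inv_mem ha))
      have hEAA : ⁅⁅Subgroup.closure {g : S | ∃ a ∈ A, g = b⁻¹ * a * b * a⁻¹}, A⁆, A⁆ = ⊥ := by
        rw [eq_bot_iff, ← hAA]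
        apply Subgroup.commutator_mono _ le_rfl
        rw [Subgroup.commutator_le]
        intro e he x hx
        rw [commutatorElement_def]
        exact A.mul_mem (hNmem e (hE'N he) x hx) (A.inv_mem hx)
      have hsq := Cfsg.Agent.S0648.part2 A B (by rw [Subgroup.normalizer_eq_top]; exact le_top)
        (by rw [eq_bot_iff, ← hAA]; exact Subgroup.commutator_mono hBA le_rfl) hA b hb _ rfl hEAA
      have hcE' : ∀ a ∈ A, c a ∈ Subgroup.closure {g : S | ∃ a ∈ A, g = b⁻¹ * a * b * a⁻¹} := by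
        intro a ha
        have : c a = (b⁻¹ * a * b * a⁻¹)⁻¹ := by
          show a * b⁻¹ * a⁻¹ * b = _
          group
        rw [this]
        exact Subgroup.inv_mem _ (Subgroup.subset_closure ⟨a, ha, rfl⟩)
      have hw := hsq _ (Subgroup.commutator_mem_commutator (hcE' a ha) (hcE' a' ha'))
      obtain ⟨k, hk⟩ := hS ⁅c a, c a'⁆
      have h1 := orderOf_dvd_of_pow_eq_one hw
      have h2 := orderOf_dvd_of_pow_eq_one hk
      have hcop : Nat.Coprime 2 (p ^ k) :=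
        Nat.Coprime.pow_right k ((Nat.coprime_primes Nat.prime_two Fact.out).mpr (Ne.symm hp2))
      have h3 : orderOf ⁅c a, c a'⁆ = 1 := Nat.eq_one_of_dvd_coprimes hcop h1 h2
      rw [orderOf_eq_one_iff, commutatorElement_eq_one_iff_mul_comm] at h3
      exact h3
  have hIE : ∀ i ∈ I, ∀ e ∈ E, i * e = e * i := by
    intro i hi e he
    have : E ≤ Subgroup.centralizer (I : Set S) := by
      rw [hEdef, Subgroup.closure_le]
      rintro _ ⟨a, ha, rfl⟩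
      rw [SetLike.mem_coe, Subgroup.mem_centralizer_iff]
      intro j hj
      exact hIc j hj a ha
    exact Subgroup.mem_centralizer_iff.mp (this he) i hi
  have h2 : IsMulCommutative As := by
    apply isMulCommutative_sup (isMulCommutative_of_le inf_le_left hA) _ hIE
    apply Subgroup.isMulCommutative_closure
    rintro _ ⟨a, ha, rfl⟩ _ ⟨a', ha', rfl⟩
    exact hgen a ha a' ha'
  have hAsA : As ⊓ A = I := by
    apply le_antisymm
    · rintro x ⟨hx1, hx2⟩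
      obtain ⟨a, ha, i, hi, rfl⟩ := hnf x hx1
      have hca : c a ∈ A := by
        have := A.mul_mem hx2 (A.inv_mem hi.1)
        rwa [mul_inv_cancel_right] at this
      have hy : b⁻¹ * a⁻¹ * b ∈ I := by
        refine ⟨?_, hyA₁ a ha⟩
        have := A.mul_mem (A.inv_mem ha) hca
        rwa [hc_eq, inv_mul_cancel_left] at this
      have ha' : a⁻¹ ∈ I := by
        have := hIb1 _ hy
        have e : b * (b⁻¹ * a⁻¹ * b) * b⁻¹ = a⁻¹ := by group
        rwa [e] at this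
      have hcI : c a ∈ I := by
        rw [hc_eq]
        have := I.inv_mem ha'
        rw [inv_inv] at this
        exact I.mul_mem this hy
      exact I.mul_mem hcI hi
    · exact le_inf hIAs inf_le_left
  have hsup : As ⊔ A = A ⊔ A₁ := by
    apply le_antisymm
    · apply sup_le _ le_sup_left
      apply sup_le (inf_le_left.trans le_sup_left)
      rw [hEdef, Subgroup.closure_le]
      rintro _ ⟨a, ha, rfl⟩
      have := hc_eq a
      show c a ∈ A ⊔ A₁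
      rw [this]
      exact Subgroup.mul_mem_sup ha (hyA₁ a ha)
    · apply sup_le le_sup_right
      intro y hy
      have ha := (hA₁ y).mp hy
      have e : y = (c (b * y * b⁻¹))⁻¹ * (b * y * b⁻¹) := by
        show y = ((b * y * b⁻¹) * b⁻¹ * (b * y * b⁻¹)⁻¹ * b)⁻¹ * (b * y * b⁻¹)
        group
      rw [e]
      exact Subgroup.mul_mem_sup (As.inv_mem (hcAs _ ha)) ha
  have h1 : Nat.card As = Nat.card A := by
    have f1 := card_mul_card_eq_of_le_normalizer A A₁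
      (Cfsg.Agent.Lib.Helper1.le_normalizer_of_forall_conj_mem (fun x hx y hy => hNA₁ x (hAN hx) y hy))
    have f2 := card_mul_card_eq_of_le_normalizer As A h7
    have f3 : Nat.card A₁ = Nat.card A := Subgroup.card_map_of_injective (MulAut.conj b⁻¹).injective
    rw [hsup, hAsA, ← f1, f3] at f2
    exact Nat.eq_of_mul_eq_mul_right Nat.card_pos f2
  have h3 : ⁅B, B⁆ ≤ As := hBBI.trans hIAs
  have hbAs : b ∉ As := fun h => hbA (h7 h)
  obtain ⟨a₀, ha₀, ha₀'⟩ : ∃ a ∈ A, b⁻¹ * a * b ∉ A := by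
    by_contra hcon
    push Not at hcon
    have : b⁻¹ ∈ N := mem_normalizer_of_conj_mem'' (fun u hu => by
      have := hcon u hu
      rwa [inv_inv])
    exact hbA (by have := N.inv_mem this; rwa [inv_inv] at this)
  have h4 : A ⊓ B < As ⊓ B := by
    rw [SetLike.lt_iff_le_and_exists]
    refine ⟨le_inf (hABI.trans hIAs) inf_le_right, c a₀, ⟨hcAs a₀ ha₀, hcB a₀⟩, ?_⟩
    rintro ⟨hc1', _⟩
    apply ha₀'
    have h5 := A.mul_mem (A.inv_mem hc1') ha₀
    have e : (c a₀)⁻¹ * a₀ = b⁻¹ * a₀ * b := by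
      show (a₀ * b⁻¹ * a₀⁻¹ * b)⁻¹ * a₀ = _
      group
    rwa [e] at h5
  have h5 : As ⊓ B < B := by
    rw [SetLike.lt_iff_le_and_exists]
    exact ⟨inf_le_right, b, hb, fun h => hbAs h.1⟩
  have h6 : A ≤ Subgroup.normalizer (As : Set S) := by
    apply Cfsg.Agent.Lib.Helper1.le_normalizer_of_forall_conj_mem
    intro a' ha' x hx
    obtain ⟨a, ha, i, hi, rfl⟩ := hnf x hx
    have hk : ⁅a', b⁻¹ * a⁻¹ * b⁆ ∈ I := hcommI a' ha' _ (hyA₁ a ha)
    have e : a' * (c a * i) * a'⁻¹ = c a * (⁅a', b⁻¹ * a⁻¹ * b⁆ * i) := by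
      calc a' * (c a * i) * a'⁻¹ = a' * c a * (i * a'⁻¹) := by group
        _ = a' * c a * (a'⁻¹ * i) := by rw [hIA i hi _ (A.inv_mem ha')]
        _ = (a' * a) * ((b⁻¹ * a⁻¹ * b) * a'⁻¹) * i := by rw [hc_eq]; group
        _ = (a * a') * ((b⁻¹ * a⁻¹ * b) * a'⁻¹) * i := by rw [hAc a' ha' a ha]
        _ = a * (⁅a', b⁻¹ * a⁻¹ * b⁆ * (b⁻¹ * a⁻¹ * b)) * i := by rw [commutatorElement_def]; group
        _ = a * ((b⁻¹ * a⁻¹ * b) * ⁅a', b⁻¹ * a⁻¹ * b⁆) * i := by rw [hIA₁ _ hk _ (hyA₁ a ha)]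
        _ = c a * (⁅a', b⁻¹ * a⁻¹ * b⁆ * i) := by rw [hc_eq]; group
    rw [e]
    exact As.mul_mem (hcAs a ha) (hIAs (I.mul_mem hk hi))
  have h8 : b ∈ Subgroup.normalizer (As : Set S) := by
    apply mem_normalizer_of_conj_mem''
    intro x hx
    obtain ⟨a, ha, i, hi, rfl⟩ := hnf x hx
    have e : b * (c a * i) * b⁻¹ = c a * ⁅(c a)⁻¹, b⁆ * (b * i * b⁻¹) := by
      rw [commutatorElement_def]; group
    rw [e]
    exact As.mul_mem (As.mul_mem (hcAs a ha)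
      (h3 (Subgroup.commutator_mem_commutator (B.inv_mem (hcB a)) hb))) (hIAs (hIb1 i hi))
  have h9' : N ≤ Subgroup.normalizer (As : Set S) := by
    apply Cfsg.Agent.Lib.Helper1.le_normalizer_of_forall_conj_mem
    intro n hn x hx
    obtain ⟨a, ha, i, hi, rfl⟩ := hnf x hx
    have hni : n * i * n⁻¹ ∈ I := ⟨hNmem n hn i hi.1, hNA₁ n hn i hi.2⟩
    set t := n⁻¹ * b * n * b⁻¹ with ht
    have htB : t ∈ B := by
      have h10 := hBn b hb n⁻¹
      rw [inv_inv] at h10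
      exact B.mul_mem h10 (B.inv_mem hb)
    have htN : t ∈ N := by
      have e : t = n⁻¹ * (b * n * b⁻¹) := by rw [ht]; group
      rw [e]
      exact N.mul_mem (N.inv_mem hn) (hbN1 n hn)
    have hat : ⁅a, t⁆ ∈ A ⊓ B := by
      constructor
      · rw [commutatorElement_def, mul_assoc, mul_assoc]
        apply A.mul_mem ha
        rw [← mul_assoc]
        exact hNmem t htN _ (A.inv_mem ha)
      · rw [commutatorElement_def]
        exact B.mul_mem (hBn t htB a) (B.inv_mem htB)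
    have hnat : n * ⁅a, t⁆ * n⁻¹ ∈ A ⊓ B := ⟨hNmem n hn _ hat.1, hBn _ hat.2 n⟩
    have hj := hABI (hABb2 _ hnat)
    have e : n * (c a * i) * n⁻¹ = c (n * a * n⁻¹) * (b⁻¹ * (n * ⁅a, t⁆ * n⁻¹) * b) * (n * i * n⁻¹) := by
      rw [commutatorElement_def, ht]
      show n * (a * b⁻¹ * a⁻¹ * b * i) * n⁻¹ = (n * a * n⁻¹) * b⁻¹ * (n * a * n⁻¹)⁻¹ * b * _ * _
      group
    rw [e]
    exact As.mul_mem (As.mul_mem (hcAs _ (hNmem n hn a ha)) (hIAs hj)) (hIAs hni)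
  have h9 : N < Subgroup.normalizer (As : Set S) := by
    rw [SetLike.lt_iff_le_and_exists]
    exact ⟨h9', b, h8, hbA⟩
  have h10 : p ≠ 2 → Monoid.exponent As ∣ Monoid.exponent A := by
    intro hp2
    apply Monoid.exponent_dvd_of_forall_pow_eq_one
    intro g
    apply Subtype.ext
    show (g : S) ^ Monoid.exponent A = 1
    obtain ⟨a, ha, i, hi, hg⟩ := hnf g.1 g.2
    set e := Monoid.exponent A with he
    have hpowA : ∀ x ∈ A, x ^ e = 1 := by
      intro x hx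
      have := Monoid.pow_exponent_eq_one (⟨x, hx⟩ : A)
      exact congrArg Subtype.val this
    have hodd : Odd e := by
      have h11 : e ∣ Nat.card A := Group.exponent_dvd_nat_card
      obtain ⟨k, hk⟩ := IsPGroup.iff_card.mp (hS.to_subgroup A)
      rw [hk] at h11
      obtain ⟨j, _, hj⟩ := (Nat.dvd_prime_pow Fact.out).mp h11
      rw [hj]
      exact Odd.pow ((Fact.out : p.Prime).odd_of_ne_two hp2)
    have hdvd : e ∣ e.choose 2 := by
      obtain ⟨m, hm⟩ := hodd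
      rw [Nat.choose_two_right]
      have : e * (e - 1) / 2 = e * m := by
        have h12 : e - 1 = 2 * m := by omega
        rw [h12, ← mul_assoc, mul_comm e 2, mul_assoc, Nat.mul_div_cancel_left _ (by norm_num)]
      rw [this]
      exact Dvd.intro _ rfl
    set y := b⁻¹ * a⁻¹ * b with hy
    have hyy : y ∈ A₁ := hyA₁ a ha
    have hk : ⁅y, a⁆ ∈ I := by
      have := I.inv_mem (hcommI a ha y hyy)
      rwa [commutatorElement_inv] at this
    have hform := Cfsg.Agent.Lib.Helper17.mul_pow_class_two (a := a) (b := y) (c := ⁅y, a⁆)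
      (by rw [commutatorElement_def]; group) (hIA _ hk a ha) (hIA₁ _ hk y hyy) e
    have hye : y ^ e = 1 := by
      have : y = b⁻¹ * a⁻¹ * b⁻¹⁻¹ := by rw [inv_inv]
      rw [this, conj_pow, hpowA _ (A.inv_mem ha)]
      group
    have hke : ⁅y, a⁆ ^ e.choose 2 = 1 := by
      obtain ⟨m, hm⟩ := hdvd
      rw [hm, pow_mul, hpowA _ hk.1, one_pow]
    have hce : c a ^ e = 1 := by
      rw [hc_eq, ← hy, hform, hke, hpowA a ha, hye]
      group
    have hcomm : Commute (c a) i := (hIc i hi a ha).symm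
    rw [hg, hcomm.mul_pow, hce, hpowA i hi.1, one_mul]
  exact ⟨h1, h2, h3, h4, h5, h6, h7, h8, h9, h10⟩

end Cfsg.Agent.S0650
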