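import Cfsg.Statements.S0179
import Mathlib
import Cfsg.Agent.Lib.Helper2.Integral

set_option autoImplicit false
open Cfsg

namespace Cfsg.Agent.S0179

/-- The degree of an irreducible complex representation of a finite group divides the index of the centre. -/
theorem result {G : Type*} [Group G] [Finite G] {V : Type*} [AddCommGroup V] [Module ℂ V] [FiniteDimensional ℂ V] (ρ : Representation ℂ G V) [ρ.IsIrreducible] : Module.finrank ℂ V ∣ (Subgroup.center G).index := by
  classical
  open Cfsg.Agent.Lib.Helper2 Module in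
  cases nonempty_fintype G
  cases nonempty_fintype (G ⧸ Subgroup.center G)
  haveI : Nontrivial V := nontrivial_of_isIrreducible ρ
  have hnpos : 0 < finrank ℂ V := finrank_pos_of_isIrreducible ρ
  have hn0 : (finrank ℂ V : ℂ) ≠ 0 := by exact_mod_cast hnpos.ne'
  -- central elements act as scalars of norm one
  have hscal : ∀ z ∈ Subgroup.center G, ∃ c : ℂ, ρ z = c • LinearMap.id ∧ (starRingEnd ℂ) c * c = 1 := by
    intro z hz
    let T : Representation.IntertwiningMap ρ ρ := ⟨ρ z, fun g => by
      have : z * g = g * z := (Subgroup.mem_center_iff.mp hz g).symm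
      show ρ z * ρ g = ρ g * ρ z
      rw [← map_mul, ← map_mul, this]⟩
    obtain ⟨c, hc⟩ := (Representation.IsIrreducible.algebraMap_intertwiningMap_bijective_of_isAlgClosed
      (ρ := ρ)).surjective T
    have hT : ρ z = c • LinearMap.id := by
      have := congrArg Representation.IntertwiningMap.toLinearMap hc
      rw [Representation.IntertwiningMap.algebraMap_apply] at this
      rw [show T.toLinearMap = ρ z from rfl] at this
      rw [← this]
      rfl
    refine ⟨c, hT, ?_⟩
    have h1 := (norm_char_eq_iff ρ z).mpr ⟨c, hT⟩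
    rw [Representation.character, hT, map_smul, LinearMap.trace_id, smul_eq_mul, norm_mul,
      Complex.norm_natCast] at h1
    have hn0' : (finrank ℂ V : ℝ) ≠ 0 := by exact_mod_cast hnpos.ne'
    have h2 : ‖c‖ = 1 := by
      have : ‖c‖ * (finrank ℂ V : ℝ) = 1 * (finrank ℂ V : ℝ) := by rw [h1, one_mul]
      exact mul_right_cancel₀ hn0' this
    rw [mul_comm, Complex.mul_conj, Complex.normSq_eq_norm_sq, h2]
    simp
  let Φ : G → Module.End ℂ V := fun g => (starRingEnd ℂ) (ρ.character g) • ρ g
  have hΦ : ∀ g, ∀ z ∈ Subgroup.center G, Φ (g * z) = Φ g := by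
    intro g z hz
    obtain ⟨c, hc, hcc⟩ := hscal z hz
    have h1 : ρ (g * z) = c • ρ g := by
      rw [map_mul, hc]
      ext v
      simp
    have h2 : ρ.character (g * z) = c * ρ.character g := by
      rw [Representation.character, h1, map_smul, smul_eq_mul]
      rfl
    simp only [Φ]
    rw [h1, h2, map_mul, smul_smul, mul_right_comm, hcc, one_mul]
  have hsum1 := sum_eq_card_smul_sum_quotient (Subgroup.center G) Φ hΦ
  have hsum2 : ∑ g, Φ g = ((Nat.card G : ℂ) / (finrank ℂ V : ℂ)) • (1 : Module.End ℂ V) := by
    have hcl : Cfsg.IsClassFunction G (fun g => (starRingEnd ℂ) (ρ.character g)) := by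
      intro g h
      simp
    have h1 := classOp_eq_smul ρ hcl
    have h2 : ∑ g, (starRingEnd ℂ) (ρ.character g) * ρ.character g = (Nat.card G : ℂ) := by
      have h3 := classInner_irr_rep ρ ρ
      rw [if_pos rfl, Cfsg.classInner] at h3
      have h4 : ∑ g, ρ.character g * (starRingEnd ℂ) (ρ.character g) = (Nat.card G : ℂ) := by
        have hG : (Nat.card G : ℂ) ≠ 0 := card_ne_zero_complex
        field_simp at h3
        exact h3
      rw [← h4]
      exact Finset.sum_congr rfl fun g _ => mul_comm _ _
    rw [h2] at h1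
    exact h1
  have hZ0 : (Nat.card (Subgroup.center G) : ℂ) ≠ 0 := card_subgroup_ne_zero _
  have hmem : (((Subgroup.center G).index : ℂ) / (finrank ℂ V : ℂ)) • (1 : Module.End ℂ V) ∈ intSpan ρ := by
    have h1 : ∑ q : G ⧸ Subgroup.center G, Φ q.out ∈ intSpan ρ :=
      Submodule.sum_mem _ fun q _ => conj_char_smul_mem_intSpan ρ _
    have h2 : ∑ q : G ⧸ Subgroup.center G, Φ q.out =
        (((Subgroup.center G).index : ℂ) / (finrank ℂ V : ℂ)) • (1 : Module.End ℂ V) := by
      have h3 : (Nat.card (Subgroup.center G) : ℂ) • ∑ q : G ⧸ Subgroup.center G, Φ q.out =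
          (Nat.card (Subgroup.center G) : ℂ) •
          ((((Subgroup.center G).index : ℂ) / (finrank ℂ V : ℂ)) • (1 : Module.End ℂ V)) := by
        rw [Nat.cast_smul_eq_nsmul, ← hsum1, hsum2, smul_smul, ← Subgroup.card_mul_index (Subgroup.center G)]
        push_cast
        congr 1
        field_simp
      exact smul_right_injective _ hZ0 h3
    rw [← h2]
    exact h1
  exact dvd_of_isIntegral_div hnpos.ne' (isIntegral_of_smul_id_mem_intSpan ρ hmem)

end Cfsg.Agent.S0179
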