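import Mathlib
import Cfsg.Statements.S0864
import Cfsg.Agent.Lib.Helper6.LinChar

set_option autoImplicit false
open Cfsg
open Cfsg.Agent.Lib.Helper6

namespace Cfsg.Agent.S0864

/-- Let N be a normal subgroup of the finite group G and λ a character of N of degree 1 invariant under conjugation by G. Suppose that for every prime p dividing the order of λ (in the group of functions under pointwise multiplication) there is a subgroup H containing N, of index prime to p and with the index of N in H a power of p, together with a character of H of degree 1 restricting to λ. Then λ is the restriction of a character of G of degree 1. -/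
theorem result {G : Type*} [Group G] [Finite G] (N : Subgroup G) [hN : N.Normal] (lam : N → ℂ) (hlam : Cfsg.IsCharacter N lam ∧ lam 1 = 1) (hinv : ∀ (g : G) (n : N), lam ⟨g * n * g⁻¹, hN.conj_mem (n : G) n.2 g⟩ = lam n) (hsyl : ∀ p : ℕ, p.Prime → p ∣ orderOf lam → ∃ (H : Subgroup G) (hNH : N ≤ H) (ν : H → ℂ), Nat.Coprime H.index p ∧ (∃ k : ℕ, N.relIndex H = p ^ k) ∧ Cfsg.IsCharacter H ν ∧ ν 1 = 1 ∧ ∀ n : N, ν ⟨(n : G), hNH n.2⟩ = lam n) : ∃ μ : G → ℂ, Cfsg.IsCharacter G μ ∧ μ 1 = 1 ∧ ∀ n : N, μ n = lam n := by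
  obtain ⟨f, rfl⟩ := exists_hom_of_linear hlam.1 hlam.2
  rw [orderOf_linCoe] at hsyl
  have hinv' : ∀ (g : G) (n : N) (h : g⁻¹ * (n : G) * g ∈ N), f ⟨g⁻¹ * n * g, h⟩ = f n := by
    intro g n h
    have := hinv g⁻¹ n
    simp only [linCoe_apply] at this
    have h2 := Units.ext this
    rw [← h2]
    congr 2
    simp
  let I : AddSubgroup ℤ :=
    { carrier := {k | ∃ μ : G →* ℂˣ, ∀ n : N, μ n = f n ^ k}
      zero_mem' := ⟨1, by simp⟩
      add_mem' := by
        rintro a b ⟨μ, hμ⟩ ⟨ν, hν⟩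
        exact ⟨μ * ν, fun n => by simp [hμ, hν, zpow_add]⟩
      neg_mem' := by
        rintro a ⟨μ, hμ⟩
        exact ⟨μ⁻¹, fun n => by simp [hμ]⟩ }
  have memI : ∀ k : ℤ, k ∈ I ↔ ∃ μ : G →* ℂˣ, ∀ n : N, μ n = f n ^ k := fun k => Iff.rfl
  obtain ⟨d, hd⟩ := Int.subgroup_cyclic I
  have memd : ∀ k : ℤ, k ∈ I ↔ d ∣ k := by
    intro k
    rw [hd, AddSubgroup.mem_closure_singleton]
    constructor
    · rintro ⟨n, rfl⟩
      exact ⟨n, by simp [mul_comm]⟩
    · rintro ⟨n, rfl⟩
      exact ⟨n, by simp [mul_comm]⟩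
  have hoI : ((orderOf f : ℕ) : ℤ) ∈ I := by
    rw [memI]
    refine ⟨1, fun n => ?_⟩
    have := congrArg (fun F : N →* ℂˣ => F n) (pow_orderOf_eq_one f)
    simp only [MonoidHom.pow_apply, MonoidHom.one_apply] at this
    rw [zpow_natCast, this]
    simp
  have hd1 : d.natAbs = 1 := by
    by_contra hne
    obtain ⟨q, hq, hqd⟩ := Nat.exists_prime_and_dvd hne
    have hqd' : (q : ℤ) ∣ d := Int.natCast_dvd.mpr hqd
    have hqo : q ∣ orderOf f := by
      have := hqd'.trans ((memd _).mp hoI)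
      exact_mod_cast this
    obtain ⟨H, hNH, ν, hcop, -, hν, hν1, hres⟩ := hsyl q hq hqo
    obtain ⟨ν', rfl⟩ := exists_hom_of_linear hν hν1
    have hres' : ∀ n : N, ν' ⟨(n : G), hNH n.2⟩ = f n := fun n => Units.ext (hres n)
    have hmI : ((H.index : ℕ) : ℤ) ∈ I := by
      rw [memI]
      refine ⟨MonoidHom.transfer ν', fun n => ?_⟩
      rw [zpow_natCast]
      apply transfer_eq_pow_of_invariant
      intro k g h
      have hmem : g⁻¹ * ((n ^ k : N) : G) * g ∈ N := by
        have := hN.conj_mem ((n ^ k : N) : G) (n ^ k).2 g⁻¹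
        simpa using this
      have h1 := hinv' g (n ^ k) hmem
      rw [map_pow] at h1
      rw [← h1, ← hres']
      congr 1
    have := hqd'.trans ((memd _).mp hmI)
    have hq2 : q ∣ H.index := by exact_mod_cast this
    have := Nat.Coprime.eq_one_of_dvd hcop.symm hq2
    exact hq.one_lt.ne' this
  have h1I : (1 : ℤ) ∈ I := by
    rw [memd]
    exact Int.natAbs_dvd_natAbs.mp (by simp [hd1])
  obtain ⟨μ, hμ⟩ := (memI 1).mp h1I
  refine ⟨linCoe G μ, isCharacter_linCoe μ, linCoe_one_apply μ, fun n => ?_⟩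
  simp [linCoe_apply, hμ]

end Cfsg.Agent.S0864
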