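import Cfsg.Statements.S2305
import Cfsg.Agent.S2304

set_option autoImplicit false
open Cfsg

namespace Cfsg.Agent.S2305

open Cfsg.Agent.Lib.Helper13 Cfsg.Agent.Lib.Helper2

/-- Over a finite field F, for multiplicative characters α, β, α′, β′ of F, the characters of GL₂ induced from the linear characters b ↦ α(b₁₁) β(b₂₂) and b ↦ α′(b₁₁) β′(b₂₂) of the upper triangular subgroup coincide exactly when {α, β} = {α′, β′} as unordered pairs. -/
theorem result {F : Type*} [Field F] [Fintype F] [DecidableEq F] (α β α' β' : MulChar F ℂ) :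
    Cfsg.indFun (Cfsg.upperTriangularGL 2 F) (fun b => α (((b : Matrix.GeneralLinearGroup (Fin 2) F) : Matrix (Fin 2) (Fin 2) F) 0 0) * β (((b : Matrix.GeneralLinearGroup (Fin 2) F) : Matrix (Fin 2) (Fin 2) F) 1 1)) = Cfsg.indFun (Cfsg.upperTriangularGL 2 F) (fun b => α' (((b : Matrix.GeneralLinearGroup (Fin 2) F) : Matrix (Fin 2) (Fin 2) F) 0 0) * β' (((b : Matrix.GeneralLinearGroup (Fin 2) F) : Matrix (Fin 2) (Fin 2) F) 1 1)) ↔
      (α = α' ∧ β = β') ∨ (α = β' ∧ β = α') := by
  classical
  change Cfsg.indFun (Cfsg.upperTriangularGL 2 F) (thetaGL α β) =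
    Cfsg.indFun (Cfsg.upperTriangularGL 2 F) (thetaGL α' β') ↔ _
  constructor
  · intro h
    have h1 := classInner_indFun_thetaGL α β α' β'
    have h2 := classInner_indFun_thetaGL α β α β
    rw [← h, h2, if_pos ⟨rfl, rfl⟩] at h1
    by_contra hcon
    push Not at hcon
    rw [if_neg (fun hc : α = α' ∧ β = β' => hcon.1 hc.1 hc.2),
      if_neg (fun hc : α = β' ∧ β = α' => hcon.2 hc.1 hc.2)] at h1
    split_ifs at h1 <;> norm_num at h1
  · rintro (⟨rfl, rfl⟩ | ⟨rfl, rfl⟩)
    · rfl
    · by_cases hab : α = β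
      · rw [hab]
      · have h1 := classInner_indFun_thetaGL α β β α
        rw [if_neg (fun hc => hab hc.1), if_pos ⟨rfl, rfl⟩, zero_add] at h1
        have i1 : Cfsg.IsIrrCharacter _ (Cfsg.indFun (Cfsg.upperTriangularGL 2 F) (thetaGL α β)) :=
          Cfsg.Agent.S2304.result α β hab
        have i2 : Cfsg.IsIrrCharacter _ (Cfsg.indFun (Cfsg.upperTriangularGL 2 F) (thetaGL β α)) :=
          Cfsg.Agent.S2304.result β α (Ne.symm hab)
        have h2 := classInner_irr i1 i2
        rw [h1] at h2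
        by_contra hne
        rw [if_neg hne] at h2
        exact one_ne_zero h2

end Cfsg.Agent.S2305
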