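import Cfsg.Statements.S2330
import Cfsg.Agent.Lib.Helper13.GL2

set_option autoImplicit false
open Cfsg

namespace Cfsg.Agent.S2330

open Cfsg.Agent.Lib.Helper13

variable {F : Type*} [Field F]

/-- companion matrix as an element of GL₂ -/
noncomputable def compGL (t : F) (d : Fˣ) : Matrix.GeneralLinearGroup (Fin 2) F :=
  Matrix.GeneralLinearGroup.mkOfDetNeZero (comp t d) (by rw [comp_det]; exact d.ne_zero)

theorem compGL_coe (t : F) (d : Fˣ) : (compGL t d : Matrix (Fin 2) (Fin 2) F) = comp t d := rfl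

/-- parametrisation of the classes -/
noncomputable def param : Fˣ ⊕ (F × Fˣ) → ConjClasses (Matrix.GeneralLinearGroup (Fin 2) F)
  | Sum.inl a => ConjClasses.mk (Matrix.GeneralLinearGroup.scalar (Fin 2) a)
  | Sum.inr (t, d) => ConjClasses.mk (compGL t d)

theorem scalar_not_nonScal (a : Fˣ) :
    ¬ NonScal ((Matrix.GeneralLinearGroup.scalar (Fin 2) a : Matrix.GeneralLinearGroup (Fin 2) F) : Matrix (Fin 2) (Fin 2) F) := by
  rw [Matrix.GeneralLinearGroup.coe_scalar]
  unfold NonScal
  simp

theorem param_injective : Function.Injective (param (F := F)) := by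
  rintro (a | ⟨t, d⟩) (a' | ⟨t', d'⟩) h
  · simp only [param, ConjClasses.mk_eq_mk_iff_isConj] at h
    obtain ⟨c, hc⟩ := isConj_iff.mp h
    rw [← Matrix.GeneralLinearGroup.scalar_commute, mul_inv_cancel_right] at hc
    have h00 := congrArg (fun g : Matrix.GeneralLinearGroup (Fin 2) F => (g : Matrix (Fin 2) (Fin 2) F) 0 0) hc
    simp only [Matrix.GeneralLinearGroup.coe_scalar] at h00
    simp at h00
    rw [Units.ext h00]
  · exfalso
    simp only [param, ConjClasses.mk_eq_mk_iff_isConj] at h
    obtain ⟨X, hX, hXg⟩ := (isConj_GL_iff _ _).mp h.symm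
    exact scalar_not_nonScal a (nonScal_of_conj X _ _ hX hXg (comp_nonScal _ _))
  · exfalso
    simp only [param, ConjClasses.mk_eq_mk_iff_isConj] at h
    obtain ⟨X, hX, hXg⟩ := (isConj_GL_iff _ _).mp h
    exact scalar_not_nonScal a' (nonScal_of_conj X _ _ hX hXg (comp_nonScal _ _))
  · simp only [param, ConjClasses.mk_eq_mk_iff_isConj] at h
    obtain ⟨X, hX, hXg⟩ := (isConj_GL_iff _ _).mp h
    have h1 := trace_eq_of_conj X _ _ hX hXg
    have h2 := det_eq_of_conj X _ _ hX hXg
    rw [compGL_coe, compGL_coe] at h1 h2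
    simp only [comp_trace, comp_det] at h1 h2
    rw [h1, Units.ext h2]

theorem param_surjective : Function.Surjective (param (F := F)) := by
  intro c
  obtain ⟨g, rfl⟩ := ConjClasses.exists_rep c
  by_cases hg : NonScal (g : Matrix (Fin 2) (Fin 2) F)
  · refine ⟨Sum.inr ((g : Matrix (Fin 2) (Fin 2) F).trace, Matrix.GeneralLinearGroup.det g), ?_⟩
    simp only [param, ConjClasses.mk_eq_mk_iff_isConj]
    apply isConj_GL_of_trace_det _ _ (comp_nonScal _ _) hg
    · rw [compGL_coe, comp_trace]
    · rw [compGL_coe, comp_det]; rfl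
  · unfold NonScal at hg
    push Not at hg
    obtain ⟨h01, h10, h00⟩ := hg
    have hne : (g : Matrix (Fin 2) (Fin 2) F) 0 0 ≠ 0 := by
      intro h0
      have := Matrix.GeneralLinearGroup.det_ne_zero g
      rw [Matrix.det_fin_two, h01, h0] at this
      simp at this
    refine ⟨Sum.inl (Units.mk0 _ hne), ?_⟩
    simp only [param]
    congr 1
    apply Matrix.GeneralLinearGroup.ext
    intro i j
    rw [Matrix.GeneralLinearGroup.coe_scalar]
    fin_cases i <;> fin_cases j <;> simp [h01, h10, ← h00]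

theorem result {F : Type*} [Field F] [Fintype F] :
    Nat.card (ConjClasses (Matrix.GeneralLinearGroup (Fin 2) F)) = Fintype.card F ^ 2 - 1 := by
  classical
  rw [← Nat.card_congr (Equiv.ofBijective param ⟨param_injective, param_surjective⟩)]
  rw [Nat.card_eq_fintype_card, Fintype.card_sum, Fintype.card_prod, Fintype.card_units]
  have : 1 ≤ Fintype.card F := Fintype.card_pos
  obtain ⟨k, hk⟩ : ∃ k, Fintype.card F = k + 1 := ⟨Fintype.card F - 1, by omega⟩
  rw [hk]
  simp only [Nat.add_sub_cancel]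
  have : (k + 1) ^ 2 = k + (k + 1) * k + 1 := by ring
  omega

end Cfsg.Agent.S2330
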