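import Cfsg.Statements.S2331
import Cfsg.Agent.Lib.Helper13.SL2

set_option autoImplicit false
open Cfsg

namespace Cfsg.Agent.S2331

open Cfsg.Agent.Lib.Helper13

variable {F : Type*} [Field F]

/-- parametrisation of the classes -/
def param : Option F → ConjClasses (Matrix.SpecialLinearGroup (Fin 2) F)
  | none => ConjClasses.mk 1
  | some t => ConjClasses.mk (mkSL (comp t 1) (comp_det t 1))

theorem one_not_nonScal : ¬ NonScal ((1 : Matrix.SpecialLinearGroup (Fin 2) F) : Matrix (Fin 2) (Fin 2) F) := by
  rw [Matrix.SpecialLinearGroup.coe_one]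
  unfold NonScal
  simp

theorem param_injective : Function.Injective (param (F := F)) := by
  rintro (_ | t) (_ | t') h
  · rfl
  · exfalso
    simp only [param, ConjClasses.mk_eq_mk_iff_isConj] at h
    obtain ⟨X, hX, hXg⟩ := (isConj_SL_iff _ _).mp h.symm
    exact one_not_nonScal (nonScal_of_conj X _ _ (by rw [hX]; exact one_ne_zero) hXg (comp_nonScal _ _))
  · exfalso
    simp only [param, ConjClasses.mk_eq_mk_iff_isConj] at h
    obtain ⟨X, hX, hXg⟩ := (isConj_SL_iff _ _).mp h
    exact one_not_nonScal (nonScal_of_conj X _ _ (by rw [hX]; exact one_ne_zero) hXg (comp_nonScal _ _))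
  · simp only [param, ConjClasses.mk_eq_mk_iff_isConj] at h
    obtain ⟨X, hX, hXg⟩ := (isConj_SL_iff _ _).mp h
    have h1 := trace_eq_of_conj X _ _ (by rw [hX]; exact one_ne_zero) hXg
    simp only [mkSL_coe, comp_trace] at h1
    rw [h1]

theorem param_surjective [Fintype F] [CharP F 2] : Function.Surjective (param (F := F)) := by
  intro c
  obtain ⟨g, rfl⟩ := ConjClasses.exists_rep c
  by_cases hg : NonScal (g : Matrix (Fin 2) (Fin 2) F)
  · refine ⟨some (g : Matrix (Fin 2) (Fin 2) F).trace, ?_⟩
    simp only [param, ConjClasses.mk_eq_mk_iff_isConj]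
    apply isConj_SL_of_repr _ _ (comp_nonScal _ _) hg
    · rw [mkSL_coe, comp_trace]
    · intro c _
      obtain ⟨r, hr⟩ := FiniteField.isSquare_of_char_two (CharP.ringChar_of_prime_eq_zero Nat.prime_two (CharTwo.two_eq_zero (R := F))) c
      exact ⟨r, 0, by rw [hr]; ring⟩
  · unfold NonScal at hg
    push Not at hg
    obtain ⟨h01, h10, h00⟩ := hg
    refine ⟨none, ?_⟩
    simp only [param]
    congr 1
    have hd := g.2
    rw [Matrix.det_fin_two, h01, ← h00, zero_mul, sub_zero] at hd
    have h1 : (g : Matrix (Fin 2) (Fin 2) F) 0 0 = 1 := by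
      have : ((g : Matrix (Fin 2) (Fin 2) F) 0 0 + 1) ^ 2 = 0 := by
        rw [CharTwo.add_sq, sq, hd, one_pow, CharTwo.add_self_eq_zero]
      have := pow_eq_zero_iff (two_ne_zero) |>.mp this
      rw [← CharTwo.sub_eq_add] at this
      exact sub_eq_zero.mp this
    apply SL_ext
    rw [Matrix.SpecialLinearGroup.coe_one]
    ext i j
    fin_cases i <;> fin_cases j <;> simp [h01, h10, ← h00, h1]

theorem result {F : Type*} [Field F] [Fintype F] [CharP F 2] :
    Nat.card (ConjClasses (Matrix.SpecialLinearGroup (Fin 2) F)) = Fintype.card F + 1 := by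
  classical
  rw [← Nat.card_congr (Equiv.ofBijective param ⟨param_injective, param_surjective⟩)]
  rw [Nat.card_eq_fintype_card, Fintype.card_option]

end Cfsg.Agent.S2331
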