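import Cfsg.Statements.S2325
import Cfsg.Agent.Lib.Helper13.SL2Odd

set_option autoImplicit false
open Cfsg

namespace Cfsg.Agent.S2325

open Cfsg.Agent.Lib.Helper13

variable {F : Type*} [Field F]

/-- sign -/
def sgn (s : Bool) : F := if s then 1 else -1

theorem sgn_sq (s : Bool) : (sgn s : F) ^ 2 = 1 := by cases s <;> simp [sgn]

/-- 1 or the chosen non-square -/
def bval (ν : F) (r : Bool) : F := if r then 1 else ν

theorem bval_ne_zero (ν : F) (hν : ν ≠ 0) (r : Bool) : bval ν r ≠ 0 := by cases r <;> simp [bval, hν]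

/-- scalar matrix ±1 in SL₂ -/
def scal (s : Bool) : Matrix.SpecialLinearGroup (Fin 2) F :=
  mkSL (upper (sgn s) 0) (by rw [upper_det, sgn_sq])

/-- parametrisation of the classes -/
def param (ν : F) : Bool ⊕ ({t : F // t ^ 2 ≠ 4} ⊕ (Bool × Bool)) → ConjClasses (Matrix.SpecialLinearGroup (Fin 2) F)
  | Sum.inl s => ConjClasses.mk (scal s)
  | Sum.inr (Sum.inl t) => ConjClasses.mk (mkSL (comp t.1 1) (comp_det t.1 1))
  | Sum.inr (Sum.inr (s, r)) => ConjClasses.mk (mkSL (upper (sgn s) (bval ν r)) (by rw [upper_det, sgn_sq]))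

theorem scal_not_nonScal (s : Bool) : ¬ NonScal ((scal s : Matrix.SpecialLinearGroup (Fin 2) F) : Matrix (Fin 2) (Fin 2) F) := by
  unfold NonScal scal
  simp [upper]

theorem sgn_inj (h2 : (2 : F) ≠ 0) (s s' : Bool) (h : (2 : F) * sgn s = 2 * sgn s') : s = s' := by
  have h1 : (sgn s : F) = sgn s' := mul_left_cancel₀ h2 h
  cases s <;> cases s' <;> simp [sgn] at h1 ⊢
  · apply h2; linear_combination -h1
  · apply h2; linear_combination h1

theorem param_injective (h2 : (2 : F) ≠ 0) (ν : F) (hν : ¬ IsSquare ν) : Function.Injective (param ν) := by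
  have hν0 : ν ≠ 0 := by rintro rfl; exact hν IsSquare.zero
  have one_ne : ∀ X : Matrix (Fin 2) (Fin 2) F, X.det = 1 → X.det ≠ 0 := fun X hX => by rw [hX]; exact one_ne_zero
  rintro (s | t | ⟨s, r⟩) (s' | t' | ⟨s', r'⟩) h <;>
    simp only [param, ConjClasses.mk_eq_mk_iff_isConj] at h
  · obtain ⟨X, hX, hXg⟩ := (isConj_SL_iff _ _).mp h
    have h1 := trace_eq_of_conj X _ _ (one_ne X hX) hXg
    simp only [scal, mkSL_coe, upper_trace] at h1
    rw [sgn_inj h2 s s' h1]
  · exfalso
    obtain ⟨X, hX, hXg⟩ := (isConj_SL_iff _ _).mp h.symm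
    exact scal_not_nonScal s (nonScal_of_conj X _ _ (one_ne X hX) hXg (comp_nonScal _ _))
  · exfalso
    obtain ⟨X, hX, hXg⟩ := (isConj_SL_iff _ _).mp h.symm
    exact scal_not_nonScal s (nonScal_of_conj X _ _ (one_ne X hX) hXg (upper_nonScal _ _ (bval_ne_zero ν hν0 _)))
  · exfalso
    obtain ⟨X, hX, hXg⟩ := (isConj_SL_iff _ _).mp h
    exact scal_not_nonScal s' (nonScal_of_conj X _ _ (one_ne X hX) hXg (comp_nonScal _ _))
  · obtain ⟨X, hX, hXg⟩ := (isConj_SL_iff _ _).mp h
    have h1 := trace_eq_of_conj X _ _ (one_ne X hX) hXg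
    simp only [mkSL_coe, comp_trace] at h1
    rw [Subtype.ext h1]
  · exfalso
    obtain ⟨X, hX, hXg⟩ := (isConj_SL_iff _ _).mp h
    have h1 := trace_eq_of_conj X _ _ (one_ne X hX) hXg
    simp only [mkSL_coe, comp_trace, upper_trace] at h1
    apply t.2
    rw [h1, mul_pow, sgn_sq]; norm_num
  · exfalso
    obtain ⟨X, hX, hXg⟩ := (isConj_SL_iff _ _).mp h
    exact scal_not_nonScal s' (nonScal_of_conj X _ _ (one_ne X hX) hXg (upper_nonScal _ _ (bval_ne_zero ν hν0 _)))
  · exfalso
    obtain ⟨X, hX, hXg⟩ := (isConj_SL_iff _ _).mp h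
    have h1 := trace_eq_of_conj X _ _ (one_ne X hX) hXg
    simp only [mkSL_coe, comp_trace, upper_trace] at h1
    apply t'.2
    rw [← h1, mul_pow, sgn_sq]; norm_num
  · obtain ⟨X, hX, hXg⟩ := (isConj_SL_iff _ _).mp h
    have h1 := trace_eq_of_conj X _ _ (one_ne X hX) hXg
    simp only [mkSL_coe, upper_trace] at h1
    have hs := sgn_inj h2 s s' h1
    subst hs
    have h3 := (conj_upper_iff (sgn s) (bval ν r) (bval ν r') (bval_ne_zero ν hν0 _) (bval_ne_zero ν hν0 _)).mp ⟨X, hX, hXg⟩
    cases r <;> cases r' <;> simp [bval] at h3 ⊢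
    · exact hν h3
    · exact hν h3

theorem param_surjective [Fintype F] (hodd : Odd (Fintype.card F)) (ν : F) (hν : ¬ IsSquare ν) :
    Function.Surjective (param ν) := by
  have hν0 : ν ≠ 0 := by rintro rfl; exact hν IsSquare.zero
  have h2 : (2 : F) ≠ 0 := two_ne_zero_of_odd hodd
  intro c
  obtain ⟨g, rfl⟩ := ConjClasses.exists_rep c
  by_cases hg : NonScal (g : Matrix (Fin 2) (Fin 2) F)
  · by_cases ht : (g : Matrix (Fin 2) (Fin 2) F).trace ^ 2 = 4
    · -- trace = ± 2
      have h3 : ((g : Matrix (Fin 2) (Fin 2) F).trace - 2) * ((g : Matrix (Fin 2) (Fin 2) F).trace + 2) = 0 := by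
        linear_combination ht
      obtain ⟨s, hs⟩ : ∃ s : Bool, (g : Matrix (Fin 2) (Fin 2) F).trace = 2 * sgn s := by
        rcases mul_eq_zero.mp h3 with h | h
        · exact ⟨true, by simp [sgn]; linear_combination h⟩
        · exact ⟨false, by simp [sgn]; linear_combination h⟩
      obtain ⟨b, hb, X, hX, hXM⟩ := exists_conj_upper _ hg (sgn s) (sgn_sq s) hs g.2
      have hgb : IsConj g (mkSL (upper (sgn s) b) (by rw [upper_det, sgn_sq])) :=
        (isConj_SL_iff _ _).mpr ⟨X, hX, hXM⟩
      by_cases hsq : IsSquare b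
      · refine ⟨Sum.inr (Sum.inr (s, true)), ?_⟩
        simp only [param, ConjClasses.mk_eq_mk_iff_isConj]
        refine IsConj.trans ?_ hgb.symm
        rw [isConj_SL_iff]
        exact (conj_upper_iff _ _ _ (bval_ne_zero ν hν0 _) hb).mpr (by simpa [bval] using hsq)
      · refine ⟨Sum.inr (Sum.inr (s, false)), ?_⟩
        simp only [param, ConjClasses.mk_eq_mk_iff_isConj]
        refine IsConj.trans ?_ hgb.symm
        rw [isConj_SL_iff]
        exact (conj_upper_iff _ _ _ (bval_ne_zero ν hν0 _) hb).mpr (by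
          simpa [bval] using isSquare_mul_of_not_isSquare hν hsq)
    · refine ⟨Sum.inr (Sum.inl ⟨(g : Matrix (Fin 2) (Fin 2) F).trace, ht⟩), ?_⟩
      simp only [param, ConjClasses.mk_eq_mk_iff_isConj]
      apply isConj_SL_of_repr _ _ (comp_nonScal _ _) hg
      · rw [mkSL_coe, comp_trace]
      · intro c _
        rw [mkSL_coe, comp_trace]
        exact repr_of_ne hodd _ ht c
  · unfold NonScal at hg
    push Not at hg
    obtain ⟨h01, h10, h00⟩ := hg
    have hd := g.2
    rw [Matrix.det_fin_two, h01, ← h00, zero_mul, sub_zero] at hd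
    have h3 : ((g : Matrix (Fin 2) (Fin 2) F) 0 0 - 1) * ((g : Matrix (Fin 2) (Fin 2) F) 0 0 + 1) = 0 := by
      linear_combination hd
    obtain ⟨s, hs⟩ : ∃ s : Bool, (g : Matrix (Fin 2) (Fin 2) F) 0 0 = sgn s := by
      rcases mul_eq_zero.mp h3 with h | h
      · exact ⟨true, by simp [sgn]; linear_combination h⟩
      · exact ⟨false, by simp [sgn]; linear_combination h⟩
    refine ⟨Sum.inl s, ?_⟩
    simp only [param]
    congr 1
    apply SL_ext
    rw [scal, mkSL_coe, upper]
    ext i j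
    fin_cases i <;> fin_cases j <;> simp [h01, h10, ← h00, hs]

theorem card_param [Fintype F] [DecidableEq F] (hodd : Odd (Fintype.card F)) :
    Fintype.card {t : F // t ^ 2 ≠ 4} = Fintype.card F - 2 := by
  have h2 : (2 : F) ≠ 0 := two_ne_zero_of_odd hodd
  rw [Fintype.card_subtype_compl]
  congr 1
  rw [Fintype.card_subtype]
  have : (Finset.univ.filter fun t : F => t ^ 2 = 4) = {2, -2} := by
    ext t
    simp only [Finset.mem_filter, Finset.mem_univ, true_and, Finset.mem_insert, Finset.mem_singleton]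
    constructor
    · intro h
      have h3 : (t - 2) * (t + 2) = 0 := by linear_combination h
      rcases mul_eq_zero.mp h3 with h | h
      · left; linear_combination h
      · right; linear_combination h
    · rintro (rfl | rfl) <;> norm_num
  rw [this, Finset.card_pair]
  intro h
  apply h2
  have : (2 : F) * 2 = 0 := by linear_combination h
  exact (mul_self_eq_zero.mp this)

theorem result {F : Type*} [Field F] [Fintype F] (hodd : Odd (Fintype.card F)) :
    Nat.card (ConjClasses (Matrix.SpecialLinearGroup (Fin 2) F)) = Fintype.card F + 4 := by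
  classical
  obtain ⟨ν, hν⟩ := FiniteField.exists_nonsquare (ringChar_ne_two_of_odd hodd)
  rw [← Nat.card_congr (Equiv.ofBijective (param ν) ⟨param_injective (two_ne_zero_of_odd hodd) ν hν, param_surjective hodd ν hν⟩)]
  rw [Nat.card_eq_fintype_card, Fintype.card_sum, Fintype.card_sum, Fintype.card_prod, Fintype.card_bool, card_param hodd]
  have : 2 ≤ Fintype.card F := Fintype.one_lt_card
  omega

end Cfsg.Agent.S2325
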