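import Mathlib
import Cfsg.Statements.S0865
import Cfsg.Agent.Lib.Helper6.LinChar

set_option autoImplicit false
open Cfsg
open Cfsg.Agent.Lib.Helper6

namespace Cfsg.Agent.S0865

/-- Let N be a normal subgroup of the finite group G and λ a character of N of degree 1, invariant under conjugation by G, whose order (under pointwise multiplication) is coprime to the index of N. Then there is a character μ of G of degree 1 restricting to λ with the same order as λ, and μ is the only degree-1 character of G restricting to λ whose order is coprime to the index of N. -/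
theorem result {G : Type*} [Group G] [Finite G] (N : Subgroup G) [hN : N.Normal] (lam : N → ℂ) (hlam : Cfsg.IsCharacter N lam ∧ lam 1 = 1) (hinv : ∀ (g : G) (n : N), lam ⟨g * n * g⁻¹, hN.conj_mem (n : G) n.2 g⟩ = lam n) (hcop : Nat.Coprime N.index (orderOf lam)) : ∃ μ : G → ℂ, (Cfsg.IsCharacter G μ ∧ μ 1 = 1 ∧ (∀ n : N, μ n = lam n) ∧ orderOf μ = orderOf lam) ∧ ∀ μ' : G → ℂ, Cfsg.IsCharacter G μ' ∧ μ' 1 = 1 → (∀ n : N, μ' n = lam n) → Nat.Coprime N.index (orderOf μ') → μ' = μ := by
  obtain ⟨f, rfl⟩ := exists_hom_of_linear hlam.1 hlam.2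
  rw [orderOf_linCoe] at hcop
  set o := orderOf f with ho
  set m := N.index with hm
  have hinv' : ∀ (g : G) (n : N) (h : g⁻¹ * (n : G) * g ∈ N), f ⟨g⁻¹ * n * g, h⟩ = f n := by
    intro g n h
    have := hinv g⁻¹ n
    simp only [linCoe_apply] at this
    have h2 := Units.ext this
    rw [← h2]
    congr 2
    simp
  set T : G →* ℂˣ := MonoidHom.transfer f with hT
  have hTN : ∀ n : N, T n = (f n) ^ m := by
    intro n
    apply transfer_eq_pow_of_invariant
    intro k g h
    have := hinv' g (n ^ k) (by simpa using h)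
    rw [map_pow] at this
    rw [← this]
    congr 1
  have hpowmem : ∀ g : G, g ^ m ∈ N := fun g => N.pow_index_mem g
  have hfo : ∀ n : N, (f n) ^ o = 1 := by
    intro n
    have : f ^ o = 1 := pow_orderOf_eq_one f
    have h2 := congrArg (fun (F : N →* ℂˣ) => F n) this
    simpa using h2
  have hTom : T ^ (o * m) = 1 := by
    ext g
    have h1 : (T g) ^ m = T (⟨g ^ m, hpowmem g⟩ : N) := by
      rw [← map_pow]
    have : (T g) ^ (o * m) = 1 := by
      rw [mul_comm, pow_mul, h1, hTN, ← pow_mul, mul_comm, pow_mul, hfo, one_pow]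
    simp [this]
  -- Bezout
  have hcop2 : Nat.Coprime (m ^ 2) o := Nat.Coprime.pow_left 2 hcop
  have hbez : (1 : ℤ) = (m ^ 2 : ℕ) * Nat.gcdA (m ^ 2) o + o * Nat.gcdB (m ^ 2) o := by
    have := Nat.gcd_eq_gcd_ab (m ^ 2) o
    rw [hcop2.gcd_eq_one] at this
    exact_mod_cast this
  set a := Nat.gcdA (m ^ 2) o with ha
  set b := Nat.gcdB (m ^ 2) o with hb
  set μ : G →* ℂˣ := T ^ ((m : ℤ) * a) with hμ
  have hμN : ∀ n : N, μ n = f n := by
    intro n
    have h1 : μ n = (T n) ^ ((m : ℤ) * a) := by
      simp [hμ]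
    rw [h1, hTN, ← zpow_natCast, ← zpow_mul]
    have h2 : (m : ℤ) * ((m : ℤ) * a) = 1 - o * b := by
      have : ((m ^ 2 : ℕ) : ℤ) = (m : ℤ) * m := by push_cast; ring
      rw [this] at hbez
      linarith
    rw [h2, zpow_sub, zpow_one, zpow_mul, zpow_natCast, hfo, one_zpow]
    simp
  have hμo : μ ^ o = 1 := by
    ext g
    have h1 : μ g = (T g) ^ ((m : ℤ) * a) := by simp [hμ]
    have h2 : (T g) ^ (o * m) = 1 := by
      have := congrArg (fun F : G →* ℂˣ => F g) hTom
      simpa using this
    have h3 : (m : ℤ) * a * (o : ℤ) = ((o * m : ℕ) : ℤ) * a := by push_cast; ring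
    have : (μ g) ^ o = 1 := by
      rw [h1, ← zpow_natCast, ← zpow_mul, h3, zpow_mul, zpow_natCast, h2, one_zpow]
    simp [this]
  have hordμ : orderOf μ = o := by
    apply Nat.dvd_antisymm
    · exact orderOf_dvd_of_pow_eq_one hμo
    · apply orderOf_dvd_of_pow_eq_one
      ext n
      have h1 : μ ^ orderOf μ = 1 := pow_orderOf_eq_one μ
      have h2 := congrArg (fun (F : G →* ℂˣ) => F n) h1
      simp only [MonoidHom.pow_apply, MonoidHom.one_apply] at h2
      rw [hμN] at h2
      simp [h2]
  refine ⟨linCoe G μ, ⟨isCharacter_linCoe μ, linCoe_one_apply μ, ?_, ?_⟩, ?_⟩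
  · intro n
    simp only [linCoe_apply, hμN]
  · rw [orderOf_linCoe, orderOf_linCoe, hordμ]
  · intro μ' hμ' hres hcop'
    obtain ⟨f', rfl⟩ := exists_hom_of_linear hμ'.1 hμ'.2
    rw [orderOf_linCoe] at hcop'
    congr 1
    have hres' : ∀ n : N, f' n = f n := by
      intro n
      exact Units.ext (hres n)
    set d : G →* ℂˣ := f' * μ⁻¹ with hd
    have hdN : ∀ n : N, d n = 1 := by
      intro n
      simp [hd, hres', hμN]
    have hdm : d ^ m = 1 := by
      ext g
      have : (d g) ^ m = 1 := by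
        rw [← map_pow]
        exact hdN ⟨g ^ m, hpowmem g⟩
      simp [this]
    have hdo : d ^ (orderOf f' * o) = 1 := by
      ext g
      have h1 : d g = f' g * (μ g)⁻¹ := by simp [hd]
      have h2 : (μ g) ^ o = 1 := by
        have := congrArg (fun F : G →* ℂˣ => F g) hμo
        simpa using this
      have h3 : (f' g) ^ orderOf f' = 1 := by
        have := congrArg (fun F : G →* ℂˣ => F g) (pow_orderOf_eq_one f')
        simp only [MonoidHom.pow_apply, MonoidHom.one_apply] at this
        exact this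
      have : (d g) ^ (orderOf f' * o) = 1 := by
        rw [h1, mul_pow, pow_mul, h3, one_pow, one_mul, inv_pow, mul_comm, pow_mul, h2, one_pow, inv_one]
      simp [this]
    have h1 : orderOf d ∣ m := orderOf_dvd_of_pow_eq_one hdm
    have h2 : orderOf d ∣ orderOf f' * o := orderOf_dvd_of_pow_eq_one hdo
    have h3 : Nat.Coprime m (orderOf f' * o) := Nat.Coprime.mul_right hcop' hcop
    have h4 : orderOf d = 1 := Nat.eq_one_of_dvd_coprimes h3 h1 h2
    have h5 : d = 1 := orderOf_eq_one_iff.mp h4
    rw [hd] at h5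
    exact mul_inv_eq_one.mp h5

end Cfsg.Agent.S0865
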