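import Cfsg.Statements.S0867
import Cfsg.Agent.Lib.Helper13.DetExt4
import Cfsg.Agent.S0865

set_option autoImplicit false
open Cfsg

namespace Cfsg.Agent.S0867

open Cfsg.Agent.Lib.Helper13 Cfsg.Agent.Lib.Helper2 in
/-- Let N be a normal subgroup of the finite group G and ϑ an irreducible character of N of degree d, invariant under conjugation by G, such that the index of N is coprime to the product of d and the determinantal order of ϑ. Then there is an irreducible character χ of G restricting to ϑ whose determinantal order equals that of ϑ, and χ is the only irreducible character of G restricting to ϑ whose determinantal order is coprime to the index of N. -/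
theorem result {G : Type*} [Group G] [Finite G] (N : Subgroup G) [hN : N.Normal] (ϑ : N → ℂ) (hϑ : Cfsg.IsIrrCharacter N ϑ) (hinv : ∀ (g : G) (n : N), ϑ ⟨g * n * g⁻¹, hN.conj_mem (n : G) n.2 g⟩ = ϑ n) (d : ℕ) (hd : ϑ 1 = d) (hcop : Nat.Coprime N.index (Cfsg.detOrder ϑ * d)) : ∃ χ : G → ℂ, (Cfsg.IsIrrCharacter G χ ∧ (∀ n : N, χ n = ϑ n) ∧ Cfsg.detOrder χ = Cfsg.detOrder ϑ) ∧ ∀ χ' : G → ℂ, Cfsg.IsIrrCharacter G χ' → (∀ n : N, χ' n = ϑ n) → Nat.Coprime N.index (Cfsg.detOrder χ') → χ' = χ := by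
  have hϑc := IsIrrCharacter.isCharacter hϑ
  have hinv' : ∀ g : G, Cfsg.Agent.Lib.Helper2.conjFun N g ϑ = ϑ :=
    fun g => (stmtInv_iff N ϑ g).mp (hinv g)
  obtain ⟨δ, hδ⟩ := exists_hom_detChar hϑc
  have hlin : Cfsg.IsCharacter N (Cfsg.detChar ϑ) ∧ Cfsg.detChar ϑ 1 = 1 := by
    rw [hδ]
    exact ⟨IsIrrCharacter.isCharacter (isIrrCharacter_of_hom δ), by simp⟩
  have hδinv : ∀ (g : G) (n : N), Cfsg.detChar ϑ ⟨g * n * g⁻¹, hN.conj_mem (n : G) n.2 g⟩ =
      Cfsg.detChar ϑ n := by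
    intro g n
    have h0 := hinv' g⁻¹
    rw [conjFun_eq_comp] at h0
    have h1 := detChar_comp_hom (MulAut.conjNormal g⁻¹⁻¹ : N ≃* N).toMonoidHom hϑc
    have h2 : (ϑ ∘ (MulAut.conjNormal g⁻¹⁻¹ : N ≃* N)) =
      fun h : N => ϑ ((MulAut.conjNormal g⁻¹⁻¹ : N ≃* N).toMonoidHom h) := rfl
    rw [← h2, h0] at h1
    have h3 := congrFun h1 n
    rw [h3]
    congr 1
    apply Subtype.ext
    simp
  have hcop1 : Nat.Coprime N.index (orderOf (Cfsg.detChar ϑ)) :=
    Nat.Coprime.coprime_dvd_right (Dvd.intro _ rfl) hcop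
  have hcop2 : Nat.Coprime N.index d :=
    Nat.Coprime.coprime_dvd_right (Dvd.intro_left _ rfl) hcop
  obtain ⟨μ, ⟨hμ, hμ1, hμN, hμo⟩, hμuniq⟩ := Cfsg.Agent.S0865.result N _ hlin hδinv hcop1
  obtain ⟨m, hm⟩ := exists_hom_of_degree_one hμ hμ1
  have hext := exists_extension_of_det N hϑ hinv' d hd hcop2 m (fun n => by
    rw [← hμN n, hm])
  obtain ⟨χ, ⟨hχ, hχN, hχdet⟩, huniq⟩ := existsUnique_extension_det N hϑ d hd hcop2 hext μ
    ⟨hμ, hμ1⟩ hμN
  refine ⟨χ, ⟨hχ, hχN, ?_⟩, ?_⟩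
  · show orderOf (Cfsg.detChar χ) = orderOf (Cfsg.detChar ϑ)
    rw [hχdet, hμo]
  · intro χ' hχ' hχ'N hcop'
    apply huniq
    refine ⟨hχ', hχ'N, ?_⟩
    have hχ'c := IsIrrCharacter.isCharacter hχ'
    obtain ⟨δ', hδ'⟩ := exists_hom_detChar hχ'c
    apply hμuniq
    · rw [hδ']
      exact ⟨IsIrrCharacter.isCharacter (isIrrCharacter_of_hom δ'), by simp⟩
    · intro n
      have h1 := detChar_comp_hom N.subtype hχ'c
      have h2 : (fun n : N => χ' (N.subtype n)) = ϑ := funext hχ'N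
      rw [h2] at h1
      exact (congrFun h1 n).symm
    · exact hcop'

end Cfsg.Agent.S0867
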