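import Cfsg.Statements.S0755
import Mathlib
import Cfsg.Agent.Lib.Helper5.OrthoExt
import Cfsg.Agent.S0753

set_option autoImplicit false
open Cfsg

namespace Cfsg.Agent.S0755

open Cfsg.Agent.Lib.Helper5

lemma norm_surj {F : Type*} [Field F] [Finite F] (σ : F →+* F) (hσ : σ ≠ RingHom.id F)
    (hσ2 : ∀ a, σ (σ a) = a) (d : F) (hd : d ≠ 0) (hdσ : σ d = d) : ∃ c : F, c * σ c = d := by
  classical
  let s : Fˣ →* Fˣ := Units.map (σ : F →* F)
  let N : Fˣ →* Fˣ := MonoidHom.id Fˣ * s
  let δ : Fˣ →* Fˣ := MonoidHom.id Fˣ * s⁻¹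
  have hs2 : ∀ a, s (s a) = a := fun a => Units.ext (hσ2 a)
  have hNa : ∀ a, N a = a * s a := fun a => rfl
  have hδa : ∀ a, δ a = a * (s a)⁻¹ := fun a => rfl
  have hsv : ∀ a : Fˣ, ((s a : Fˣ) : F) = σ a := fun a => rfl
  have h1 : δ.range = N.ker := by
    apply le_antisymm
    · rintro _ ⟨a, rfl⟩
      rw [MonoidHom.mem_ker, hNa, hδa, map_mul, map_inv, hs2]
      group
    · intro c hc
      rw [MonoidHom.mem_ker, hNa] at hc
      have hc' : (c : F) * σ c = 1 := by
        have := congrArg Units.val hc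
        rwa [Units.val_mul, hsv, Units.val_one] at this
      obtain ⟨x, hx⟩ : ∃ x : F, x + c * σ x ≠ 0 := by
        by_contra hcon
        push Not at hcon
        have hc1 : (c : F) = -1 := by
          have := hcon 1
          rw [map_one, mul_one] at this
          linear_combination this
        apply hσ
        ext x
        have := hcon x
        rw [hc1] at this
        rw [RingHom.id_apply]
        linear_combination -this
      let a : Fˣ := Units.mk0 _ hx
      refine ⟨a, ?_⟩
      rw [hδa, mul_inv_eq_iff_eq_mul]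
      ext
      rw [Units.val_mul, hsv]
      simp only [a, Units.val_mk0, map_add, map_mul, hσ2]
      linear_combination (-x) * hc'
  have h2 : Nat.card N.ker * Nat.card N.range = Nat.card Fˣ := by
    rw [← Subgroup.index_ker, Subgroup.card_mul_index]
  have h3 : Nat.card δ.ker * Nat.card δ.range = Nat.card Fˣ := by
    rw [← Subgroup.index_ker, Subgroup.card_mul_index]
  have h4 : Nat.card N.range = Nat.card δ.ker := by
    rw [h1] at h3
    have hpos : 0 < Nat.card N.ker := Nat.card_pos
    exact Nat.eq_of_mul_eq_mul_left hpos (by rw [h2, mul_comm, h3])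
  have h5 : N.range ≤ δ.ker := by
    rintro _ ⟨a, rfl⟩
    rw [MonoidHom.mem_ker, hδa, hNa, map_mul, hs2, mul_comm (s a) a]
    exact mul_inv_cancel _
  have h6 := Subgroup.eq_of_le_of_card_ge h5 (le_of_eq h4.symm)
  have h7 : Units.mk0 d hd ∈ δ.ker := by
    rw [MonoidHom.mem_ker, hδa, mul_inv_eq_one]
    ext
    rw [hsv, Units.val_mk0, hdσ]
  rw [← h6] at h7
  obtain ⟨c, hc⟩ := h7
  refine ⟨c, ?_⟩
  have := congrArg Units.val hc
  rwa [hNa, Units.val_mul, hsv, Units.val_mk0] at this

/-- Classification of Hermitian forms over finite fields: if σ is a non-identity involutive automorphism of the finite field F and B is a non-degenerate conjugate-symmetric σ-sesquilinear form on the finite-dimensional space V, then V has a B-orthonormal basis. -/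
theorem result {F V : Type*} [Field F] [Finite F] [AddCommGroup V] [Module F V] [FiniteDimensional F V] (σ : F →+* F) (hσ : σ ≠ RingHom.id F) (hσ2 : ∀ a : F, σ (σ a) = a) (B : V →ₛₗ[σ] V →ₗ[F] F) (hS : B.IsSymm) (hB : B.Nondegenerate) : ∃ b : Module.Basis (Fin (Module.finrank F V)) F V, ∀ i j, B (b i) (b j) = if i = j then 1 else 0 := by
  classical
  have hpol : ∀ W : Submodule F V, (∀ w ∈ W, B w w = 0) → ∀ x ∈ W, ∀ y ∈ W, B x y = 0 := by
    intro W h0 x hx y hy
    have := Cfsg.Agent.S0753.result σ hσ (B.domRestrict₁₂ W W) (hS.domRestrict W)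
      (fun v => h0 v v.2)
    have h2 := congrArg (fun C => C ⟨x, hx⟩ ⟨y, hy⟩) this
    exact h2
  have hP : ∀ m, m ≤ Module.finrank F V →
      ∃ u : Fin m → V, ∀ i j, B (u i) (u j) = if i = j then 1 else 0 := by
    intro m
    induction m with
    | zero => intro _; exact ⟨Fin.elim0, fun i => i.elim0⟩
    | succ m ih =>
      intro hm
      obtain ⟨u, hu⟩ := ih (by omega)
      obtain ⟨w, hw, hwu⟩ := exists_ortho_ext B hS hB hpol u
        (fun i j hij => by rw [hu, if_neg hij])
        (fun i => by rw [hu, if_pos rfl]; exact one_ne_zero) (by omega)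
      have hdσ : σ (B w w) = B w w := hS.eq w w
      obtain ⟨c, hc⟩ := norm_surj σ hσ hσ2 (B w w)⁻¹ (inv_ne_zero hw) (by rw [map_inv₀, hdσ])
      refine ⟨Fin.cons (c • w) u, ?_⟩
      intro i j
      refine Fin.cases ?_ (fun i => ?_) i <;> refine Fin.cases ?_ (fun j => ?_) j
      · simp only [Fin.cons_zero, LinearMap.map_smulₛₗ₂, map_smul, smul_eq_mul, if_true]
        have : c * (σ c * B w w) = (c * σ c) * B w w := by ring
        rw [this, hc, inv_mul_cancel₀ hw]
      · have h1 : B w (u j) = 0 := by rw [← hS.eq, hwu j, map_zero]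
        simp [h1, (Fin.succ_ne_zero j).symm]
      · simp [hwu i, Fin.succ_ne_zero i]
      · simp [hu i j]
  obtain ⟨u, hu⟩ := hP _ le_rfl
  have hli := ortho_li B u (fun i j hij => by rw [hu, if_neg hij])
    (fun i => by rw [hu, if_pos rfl]; exact one_ne_zero)
  refine ⟨basisOfLinearIndependentOfCardEqFinrank' u hli (by simp), ?_⟩
  intro i j
  rw [coe_basisOfLinearIndependentOfCardEqFinrank']
  exact hu i j

end Cfsg.Agent.S0755
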