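import Cfsg.Statements.S0080
import Mathlib

set_option autoImplicit false
open Cfsg

namespace Cfsg.Agent.S0080

open scoped IsMulCommutative

/-- When the index of H is prime to the order of H/H', the focal subgroup of H is G' ∩ H, and H/(G' ∩ H) has a normal complement. -/
theorem result {G : Type*} [Group G] [Finite G] (H : Subgroup G) (h : Nat.Coprime H.index (⁅H, H⁆.relIndex H)) : Subgroup.focalSubgroup H = commutator G ⊓ H ∧ ∃ N : Subgroup G, N.Normal ∧ N ⊓ H = commutator G ⊓ H ∧ N ⊔ H = ⊤ := by
  have hsub : ⁅H, H⁆.subgroupOf H = commutator H := by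
    rw [← Subgroup.map_subtype_commutator, Subgroup.subgroupOf,
      Subgroup.comap_map_eq_self_of_injective H.subtype_injective]
  have hcop : (Nat.card (H ⧸ H.focalSubgroupOf)).Coprime H.index := by
    rw [← Subgroup.index_eq_card]
    refine (Nat.Coprime.of_dvd_right ?_ h).symm
    rw [Subgroup.relIndex, hsub]
    exact Subgroup.index_dvd_of_le H.commutator_le_focalSubgroupOf
  have hker : H.transferFocal.ker ⊓ H = H.focalSubgroup := by
    ext g
    constructor
    · rintro ⟨h1, h2⟩
      have h3 := H.transferFocal_eq_pow ⟨g, h2⟩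
      rw [show H.transferFocal g = 1 from h1] at h3
      have h4 : ((⟨g, h2⟩ : H) : H ⧸ H.focalSubgroupOf) = 1 := by
        apply (powCoprime hcop).injective
        simp only [powCoprime_apply, one_pow]
        exact h3.symm
      exact (QuotientGroup.eq_one_iff (⟨g, h2⟩ : H)).mp h4
    · intro hg
      have h2 := H.focalSubgroup_le hg
      refine ⟨?_, h2⟩
      have h3 := H.transferFocal_eq_pow ⟨g, h2⟩
      have h4 : ((⟨g, h2⟩ : H) : H ⧸ H.focalSubgroupOf) = 1 := (QuotientGroup.eq_one_iff _).mpr hg
      rw [h4, one_pow] at h3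
      exact h3
  have hfoc : Subgroup.focalSubgroup H = commutator G ⊓ H := by
    apply le_antisymm (le_inf H.focalSubgroup_le_commutator H.focalSubgroup_le)
    rw [← hker]
    exact inf_le_inf_right _ (Abelianization.commutator_subset_ker H.transferFocal)
  refine ⟨hfoc, H.transferFocal.ker, inferInstance, hker.trans hfoc, ?_⟩
  rw [eq_top_iff]
  intro g _
  obtain ⟨b, hb⟩ := (powCoprime hcop).surjective (H.transferFocal g)
  obtain ⟨x, rfl⟩ := QuotientGroup.mk'_surjective _ b
  have h3 := H.transferFocal_eq_pow x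
  have h5 : g * (x : G)⁻¹ ∈ H.transferFocal.ker := by
    rw [MonoidHom.mem_ker, map_mul, map_inv, h3, ← hb]
    simp
  have : g = g * (x : G)⁻¹ * x := by group
  rw [this]
  exact mul_mem (Subgroup.mem_sup_left h5) (Subgroup.mem_sup_right x.2)

end Cfsg.Agent.S0080
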