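import Cfsg.Statements.S3683

set_option autoImplicit false
open Cfsg

namespace Cfsg.Agent.S3683

/-- Let a finite group G act faithfully and primitively on a set Ω, and suppose the stabilizer of a point a fixes a second point b ≠ a (a suborbit of length 1 other than {a}). Then the stabilizer of a is trivial and G is cyclic of prime order. -/
theorem result {G Ω : Type*} [Group G] [Finite G] [MulAction G Ω] [FaithfulSMul G Ω] [Finite Ω]
    (hprim : MulAction.IsPreprimitive G Ω) (a b : Ω) (hab : a ≠ b) (hfix : ∀ g : G, g • a = a → g • b = b) :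
    MulAction.stabilizer G a = ⊥ ∧ IsCyclic G ∧ (Nat.card G).Prime := by
  set_option linter.style.haveILetI false in
  classical
  haveI := hprim.toIsPretransitive
  haveI : Nontrivial Ω := ⟨⟨a, b, hab⟩⟩
  have hco : IsCoatom (MulAction.stabilizer G a) :=
    MulAction.IsPreprimitive.isCoatom_stabilizer_of_isPreprimitive G a
  have hcob : IsCoatom (MulAction.stabilizer G b) :=
    MulAction.IsPreprimitive.isCoatom_stabilizer_of_isPreprimitive G b
  have hle : MulAction.stabilizer G a ≤ MulAction.stabilizer G b := fun g hg => hfix g hg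
  have heq : MulAction.stabilizer G b = MulAction.stabilizer G a := (hco.le_iff_eq hcob.1).mp hle
  obtain ⟨g, hg⟩ := MulAction.exists_smul_eq G a b
  have hgN : g ∈ Subgroup.normalizer (MulAction.stabilizer G a : Set G) := by
    rw [Subgroup.mem_normalizer_iff]
    intro h
    conv_rhs => rw [← heq]
    rw [MulAction.mem_stabilizer_iff, MulAction.mem_stabilizer_iff, ← hg]
    simp [mul_smul]
  have hgS : g ∉ MulAction.stabilizer G a := by
    intro h
    rw [MulAction.mem_stabilizer_iff, hg] at h
    exact hab h.symm
  have hNtop : Subgroup.normalizer (MulAction.stabilizer G a : Set G) = ⊤ := by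
    apply hco.2
    exact lt_of_le_of_ne Subgroup.le_normalizer (fun h => hgS (h ▸ hgN))
  have hbot : MulAction.stabilizer G a = ⊥ := by
    rw [Subgroup.eq_bot_iff_forall]
    intro s hs
    apply FaithfulSMul.eq_of_smul_eq_smul (α := Ω)
    intro x
    obtain ⟨h, rfl⟩ := MulAction.exists_smul_eq G a x
    have hh : h ∈ Subgroup.normalizer (MulAction.stabilizer G a : Set G) := by rw [hNtop]; trivial
    have h1 : h⁻¹ * s * h ∈ MulAction.stabilizer G a := (Subgroup.mem_normalizer_iff''.mp hh s).mp hs
    rw [MulAction.mem_stabilizer_iff] at h1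
    rw [one_smul]
    calc s • h • a = h • ((h⁻¹ * s * h) • a) := by simp [mul_smul]
      _ = h • a := by rw [h1]
  rw [hbot] at hco
  have hprime : (Nat.card G).Prime := by
    have hnt : Nontrivial G := by
      refine ⟨⟨g, 1, ?_⟩⟩
      rintro rfl
      rw [one_smul] at hg
      exact hab hg
    obtain ⟨p, hp, hpd⟩ := Nat.exists_prime_and_dvd (Finite.one_lt_card (α := G)).ne'
    haveI := Fact.mk hp
    obtain ⟨x, hx⟩ := exists_prime_orderOf_dvd_card' p hpd
    have hx1 : Subgroup.zpowers x ≠ ⊥ := by
      intro h
      rw [Subgroup.zpowers_eq_bot] at h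
      rw [h, orderOf_one] at hx
      exact hp.one_lt.ne hx
    have htop : Subgroup.zpowers x = ⊤ := hco.2 _ (bot_lt_iff_ne_bot.mpr hx1)
    have : Nat.card G = p := by
      rw [← Subgroup.card_top, ← htop, Nat.card_zpowers, hx]
    rw [this]
    exact hp
  haveI := Fact.mk hprime
  exact ⟨hbot, isCyclic_of_prime_card rfl, hprime⟩

end Cfsg.Agent.S3683
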