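import Cfsg.Statements.S0236
import Mathlib
import Cfsg.Agent.Lib.Helper2.Dihedral

set_option autoImplicit false
open Cfsg

namespace Cfsg.Agent.S0236

/-- If x is an involution, the number of ordered pairs (u, v) of involutions with uv = x, plus one, equals the number of involutions in the centralizer of x. -/
theorem result {G : Type*} [Group G] [Finite G] (x : G) (hx : orderOf x = 2) : Nat.card {p : G × G // orderOf p.1 = 2 ∧ orderOf p.2 = 2 ∧ p.1 * p.2 = x} + 1 = Nat.card {t : G // orderOf t = 2 ∧ Commute t x} := by
  classical
  have hx2 := Lib.Helper2.mul_self_of_orderOf_two hx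
  have hxi := Lib.Helper2.inv_eq_of_mul_self hx2
  have e : {t : G // orderOf t = 2 ∧ Commute t x} ≃
      Option {p : G × G // orderOf p.1 = 2 ∧ orderOf p.2 = 2 ∧ p.1 * p.2 = x} :=
    { toFun := fun t => if h : t.1 = x then none else some ⟨(t.1, t.1 * x), t.2.1, by
          have ht2 := Lib.Helper2.mul_self_of_orderOf_two t.2.1
          apply Lib.Helper2.orderOf_two_of_mul_self
          · show t.1 * x * (t.1 * x) = 1
            rw [t.2.2.symm.mul_mul_mul_comm, ht2, hx2, one_mul]
          · intro h1
            apply h
            exact (eq_inv_of_mul_eq_one_left h1).trans hxi, by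
          have ht2 := Lib.Helper2.mul_self_of_orderOf_two t.2.1
          show t.1 * (t.1 * x) = x
          rw [← mul_assoc, ht2, one_mul]⟩
      invFun := fun o => match o with
        | none => ⟨x, hx, Commute.refl x⟩
        | some p => ⟨p.1.1, p.2.1, by
            obtain ⟨⟨u, v⟩, hu, hv, huv⟩ := p
            have hu2 := Lib.Helper2.mul_self_of_orderOf_two hu
            have hv2 := Lib.Helper2.mul_self_of_orderOf_two hv
            have huv' : u * v = x := huv
            show u * x = x * u
            have h1 : x = v * u := by
              rw [← hxi, ← huv', mul_inv_rev, Lib.Helper2.inv_eq_of_mul_self hu2,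
                Lib.Helper2.inv_eq_of_mul_self hv2]
            calc u * x = u * (u * v) := by rw [huv']
              _ = v := by rw [← mul_assoc, hu2, one_mul]
              _ = (v * u) * u := by rw [mul_assoc, hu2, mul_one]
              _ = x * u := by rw [← h1]⟩
      left_inv := by
        rintro ⟨t, ht, htx⟩
        by_cases h : t = x
        · simp only [h, dite_true]
        · simp only [h, dite_false]
      right_inv := by
        intro o
        rcases o with _ | ⟨⟨u, v⟩, hu, hv, huv⟩
        · simp
        · have hu2 := Lib.Helper2.mul_self_of_orderOf_two hu
          have huv' : u * v = x := huv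
          have hne : u ≠ x := by
            intro h
            rw [← huv'] at h
            exact Lib.Helper2.ne_one_of_orderOf_two hv (left_eq_mul.mp h)
          simp only [hne, dite_false]
          congr 2
          show (u, u * x) = (u, v)
          rw [← huv', ← mul_assoc, hu2, one_mul] }
  rw [Nat.card_congr e, Finite.card_option]

end Cfsg.Agent.S0236
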