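import Cfsg.Statements.S0238
import Mathlib
import Cfsg.Agent.Lib.Helper2.Dihedral
import Cfsg.Agent.S0236
import Cfsg.Agent.S0237

set_option autoImplicit false
open Cfsg

namespace Cfsg.Agent.S0238

/-- For every x in a finite group G, the number c of ordered pairs (u, v) of involutions with uv = x is at most |C_G(x)|; c = 0 when x is not conjugate to x⁻¹; and c + 2 ≤ |C_G(x)| when x is an involution. -/
theorem result {G : Type*} [Group G] [Finite G] (x : G) : Nat.card {p : G × G // orderOf p.1 = 2 ∧ orderOf p.2 = 2 ∧ p.1 * p.2 = x} ≤ Nat.card (Subgroup.centralizer ({x} : Set G)) ∧ (¬ IsConj x x⁻¹ → Nat.card {p : G × G // orderOf p.1 = 2 ∧ orderOf p.2 = 2 ∧ p.1 * p.2 = x} = 0) ∧ (orderOf x = 2 → Nat.card {p : G × G // orderOf p.1 = 2 ∧ orderOf p.2 = 2 ∧ p.1 * p.2 = x} + 2 ≤ Nat.card (Subgroup.centralizer ({x} : Set G))) := by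
  have hinv : ∀ p : {p : G × G // orderOf p.1 = 2 ∧ orderOf p.2 = 2 ∧ p.1 * p.2 = x},
      p.1.1 * x * p.1.1⁻¹ = x⁻¹ := by
    rintro ⟨⟨u, v⟩, hu, hv, huv⟩
    have hu2 := Lib.Helper2.mul_self_of_orderOf_two hu
    have hv2 := Lib.Helper2.mul_self_of_orderOf_two hv
    show u * x * u⁻¹ = x⁻¹
    have huv' : u * v = x := huv
    rw [← huv', mul_inv_rev, Lib.Helper2.inv_eq_of_mul_self hu2, Lib.Helper2.inv_eq_of_mul_self hv2,
      ← mul_assoc, hu2, one_mul]
  have hzero : ¬ IsConj x x⁻¹ →
      Nat.card {p : G × G // orderOf p.1 = 2 ∧ orderOf p.2 = 2 ∧ p.1 * p.2 = x} = 0 := by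
    intro hn
    haveI : IsEmpty {p : G × G // orderOf p.1 = 2 ∧ orderOf p.2 = 2 ∧ p.1 * p.2 = x} :=
      ⟨fun p => hn (isConj_iff.mpr ⟨_, hinv p⟩)⟩
    exact Nat.card_of_isEmpty
  refine ⟨?_, hzero, ?_⟩
  · by_cases hreal : IsConj x x⁻¹
    · rw [← S0237.result x hreal]
      apply Nat.card_le_card_of_injective (fun p => (⟨p.1.1, hinv p⟩ : {g : G // g * x * g⁻¹ = x⁻¹}))
      rintro ⟨⟨u, v⟩, hu, hv, huv⟩ ⟨⟨u', v'⟩, hu', hv', huv'⟩ h
      have h1 : u = u' := congrArg Subtype.val h
      subst h1
      have h2 : u * v = u * v' := by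
        have a1 : u * v = x := huv
        have a2 : u * v' = x := huv'
        rw [a1, a2]
      have h3 := mul_left_cancel h2
      subst h3
      rfl
    · rw [hzero hreal]
      exact Nat.zero_le _
  · intro hx
    have h1 := S0236.result x hx
    have h2 : Nat.card {t : G // orderOf t = 2 ∧ Commute t x} + 1 ≤
        Nat.card (Subgroup.centralizer ({x} : Set G)) := by
      rw [← Finite.card_option]
      apply Nat.card_le_card_of_injective (fun o : Option {t : G // orderOf t = 2 ∧ Commute t x} =>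
        match o with
        | none => (1 : Subgroup.centralizer ({x} : Set G))
        | some t => ⟨t.1, by
            rw [Subgroup.mem_centralizer_singleton_iff]
            exact t.2.2⟩)
      intro a b hab
      rcases a with _ | ⟨a, ha, hax⟩ <;> rcases b with _ | ⟨b, hb, hbx⟩
      · rfl
      · exfalso
        have : (1 : G) = b := congrArg Subtype.val hab
        exact Lib.Helper2.ne_one_of_orderOf_two hb this.symm
      · exfalso
        have : a = (1 : G) := congrArg Subtype.val hab
        exact Lib.Helper2.ne_one_of_orderOf_two ha this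
      · have : a = b := congrArg Subtype.val hab
        subst this
        rfl
    omega

end Cfsg.Agent.S0238
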