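import Mathlib
import Cfsg.Statements.S0952
import Cfsg.Agent.Lib.Helper6.BlockOrth

set_option autoImplicit false
open Cfsg
open Cfsg.Agent.Lib.Helper6 Cfsg.Agent.Lib.Helper2
open scoped ComplexConjugate Classical

attribute [local instance] irrFintype

namespace Cfsg.Agent.S0952

/-- Let χ and ψ be irreducible characters of the finite group G lying in different blocks relative to a maximal ideal M of the algebraic integers containing the prime p. Then the sum of χ x * conj (ψ x) over the elements x of order prime to p is zero. -/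
theorem result {G : Type*} [Group G] [Finite G] (p : ℕ) [Fact p.Prime] (M : Ideal Cfsg.AlgInt) (hM : Cfsg.IsPModular p M) (χ ψ : Cfsg.IrrCharacter G) (h : ¬ Cfsg.SameBlock M (χ : G → ℂ) (ψ : G → ℂ)) : ∑ᶠ x ∈ {x : G | ¬ p ∣ orderOf x}, (χ : G → ℂ) x * conj ((ψ : G → ℂ) x) = 0 := by
  let _ := Fintype.ofFinite G
  have := IsPModular.isPrime hM
  set B := blockOf M (χ : G → ℂ) with hBdef
  have hB : IsPBlock M B := ⟨χ, rfl⟩
  have hψ : ψ ∉ B := h
  have hχ : χ ∈ B := mem_blockOf_self χ
  let reg : G → ℂ := fun x => if ¬ p ∣ orderOf x then 1 else 0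
  let c : IrrCharacter G → ℂ := fun φ => ∑ y, reg y * ((φ : G → ℂ) y * conj ((ψ : G → ℂ) y))
  have hgoal : ∑ᶠ x ∈ {x : G | ¬ p ∣ orderOf x}, (χ : G → ℂ) x * conj ((ψ : G → ℂ) x) = c χ := by
    rw [finsum_mem_def, finsum_eq_sum_of_fintype]
    refine Finset.sum_congr rfl fun x _ => ?_
    by_cases hx : ¬ p ∣ orderOf x
    · rw [Set.indicator_of_mem (by exact hx)]
      simp only [reg, if_pos hx, one_mul]
    · rw [Set.indicator_of_notMem (by exact hx)]
      simp only [reg, if_neg hx, zero_mul]
  rw [hgoal]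
  -- Step 1
  have step1 : ∀ x : G, ¬ p ∣ orderOf x →
      ∑ φ : IrrCharacter G, B.indicator 1 φ * (conj ((φ : G → ℂ) x) * c φ) = 0 := by
    intro x hx
    let F : G → ℂ := fun y => ∑ φ : IrrCharacter G,
      B.indicator 1 φ * (conj ((φ : G → ℂ) x) * (φ : G → ℂ) y)
    have hF : ∀ y, reg y * F y = F y := by
      intro y
      by_cases hy : ¬ p ∣ orderOf y
      · simp only [reg, if_pos hy, one_mul]
      · have h0 : F y = 0 := by
          have h1 := weak_block_orthogonality hM hB hx (not_not.mp hy)
          have h2 := congrArg conj h1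
          rw [map_sum, map_zero] at h2
          rw [← h2]
          refine Finset.sum_congr rfl fun φ _ => ?_
          rw [map_mul, map_mul, Complex.conj_conj]
          congr 1
          by_cases hφ : φ ∈ B
          · simp [Set.indicator_of_mem hφ]
          · simp [Set.indicator_of_notMem hφ]
        rw [h0, mul_zero]
    have e1 : ∑ φ : IrrCharacter G, B.indicator 1 φ * (conj ((φ : G → ℂ) x) * c φ) =
        ∑ y, (reg y * F y) * conj ((ψ : G → ℂ) y) := by
      simp only [c, F, Finset.mul_sum, Finset.sum_mul]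
      rw [Finset.sum_comm]
      refine Finset.sum_congr rfl fun y _ => Finset.sum_congr rfl fun φ _ => by ring
    rw [e1]
    simp_rw [hF]
    simp only [F, Finset.sum_mul]
    rw [Finset.sum_comm]
    refine Finset.sum_eq_zero fun φ _ => ?_
    have e2 : ∑ y, B.indicator 1 φ * (conj ((φ : G → ℂ) x) * (φ : G → ℂ) y) * conj ((ψ : G → ℂ) y) =
        B.indicator 1 φ * conj ((φ : G → ℂ) x) * ∑ y, (φ : G → ℂ) y * conj ((ψ : G → ℂ) y) := by
      rw [Finset.mul_sum]
      refine Finset.sum_congr rfl fun y _ => by ring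
    rw [e2]
    by_cases hφ : φ ∈ B
    · have hne : (φ : G → ℂ) ≠ (ψ : G → ℂ) := by
        intro he
        apply hψ
        rwa [← Subtype.ext he]
      have h3 := classInner_irr φ.2 ψ.2
      rw [if_neg hne, classInner] at h3
      have hG : (Nat.card G : ℂ) ≠ 0 := card_ne_zero_complex
      rw [(mul_eq_zero.mp h3).resolve_left (inv_ne_zero hG), mul_zero]
    · simp [Set.indicator_of_notMem hφ]
  -- Step 2
  have step2 : ∑ φ : IrrCharacter G, B.indicator 1 φ * (c φ * conj (c φ)) = 0 := by
    have e3 : ∀ φ : IrrCharacter G, conj (c φ) =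
        ∑ x, reg x * (conj ((φ : G → ℂ) x) * (ψ : G → ℂ) x) := by
      intro φ
      simp only [c, map_sum, map_mul, Complex.conj_conj]
      refine Finset.sum_congr rfl fun x _ => ?_
      congr 1
      simp only [reg]
      split_ifs <;> simp
    have e4 : ∑ φ : IrrCharacter G, B.indicator 1 φ * (c φ * conj (c φ)) =
        ∑ x, reg x * (ψ : G → ℂ) x *
          ∑ φ : IrrCharacter G, B.indicator 1 φ * (conj ((φ : G → ℂ) x) * c φ) := by
      simp_rw [e3]
      simp only [Finset.mul_sum]
      rw [Finset.sum_comm]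
      refine Finset.sum_congr rfl fun y _ => Finset.sum_congr rfl fun φ _ => by ring
    rw [e4]
    refine Finset.sum_eq_zero fun x _ => ?_
    by_cases hx : ¬ p ∣ orderOf x
    · rw [step1 x hx, mul_zero]
    · simp only [reg, if_neg hx, zero_mul]
  -- Step 3
  have e5 : ∀ φ : IrrCharacter G, B.indicator 1 φ * (c φ * conj (c φ)) =
      ((if φ ∈ B then Complex.normSq (c φ) else 0 : ℝ) : ℂ) := by
    intro φ
    rw [Complex.mul_conj]
    by_cases hφ : φ ∈ B
    · simp [Set.indicator_of_mem hφ, if_pos hφ]
    · simp [Set.indicator_of_notMem hφ, if_neg hφ]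
  simp_rw [e5] at step2
  have step3 : ∑ φ : IrrCharacter G, (if φ ∈ B then Complex.normSq (c φ) else 0 : ℝ) = 0 := by
    exact_mod_cast step2
  rw [Finset.sum_eq_zero_iff_of_nonneg] at step3
  · have := step3 χ (Finset.mem_univ χ)
    rw [if_pos hχ] at this
    exact Complex.normSq_eq_zero.mp this
  · intro φ _
    split_ifs
    · exact Complex.normSq_nonneg _
    · exact le_rfl

end Cfsg.Agent.S0952
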