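import Cfsg.Statements.S0629
import Cfsg.Agent.Lib.Helper29.PSolvable2
import Cfsg.Agent.Lib.Helper1.Coprime

set_option autoImplicit false
open Cfsg

namespace Cfsg.Agent.S0629

open Cfsg.Agent.Lib.Helper29 Cfsg.Agent.Lib.Helper8

theorem key {G : Type*} [Group G] [Finite G] {p : ℕ} [Fact p.Prime] (L : Subgroup G)
    (hL : L = pPrimePCore p G) (P : Sylow p ↥L)
    (hsol : Cfsg.IsPSolvable p ↥(Subgroup.centralizer (((P : Subgroup ↥L).map L.subtype : Subgroup G) : Set G))) :
    Subgroup.centralizer (((P : Subgroup ↥L).map L.subtype : Subgroup G) : Set G) ≤ L := by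
  set K := pPrimeCore p G with hK
  set P1 : Subgroup G := (P : Subgroup L).map L.subtype with hP1
  let π := QuotientGroup.mk' K
  set V := pCore p (G ⧸ K) with hV
  have hLV : L.map π = V := by rw [hL]; exact map_pPrimePCore
  have hVp : IsPGroup p V := isPGroup_pCore p
  have hP1p : IsPGroup p P1 := P.isPGroup'.map _
  -- (1)
  have h1 : P1.map π = V := by
    apply le_antisymm
    · rw [← hLV]
      apply Subgroup.map_mono
      rintro _ ⟨y, -, rfl⟩
      exact y.2
    · intro v hv
      rw [← hLV] at hv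
      have hpg : IsPGroup p ↥(L.map π) := by rw [hLV]; exact hVp
      let P' : Sylow p ↥(L.map π) := P.mapSurjective (π.subgroupMap_surjective L)
      have htop : (⊤ : Subgroup ↥(L.map π)) = P' :=
        P'.is_maximal' (hpg.to_subgroup ⊤) le_top
      have hmem : (⟨v, hv⟩ : ↥(L.map π)) ∈ (P' : Subgroup ↥(L.map π)) := by
        rw [← htop]; trivial
      rw [Sylow.coe_mapSurjective] at hmem
      obtain ⟨y, hy, hyv⟩ := hmem
      refine ⟨(y : G), ⟨y, hy, rfl⟩, ?_⟩
      exact congrArg Subtype.val hyv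
  set C := Subgroup.centralizer (P1 : Set G) with hC
  -- (2)
  have h2 : C.map π = Subgroup.centralizer (V : Set (G ⧸ K)) := by
    apply le_antisymm
    · rintro _ ⟨c, hc, rfl⟩
      rw [Subgroup.mem_centralizer_iff]
      intro v hv
      rw [SetLike.mem_coe, ← h1] at hv
      obtain ⟨y, hy, rfl⟩ := hv
      rw [← map_mul, ← map_mul, Subgroup.mem_centralizer_iff.mp hc y hy]
    · intro x hx
      obtain ⟨k, rfl⟩ := QuotientGroup.mk'_surjective K x
      have hcop : (Nat.card K).Coprime (Nat.card P1) := by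
        obtain ⟨m, hm⟩ := IsPGroup.iff_card.mp hP1p
        rw [hm]
        exact Nat.Coprime.pow_right m (coprime_card_pPrimeCore p)
      have hsolvP : Group.IsSolvable P1 := by
        have := hP1p.isNilpotent
        infer_instance
      obtain ⟨n, hn, hkn⟩ := Cfsg.Agent.Lib.Helper1.coprime_key K P1
        (by rw [Subgroup.normalizer_eq_top]; exact le_top) hcop (Or.inr hsolvP) k (by
          intro a ha
          rw [← QuotientGroup.eq_one_iff]
          have h3 : π a * π k = π k * π a :=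
            Subgroup.mem_centralizer_iff.mp hx (π a) (by rw [SetLike.mem_coe, ← h1]; exact ⟨a, ha, rfl⟩)
          have e : π (k⁻¹ * a * k * a⁻¹) = 1 := by
            rw [map_mul, map_mul, map_mul, map_inv, map_inv, mul_assoc (π k)⁻¹, h3]; group
          exact e)
      refine ⟨k * n, hkn, ?_⟩
      have hn1 : π n = 1 := (QuotientGroup.eq_one_iff n).mpr hn
      rw [map_mul, hn1, mul_one]
  -- (3)
  have h3 : IsPSolvable p ↥(Subgroup.centralizer (V : Set (G ⧸ K))) :=
    psol_of_mulEquiv (psol_of_surjective hsol (π.subgroupMap C) (π.subgroupMap_surjective C))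
      (MulEquiv.subgroupCongr h2)
  have h4 := centralizer_pCore_le' h3 pPrimeCore_quotient_self
  intro c hc
  have : π c ∈ V := h4 (h2 ▸ ⟨c, hc, rfl⟩)
  rw [hL]
  exact this

theorem result {G : Type*} [Group G] [Finite G] {p : ℕ} [Fact p.Prime] (P : Sylow p ↥(Cfsg.pPrimePCore p G)) (hsol : Cfsg.IsPSolvable p ↥(Subgroup.centralizer (((P : Subgroup ↥(Cfsg.pPrimePCore p G)).map (Cfsg.pPrimePCore p G).subtype : Subgroup G) : Set G))) : Cfsg.IsPConstrained p G := by
  have hkey := key _ rfl P hsol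
  intro P' c hc
  obtain ⟨l, hl⟩ := MulAction.exists_smul_eq ↥(pPrimePCore p G) P P'
  have h1 : (l : G)⁻¹ * c * l ∈ Subgroup.centralizer
      (((P : Subgroup ↥(pPrimePCore p G)).map (pPrimePCore p G).subtype : Subgroup G) : Set G) := by
    rw [Subgroup.mem_centralizer_iff]
    rintro _ ⟨y, hy, rfl⟩
    have hy' : l * y * l⁻¹ ∈ (P' : Subgroup ↥(pPrimePCore p G)) := by
      rw [← hl, Sylow.coe_subgroup_smul]
      exact ⟨y, hy, rfl⟩
    have h2 := Subgroup.mem_centralizer_iff.mp hc ((l * y * l⁻¹ : ↥(pPrimePCore p G)) : G) ⟨_, hy', rfl⟩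
    simp only [Subgroup.coe_mul, InvMemClass.coe_inv, Subgroup.subtype_apply] at h2 ⊢
    calc (y : G) * ((l : G)⁻¹ * c * l) = (l : G)⁻¹ * ((l : G) * y * (l : G)⁻¹ * c) * l := by group
      _ = (l : G)⁻¹ * c * l * y := by rw [h2]; group
  have h3 := hkey h1
  have h4 := (pPrimePCore p G).mul_mem ((pPrimePCore p G).mul_mem l.2 h3) ((pPrimePCore p G).inv_mem l.2)
  have e : (l : G) * ((l : G)⁻¹ * c * l) * (l : G)⁻¹ = c := by group
  rwa [e] at h4

end Cfsg.Agent.S0629
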