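import Cfsg.Statements.S0887
import Cfsg.Agent.Lib.Helper13.CentralExt2

set_option autoImplicit false
open Cfsg

namespace Cfsg.Agent.S0887

/-- If ϑ is an irreducible constituent of the restriction of χ ∈ Irr(G) to a normal subgroup N, then χ(1)/ϑ(1) is an integer dividing [G:N]. -/
theorem result {G : Type*} [Group G] [Fintype G] (N : Subgroup G) [N.Normal] [Fintype N] (χ : G → ℂ) (hχ : Cfsg.IsIrrCharacter G χ) (ϑ : N → ℂ) (hϑ : Cfsg.IsIrrCharacter N ϑ) (hcon : Cfsg.classInner (fun n : N => χ n) ϑ ≠ 0) (c d : ℕ) (hc : χ 1 = c) (hd : ϑ 1 = d) : d ∣ c ∧ c / d ∣ N.index := by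
  obtain ⟨e, he1, he2⟩ := Cfsg.Agent.Lib.Helper13.ratio_dvd_index N hχ hϑ hcon
  have hd0 : d ≠ 0 := by
    rintro rfl
    exact Cfsg.Agent.Lib.Helper6.irr_one_ne_zero hϑ (by rw [hd]; simp)
  have hce : c = e * d := by
    rw [hc, hd] at he1
    exact_mod_cast he1
  refine ⟨⟨e, by rw [hce, mul_comm]⟩, ?_⟩
  rw [hce, Nat.mul_div_cancel _ (Nat.pos_of_ne_zero hd0)]
  exact he2

end Cfsg.Agent.S0887
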