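import Cfsg.Statements.S4426
import Mathlib
import Cfsg.Agent.Lib.Helper23.RegInner

set_option autoImplicit false
open Cfsg

namespace Cfsg.Agent.S4426

open Cfsg.Agent.Lib.Helper2 Cfsg.Agent.Lib.Helper6 Cfsg.Agent.Lib.Helper23.RegInner

/-- Let χ be an irreducible character in the p-block B of the finite group G (relative to a maximal ideal M of the algebraic integers containing p), let p^a be the p-part of the order of G, and let χ̃ be the class function equal to p^a · χ on p-regular elements and zero elsewhere. For ξ ∈ B the inner product [χ̃, ξ] is an integer. The following are equivalent: (a) χ has height zero in B; (b) for some ξ ∈ B the integer [χ̃, ξ] is nonzero and the exact power of p dividing it equals the exact power of p dividing ξ(1); (c) the same holds for every ξ ∈ B. -/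
theorem result {G : Type*} [Group G] [Fintype G] (p : ℕ) [Fact p.Prime] (M : Ideal Cfsg.AlgInt) (hM : Cfsg.IsPModular p M) (B : Set (Cfsg.IrrCharacter G)) (hB : Cfsg.IsPBlock M B) (χ : Cfsg.IrrCharacter G) (hχ : χ ∈ B) : (Cfsg.blockHeight p B (χ : G → ℂ) = 0 ↔ ∃ ξ ∈ B, ∃ n : ℤ, Cfsg.classInner (fun x : G => if p ∣ orderOf x then (0 : ℂ) else ((p ^ (Nat.card G).factorization p : ℕ) : ℂ) * (χ : G → ℂ) x) (ξ : G → ℂ) = (n : ℂ) ∧ n ≠ 0 ∧ padicValInt p n = (Cfsg.charDegree (ξ : G → ℂ)).factorization p) ∧ (Cfsg.blockHeight p B (χ : G → ℂ) = 0 ↔ ∀ ξ ∈ B, ∃ n : ℤ, Cfsg.classInner (fun x : G => if p ∣ orderOf x then (0 : ℂ) else ((p ^ (Nat.card G).factorization p : ℕ) : ℂ) * (χ : G → ℂ) x) (ξ : G → ℂ) = (n : ℂ) ∧ n ≠ 0 ∧ padicValInt p n = (Cfsg.charDegree (ξ : G → ℂ)).factorization p) := by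
  have key : ∀ ξ : Cfsg.IrrCharacter G, (∃ n : ℤ, Cfsg.classInner (fun x : G =>
      if p ∣ orderOf x then (0 : ℂ) else ((p ^ (Nat.card G).factorization p : ℕ) : ℂ) *
        (χ : G → ℂ) x) (ξ : G → ℂ) = (n : ℂ) ∧ n ≠ 0 ∧
      padicValInt p n = (Cfsg.charDegree (ξ : G → ℂ)).factorization p) ↔
      ¬ (p : ℤ) ∣ al p χ ξ := by
    intro ξ
    rw [not_dvd_al_iff]
    constructor
    · rintro ⟨n, h1, h2, h3⟩
      have h4 := nn_spec p χ ξ
      unfold tilde at h4
      rw [h4] at h1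
      have : n = nn p χ ξ := by exact_mod_cast h1.symm
      subst this
      exact ⟨h2, h3⟩
    · rintro ⟨h2, h3⟩
      exact ⟨_, nn_spec p χ ξ, h2, h3⟩
  constructor
  · constructor
    · intro h0
      exact ⟨χ, hχ, (key χ).2 (not_dvd_al_of_height_zero p hM hB hχ h0 hχ)⟩
    · rintro ⟨ξ, hξ, h⟩
      exact height_zero_of_not_dvd_al p hM hB hξ ((key ξ).1 h)
  · constructor
    · intro h0 ξ hξ
      exact (key ξ).2 (not_dvd_al_of_height_zero p hM hB hχ h0 hξ)
    · intro h
      exact height_zero_of_not_dvd_al p hM hB hχ ((key χ).1 (h χ hχ))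

end Cfsg.Agent.S4426
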