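import Cfsg.Statements.S4713
import Cfsg.Agent.Lib.Helper13.Ito2
import Cfsg.Agent.Lib.Helper29.PSolvable

set_option autoImplicit false
open Cfsg

namespace Cfsg.Agent.S4713

open Cfsg.Agent.Lib.Helper13 in
/-- Let p be a prime and G a finite p-solvable group. Then G has a normal abelian Sylow p-subgroup if and only if the degree of every irreducible character of G is prime to p. -/
theorem result {G : Type*} [Group G] [Finite G] (p : ℕ) [Fact p.Prime] (hsolv : Cfsg.IsPSolvable p G) (P : Sylow p G) : ((P : Subgroup G).Normal ∧ IsMulCommutative P) ↔ ∀ χ : Cfsg.IrrCharacter G, ¬ p ∣ Cfsg.charDegree (χ : G → ℂ) := by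
  constructor
  · rintro ⟨hn, hc⟩ χ hd
    have h1 := ito_degree_dvd (P : Subgroup G) (fun a ha b hb =>
      congrArg Subtype.val (hc.is_comm.comm (⟨a, ha⟩ : P) ⟨b, hb⟩)) χ
    exact P.not_dvd_index (hd.trans h1)
  · intro hdeg
    obtain ⟨Q, hQn, hQab, hQp, hQi⟩ := ito_michler_aux p (fun G _ => Cfsg.IsPSolvable p G)
      (fun G _ H h => Cfsg.Agent.Lib.Helper29.psol_subgroup h H)
      (fun G _ N _ h => Cfsg.Agent.Lib.Helper29.psol_quotient h N)
      (fun G _ _ _ h => Cfsg.Agent.Lib.Helper29.psol_exists_normal h) _ G rfl hsolv hdeg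
    have := Sylow.unique_of_normal (hQp.toSylow hQi) hQn
    have hPQ : P = hQp.toSylow hQi := Subsingleton.elim _ _
    have hPQ' : (P : Subgroup G) = Q := by rw [hPQ]; rfl
    refine ⟨hPQ' ▸ hQn, ⟨⟨fun a b => ?_⟩⟩⟩
    apply Subtype.ext
    exact hQab a (hPQ' ▸ a.2) b (hPQ' ▸ b.2)


end Cfsg.Agent.S4713
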