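import Cfsg.Statements.S4736
import Mathlib
import Cfsg.Agent.S0915
import Cfsg.Agent.S4713
import Cfsg.Agent.Lib.Helper1.Cores
import Cfsg.Agent.Lib.Helper12.Cores
import Cfsg.Agent.Lib.Helper29.PSolvable2
import Cfsg.Agent.Lib.Helper6.Inflate
import Cfsg.Agent.Lib.Helper6.NormalIdem
import Cfsg.Agent.Lib.Helper24.CharInt

set_option autoImplicit false
open Cfsg

namespace Cfsg.Agent.S4736

open Cfsg.Agent.Lib.Helper2 Cfsg.Agent.Lib.Helper6 Cfsg.Agent.Lib.Helper24
open scoped ComplexConjugate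

/-- In a `p`-solvable group the principal `p`-block consists of the characters with `O_{p'}(G)` in
their kernel. -/
theorem mem_principalBlock_iff {G : Type*} [Group G] [Finite G] (p : ℕ)
    [Fact p.Prime] (hsolv : IsPSolvable p G) (M : Ideal Cfsg.AlgInt) (hM : Cfsg.IsPModular p M)
    (χ : IrrCharacter G) :
    χ ∈ principalBlock M G ↔ ∀ n ∈ pPrimeCore p G, (χ : G → ℂ) n = (χ : G → ℂ) 1 := by
  classical
  letI := Fintype.ofFinite G
  have hpp : p.Prime := Fact.out
  have hsp := Cfsg.Agent.Lib.Helper1.pPrimeCore_spec (G := G) p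
  haveI : (pPrimeCore p G).Normal := hsp.1
  have hN : ¬ p ∣ Nat.card (pPrimeCore p G) := fun h =>
    hpp.one_lt.ne' (Nat.dvd_one.mp (hsp.2 ▸ Nat.dvd_gcd h dvd_rfl))
  have := IsPModular.isPrime hM
  constructor
  · intro h
    exact principalBlock_ker hM _ hN h
  · intro h
    obtain ⟨ψ, hψ, hval⟩ := IsIrrCharacter.deflate (pPrimeCore p G) χ.2 h
    have hbot := Cfsg.Agent.Lib.Helper1.pPrimeCore_quotient_eq_bot (G := G) p
    have hs := Cfsg.Agent.S0915.result p M hM
      (Cfsg.Agent.Lib.Helper29.psol_quotient hsolv (pPrimeCore p G)) hbot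
      ⟨fun _ => 1, isIrrCharacter_one⟩ ⟨ψ, hψ⟩
    have h2 := sameBlock_infl (pPrimeCore p G) (M := M) isIrrCharacter_one hψ hs
    have e : infl (pPrimeCore p G) ψ = (χ : G → ℂ) := by
      funext g
      exact hval g
    rw [e] at h2
    exact h2

/-- Height zero in the principal block means degree prime to `p`. -/
theorem blockHeight_principal_eq_zero_iff {G : Type*} [Group G] [Finite G] (p : ℕ)
    [Fact p.Prime] (M : Ideal Cfsg.AlgInt) [M.IsPrime] (χ : IrrCharacter G) :
    blockHeight p (principalBlock M G) (χ : G → ℂ) = 0 ↔ ¬ p ∣ charDegree (χ : G → ℂ) := by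
  have hpp : p.Prime := Fact.out
  have h0 : sInf ((fun ψ : IrrCharacter G => (charDegree (ψ : G → ℂ)).factorization p) ''
      principalBlock M G) = 0 := by
    apply Nat.eq_zero_of_le_zero
    apply Nat.sInf_le
    refine ⟨⟨fun _ => 1, isIrrCharacter_one⟩, SameBlock.refl (M := M) (fun _ : G => (1 : ℂ)), ?_⟩
    have h1 := charDegree_cast (IsIrrCharacter.isCharacter (isIrrCharacter_one (G := G)))
    have : charDegree (fun _ : G => (1 : ℂ)) = 1 := by exact_mod_cast h1
    show (charDegree (fun _ : G => (1 : ℂ))).factorization p = 0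
    rw [this]; simp
  rw [blockHeight, h0, Nat.sub_zero, Nat.factorization_eq_zero_iff]
  have hpos := charDegree_pos χ.2
  constructor
  · rintro (h | h | h)
    · exact absurd hpp h
    · exact h
    · omega
  · intro h
    exact Or.inr (Or.inl h)

/-- Let p be a prime, M a maximal ideal of the algebraic integers containing p, and G a finite p-solvable group with Sylow p-subgroup P. Then P is abelian if and only if every irreducible character in the principal p-block of G has height zero. -/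
theorem result {G : Type*} [Group G] [Finite G] (p : ℕ) [Fact p.Prime] (M : Ideal Cfsg.AlgInt) (hM : Cfsg.IsPModular p M) (hsolv : Cfsg.IsPSolvable p G) (P : Sylow p G) : IsMulCommutative P ↔ ∀ χ ∈ Cfsg.principalBlock M G, Cfsg.blockHeight p (Cfsg.principalBlock M G) (χ : G → ℂ) = 0 := by
  classical
  letI := Fintype.ofFinite G
  have hpp : p.Prime := Fact.out
  have := IsPModular.isPrime hM
  have hsp := Cfsg.Agent.Lib.Helper1.pPrimeCore_spec (G := G) p
  haveI : (pPrimeCore p G).Normal := hsp.1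
  set N := pPrimeCore p G with hN
  have hsurj := QuotientGroup.mk'_surjective N
  let Pb : Sylow p (G ⧸ N) := P.mapSurjective hsurj
  have hPb : (Pb : Subgroup (G ⧸ N)) = (P : Subgroup G).map (QuotientGroup.mk' N) := rfl
  have hmain := Cfsg.Agent.S4713.result p (Cfsg.Agent.Lib.Helper29.psol_quotient hsolv N) Pb
  -- translate the right-hand side
  have hR : (∀ χ ∈ Cfsg.principalBlock M G, Cfsg.blockHeight p (Cfsg.principalBlock M G) (χ : G → ℂ) = 0)
      ↔ ∀ χ : Cfsg.IrrCharacter (G ⧸ N), ¬ p ∣ Cfsg.charDegree (χ : G ⧸ N → ℂ) := by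
    constructor
    · intro h ψ
      have hχ := isIrrCharacter_infl N ψ.2
      have h1 := h ⟨_, hχ⟩ ((mem_principalBlock_iff p hsolv M hM ⟨_, hχ⟩).mpr (by
        intro n hn
        show (ψ : G ⧸ N → ℂ) _ = (ψ : G ⧸ N → ℂ) _
        rw [(QuotientGroup.eq_one_iff n).mpr hn]
        rfl))
      rw [blockHeight_principal_eq_zero_iff] at h1
      exact h1
    · intro h χ hχ
      rw [blockHeight_principal_eq_zero_iff]
      obtain ⟨ψ, hψ, hval⟩ := IsIrrCharacter.deflate N χ.2
        ((mem_principalBlock_iff p hsolv M hM χ).mp hχ)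
      have h1 := h ⟨ψ, hψ⟩
      have e : charDegree ψ = charDegree (χ : G → ℂ) := by
        unfold charDegree
        rw [← hval 1]
        rfl
      rw [← e]
      exact h1
  rw [hR, ← hmain]
  constructor
  · intro hc
    have hcb : ∀ a ∈ (Pb : Subgroup (G ⧸ N)), ∀ b ∈ (Pb : Subgroup (G ⧸ N)), a * b = b * a := by
      rintro _ ⟨a, ha, rfl⟩ _ ⟨b, hb, rfl⟩
      rw [← map_mul, ← map_mul]
      congr 1
      exact congrArg Subtype.val (hc.is_comm.comm (⟨a, ha⟩ : P) ⟨b, hb⟩)
    have h1 : pCore p (G ⧸ N) ≤ (Pb : Subgroup (G ⧸ N)) := Cfsg.Agent.Lib.Helper12.pCore_le_sylow Pb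
    have h2 : (Pb : Subgroup (G ⧸ N)) ≤ pCore p (G ⧸ N) := by
      refine le_trans ?_ (Cfsg.Agent.Lib.Helper29.centralizer_pCore_quotient_le hsolv)
      intro a ha
      rw [Subgroup.mem_centralizer_iff]
      intro b hb
      exact hcb b (h1 hb) a ha
    have h3 : (Pb : Subgroup (G ⧸ N)) = pCore p (G ⧸ N) := le_antisymm h2 h1
    refine ⟨h3 ▸ Cfsg.Agent.Lib.Helper1.pCore_normal p, ⟨⟨fun a b => Subtype.ext (hcb a a.2 b b.2)⟩⟩⟩
  · rintro ⟨-, hc⟩
    refine ⟨⟨fun a b => Subtype.ext ?_⟩⟩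
    have h1 : QuotientGroup.mk' N ((a : G) * b) = QuotientGroup.mk' N ((b : G) * a) := by
      rw [map_mul, map_mul]
      exact congrArg Subtype.val (hc.is_comm.comm
        (⟨_, Subgroup.mem_map_of_mem _ a.2⟩ : Pb) ⟨_, Subgroup.mem_map_of_mem _ b.2⟩)
    have h2 : ((b : G) * a)⁻¹ * ((a : G) * b) ∈ N := by
      rw [← QuotientGroup.eq]
      exact h1.symm
    have h3 : ((b : G) * a)⁻¹ * ((a : G) * b) ∈ (P : Subgroup G) :=
      mul_mem (inv_mem (mul_mem b.2 a.2)) (mul_mem a.2 b.2)
    have hdisj : (P : Subgroup G) ⊓ N = ⊥ := by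
      apply Subgroup.inf_eq_bot_of_coprime
      obtain ⟨k, hk⟩ := IsPGroup.iff_card.mp P.2
      rw [hk]
      exact Nat.Coprime.pow_left _ hsp.2.symm
    have h4 : ((b : G) * a)⁻¹ * ((a : G) * b) = 1 := by
      have : ((b : G) * a)⁻¹ * ((a : G) * b) ∈ (P : Subgroup G) ⊓ N := ⟨h3, h2⟩
      rw [hdisj] at this
      exact this
    exact (inv_mul_eq_one.mp h4).symm

end Cfsg.Agent.S4736
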