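import Cfsg.Statements.S1496
import Cfsg.Agent.Lib.Helper1.Coprime

set_option autoImplicit false
open Cfsg

namespace Cfsg.Agent.S1496

open Cfsg.Agent.Lib.Helper1 in
/-- Let H be a subgroup of the finite group G and g an element normalising H whose order is coprime to the order of H. Then for every h ∈ H there are x ∈ H and c ∈ H commuting with g such that x * (h * g) * x⁻¹ = c * g. -/
theorem result {G : Type*} [Group G] [Finite G] (H : Subgroup G) (g : G) (hg : g ∈ Subgroup.normalizer (H : Set G)) (hcop : Nat.Coprime (orderOf g) (Nat.card H)) (h : G) (hh : h ∈ H) : ∃ x ∈ H, ∃ c ∈ H, c * g = g * c ∧ x * (h * g) * x⁻¹ = c * g := by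
  have hA : Subgroup.zpowers g ≤ Subgroup.normalizer (H : Set G) := by
    rw [Subgroup.zpowers_le]
    exact hg
  have hpow : ∀ i : ℕ, (h * g) ^ i * (g ^ i)⁻¹ ∈ H := by
    intro i
    induction i with
    | zero => simp
    | succ i ih =>
      have h1 : g ^ i * h * (g ^ i)⁻¹ ∈ H :=
        conj_mem_of_mem_normalizer (hA (Subgroup.npow_mem_zpowers g i)) hh
      have h2 : (h * g) ^ (i + 1) * (g ^ (i + 1))⁻¹ =
          ((h * g) ^ i * (g ^ i)⁻¹) * (g ^ i * h * (g ^ i)⁻¹) := by
        rw [pow_succ, pow_succ]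
        group
      rw [h2]
      exact H.mul_mem ih h1
  have hcop' : (Nat.card H).Coprime (Nat.card (Subgroup.zpowers g)) := by
    rw [Nat.card_zpowers]
    exact hcop.symm
  obtain ⟨k, hk, hkA⟩ := coprime_exists_conj_le H (Subgroup.zpowers g)
    (Subgroup.centralizer ({h * g} : Set G)) hA hcop'
    (Or.inr (Group.isSolvable_of_comm (fun a b => by
      obtain ⟨a, ha⟩ := a
      obtain ⟨b, hb⟩ := b
      obtain ⟨i, rfl⟩ := Subgroup.mem_zpowers_iff.mp ha
      obtain ⟨j, rfl⟩ := Subgroup.mem_zpowers_iff.mp hb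
      apply Subtype.ext
      exact (Commute.zpow_zpow_self g i j))))
    (by
      intro a ha
      obtain ⟨i, rfl⟩ := (mem_powers_iff_mem_zpowers.mpr ha)
      refine ⟨_, hpow i, ?_⟩
      simp only [inv_mul_cancel_right]
      rw [Subgroup.mem_centralizer_singleton_iff]
      rw [← pow_succ, ← pow_succ'])
  have h1 : k * g * k⁻¹ ∈ Subgroup.centralizer ({h * g} : Set G) := by
    apply hkA
    rw [mem_conj_smul]
    have : k⁻¹ * (k * g * k⁻¹) * k = g := by group
    rw [this]
    exact Subgroup.mem_zpowers g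
  rw [Subgroup.mem_centralizer_singleton_iff] at h1
  have hc : k⁻¹ * h * (g * k * g⁻¹) ∈ H :=
    H.mul_mem (H.mul_mem (H.inv_mem hk) hh) (conj_mem_of_mem_normalizer hg hk)
  refine ⟨k⁻¹, H.inv_mem hk, _, hc, ?_, by group⟩
  have h2 : k⁻¹ * h * (g * k * g⁻¹) * g = k⁻¹ * ((h * g) * (k * g * k⁻¹)) * k * g⁻¹ := by group
  have h3 : g * (k⁻¹ * h * (g * k * g⁻¹)) = k⁻¹ * ((k * g * k⁻¹) * (h * g)) * k * g⁻¹ := by group
  rw [h2, h3, h1]

end Cfsg.Agent.S1496
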