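import Cfsg.Statements.S0160
import Cfsg.Agent.Lib.Helper2.BrauerPerm

set_option autoImplicit false
open Cfsg

namespace Cfsg.Agent.S0160

/-- A finite group has as many real-valued irreducible complex characters as conjugacy classes closed under taking inverses. -/
theorem result {G : Type*} [Group G] [Finite G] : Nat.card {χ : Cfsg.IrrCharacter G // ∀ g : G, ((χ : G → ℂ) g).im = 0} = Nat.card {C : ConjClasses G // ∀ g : G, ConjClasses.mk g = C → IsConj g g⁻¹} := by
  open Cfsg.Agent.Lib.Helper2 in
  cases nonempty_fintype G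
  have hinv : ∀ χ : G → ℂ, Cfsg.IsIrrCharacter G χ → χ ∘ (fun g => g⁻¹) = fun g => (starRingEnd ℂ) (χ g) := by
    intro χ hχ
    ext g
    exact IsCharacter.apply_inv (IsIrrCharacter.isCharacter hχ) g
  have h := brauer_count (G := G) (fun g => g⁻¹)
    (fun χ hχ => by rw [hinv χ hχ]; exact IsIrrCharacter.conj hχ)
    (fun C => ∀ g : G, ConjClasses.mk g = C → IsConj g g⁻¹) (by
      intro g
      constructor
      · intro h
        exact (h g rfl).symm
      · intro h g' hg'
        have h1 : IsConj g' g := ConjClasses.mk_eq_mk_iff_isConj.mp hg'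
        have h2 : IsConj g'⁻¹ g⁻¹ := by
          obtain ⟨c, hc⟩ := isConj_iff.mp h1
          exact isConj_iff.mpr ⟨c, by rw [← hc]; group⟩
        exact h1.trans (h.symm.trans h2.symm))
  rw [← h]
  apply Nat.card_congr
  apply Equiv.subtypeEquivRight
  intro χ
  rw [hinv χ χ.2]
  constructor
  · intro h
    ext g
    exact Complex.conj_eq_iff_im.mpr (h g)
  · intro h g
    exact Complex.conj_eq_iff_im.mp (congrFun h g)

end Cfsg.Agent.S0160
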