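import Cfsg.Statements.S0239
import Mathlib

set_option autoImplicit false
open Cfsg

namespace Cfsg.Agent.S0239

/-- If some nontrivial element x of a finite group G is conjugate to x⁻¹, then |G| is even. -/
theorem result {G : Type*} [Group G] [Finite G] (x : G) (hx : x ≠ 1) (hreal : IsConj x x⁻¹) : Even (Nat.card G) := by
  by_contra hodd
  rw [Nat.not_even_iff_odd] at hodd
  obtain ⟨c, hc⟩ := isConj_iff.mp hreal
  -- c ^ 2 commutes with x
  have h2 : c ^ 2 * x = x * c ^ 2 := by
    have h3 : c * x⁻¹ * c⁻¹ = x := by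
      have := congrArg (fun y => y⁻¹) hc
      simp only [mul_inv_rev, inv_inv] at this
      rw [← mul_assoc] at this
      exact this
    have h4 : c * (c * x * c⁻¹) * c⁻¹ = x := by rw [hc, h3]
    calc c ^ 2 * x = (c * (c * x * c⁻¹) * c⁻¹) * c ^ 2 := by simp [pow_two, mul_assoc]
      _ = x * c ^ 2 := by rw [h4]
  have hcomm : Commute (c ^ 2) x := h2
  -- c is a power of c ^ 2
  have hoc : Odd (orderOf c) := Odd.of_dvd_nat hodd (orderOf_dvd_natCard c)
  obtain ⟨k, hk⟩ := hoc
  have hc' : c = (c ^ 2) ^ (k + 1) := by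
    rw [← pow_mul, show 2 * (k + 1) = orderOf c + 1 by omega, pow_succ, pow_orderOf_eq_one, one_mul]
  have hcx : Commute c x := by
    rw [hc']
    exact hcomm.pow_left _
  have hxx : x = x⁻¹ := by
    rw [← hc, hcx.eq, mul_assoc, mul_inv_cancel, mul_one]
  have hx2 : x ^ 2 = 1 := by
    rw [pow_two]
    nth_rewrite 2 [hxx]
    exact mul_inv_cancel x
  have hox : Odd (orderOf x) := Odd.of_dvd_nat hodd (orderOf_dvd_natCard x)
  have hd : orderOf x ∣ 2 := orderOf_dvd_of_pow_eq_one hx2
  have : orderOf x = 1 := by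
    rcases (Nat.dvd_prime Nat.prime_two).mp hd with h | h
    · exact h
    · rw [h] at hox
      exact absurd hox (by decide)
  exact hx (orderOf_eq_one_iff.mp this)

end Cfsg.Agent.S0239
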