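import Cfsg.Statements.S0161
import Mathlib
import Cfsg.Agent.Lib.Helper2.BrauerPerm
import Cfsg.Agent.S0160
import Cfsg.Agent.S0239

set_option autoImplicit false
open Cfsg

namespace Cfsg.Agent.S0161

/-- In a finite group of odd order, a real-valued irreducible complex character is the trivial character. -/
theorem result {G : Type*} [Group G] [Finite G] (hodd : Odd (Nat.card G)) (χ : Cfsg.IrrCharacter G) (hreal : ∀ g : G, ((χ : G → ℂ) g).im = 0) : (χ : G → ℂ) = fun _ => 1 := by
  open Cfsg.Agent.Lib.Helper2 in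
  have h := Cfsg.Agent.S0160.result (G := G)
  have h1 : Nat.card {C : ConjClasses G // ∀ g : G, ConjClasses.mk g = C → IsConj g g⁻¹} = 1 := by
    rw [Nat.card_eq_one_iff_unique]
    refine ⟨⟨?_⟩, ⟨⟨ConjClasses.mk 1, ?_⟩⟩⟩
    · rintro ⟨C, hC⟩ ⟨C', hC'⟩
      apply Subtype.ext
      obtain ⟨g, rfl⟩ := ConjClasses.exists_rep C
      obtain ⟨g', rfl⟩ := ConjClasses.exists_rep C'
      have hg : g = 1 := by
        by_contra hne
        exact (Nat.not_even_iff_odd.mpr hodd) (Cfsg.Agent.S0239.result g hne (hC g rfl))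
      have hg' : g' = 1 := by
        by_contra hne
        exact (Nat.not_even_iff_odd.mpr hodd) (Cfsg.Agent.S0239.result g' hne (hC' g' rfl))
      show ConjClasses.mk g = ConjClasses.mk g'
      rw [hg, hg']
    · intro g hg
      have : IsConj g 1 := ConjClasses.mk_eq_mk_iff_isConj.mp hg
      have hg1 : g = 1 := by
        obtain ⟨c, hc⟩ := isConj_iff.mp this
        have : g = c⁻¹ * 1 * c := by rw [← hc]; group
        simpa using this
      rw [hg1]
      simp
  rw [h1, Nat.card_eq_one_iff_unique] at h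
  obtain ⟨hs, _⟩ := h
  have := hs.elim ⟨χ, hreal⟩ ⟨⟨fun _ => 1, isIrrCharacter_one⟩, fun g => by simp⟩
  exact congrArg (fun x : {χ : Cfsg.IrrCharacter G // ∀ g : G, ((χ : G → ℂ) g).im = 0} => (x.1 : G → ℂ)) this

end Cfsg.Agent.S0161
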