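import Cfsg.Statements.S0868
import Cfsg.Agent.Lib.Helper13.Gallagher

set_option autoImplicit false
open Cfsg

namespace Cfsg.Agent.S0868

open Cfsg.Agent.Lib.Helper13 Cfsg.Agent.Lib.Helper2
open scoped ComplexConjugate

/-- Let N be a normal subgroup of the finite group G, χ an irreducible character of G whose restriction ϑ to N is irreducible, and ψ an irreducible character of G. Define η on G by η g = (1 / order of N) * Σ over n in N of ψ (n * g) * conj (χ (n * g)). Then: if the restriction of ψ to N has nonzero inner product with ϑ, η is an irreducible character of G; if that inner product is zero, η vanishes identically; and if ψ = χ then η is identically 1. -/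
theorem result {G : Type*} [Group G] [Fintype G] (N : Subgroup G) [N.Normal] [Fintype N] (χ : G → ℂ) (hχ : Cfsg.IsIrrCharacter G χ) (hχN : Cfsg.IsIrrCharacter N (fun n : N => χ n)) (ψ : G → ℂ) (hψ : Cfsg.IsIrrCharacter G ψ) (η : G → ℂ) (hη : η = fun g => (Nat.card N : ℂ)⁻¹ * ∑ n : N, ψ ((n : G) * g) * conj (χ ((n : G) * g))) : (Cfsg.classInner (fun n : N => ψ n) (fun n : N => χ n) ≠ 0 → Cfsg.IsIrrCharacter G η) ∧ (Cfsg.classInner (fun n : N => ψ n) (fun n : N => χ n) = 0 → η = 0) ∧ (ψ = χ → η = fun _ => 1) := by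
  classical
  have hN : N.Normal := inferInstance
  have hχcl := IsCharacter.isClassFunction (IsIrrCharacter.isCharacter hχ)
  have hψcl := IsCharacter.isClassFunction (IsIrrCharacter.isCharacter hψ)
  have hgal := gallagher N hχ hχN
  have hNne : (Nat.card N : ℂ) ≠ 0 := card_subgroup_ne_zero N
  -- η is a class function
  have hηcl : Cfsg.IsClassFunction G η := by
    intro g h
    rw [hη]
    simp only
    congr 1
    refine Fintype.sum_equiv (MulAut.conjNormal h⁻¹ : N ≃* N).toEquiv _ _ fun n => ?_
    have e : (((MulAut.conjNormal h⁻¹ : N ≃* N).toEquiv n : N) : G) * g =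
        h⁻¹ * ((n : G) * (h * g * h⁻¹)) * h⁻¹⁻¹ := by
      simp [mul_assoc]
    rw [e, hψcl, hχcl]
  -- η is constant on cosets
  have hηco : ∀ m ∈ N, ∀ g, η (g * m) = η g := by
    intro m hm g
    rw [hη]
    simp only
    congr 1
    refine Fintype.sum_equiv (Equiv.mulRight (⟨g * m * g⁻¹, hN.conj_mem m hm g⟩ : N)) _ _
      fun n => ?_
    have e : ((Equiv.mulRight (⟨g * m * g⁻¹, hN.conj_mem m hm g⟩ : N) n : N) : G) * g =
        (n : G) * (g * m) := by
      simp [mul_assoc]
    rw [e]
  -- inner products with characters of G/N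
  have hin : ∀ γ : G → ℂ, Cfsg.IsCharacter G γ → (∀ n ∈ N, γ n = γ 1) →
      Cfsg.classInner η γ = Cfsg.classInner ψ (γ * χ) := by
    intro γ hγ hk
    simp only [Cfsg.classInner]
    congr 1
    rw [hη]
    simp only
    calc ∑ g : G, (Nat.card N : ℂ)⁻¹ * (∑ n : N, ψ ((n : G) * g) * conj (χ ((n : G) * g))) *
          conj (γ g)
        = (Nat.card N : ℂ)⁻¹ * ∑ n : N, ∑ g : G, ψ ((n : G) * g) * conj ((γ * χ) ((n : G) * g)) := by
          rw [Finset.sum_comm, Finset.mul_sum]
          refine Finset.sum_congr rfl fun g _ => ?_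
          rw [mul_assoc, Finset.sum_mul]
          congr 1
          refine Finset.sum_congr rfl fun n _ => ?_
          rw [Pi.mul_apply, apply_mul_of_ker N hγ hk n.2 g, map_mul]
          ring
      _ = (Nat.card N : ℂ)⁻¹ * ∑ n : N, ∑ g : G, ψ g * conj ((γ * χ) g) := by
          congr 1
          refine Finset.sum_congr rfl fun n _ => ?_
          exact Fintype.sum_equiv (Equiv.mulLeft (n : G)) _ _ fun g => rfl
      _ = ∑ g : G, ψ g * conj ((γ * χ) g) := by
          rw [Finset.sum_const, Finset.card_univ, nsmul_eq_mul, ← Nat.card_eq_fintype_card,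
            ← mul_assoc, inv_mul_cancel₀ hNne, one_mul]
  -- main claim
  have main : ∀ β : G → ℂ, Cfsg.IsIrrCharacter G β → (∀ n ∈ N, β n = β 1) → β * χ = ψ → η = β := by
    intro β hβ hβk hβψ
    have hβc := IsIrrCharacter.isCharacter hβ
    have hβcl := IsCharacter.isClassFunction hβc
    have hzero : η - β = 0 := by
      apply eq_zero_of_classInner_irr_eq_zero (isClassFunction_sub hηcl hβcl)
      intro γ hγ
      rw [classInner_sub_left]
      rcases ker_or_sum_eq_zero N hγ with hk | hs
      · rw [hin γ (IsIrrCharacter.isCharacter hγ) hk, ← hβψ]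
        have i1 := (hgal.mapsTo (⟨hβ, hβk⟩ : β ∈ {β : G → ℂ | Cfsg.IsIrrCharacter G β ∧
          ∀ n ∈ N, β n = β 1})).1
        have i2 := (hgal.mapsTo (⟨hγ, hk⟩ : γ ∈ {β : G → ℂ | Cfsg.IsIrrCharacter G β ∧
          ∀ n ∈ N, β n = β 1})).1
        rw [classInner_irr i1 i2, classInner_irr hβ hγ]
        by_cases hbg : β = γ
        · rw [if_pos hbg, if_pos (by rw [hbg]), sub_self]
        · rw [if_neg hbg, if_neg, sub_self]
          intro h
          exact hbg (hgal.injOn ⟨hβ, hβk⟩ ⟨hγ, hk⟩ h)
      · rw [classInner_eq_zero_of_coset_const N hηco (IsIrrCharacter.isCharacter hγ) hs,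
          classInner_eq_zero_of_coset_const N (F := β) (by
            intro m hm g
            have h1 : g * m = (g * m * g⁻¹) * g := by group
            rw [h1]
            exact apply_mul_of_ker N hβc hβk (hN.conj_mem m hm g) g)
            (IsIrrCharacter.isCharacter hγ) hs, sub_self]
    exact sub_eq_zero.mp hzero
  refine ⟨?_, ?_, ?_⟩
  · intro hne
    obtain ⟨β, ⟨hβ, hβk⟩, hβψ⟩ := hgal.surjOn (⟨hψ, hne⟩ : ψ ∈ {ψ : G → ℂ |
      Cfsg.IsIrrCharacter G ψ ∧ Cfsg.classInner (fun n : N => ψ n) (fun n : N => χ n) ≠ 0})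
    rw [main β hβ hβk hβψ]
    exact hβ
  · intro h0
    apply eq_zero_of_classInner_irr_eq_zero hηcl
    intro γ hγ
    rcases ker_or_sum_eq_zero N hγ with hk | hs
    · rw [hin γ (IsIrrCharacter.isCharacter hγ) hk]
      have i2 := hgal.mapsTo (⟨hγ, hk⟩ : γ ∈ {β : G → ℂ | Cfsg.IsIrrCharacter G β ∧
          ∀ n ∈ N, β n = β 1})
      rw [classInner_irr hψ i2.1, if_neg]
      intro h
      apply i2.2
      rw [← h]
      exact h0
    · exact classInner_eq_zero_of_coset_const N hηco (IsIrrCharacter.isCharacter hγ) hs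
  · intro h
    apply main _ isIrrCharacter_one (fun _ _ => rfl)
    rw [h]
    funext g
    simp

end Cfsg.Agent.S0868
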