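import Cfsg.Statements.S0261
import Cfsg.Agent.Lib.Helper13.SL2Quat

set_option autoImplicit false
open Cfsg

namespace Cfsg.Agent.S0261

open Cfsg.Agent.Lib.Helper13

/-- For q odd, the Sylow 2-subgroups of SL_2(q) are generalised quaternion. -/
theorem result {F : Type*} [Field F] [Fintype F] (hF : Odd (Fintype.card F)) (P : Sylow 2 (Matrix.SpecialLinearGroup (Fin 2) F)) : ∃ k : ℕ, 1 ≤ k ∧ Nonempty ((P : Subgroup (Matrix.SpecialLinearGroup (Fin 2) F)) ≃* QuaternionGroup (2 ^ k)) := by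
  classical
  have : Fact (Nat.Prime 2) := ⟨Nat.prime_two⟩
  have h2 : (2 : F) ≠ 0 := two_ne_zero_of_odd hF
  rcases cyclic_or_quaternion_of_embeds_SL2 h2 P.2
    (P : Subgroup (Matrix.SpecialLinearGroup (Fin 2) F)).subtype Subtype.val_injective with
    hc | ⟨m, hm⟩
  · exfalso
    obtain ⟨Q, hQ, i, hi, j, hj, hij⟩ := exists_nonabelian_two_subgroup hF
    obtain ⟨P', hP'⟩ := hQ.exists_le_sylow
    obtain ⟨g, hg⟩ := MulAction.exists_smul_eq (Matrix.SpecialLinearGroup (Fin 2) F) P' P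
    have hmem : ∀ x ∈ Q, g * x * g⁻¹ ∈ (P : Subgroup (Matrix.SpecialLinearGroup (Fin 2) F)) := by
      intro x hx
      rw [← hg, Sylow.coe_subgroup_smul]
      exact Subgroup.smul_mem_pointwise_smul x (MulAut.conj g) _ (hP' hx)
    have hcomm := hc.isMulCommutative
    have h1 : (⟨g * i * g⁻¹, hmem i hi⟩ : (P : Subgroup (Matrix.SpecialLinearGroup (Fin 2) F))) *
        ⟨g * j * g⁻¹, hmem j hj⟩ = ⟨g * j * g⁻¹, hmem j hj⟩ * ⟨g * i * g⁻¹, hmem i hi⟩ :=
      hcomm.is_comm.comm _ _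
    have h3 := congrArg Subtype.val h1
    simp only [Subgroup.coe_mul] at h3
    apply hij
    have h4 : g * (i * j) * g⁻¹ = g * (j * i) * g⁻¹ := by
      calc g * (i * j) * g⁻¹ = g * i * g⁻¹ * (g * j * g⁻¹) := by group
        _ = g * j * g⁻¹ * (g * i * g⁻¹) := h3
        _ = _ := by group
    exact mul_left_cancel (mul_right_cancel h4)
  · exact ⟨m + 1, by omega, hm⟩

end Cfsg.Agent.S0261
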