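import Cfsg.Statements.S3836
import Mathlib
import Cfsg.Agent.Lib.Helper1.Cores

set_option autoImplicit false
open Cfsg

namespace Cfsg.Agent.S3836




/-- Let G be a finite group that is p-stable in the normalizer form: for every p-subgroup Q and every x ∈ N_G(Q) with [Q, x, x] = 1, the image of x in N_G(Q)/C_G(Q) lies in O_p(N_G(Q)/C_G(Q)). Then every subgroup of G is p-stable in the same sense. -/
theorem result {G : Type*} [Group G] [Finite G] {p : ℕ} [Fact p.Prime] (hst : Cfsg.IsNormalizerPStable p G) (H : Subgroup G) : Cfsg.IsNormalizerPStable p ↥H := by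
  classical
  intro P hP g hg hquad
  set P' : Subgroup G := P.map H.subtype with hP'
  have hP'p : IsPGroup p P' := hP.map _
  have hmemP' : ∀ x : H, (x : G) ∈ P' ↔ x ∈ P := by
    intro x
    constructor
    · rintro ⟨y, hy, hyx⟩
      have : y = x := Subtype.ext hyx
      rw [← this]; exact hy
    · intro hx
      exact ⟨x, hx, rfl⟩
  have hnorm : ∀ x : H, x ∈ Subgroup.normalizer (P : Set H) → (x : G) ∈ Subgroup.normalizer (P' : Set G) := by
    intro x hx
    rw [Subgroup.mem_normalizer_iff] at hx ⊢
    intro y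
    constructor
    · rintro ⟨z, hz, rfl⟩
      have := (hx z).1 hz
      exact ⟨x * z * x⁻¹, this, rfl⟩
    · rintro ⟨z, hz, hzy⟩
      have h1 : y = (x⁻¹ * z * x : H) := by
        have : (x : G) * y * (x : G)⁻¹ = z := hzy.symm
        have h2 : y = (x : G)⁻¹ * ((x : G) * y * (x : G)⁻¹) * x := by group
        rw [h2, this]; rfl
      rw [h1, hmemP']
      apply (hx _).2
      have : x * (x⁻¹ * z * x) * x⁻¹ = z := by group
      rw [this]; exact hz
  have hg' : (g : G) ∈ Subgroup.normalizer (P' : Set G) := hnorm g hg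
  have hquad' : ⁅⁅P', Subgroup.zpowers (g : G)⁆, Subgroup.zpowers (g : G)⁆ = ⊥ := by
    have h1 : Subgroup.zpowers (g : G) = (Subgroup.zpowers g).map H.subtype := by
      rw [MonoidHom.map_zpowers]; rfl
    rw [h1, hP', ← Subgroup.map_commutator, ← Subgroup.map_commutator, hquad, Subgroup.map_bot]
  have key := hst P' hP'p g hg' hquad'
  let φ : ↥(Subgroup.normalizer (P : Set H)) →* ↥(Subgroup.normalizer (P' : Set G)) :=
    { toFun := fun x => ⟨(x : H), hnorm x x.2⟩
      map_one' := rfl
      map_mul' := fun _ _ => rfl }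
  have hcent : ∀ x : ↥(Subgroup.normalizer (P : Set H)),
      x ∈ (Subgroup.centralizer (P : Set H)).subgroupOf (Subgroup.normalizer (P : Set H)) ↔
      φ x ∈ (Subgroup.centralizer (P' : Set G)).subgroupOf (Subgroup.normalizer (P' : Set G)) := by
    intro x
    rw [Subgroup.mem_subgroupOf, Subgroup.mem_subgroupOf, Subgroup.mem_centralizer_iff, Subgroup.mem_centralizer_iff]
    constructor
    · rintro h _ ⟨z, hz, rfl⟩
      exact congrArg Subtype.val (h z hz)
    · intro h z hz
      exact Subtype.ext (h z ⟨z, hz, rfl⟩)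
  let ψ := QuotientGroup.map ((Subgroup.centralizer (P : Set H)).subgroupOf (Subgroup.normalizer (P : Set H)))
    ((Subgroup.centralizer (P' : Set G)).subgroupOf (Subgroup.normalizer (P' : Set G))) φ
    (fun x hx => (hcent x).1 hx)
  have hψinj : Function.Injective ψ := by
    rw [injective_iff_map_eq_one]
    intro a ha
    obtain ⟨a, rfl⟩ := QuotientGroup.mk_surjective a
    rw [QuotientGroup.eq_one_iff]
    have h1 : ψ (QuotientGroup.mk a) = QuotientGroup.mk (φ a) := rfl
    rw [h1, QuotientGroup.eq_one_iff] at ha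
    exact (hcent a).2 ha
  have hK1 : ((Cfsg.pCore p _).comap ψ).Normal :=
    Subgroup.Normal.comap (Cfsg.Agent.Lib.Helper1.pCore_normal p) ψ
  have hK2 : IsPGroup p ((Cfsg.pCore p _).comap ψ) :=
    (Cfsg.Agent.Lib.Helper1.pCore_isPGroup p).comap_of_injective ψ hψinj
  apply Cfsg.Agent.Lib.Helper1.le_pCore hK1 hK2
  rw [Subgroup.mem_comap]
  exact key

end Cfsg.Agent.S3836
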