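import Mathlib
import Cfsg.Statements.S0044

set_option autoImplicit false
open Cfsg

namespace Cfsg.Agent.S0044

theorem nilpotent_of_comm3 {G : Type*} [Group G] (D : Subgroup G) (h : ⁅⁅D, D⁆, D⁆ = ⊥) :
    Group.IsNilpotent D := by
  rw [Subgroup.nilpotent_iff_lowerCentralSeries]
  refine ⟨2, ?_⟩
  have hinj : Function.Injective (Subgroup.map D.subtype) :=
    Subgroup.map_injective D.subtype_injective
  apply hinj
  rw [Subgroup.map_bot]
  have h0 : Subgroup.map D.subtype (⊤ : Subgroup D) = D := by
    rw [← MonoidHom.range_eq_map, Subgroup.range_subtype]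
  show Subgroup.map D.subtype ⁅⁅(⊤ : Subgroup D), ⊤⁆, ⊤⁆ = ⊥
  rw [Subgroup.map_commutator, Subgroup.map_commutator, h0, h]

/-- iterated commutator series starting from `C` -/
def dser {G : Type*} [Group G] (C : Subgroup G) : ℕ → Subgroup G
  | 0 => C
  | n+1 => ⁅dser C n, dser C n⁆

/-- In a finite solvable group, the centraliser of the Fitting subgroup is contained in the Fitting subgroup. -/
theorem result {G : Type*} [Group G] [Finite G] [Group.IsSolvable G] :
    Subgroup.centralizer (Cfsg.fittingSubgroup G : Set G) ≤ Cfsg.fittingSubgroup G := by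
  set F := Cfsg.fittingSubgroup G with hF
  set C := Subgroup.centralizer (F : Set G) with hC
  have hFn : F.Normal := by
    rw [hF, Cfsg.fittingSubgroup]
    exact Subgroup.sSup_normal _ (fun H hH => hH.1)
  have hCn : C.Normal := by rw [hC]; infer_instance
  let D : ℕ → Subgroup G := dser C
  have hD0 : D 0 = C := rfl
  have hDs : ∀ n, D (n+1) = ⁅D n, D n⁆ := fun n => rfl
  have hDn : ∀ n, (D n).Normal := by
    intro n
    induction n with
    | zero => exact hCn
    | succ n ih => rw [hDs]; exact Subgroup.commutator_normal (D n) (D n)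
  have hDC : ∀ n, D n ≤ C := by
    intro n
    induction n with
    | zero => exact le_rfl
    | succ n ih =>
      rw [hDs]
      have := hDn n
      exact (Subgroup.commutator_le_left _ _).trans ih
  have hDder : ∀ n, D n ≤ derivedSeries G n := by
    intro n
    induction n with
    | zero => simp
    | succ n ih => rw [hDs, derivedSeries_succ]; exact Subgroup.commutator_mono ih ih
  have step : ∀ n, D (n+1) ≤ F → D n ≤ F := by
    intro n h
    have h3 : ⁅⁅D n, D n⁆, D n⁆ = ⊥ := by
      rw [Subgroup.commutator_eq_bot_iff_le_centralizer]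
      rw [← hDs]
      intro x hx
      rw [Subgroup.mem_centralizer_iff]
      intro y hy
      have hyC : y ∈ C := hDC n hy
      rw [hC, Subgroup.mem_centralizer_iff] at hyC
      exact (hyC x (h hx)).symm
    have hnil := nilpotent_of_comm3 (D n) h3
    rw [hF, Cfsg.fittingSubgroup]
    exact le_sSup ⟨hDn n, hnil⟩
  obtain ⟨n, hn⟩ := (Group.isSolvable_def G).mp inferInstance
  have hall : ∀ k, k ≤ n → D (n - k) ≤ F := by
    intro k
    induction k with
    | zero =>
      intro _
      have := hDder n
      rw [hn] at this
      simpa using this.trans bot_le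
    | succ k ih =>
      intro hk
      apply step
      have : n - (k+1) + 1 = n - k := by omega
      rw [this]
      exact ih (by omega)
  have := hall n le_rfl
  simpa [hD0] using this

end Cfsg.Agent.S0044
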