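import Mathlib
import Cfsg.Statements.S0061
import Cfsg.Agent.Lib.Lead.Basic

set_option autoImplicit false
open Cfsg

namespace Cfsg.Agent.S0061

open Cfsg.Agent.Lib.Lead

universe u

theorem simple_case {p q a : ℕ} (hp : p.Prime) (hq : q.Prime) (hpq : p ≠ q) (ha : 0 < a)
    (G : Type*) [Group G] [Finite G] (hG : Nat.card G = p ^ a * q) :
    ∃ K : Subgroup G, K.Normal ∧ K ≠ ⊥ ∧ K ≠ ⊤ := by
  classical
  have : Fact p.Prime := ⟨hp⟩
  have : Fact q.Prime := ⟨hq⟩
  have hcop : Nat.Coprime (p ^ a) q := Nat.Coprime.pow_left a ((Nat.coprime_primes hp hq).mpr hpq)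
  have hfac : (p ^ a * q).factorization p = a := by
    rw [Nat.factorization_mul (pow_ne_zero _ hp.ne_zero) hq.ne_zero, Nat.factorization_pow]
    simp [hp.factorization_self, Nat.factorization_eq_zero_of_not_dvd
      (fun h => hpq ((Nat.prime_dvd_prime_iff_eq hp hq).mp h))]
  have hSc : ∀ S : Sylow p G, Nat.card S = p ^ a := by
    intro S
    rw [Sylow.card_eq_multiplicity, hG, hfac]
  have hSi : ∀ S : Sylow p G, (S : Subgroup G).index = q := by
    intro S
    have h1 := (S : Subgroup G).card_mul_index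
    rw [hG] at h1
    have h2 : Nat.card (S : Subgroup G) = p ^ a := hSc S
    rw [h2] at h1
    exact Nat.eq_of_mul_eq_mul_left (pow_pos hp.pos a) h1
  have hSbot : ∀ S : Sylow p G, (S : Subgroup G) ≠ ⊥ := by
    intro S h
    have h2 : Nat.card (S : Subgroup G) = p ^ a := hSc S
    rw [h, Subgroup.card_bot] at h2
    have : 1 < p ^ a := Nat.one_lt_pow ha.ne' hp.one_lt
    omega
  have hStop : ∀ S : Sylow p G, (S : Subgroup G) ≠ ⊤ := by
    intro S h
    have h2 := hSi S
    rw [h, Subgroup.index_top] at h2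
    exact hq.one_lt.ne h2
  obtain ⟨S₀⟩ : Nonempty (Sylow p G) := inferInstance
  by_cases h1 : Nat.card (Sylow p G) = 1
  · have : Subsingleton (Sylow p G) := (Nat.card_eq_one_iff_unique.mp h1).1
    exact ⟨S₀, Sylow.normal_of_subsingleton S₀, hSbot S₀, hStop S₀⟩
  have hnp : Nat.card (Sylow p G) = q := by
    have := S₀.card_dvd_index
    rw [hSi] at this
    exact ((Nat.dvd_prime hq).mp this).resolve_left h1
  -- a pair of distinct Sylow subgroups with maximal intersection
  have hne : Nonempty {PQ : Sylow p G × Sylow p G // PQ.1 ≠ PQ.2} := by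
    have : Nontrivial (Sylow p G) := by
      rw [← Finite.one_lt_card_iff_nontrivial, hnp]; exact hq.one_lt
    obtain ⟨x, y, hxy⟩ := exists_pair_ne (Sylow p G)
    exact ⟨⟨(x, y), hxy⟩⟩
  obtain ⟨⟨⟨S, T⟩, hST⟩, hmax⟩ := Finite.exists_max
    (fun PQ : {PQ : Sylow p G × Sylow p G // PQ.1 ≠ PQ.2} =>
      Nat.card ((PQ.1.1 : Subgroup G) ⊓ (PQ.1.2 : Subgroup G) : Subgroup G))
  simp only at hmax hST
  set D : Subgroup G := (S : Subgroup G) ⊓ (T : Subgroup G) with hD
  by_cases hD1 : D = ⊥
  · -- TI case: p ^ a ≤ q, so the Sylow q-subgroup is normal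
    have hinj : Function.Injective (fun s : S => ((s : G) • T : Sylow p G)) := by
      intro s s' hss
      simp only at hss
      have h2 : ((s' : G)⁻¹ * (s : G)) • T = T := by
        rw [mul_smul, hss, inv_smul_smul]
      rw [Sylow.smul_eq_iff_mem_normalizer] at h2
      have h3 := Subgroup.mem_inf.mpr ⟨(S : Subgroup G).mul_mem ((S : Subgroup G).inv_mem s'.2) s.2, h2⟩
      rw [IsPGroup.inf_normalizer_sylow S.2 T, ← hD, hD1, Subgroup.mem_bot] at h3
      apply Subtype.ext
      calc (s : G) = s' * ((s' : G)⁻¹ * s) := by group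
        _ = s' := by rw [h3, mul_one]
    have hle : p ^ a ≤ q := by
      rw [← hSc S, ← hnp]
      exact Nat.card_le_card_of_injective _ hinj
    have hlt : p ^ a < q := by
      rcases Nat.lt_or_ge (p ^ a) q with h | h
      · exact h
      · exfalso
        have heq : p ^ a = q := le_antisymm hle h
        have : p ∣ q := heq ▸ dvd_pow_self p ha.ne'
        exact hpq ((Nat.prime_dvd_prime_iff_eq hp hq).mp this)
    obtain ⟨Q⟩ : Nonempty (Sylow q G) := inferInstance
    have hfacq : (p ^ a * q).factorization q = 1 := by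
      rw [Nat.factorization_mul (pow_ne_zero _ hp.ne_zero) hq.ne_zero, Nat.factorization_pow]
      simp [hq.factorization_self, Nat.factorization_eq_zero_of_not_dvd
        (fun h => hpq ((Nat.prime_dvd_prime_iff_eq hq hp).mp h).symm)]
    have hQc : Nat.card (Q : Subgroup G) = q := by
      have := Sylow.card_eq_multiplicity Q
      rw [hG, hfacq, pow_one] at this
      exact this
    have hQi : (Q : Subgroup G).index = p ^ a := by
      have h1 := (Q : Subgroup G).card_mul_index
      rw [hG, hQc, mul_comm] at h1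
      exact Nat.eq_of_mul_eq_mul_right hq.pos h1
    have hnq1 : Nat.card (Sylow q G) ≤ p ^ a := by
      have := Q.card_dvd_index
      rw [hQi] at this
      exact Nat.le_of_dvd (pow_pos hp.pos a) this
    have hnq2 : Nat.card (Sylow q G) ≡ 1 [MOD q] := card_sylow_modEq_one q G
    have hnq : Nat.card (Sylow q G) = 1 := by
      have h3 : Nat.card (Sylow q G) < q := lt_of_le_of_lt hnq1 hlt
      have h4 := hnq2
      unfold Nat.ModEq at h4
      rw [Nat.mod_eq_of_lt h3, Nat.mod_eq_of_lt hq.one_lt] at h4
      exact h4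
    have : Subsingleton (Sylow q G) := (Nat.card_eq_one_iff_unique.mp hnq).1
    refine ⟨Q, Sylow.normal_of_subsingleton Q, ?_, ?_⟩
    · intro h
      rw [h, Subgroup.card_bot] at hQc
      exact hq.one_lt.ne hQc
    · intro h
      rw [h, Subgroup.index_top] at hQi
      have : 1 < p ^ a := Nat.one_lt_pow ha.ne' hp.one_lt
      omega
  · -- D ≠ 1
    set N : Subgroup G := Subgroup.normalizer (D : Set G) with hN
    have hDS : D < (S : Subgroup G) := by
      refine lt_of_le_of_ne inf_le_left ?_
      intro h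
      have h2 : (S : Subgroup G) ≤ T := h ▸ inf_le_right
      apply hST
      exact Sylow.ext (Subgroup.eq_of_le_of_card_ge h2 (by
        show Nat.card T ≤ Nat.card S
        rw [hSc, hSc]))
    have hDT : D < (T : Subgroup G) := by
      refine lt_of_le_of_ne inf_le_right ?_
      intro h
      have h2 : (T : Subgroup G) ≤ S := h ▸ inf_le_left
      apply hST
      exact (Sylow.ext (Subgroup.eq_of_le_of_card_ge h2 (by
        show Nat.card S ≤ Nat.card T
        rw [hSc, hSc]))).symm
    have hqN : q ∣ Nat.card N := by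
      by_contra hndvd
      have hNd : Nat.card N ∣ p ^ a * q := hG ▸ Subgroup.card_subgroup_dvd_card N
      have hNd' : Nat.card N ∣ p ^ a :=
        (Nat.Coprime.dvd_mul_right ((Nat.Prime.coprime_iff_not_dvd hq).mpr hndvd).symm).mp hNd
      obtain ⟨k, -, hk⟩ := (Nat.dvd_prime_pow hp).mp hNd'
      have hNp : IsPGroup p N := IsPGroup.of_card hk
      obtain ⟨R, hR⟩ := hNp.exists_le_sylow
      have hRS : R = S := by
        by_contra hne'
        have h3 := hmax ⟨(R, S), hne'⟩
        simp only at h3
        obtain ⟨x, hxS, hxN, hxD⟩ := exists_mem_normalizer_not_mem (S : Subgroup G) D S.2 hDS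
        have h4 : D < (R : Subgroup G) ⊓ (S : Subgroup G) := by
          refine lt_of_le_of_ne (le_inf ((Subgroup.le_normalizer).trans hR) inf_le_left) ?_
          intro h
          exact hxD (h ▸ Subgroup.mem_inf.mpr ⟨hR hxN, hxS⟩)
        have h5 : Nat.card D < Nat.card ((R : Subgroup G) ⊓ (S : Subgroup G) : Subgroup G) := by
          by_contra hcon
          exact h4.ne (Subgroup.eq_of_le_of_card_ge h4.le (not_lt.mp hcon))
        omega
      have hRT : R = T := by
        by_contra hne'
        have h3 := hmax ⟨(R, T), hne'⟩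
        simp only at h3
        obtain ⟨x, hxS, hxN, hxD⟩ := exists_mem_normalizer_not_mem (T : Subgroup G) D T.2 hDT
        have h4 : D < (R : Subgroup G) ⊓ (T : Subgroup G) := by
          refine lt_of_le_of_ne (le_inf ((Subgroup.le_normalizer).trans hR) inf_le_right) ?_
          intro h
          exact hxD (h ▸ Subgroup.mem_inf.mpr ⟨hR hxN, hxS⟩)
        have h5 : Nat.card D < Nat.card ((R : Subgroup G) ⊓ (T : Subgroup G) : Subgroup G) := by
          by_contra hcon
          exact h4.ne (Subgroup.eq_of_le_of_card_ge h4.le (not_lt.mp hcon))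
        omega
      exact hST (hRS.symm.trans hRT)
    obtain ⟨u, hu⟩ := exists_prime_orderOf_dvd_card' (G := N) q hqN
    let Q : Subgroup G := Subgroup.zpowers (u : G)
    have hQc : Nat.card Q = q := by
      rw [Nat.card_zpowers, Subgroup.orderOf_coe, hu]
    have hQN : Q ≤ N := by
      rw [Subgroup.zpowers_le]; exact u.2
    have hcompl : Subgroup.IsComplement' Q (S : Subgroup G) := by
      apply Subgroup.isComplement'_of_coprime
      · rw [hQc, hG, mul_comm]; congr 1; exact hSc S
      · rw [hQc]
        have : Nat.card (S : Subgroup G) = p ^ a := hSc S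
        rw [this]; exact hcop.symm
    have hcore : D ≤ (S : Subgroup G).normalCore := by
      intro d hd g
      obtain ⟨⟨⟨v, hv⟩, ⟨s, hs⟩⟩, hvs⟩ := hcompl.2 g⁻¹
      simp only at hvs
      -- g⁻¹ = v * s, so g = s⁻¹ v⁻¹
      have hg : g = s⁻¹ * v⁻¹ := by
        rw [← mul_inv_rev, hvs, inv_inv]
      have hvd : v⁻¹ * d * v ∈ D := by
        have hvN : v⁻¹ ∈ N := N.inv_mem (hQN hv)
        have := (Subgroup.mem_normalizer_iff.mp hvN d).mp hd
        simpa using this
      have : g * d * g⁻¹ = s⁻¹ * (v⁻¹ * d * v) * s := by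
        rw [hg]; group
      rw [this]
      exact (S : Subgroup G).mul_mem ((S : Subgroup G).mul_mem ((S : Subgroup G).inv_mem hs)
        (Subgroup.mem_inf.mp hvd).1) hs
    refine ⟨(S : Subgroup G).normalCore, Subgroup.normalCore_normal _, ?_, ?_⟩
    · intro h
      apply hD1
      rw [eq_bot_iff, ← h]; exact hcore
    · intro h
      apply hStop S
      rw [eq_top_iff, ← h]; exact Subgroup.normalCore_le _

theorem main {p q : ℕ} (hp : p.Prime) (hq : q.Prime) : ∀ n : ℕ, ∀ (G : Type u) [Group G] [Finite G],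
    Nat.card G = n → (∃ m, n ∣ p ^ m * q) → Group.IsSolvable G := by
  intro n
  induction n using Nat.strong_induction_on with
  | _ n ih =>
    intro G _ _ hn hm
    obtain ⟨m, hm⟩ := hm
    have : Fact p.Prime := ⟨hp⟩
    have : Fact q.Prime := ⟨hq⟩
    by_cases hpq : p = q
    · subst hpq
      rw [← pow_succ] at hm
      obtain ⟨k, -, hk⟩ := (Nat.dvd_prime_pow hp).mp hm
      exact isSolvable_of_isPGroup (IsPGroup.of_card (hn.trans hk))
    obtain ⟨k1, k2, hk1, hk2, hk⟩ := (Nat.dvd_mul).mp hm
    obtain ⟨a, -, rfl⟩ := (Nat.dvd_prime_pow hp).mp hk1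
    rcases (Nat.dvd_prime hq).mp hk2 with rfl | rfl
    · rw [mul_one] at hk
      exact isSolvable_of_isPGroup (IsPGroup.of_card (hn.trans hk.symm))
    · by_cases ha : a = 0
      · subst ha
        rw [pow_zero, one_mul] at hk
        exact isSolvable_of_isPGroup (p := k2) (IsPGroup.of_card (n := 1) (by rw [pow_one, hn, hk]))
      · obtain ⟨K, hKn, hKb, hKt⟩ := simple_case hp hq hpq (Nat.pos_of_ne_zero ha) G (hn.trans hk.symm)
        have h1 : Group.IsSolvable K :=
          ih _ (hn ▸ card_lt_of_ne_top K hKt) K rfl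
            ⟨m, (Subgroup.card_subgroup_dvd_card K).trans (hn ▸ hm)⟩
        have h2 : Group.IsSolvable (G ⧸ K) :=
          ih _ (hn ▸ card_quotient_lt_of_ne_bot K hKb) (G ⧸ K) rfl
            ⟨m, (show Nat.card (G ⧸ K) ∣ Nat.card G by
              rw [← Subgroup.index_eq_card]; exact K.index_dvd_card).trans (hn ▸ hm)⟩
        exact isSolvable_of_normal K h1 h2

/-- A finite group whose order is a prime power times a prime is solvable. -/
theorem result {G : Type*} [Group G] [Finite G] (p q m : ℕ) (hp : p.Prime) (hq : q.Prime)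
    (hG : Nat.card G = p ^ m * q) : Group.IsSolvable G := by
  exact main hp hq _ G rfl ⟨m, hG ▸ dvd_rfl⟩

end Cfsg.Agent.S0061
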