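import Cfsg.Statements.S0112
import Mathlib
import Cfsg.Agent.Lib.Helper23.MaxClass

set_option autoImplicit false
open Cfsg

namespace Cfsg.Agent.S0112

open Cfsg.Agent.Lib.Helper23

universe u

theorem card_comap_mk {G : Type*} [Group G] [Finite G] (M : Subgroup G) [M.Normal]
    (H : Subgroup (G ⧸ M)) :
    Nat.card (H.comap (QuotientGroup.mk' M)) = Nat.card M * Nat.card H := by
  have h1 := (H.comap (QuotientGroup.mk' M)).card_mul_index
  rw [Subgroup.index_comap_of_surjective _ (QuotientGroup.mk'_surjective M)] at h1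
  have h2 := H.card_mul_index
  have h3 := M.card_mul_index
  rw [Subgroup.index_eq_card] at h3
  have h4 : 0 < H.index := Nat.pos_of_ne_zero Subgroup.index_ne_zero_of_finite
  apply Nat.eq_of_mul_eq_mul_right h4
  rw [h1, mul_assoc, h2, h3]

/-- `x ↦ [x, a]` on the subgroup `D` of elements whose commutator with `a` is central. -/
def psi {X : Type*} [Group X] (a : X) (D : Subgroup X)
    (hD : ∀ x ∈ D, x * a * x⁻¹ * a⁻¹ ∈ Subgroup.center X) : D →* Subgroup.center X where
  toFun g := ⟨g * a * (g : X)⁻¹ * a⁻¹, hD g g.2⟩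
  map_one' := by ext; simp
  map_mul' g h := by
    ext
    simp only [Subgroup.coe_mul]
    have h1 := Subgroup.mem_center_iff.mp (hD h h.2)
    calc (g : X) * h * a * ((g : X) * h)⁻¹ * a⁻¹
        = g * (h * a * (h : X)⁻¹ * a⁻¹) * (a * (g : X)⁻¹ * a⁻¹) := by group
      _ = (h * a * (h : X)⁻¹ * a⁻¹) * g * (a * (g : X)⁻¹ * a⁻¹) := by rw [h1 g]
      _ = (h * a * (h : X)⁻¹ * a⁻¹) * (g * a * (g : X)⁻¹ * a⁻¹) := by group
      _ = g * a * (g : X)⁻¹ * a⁻¹ * (h * a * (h : X)⁻¹ * a⁻¹) := (h1 _).symm

theorem step {X : Type*} [Group X] [Finite X] {p : ℕ} [hp : Fact p.Prime] (n : ℕ) (hn : 3 ≤ n)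
    (hX : Nat.card X = p ^ n) (A : Subgroup X) (hA : Nat.card A = p ^ 2)
    (hC : Subgroup.centralizer (A : Set X) = A) :
    Nat.card (X ⧸ Subgroup.center X) = p ^ (n - 1) ∧
    ∃ B : Subgroup (X ⧸ Subgroup.center X), Nat.card B = p ^ 2 ∧
      Subgroup.centralizer (B : Set (X ⧸ Subgroup.center X)) = B := by
  have hpp := hp.out
  have hZA : Subgroup.center X ≤ A := by
    conv_rhs => rw [← hC]
    exact Subgroup.center_le_centralizer _
  obtain ⟨k, hk1, hkn, hkc, hkq⟩ := card_center_quotient hX (by omega)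
  have hk2 : k ≤ 2 := by
    have := Subgroup.card_dvd_of_le hZA
    rw [hkc, hA] at this
    exact (Nat.pow_dvd_pow_iff_le_right hpp.one_lt).mp this
  have hk : k = 1 := by
    by_contra hcon
    have hk' : k = 2 := by omega
    have h1 : Subgroup.center X = A := Subgroup.eq_of_le_of_card_ge hZA (by rw [hkc, hA, hk'])
    have h2 : A = ⊤ := by
      rw [← hC, ← h1, Subgroup.centralizer_eq_top_iff_subset]
    rw [h2, Subgroup.card_top, hX] at hA
    have := Nat.pow_right_injective hpp.two_le hA
    omega
  subst hk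
  rw [pow_one] at hkc
  refine ⟨hkq, ?_⟩
  obtain ⟨a, haA, haZ⟩ : ∃ a ∈ A, a ∉ Subgroup.center X := by
    by_contra hcon
    push Not at hcon
    have h1 : A ≤ Subgroup.center X := hcon
    have := Subgroup.card_dvd_of_le h1
    rw [hkc, hA] at this
    have h3 := Nat.le_of_dvd hpp.pos this
    have : p < p ^ 2 := by nlinarith [hpp.one_lt]
    omega
  have hAcomm : ∀ x ∈ A, ∀ y ∈ A, x * y = y * x := by
    intro x hx y hy
    have : x ∈ Subgroup.centralizer (A : Set X) := by rw [hC]; exact hx
    exact (Subgroup.mem_centralizer_iff.mp this y hy).symm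
  have hCa : Subgroup.centralizer ({a} : Set X) = A := by
    apply le_antisymm
    · intro g hg
      have hga := Subgroup.mem_centralizer_singleton_iff.mp hg
      set K : Subgroup X := A ⊓ Subgroup.centralizer ({g} : Set X) with hK
      have hZK : Subgroup.center X ≤ K := le_inf hZA (Subgroup.center_le_centralizer _)
      have haK : a ∈ K := ⟨haA, Subgroup.mem_centralizer_singleton_iff.mpr hga.symm⟩
      have hKd : Nat.card K ∣ p ^ 2 := hA ▸ Subgroup.card_dvd_of_le inf_le_left
      obtain ⟨i, hi, hi'⟩ := (Nat.dvd_prime_pow hpp).mp hKd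
      have hi2 : i = 2 := by
        by_contra hcon
        have hi1 : i ≤ 1 := by omega
        have h1 : Nat.card K ≤ p := by
          rw [hi']
          calc p ^ i ≤ p ^ 1 := Nat.pow_le_pow_right hpp.pos hi1
            _ = p := pow_one p
        have h2 : Subgroup.center X = K := Subgroup.eq_of_le_of_card_ge hZK (by rw [hkc]; exact h1)
        exact haZ (h2 ▸ haK)
      have hKA : K = A := Subgroup.eq_of_le_of_card_ge inf_le_left (by rw [hi', hi2, hA])
      rw [← hC]
      apply Subgroup.mem_centralizer_iff.mpr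
      intro y hy
      have : y ∈ K := by rw [hKA]; exact hy
      exact Subgroup.mem_centralizer_singleton_iff.mp this.2
    · intro g hg
      exact Subgroup.mem_centralizer_singleton_iff.mpr (hAcomm g hg a haA)
  set ab : X ⧸ Subgroup.center X := QuotientGroup.mk a with hab
  have hab1 : ab ≠ 1 := by
    rw [Ne, hab, QuotientGroup.eq_one_iff]; exact haZ
  set B : Subgroup (X ⧸ Subgroup.center X) := Subgroup.centralizer ({ab} : Set _) with hB
  set D : Subgroup X := B.comap (QuotientGroup.mk' (Subgroup.center X)) with hD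
  have hDmem : ∀ x ∈ D, x * a * x⁻¹ * a⁻¹ ∈ Subgroup.center X := by
    intro x hx
    rw [hD, Subgroup.mem_comap, hB, Subgroup.mem_centralizer_singleton_iff] at hx
    rw [← QuotientGroup.eq_one_iff, QuotientGroup.mk_mul, QuotientGroup.mk_mul,
      QuotientGroup.mk_mul, QuotientGroup.mk_inv, QuotientGroup.mk_inv]
    change (QuotientGroup.mk x : X ⧸ Subgroup.center X) * ab = ab * QuotientGroup.mk x at hx
    rw [← hab, hx]
    group
  have hcardD : Nat.card D = p * Nat.card B := by rw [hD, card_comap_mk, hkc]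
  have hAD : A ≤ D := by
    intro x hx
    rw [hD, Subgroup.mem_comap, hB, Subgroup.mem_centralizer_singleton_iff]
    change (QuotientGroup.mk x : X ⧸ Subgroup.center X) * QuotientGroup.mk a =
      QuotientGroup.mk a * QuotientGroup.mk x
    rw [← QuotientGroup.mk_mul, ← QuotientGroup.mk_mul, hAcomm x hx a haA]
  have hker : (psi a D hDmem).ker = A.subgroupOf D := by
    ext g
    rw [MonoidHom.mem_ker, Subgroup.mem_subgroupOf, ← hCa, Subgroup.mem_centralizer_singleton_iff]
    constructor
    · intro h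
      have := congrArg Subtype.val h
      change (g : X) * a * (g : X)⁻¹ * a⁻¹ = 1 at this
      rw [mul_inv_eq_one, mul_inv_eq_iff_eq_mul] at this
      exact this
    · intro h
      ext
      change (g : X) * a * (g : X)⁻¹ * a⁻¹ = 1
      rw [h]; group
  have hDle : Nat.card D ∣ p ^ 3 := by
    have h1 := Subgroup.card_mul_index (psi a D hDmem).ker
    rw [Subgroup.index_ker, hker, Nat.card_congr (Subgroup.subgroupOfEquivOfLe hAD).toEquiv, hA] at h1
    have h2 : Nat.card (psi a D hDmem).range ∣ p := hkc ▸ Subgroup.card_subgroup_dvd_card _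
    rw [← h1, pow_succ p 2]
    exact Nat.mul_dvd_mul_left _ h2
  have hBd : Nat.card B ∣ p ^ 2 := by
    rw [hcardD, pow_succ' p 2] at hDle
    exact Nat.dvd_of_mul_dvd_mul_left hpp.pos hDle
  obtain ⟨j, hj, hj'⟩ := (Nat.dvd_prime_pow hpp).mp hBd
  have habB : ab ∈ B := Subgroup.mem_centralizer_singleton_iff.mpr rfl
  have hQ : IsPGroup p (X ⧸ Subgroup.center X) := IsPGroup.of_card hkq
  have hj2 : j = 2 := by
    by_contra hcon
    have hj1 : j ≤ 1 := by omega
    have hBp : Nat.card B ∣ p := by
      rw [hj']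
      calc p ^ j ∣ p ^ 1 := pow_dvd_pow p hj1
        _ = p := pow_one p
    have hnt : Nontrivial (X ⧸ Subgroup.center X) := ⟨ab, 1, hab1⟩
    have hcn := hQ.center_nontrivial
    have hcB : Subgroup.center (X ⧸ Subgroup.center X) ≤ B := Subgroup.center_le_centralizer _
    have hc1 : Nat.card (Subgroup.center (X ⧸ Subgroup.center X)) ≠ 1 := by
      rw [← Finite.one_lt_card_iff_nontrivial] at hcn
      omega
    have hc2 : Nat.card (Subgroup.center (X ⧸ Subgroup.center X)) ∣ p :=
      (Subgroup.card_dvd_of_le hcB).trans hBp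
    have hc3 : Nat.card (Subgroup.center (X ⧸ Subgroup.center X)) = p :=
      ((Nat.dvd_prime hpp).mp hc2).resolve_left hc1
    have hcB' : Subgroup.center (X ⧸ Subgroup.center X) = B :=
      Subgroup.eq_of_le_of_card_ge hcB (by rw [hc3]; exact Nat.le_of_dvd hpp.pos hBp)
    have habc : ab ∈ Subgroup.center (X ⧸ Subgroup.center X) := hcB' ▸ habB
    have hBtop : B = ⊤ := by
      rw [hB, Subgroup.centralizer_eq_top_iff_subset]
      intro y hy
      rw [Set.mem_singleton_iff.mp hy]
      exact habc
    rw [hBtop, Subgroup.card_top, hkq] at hBp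
    have h9 : p ^ (n - 1) ≤ p := Nat.le_of_dvd hpp.pos hBp
    have h10 : p ^ 2 ≤ p ^ (n - 1) := Nat.pow_le_pow_right hpp.pos (by omega)
    have : p < p ^ 2 := by nlinarith [hpp.one_lt]
    omega
  rw [hj2] at hj'
  refine ⟨B, hj', ?_⟩
  have hBcomm := IsPGroup.isMulCommutative_of_card_eq_prime_sq hj'
  apply le_antisymm
  · intro y hy
    exact Subgroup.mem_centralizer_singleton_iff.mpr
      (Subgroup.mem_centralizer_iff.mp hy ab habB).symm
  · intro y hy
    apply Subgroup.mem_centralizer_iff.mpr
    intro w hw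
    exact congrArg Subtype.val (hBcomm.is_comm.comm ⟨w, hw⟩ ⟨y, hy⟩)

theorem main (p : ℕ) [hp : Fact p.Prime] : ∀ n : ℕ, ∀ (X : Type u) [Group X] [Finite X],
    Nat.card X = p ^ n → ∀ A : Subgroup X, Nat.card A = p ^ 2 →
    Subgroup.centralizer (A : Set X) = A → Group.nilpotencyClass X = n - 1 := by
  intro n
  induction n using Nat.strong_induction_on with
  | _ n ih =>
    intro X _ _ hX A hA hC
    have hpp := hp.out
    have hP : IsPGroup p X := IsPGroup.of_card hX
    have hnil := hP.isNilpotent
    have hn2 : 2 ≤ n := by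
      have := Subgroup.card_subgroup_dvd_card A
      rw [hA, hX] at this
      exact (Nat.pow_dvd_pow_iff_le_right hpp.one_lt).mp this
    by_cases hn3 : 3 ≤ n
    · obtain ⟨hq, B, hB, hCB⟩ := step n hn3 hX A hA hC
      have := ih (n - 1) (by omega) (X ⧸ Subgroup.center X) hq B hB hCB
      rw [Group.nilpotencyClass_quotient_center] at this
      have hne : Group.nilpotencyClass X ≠ 0 := by
        rw [Ne, Group.nilpotencyClass_zero_iff_subsingleton]
        intro hs
        have h1 := Nat.card_eq_one_iff_unique.mpr ⟨hs, ⟨1⟩⟩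
        rw [hX] at h1
        have : 1 < p ^ n := Nat.one_lt_pow (by omega) hpp.one_lt
        omega
      omega
    · have hn' : n = 2 := by omega
      subst hn'
      have hcomm := IsPGroup.isMulCommutative_of_card_eq_prime_sq hX
      have h5 := Group.IsNilpotent.nilpotencyClass_le_one_iff.mpr hcomm
      have h6 : Group.nilpotencyClass X ≠ 0 := by
        rw [Ne, Group.nilpotencyClass_zero_iff_subsingleton]
        intro hs
        have h1 := Nat.card_eq_one_iff_unique.mpr ⟨hs, ⟨1⟩⟩
        rw [hX] at h1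
        have : 1 < p ^ 2 := Nat.one_lt_pow (by omega) hpp.one_lt
        omega
      omega

/-- A p-group with a self-centralizing subgroup of order p^2 is of maximal class. -/
theorem result {X : Type*} [Group X] [Finite X] {p : ℕ} [Fact p.Prime] (n : ℕ) (hX : Nat.card X = p ^ n) (A : Subgroup X) (hA : Nat.card A = p ^ 2) (hC : Subgroup.centralizer (A : Set X) = A) : Group.nilpotencyClass X = n - 1 := by
  exact main p n X hX A hA hC

end Cfsg.Agent.S0112
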