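import Cfsg.Statements.S0233
import Mathlib
import Cfsg.Agent.Lib.Helper2.InvCount

set_option autoImplicit false
open Cfsg

namespace Cfsg.Agent.S0233

theorem centralizer_ne_top_of_real {G : Type*} [Group G] [Finite G]
    (hZ : Odd (Nat.card (Subgroup.center G))) (x : G) (hx1 : x ≠ 1) (hreal : IsConj x x⁻¹) :
    Subgroup.centralizer ({x} : Set G) ≠ ⊤ := by
  intro htop
  have hcomm : ∀ g : G, g * x = x * g := by
    intro g
    have : g ∈ Subgroup.centralizer ({x} : Set G) := htop ▸ Subgroup.mem_top g
    rwa [Subgroup.mem_centralizer_singleton_iff] at this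
  have hxZ : x ∈ Subgroup.center G := by
    rw [Subgroup.mem_center_iff]
    exact hcomm
  obtain ⟨c, hc⟩ := isConj_iff.mp hreal
  have hxx : x = x⁻¹ := by
    rw [hcomm c, mul_assoc, mul_inv_cancel, mul_one] at hc
    exact hc
  have hx2 : orderOf x = 2 := by
    apply Lib.Helper2.orderOf_two_of_mul_self _ hx1
    nth_rewrite 1 [hxx]
    exact inv_mul_cancel x
  have h2 : 2 ∣ Nat.card (Subgroup.center G) := by
    have := orderOf_dvd_natCard (⟨x, hxZ⟩ : Subgroup.center G)
    rwa [Subgroup.orderOf_mk, hx2] at this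
  exact (Nat.not_even_iff_odd.mpr hZ) (even_iff_two_dvd.mpr h2)

/-- Let G be a finite group of even order with exactly n involutions whose centre has odd order, and put a = |G|/n. Then G has a proper subgroup H with |G : H| = 2 or |G : H| < a(a+1)/2; over ℕ the latter reads 2·|G:H|·n² < |G|·(|G| + n). -/
theorem result {G : Type*} [Group G] [Finite G] (heven : Even (Nat.card G)) (hZ : Odd (Nat.card (Subgroup.center G))) : ∃ H : Subgroup G, H ≠ ⊤ ∧ (H.index = 2 ∨ 2 * H.index * (Nat.card {t : G // orderOf t = 2}) ^ 2 < Nat.card G * (Nat.card G + Nat.card {t : G // orderOf t = 2})) := by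
  classical
  cases nonempty_fintype G
  by_contra hcon
  push Not at hcon
  have hnn : Nat.card {t : G // orderOf t = 2} = Lib.Helper2.numInv G := rfl
  rw [hnn] at hcon
  set n := Lib.Helper2.numInv G with hn
  set N := Nat.card G with hN
  have hNpos : 0 < N := Nat.card_pos
  have hnpos : 0 < n := by
    obtain ⟨t, ht⟩ := exists_prime_orderOf_dvd_card' 2 (even_iff_two_dvd.mp heven)
    haveI : Nonempty {t : G // orderOf t = 2} := ⟨⟨t, ht⟩⟩
    exact Nat.card_pos
  have key : ∀ H : Subgroup G, H ≠ ⊤ → Nat.card H * (N + n) ≤ 2 * n ^ 2 := by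
    intro H hH
    have h1 := (hcon H hH).2
    have h2 := H.card_mul_index
    have : N * (Nat.card H * (N + n)) ≤ N * (2 * n ^ 2) := by
      calc N * (Nat.card H * (N + n)) = Nat.card H * (N * (N + n)) := by ring
        _ ≤ Nat.card H * (2 * H.index * n ^ 2) := Nat.mul_le_mul_left _ h1
        _ = (Nat.card H * H.index) * (2 * n ^ 2) := by ring
        _ = N * (2 * n ^ 2) := by rw [h2]
    exact Nat.le_of_mul_le_mul_left this hNpos
  set R := Finset.univ.filter (fun x : G => x ≠ 1 ∧ IsConj x x⁻¹) with hR
  have hb : ∀ x ∈ R, Nat.card (Subgroup.centralizer ({x} : Set G)) * (N + n) ≤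
      n ^ 2 + if orderOf x = 2 then n ^ 2 else 0 := by
    intro x hx
    rw [hR, Finset.mem_filter] at hx
    obtain ⟨-, hx1, hreal⟩ := hx
    have hCne := centralizer_ne_top_of_real hZ x hx1 hreal
    split_ifs with hx2
    · have := key _ hCne
      omega
    · have hxx : x ≠ x⁻¹ := by
        intro h
        apply hx2
        apply Lib.Helper2.orderOf_two_of_mul_self _ hx1
        nth_rewrite 1 [h]
        exact inv_mul_cancel x
      have hcard := Lib.Helper2.card_extCentralizer hreal hxx
      have hne : Lib.Helper2.extCentralizer x ≠ ⊤ := by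
        intro htop
        rw [htop, Subgroup.card_top] at hcard
        apply (hcon _ hCne).1
        have h2 := (Subgroup.centralizer ({x} : Set G)).card_mul_index
        rw [hcard, mul_comm 2] at h2
        exact Nat.eq_of_mul_eq_mul_left Nat.card_pos h2
      have := key _ hne
      rw [hcard] at this
      have h3 : 2 * (Nat.card (Subgroup.centralizer ({x} : Set G)) * (N + n)) ≤ 2 * n ^ 2 := by
        calc 2 * (Nat.card (Subgroup.centralizer ({x} : Set G)) * (N + n))
            = 2 * Nat.card (Subgroup.centralizer ({x} : Set G)) * (N + n) := by ring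
          _ ≤ 2 * n ^ 2 := this
      omega
  have hBF := Lib.Helper2.numInv_sq_add_le (G := G)
  rw [← hn, ← hR] at hBF
  have hsum : (n * n + n) * (N + n) ≤ ∑ x ∈ R, (n ^ 2 + if orderOf x = 2 then n ^ 2 else 0) := by
    calc (n * n + n) * (N + n) ≤ (∑ x ∈ R, Nat.card (Subgroup.centralizer ({x} : Set G))) * (N + n) :=
          Nat.mul_le_mul_right _ hBF
      _ = ∑ x ∈ R, Nat.card (Subgroup.centralizer ({x} : Set G)) * (N + n) := Finset.sum_mul _ _ _
      _ ≤ _ := Finset.sum_le_sum hb
  have h3 : ∑ x ∈ R, (if orderOf x = 2 then n ^ 2 else 0) = n * n ^ 2 := by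
    rw [← Finset.sum_filter, Finset.sum_const, smul_eq_mul]
    congr 1
    rw [hn]
    unfold Lib.Helper2.numInv
    rw [Nat.card_eq_fintype_card, Fintype.card_subtype]
    congr 1
    ext x
    simp only [hR, Finset.mem_filter, Finset.mem_univ, true_and]
    constructor
    · exact fun h => h.2
    · exact fun h => ⟨⟨Lib.Helper2.ne_one_of_orderOf_two h, Lib.Helper2.isConj_inv_of_orderOf_two h⟩, h⟩
  rw [Finset.sum_add_distrib, h3, Finset.sum_const, smul_eq_mul] at hsum
  have hRcard : R.card + 1 ≤ N := by
    have h1 : (1 : G) ∉ R := by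
      rw [hR, Finset.mem_filter]
      exact fun h => h.2.1 rfl
    rw [← Finset.card_insert_of_notMem h1, hN, Nat.card_eq_fintype_card]
    exact Finset.card_le_univ _
  have h4 : R.card * n ^ 2 + n * n ^ 2 < (n * n + n) * (N + n) := by
    have h5 : R.card * n ^ 2 ≤ N * n ^ 2 := Nat.mul_le_mul_right _ (by omega)
    have h6 : (n * n + n) * (N + n) = N * n ^ 2 + n * n ^ 2 + n * (N + n) := by ring
    have h7 : 0 < n * (N + n) := by positivity
    omega
  omega

end Cfsg.Agent.S0233
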