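import Cfsg.Statements.S0212
import Mathlib
import Cfsg.Agent.Lib.Helper2.InvCount
import Cfsg.Agent.S0233
import Cfsg.Agent.Lib.Helper2.Isolated

set_option autoImplicit false
open Cfsg

namespace Cfsg.Agent.S0212

theorem card_le_factorial_index {G : Type*} [Group G] [Finite G] [IsSimpleGroup G] (H : Subgroup G)
    (hH : H ≠ ⊤) : Nat.card G ≤ Nat.factorial H.index := by
  classical
  have hcore : H.normalCore = ⊥ := by
    rcases (Subgroup.normalCore_normal H).eq_bot_or_eq_top with h | h
    · exact h
    · exfalso
      apply hH
      rw [eq_top_iff, ← h]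
      exact Subgroup.normalCore_le H
  rw [Subgroup.normalCore_eq_ker] at hcore
  have hinj : Function.Injective (MulAction.toPermHom G (G ⧸ H)) :=
    (MonoidHom.ker_eq_bot_iff _).mp hcore
  have h1 := Nat.card_le_card_of_injective _ hinj
  cases nonempty_fintype (G ⧸ H)
  rw [Nat.card_eq_fintype_card (α := Equiv.Perm (G ⧸ H)), Fintype.card_perm,
    ← Nat.card_eq_fintype_card] at h1
  exact h1

/-- The Brauer–Fowler bound: if G is a finite simple group and t an involution of G whose centralizer has order n, then |G| ≤ (2n^2)!. -/
theorem result {G : Type*} [Group G] [Finite G] [IsSimpleGroup G] (t : G) (ht : orderOf t = 2) : Nat.card G ≤ Nat.factorial (2 * (Nat.card (Subgroup.centralizer ({t} : Set G))) ^ 2) := by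
  set c := Nat.card (Subgroup.centralizer ({t} : Set G)) with hc
  have hcpos : 0 < c := Nat.card_pos
  rcases (inferInstance : (Subgroup.center G).Normal).eq_bot_or_eq_top with hZ | hZ
  · have heven : Even (Nat.card G) := by
      rw [even_iff_two_dvd, ← ht]
      exact orderOf_dvd_natCard t
    have hZodd : Odd (Nat.card (Subgroup.center G)) := by
      rw [hZ, Subgroup.card_bot]
      exact odd_one
    obtain ⟨H, hH, hidx⟩ := S0233.result heven hZodd
    refine (card_le_factorial_index H hH).trans (Nat.factorial_le ?_)
    rcases hidx with h2 | hlt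
    · rw [h2]
      have : 1 ≤ c ^ 2 := Nat.one_le_pow _ _ hcpos
      omega
    · set n := Nat.card {t : G // orderOf t = 2} with hn
      set N := Nat.card G with hN
      have hNn : N ≤ n * c := by
        rw [hN, ← Lib.Helper2.card_conj_mul_card_centralizer t]
        apply Nat.mul_le_mul_right
        apply Nat.card_le_card_of_injective
          (fun x : {x : G // IsConj t x} => (⟨x.1, by
            obtain ⟨g, hg⟩ := isConj_iff.mp x.2
            rw [← hg, Lib.Helper2.orderOf_conj_eq, ht]⟩ : {t : G // orderOf t = 2}))
        intro a b hab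
        have h : (a : G) = b := congrArg (fun z : {t : G // orderOf t = 2} => (z : G)) hab
        exact Subtype.ext h
      have h1 : N * (N + n) ≤ n ^ 2 * (c * (c + 1)) := by
        calc N * (N + n) ≤ (n * c) * (n * c + n) := Nat.mul_le_mul hNn (by omega)
          _ = n ^ 2 * (c * (c + 1)) := by ring
      have h2 : n ^ 2 * (2 * H.index) < n ^ 2 * (c * (c + 1)) := by
        calc n ^ 2 * (2 * H.index) = 2 * H.index * n ^ 2 := by ring
          _ < N * (N + n) := hlt
          _ ≤ _ := h1
      have h3 := Nat.lt_of_mul_lt_mul_left h2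
      have h4 : c * (c + 1) ≤ 2 * c ^ 2 := by nlinarith
      omega
  · have hC : Subgroup.centralizer ({t} : Set G) = ⊤ := by
      rw [eq_top_iff, ← hZ]
      exact Subgroup.center_le_centralizer _
    have hcN : c = Nat.card G := by rw [hc, hC, Subgroup.card_top]
    rw [← hcN]
    have h1 : c ≤ 2 * c ^ 2 := by nlinarith
    exact h1.trans (Nat.self_le_factorial _)

end Cfsg.Agent.S0212
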