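import Cfsg.Statements.S0214
import Mathlib
import Cfsg.Agent.Lib.Helper16.SPE

set_option autoImplicit false
open Cfsg

namespace Cfsg.Agent.S0214

/-- Let H be a proper subgroup of the finite group G and P a nontrivial Sylow 2-subgroup of H. Then H is strongly embedded in G if and only if N_G(X) ≤ H for every nontrivial subgroup X of P. -/
theorem result {G : Type*} [Group G] [Finite G] (H : Subgroup G) (hH : H ≠ ⊤) (P : Sylow 2 ↥H) (hP : (P : Subgroup ↥H) ≠ ⊥) : Cfsg.IsStronglyEmbedded H ↔ (∀ X : Subgroup ↥H, X ≤ (P : Subgroup ↥H) → X ≠ ⊥ → Subgroup.normalizer ((X.map H.subtype : Subgroup G) : Set G) ≤ H) := by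
  have hPS : Lib.Helper16.SylIn 2 ((P : Subgroup ↥H).map H.subtype) H := Lib.Helper16.sylIn_of_sylow P
  constructor
  · rintro ⟨-, heven, hodd⟩ X hX hXne
    have hspe : Lib.Helper16.SPE 2 H := by
      apply Lib.Helper16.spe_of_forall_not_dvd hH (even_iff_two_dvd.mp heven)
      intro g hg h2
      exact (Nat.not_even_iff_odd.mpr (hodd g hg)) (even_iff_two_dvd.mpr h2)
    apply hspe.2.2 _ (Subgroup.map_subtype_le _) ((P.2.to_le hX).map _)
    intro e
    apply hXne
    rwa [Subgroup.map_eq_bot_iff_of_injective _ H.subtype_injective] at e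
  · intro h
    have hd : 2 ∣ Nat.card H := by
      have h1 : 2 ∣ Nat.card (P : Subgroup ↥H) := by
        obtain ⟨n, hn⟩ := P.2.exists_card_eq
        rcases Nat.eq_zero_or_pos n with rfl | hpos
        · exfalso
          apply hP
          rw [pow_zero] at hn
          exact Subgroup.card_eq_one.mp hn
        · rw [hn]
          exact dvd_pow_self 2 hpos.ne'
      exact h1.trans (Subgroup.card_subgroup_dvd_card _)
    have hspe : Lib.Helper16.SPE 2 H := by
      refine ⟨hH, hd, ?_⟩
      intro A hAM hA hAne
      obtain ⟨m, hm, hmA⟩ := hPS.exists_conj_le hA hAM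
      have hle : (A.map (MulAut.conj m).toMonoidHom) ≤ H := hmA.trans (Subgroup.map_subtype_le _)
      have e1 : ((A.map (MulAut.conj m).toMonoidHom).subgroupOf H).map H.subtype =
          A.map (MulAut.conj m).toMonoidHom := by
        rw [Subgroup.subgroupOf_map_subtype, inf_eq_left]
        exact hle
      have h1 := h ((A.map (MulAut.conj m).toMonoidHom).subgroupOf H) (by
          rw [← Subgroup.map_subtype_le_map_subtype, e1]
          exact hmA) (by
          intro e
          rw [e, Subgroup.map_bot] at e1
          apply hAne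
          have e2 := e1.symm
          rwa [Subgroup.map_eq_bot_iff_of_injective _ (MulAut.conj m).injective] at e2)
      rw [e1, Lib.Helper16.normalizer_conj, Lib.Helper16.conj_le_iff] at h1
      refine h1.trans ?_
      exact Lib.Helper16.conj_le_of_le_of_mem le_rfl (H.inv_mem hm)
    refine ⟨hH, even_iff_two_dvd.mpr hd, ?_⟩
    intro g hg
    rw [← Nat.not_even_iff_odd, even_iff_two_dvd]
    intro h2
    exact hg (hspe.mem_of_dvd h2)

end Cfsg.Agent.S0214
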