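import Cfsg.Statements.S0223
import Mathlib
import Cfsg.Agent.Lib.Helper2.StrongEmb

set_option autoImplicit false
open Cfsg

namespace Cfsg.Agent.S0223

/-- Let H be a proper subgroup of even order of the finite group G. Then H is strongly embedded if and only if (i) C_G(t) ≤ H for every involution t of H and (ii) H controls fusion of its involutions: involutions of H conjugate in G are conjugate in H. -/
theorem result {G : Type*} [Group G] [Finite G] (H : Subgroup G) (hH : H ≠ ⊤) (heven : Even (Nat.card H)) : Cfsg.IsStronglyEmbedded H ↔ ((∀ t ∈ H, orderOf t = 2 → Subgroup.centralizer ({t} : Set G) ≤ H) ∧ (∀ t ∈ H, ∀ s ∈ H, orderOf t = 2 → orderOf s = 2 → IsConj t s → ∃ h ∈ H, h * t * h⁻¹ = s)) := by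
  rw [Lib.Helper2.isStronglyEmbedded_iff]
  constructor
  · rintro ⟨-, -, h⟩
    constructor
    · intro t ht ht2 g hg
      apply h t ht ht2 g
      rw [Subgroup.mem_centralizer_singleton_iff] at hg
      have : g⁻¹ * t * g = t := by rw [mul_assoc, ← hg, ← mul_assoc, inv_mul_cancel, one_mul]
      rw [this]
      exact ht
    · intro t ht s hs ht2 _ hconj
      obtain ⟨c, hc⟩ := isConj_iff.mp hconj
      refine ⟨c, ?_, hc⟩
      have := h t ht ht2 c⁻¹ (by rw [inv_inv, hc]; exact hs)
      simpa using H.inv_mem this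
  · rintro ⟨h1, h2⟩
    refine ⟨hH, heven, ?_⟩
    intro t ht ht2 g hg
    have hs2 : orderOf (g⁻¹ * t * g) = 2 := by
      have : g⁻¹ * t * g = MulAut.conj g⁻¹ t := by simp [MulAut.conj_apply]
      rw [this, MulEquiv.orderOf_eq, ht2]
    obtain ⟨h, hh, hc⟩ := h2 t ht _ hg ht2 hs2 (isConj_iff.mpr ⟨g⁻¹, by simp⟩)
    have hgh : g * h ∈ Subgroup.centralizer ({t} : Set G) := by
      rw [Subgroup.mem_centralizer_singleton_iff]
      have : g * (h * t * h⁻¹) * g⁻¹ = t := by rw [hc]; group
      calc g * h * t = (g * (h * t * h⁻¹) * g⁻¹) * (g * h) := by group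
        _ = t * (g * h) := by rw [this]
    have := H.mul_mem (h1 t ht ht2 hgh) (H.inv_mem hh)
    simpa using this

end Cfsg.Agent.S0223
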