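import Cfsg.Statements.S0224
import Mathlib
import Cfsg.Agent.Lib.Helper2.StrongEmb

set_option autoImplicit false
open Cfsg

namespace Cfsg.Agent.S0224

/-- Let H be a proper subgroup of even order of the finite group G. Then H is strongly embedded if and only if each involution of H fixes exactly one point (namely the coset H) in the action of G on the cosets of H. -/
theorem result {G : Type*} [Group G] [Finite G] (H : Subgroup G) (hH : H ≠ ⊤) (heven : Even (Nat.card H)) : Cfsg.IsStronglyEmbedded H ↔ ∀ t ∈ H, orderOf t = 2 → Nat.card {c : G ⧸ H // t • c = c} = 1 := by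
  rw [Lib.Helper2.isStronglyEmbedded_iff]
  have key : ∀ t g : G, t • (g : G ⧸ H) = (g : G ⧸ H) ↔ g⁻¹ * t * g ∈ H := by
    intro t g
    rw [MulAction.Quotient.smul_coe, eq_comm, QuotientGroup.eq, smul_eq_mul, mul_assoc]
  constructor
  · rintro ⟨-, -, h⟩ t ht ht2
    rw [Nat.card_eq_one_iff_unique]
    refine ⟨⟨?_⟩, ⟨⟨((1 : G) : G ⧸ H), by rw [key]; simpa using ht⟩⟩⟩
    rintro ⟨a, ha⟩ ⟨b, hb⟩
    apply Subtype.ext
    show a = b
    induction a using QuotientGroup.induction_on with
    | H a =>
    induction b using QuotientGroup.induction_on with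
    | H b =>
    rw [key] at ha hb
    rw [QuotientGroup.eq]
    exact H.mul_mem (H.inv_mem (h t ht ht2 a ha)) (h t ht ht2 b hb)
  · intro h
    refine ⟨hH, heven, ?_⟩
    intro t ht ht2 g hg
    have h1 := h t ht ht2
    rw [Nat.card_eq_one_iff_unique] at h1
    obtain ⟨hsub, -⟩ := h1
    have := hsub.elim ⟨((1 : G) : G ⧸ H), by rw [key]; simpa using ht⟩ ⟨(g : G ⧸ H), by rw [key]; exact hg⟩
    have h2 : ((1 : G) : G ⧸ H) = (g : G ⧸ H) := congrArg Subtype.val this
    rw [QuotientGroup.eq] at h2
    simpa using h2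

end Cfsg.Agent.S0224
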