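import Cfsg.Statements.S0494
import Mathlib
import Cfsg.Agent.Lib.Helper2.AltEmbed
import Cfsg.Agent.S0212

set_option autoImplicit false
open Cfsg

namespace Cfsg.Agent.S0494

/-- A simple group of order 60 is isomorphic to the alternating group of degree 5. -/
theorem result {G : Type*} [Group G] [Finite G] [IsSimpleGroup G]
    (h : Nat.card G = 60) : Nonempty (G ≃* alternatingGroup (Fin 5)) := by
  haveI : Fact (Nat.Prime 2) := ⟨Nat.prime_two⟩
  let P : Sylow 2 G := default
  have hP4 : Nat.card P = 2 ^ 2 := by
    obtain ⟨k, hk⟩ := P.2.exists_card_eq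
    have h1 := (P : Subgroup G).card_mul_index
    have h2 := P.not_dvd_index
    rw [h] at h1
    have hk' : Nat.card (P : Subgroup G) = 2 ^ k := hk
    rw [hk'] at h1
    rcases k with _ | _ | _ | k
    · simp at h1
      omega
    · simp at h1
      omega
    · exact hk
    · exfalso
      have : 2 ^ (k + 1 + 1 + 1) = 8 * 2 ^ k := by ring
      rw [this] at h1
      have h8 : 8 ∣ 60 := ⟨2 ^ k * (P : Subgroup G).index, by rw [← h1]; ring⟩
      omega
  have hcomm := IsPGroup.isMulCommutative_of_card_eq_prime_sq (p := 2) (G := (P : Subgroup G)) hP4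
  set N := Subgroup.normalizer ((P : Subgroup G) : Set G) with hN
  have hPN : (P : Subgroup G) ≤ N := Subgroup.le_normalizer
  have hPC : (P : Subgroup G) ≤ Subgroup.centralizer ((P : Subgroup G) : Set G) := by
    intro x hx
    rw [Subgroup.mem_centralizer_iff]
    intro y hy
    exact congrArg Subtype.val (hcomm.is_comm.comm ⟨y, hy⟩ ⟨x, hx⟩)
  have hNC : ¬ N ≤ Subgroup.centralizer ((P : Subgroup G) : Set G) := by
    intro hle
    have hcompl := MonoidHom.ker_transferSylow_isComplement' P hle
    have hidx := hcompl.index_eq_card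
    have h1 := (P : Subgroup G).card_mul_index
    have hP4' : Nat.card (P : Subgroup G) = 4 := hP4
    rw [h, hP4', hidx] at h1
    rcases (inferInstance : (MonoidHom.transferSylow P hle).ker.Normal).eq_bot_or_eq_top with hk | hk
    · rw [hk, Subgroup.card_bot] at h1
      omega
    · rw [hk, Subgroup.card_top, h] at h1
      omega
  have hNP : Nat.card N ≠ 4 := by
    intro h4
    apply hNC
    have : (P : Subgroup G) = N := Subgroup.eq_of_le_of_card_ge hPN (by rw [h4]; exact hP4.ge)
    rw [← this]
    exact hPC
  have h4N : 4 ∣ Nat.card N := by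
    have := Subgroup.card_dvd_of_le hPN
    have hP4' : Nat.card (P : Subgroup G) = 4 := hP4
    rwa [hP4'] at this
  have hmul := N.card_mul_index
  rw [h] at hmul
  have hNtop : N ≠ ⊤ := by
    intro htop
    have hn : (P : Subgroup G).Normal := Subgroup.normalizer_eq_top_iff.mp htop
    have hP4' : Nat.card (P : Subgroup G) = 4 := hP4
    rcases hn.eq_bot_or_eq_top with hk | hk
    · rw [hk, Subgroup.card_bot] at hP4'
      omega
    · rw [hk, Subgroup.card_top, h] at hP4'
      omega
  have hfac := S0212.card_le_factorial_index N hNtop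
  rw [h] at hfac
  have hidx5 : N.index = 5 := by
    obtain ⟨c, hc⟩ := h4N
    rw [hc] at hmul hNP
    have hci : c * N.index = 15 := by
      have : 4 * (c * N.index) = 4 * 15 := by rw [← mul_assoc, hmul]
      omega
    have hdvd : N.index ∣ 15 := ⟨c, by rw [← hci]; ring⟩
    have hle : N.index ≤ 15 := Nat.le_of_dvd (by norm_num) hdvd
    have hpos : 0 < N.index := Nat.pos_of_ne_zero Subgroup.index_ne_zero_of_finite
    generalize N.index = i at *
    interval_cases i
    all_goals first
      | rfl
      | (exfalso; simp [Nat.factorial] at hfac; done)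
      | (exfalso; omega)
  exact Lib.Helper2.nonempty_mulEquiv_alternatingGroup_of_index N 5 hidx5
    (Lib.Helper2.normalCore_eq_bot_of_isSimpleGroup N hNtop) (by rw [h]; rfl)

end Cfsg.Agent.S0494
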