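import Cfsg.Statements.S0647

set_option autoImplicit false
open Cfsg

namespace Cfsg.Agent.S0647

lemma mem_of_max {S : Type*} [Group S] (A : Subgroup S) (hA : IsMulCommutative A)
    (hmax : ∀ B : Subgroup S, IsMulCommutative B → A ≤ B → B = A) (x : S)
    (hx : ∀ a ∈ A, a * x = x * a) : x ∈ A := by
  have hc : IsMulCommutative (Subgroup.closure ((A : Set S) ∪ {x})) := by
    apply Subgroup.isMulCommutative_closure
    rintro a (ha | ha) b (hb | hb)
    · exact setLike_mul_comm ha hb
    · rw [Set.mem_singleton_iff.mp hb]; exact hx a ha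
    · rw [Set.mem_singleton_iff.mp ha]; exact (hx b hb).symm
    · rw [Set.mem_singleton_iff.mp ha, Set.mem_singleton_iff.mp hb]
  have h := hmax _ hc (fun a ha => Subgroup.subset_closure (Or.inl ha))
  rw [← h]
  exact Subgroup.subset_closure (Or.inr rfl)

/-- For a nonempty family of maximal abelian subgroups of a finite group, the intersection of the family is the centre of the subgroup it generates, which is also the full centralizer of that subgroup. -/
theorem result {S : Type*} [Group S] [Finite S] (𝒜 : Set (Subgroup S)) (hne : 𝒜.Nonempty) (hab : ∀ A ∈ 𝒜, IsMulCommutative A) (hmax : ∀ A ∈ 𝒜, ∀ B : Subgroup S, IsMulCommutative B → A ≤ B → B = A) : sInf 𝒜 = sSup 𝒜 ⊓ Subgroup.centralizer ((sSup 𝒜 : Subgroup S) : Set S) ∧ sInf 𝒜 = Subgroup.centralizer ((sSup 𝒜 : Subgroup S) : Set S) := by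
  have h1 : Subgroup.centralizer ((sSup 𝒜 : Subgroup S) : Set S) ≤ sInf 𝒜 := by
    intro x hx
    rw [Subgroup.mem_sInf]
    intro A hA
    apply mem_of_max A (hab A hA) (hmax A hA)
    intro a ha
    exact hx a (le_sSup hA ha)
  have h2 : sInf 𝒜 ≤ Subgroup.centralizer ((sSup 𝒜 : Subgroup S) : Set S) := by
    rw [Subgroup.le_centralizer_iff, sSup_le_iff]
    intro A hA a ha
    rw [Subgroup.mem_centralizer_iff]
    intro x hx
    have := hab A hA
    exact setLike_mul_comm (Subgroup.mem_sInf.mp hx A hA) ha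
  have h3 : sInf 𝒜 ≤ sSup 𝒜 := by
    obtain ⟨A, hA⟩ := hne
    exact (sInf_le hA).trans (le_sSup hA)
  have h4 := le_antisymm h2 h1
  refine ⟨?_, h4⟩
  apply le_antisymm (le_inf h3 h2) (inf_le_right.trans h1)

end Cfsg.Agent.S0647
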