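import Cfsg.Statements.S0652
import Mathlib
import Cfsg.Agent.Lib.Helper5.ZJ

set_option autoImplicit false
open Cfsg

namespace Cfsg.Agent.S0652

open Cfsg.Agent.Lib.Helper5

/-- For odd p and D normal in the p-group S, the elementary abelian subgroups of D of largest order satisfy the replacement property for class-2 normal subgroups of S. -/
theorem result {S : Type*} [Group S] [Finite S] {p : ℕ} [Fact p.Prime] (hS : IsPGroup p S) (hp : p ≠ 2) (D : Subgroup S) [D.Normal] : ∀ (B : Subgroup S) [B.Normal], ⁅⁅B, B⁆, B⁆ = ⊥ → (∃ U ∈ (Set.image (fun A : Subgroup ↥D => A.map D.subtype) (Cfsg.maxElementaryAbelianSubgroups p ↥D)), ⁅B, B⁆ ≤ U ∧ ¬ B ≤ U) → ∃ A ∈ (Set.image (fun A : Subgroup ↥D => A.map D.subtype) (Cfsg.maxElementaryAbelianSubgroups p ↥D)), ⁅B, B⁆ ≤ A ∧ ¬ B ≤ A ∧ B ≤ Subgroup.normalizer (A : Set S) := by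
  intro B _ _ h
  rw [image_maxElemAb] at h ⊢
  refine replacement_general hS hp D _ (fun A hA => hA.1) ?_ B h
  intro A As hA h2 h3
  refine ⟨h2, ?_⟩
  intro x hx
  have h4 : Monoid.exponent A ∣ p := by
    apply Monoid.exponent_dvd_of_forall_pow_eq_one
    intro g
    exact Subtype.ext (hA.2 g.1 g.2)
  have h5 := (Monoid.exponent_dvd_iff_forall_pow_eq_one).mp (h3.trans h4) ⟨x, hx⟩
  exact congrArg Subtype.val h5

end Cfsg.Agent.S0652
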