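import Cfsg.Statements.S0655
import Mathlib
import Cfsg.Agent.Lib.Helper4.Basic

set_option autoImplicit false
open Cfsg

namespace Cfsg.Agent.S0655

open Cfsg.Agent.Lib.Helper4

/-- In a p-group the intersection of all elementary abelian subgroups of largest order is the subgroup generated by the elements of order dividing p in the centre (equivalently the centralizer) of the elementary-version Thompson subgroup. -/
theorem result {S : Type*} [Group S] [Finite S] {p : ℕ} [Fact p.Prime] (hS : IsPGroup p S) : sInf (Cfsg.maxElementaryAbelianSubgroups p S) = Cfsg.omegaCenterThompson p S ∧ Cfsg.omegaCenterThompson p S = Cfsg.omegaOne p (Subgroup.centralizer (Cfsg.thompsonSubgroup p S : Set S)) := by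
  classical
  set J := Cfsg.thompsonSubgroup p S with hJ
  obtain ⟨A₀, hA₀⟩ := exists_maxElemAb (G := S) p
  -- step 1 : sInf ≤ omega (Z J)
  have h1 : sInf (Cfsg.maxElementaryAbelianSubgroups p S) ≤ Cfsg.omegaCenterThompson p S := by
    intro x hx
    rw [Subgroup.mem_sInf] at hx
    apply Subgroup.subset_closure
    refine ⟨⟨le_thompson hA₀ (hx A₀ hA₀), ?_⟩, hA₀.1.2 x (hx A₀ hA₀)⟩
    have : J ≤ Subgroup.centralizer {x} := by
      apply sSup_le
      intro A hA a ha
      rw [Subgroup.mem_centralizer_singleton_iff]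
      exact (isMulCommutative_iff A).mp hA.1.1 a ha x (hx A hA)
    show x ∈ Subgroup.centralizer (J : Set S)
    rw [Subgroup.mem_centralizer_iff]
    intro y hy
    have := this hy
    rw [Subgroup.mem_centralizer_singleton_iff] at this
    exact this
  have h2 : Cfsg.omegaCenterThompson p S ≤ Cfsg.omegaOne p (Subgroup.centralizer (J : Set S)) := by
    apply Subgroup.closure_mono
    rintro x ⟨hx, hxp⟩
    exact ⟨hx.2, hxp⟩
  have h3 : Cfsg.omegaOne p (Subgroup.centralizer (J : Set S)) ≤ sInf (Cfsg.maxElementaryAbelianSubgroups p S) := by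
    unfold Cfsg.omegaOne
    rw [Subgroup.closure_le]
    rintro x ⟨hx, hxp⟩
    rw [SetLike.mem_coe, Subgroup.mem_sInf]
    intro A hA
    have hsup : Cfsg.IsElementaryAbelian p (A ⊔ Subgroup.zpowers x) := by
      apply elemAb_sup hA.1 (elemAb_zpowers hxp)
      intro a ha b hb
      obtain ⟨k, rfl⟩ := Subgroup.mem_zpowers_iff.mp hb
      have hc : Commute a x := Subgroup.mem_centralizer_iff.mp hx a (le_thompson hA ha)
      exact (hc.zpow_right k)
    have hcard := hA.2 _ hsup
    have heq : A = A ⊔ Subgroup.zpowers x :=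
      Subgroup.eq_of_le_of_card_ge le_sup_left hcard
    rw [heq]
    exact Subgroup.mem_sup_right (Subgroup.mem_zpowers x)
  exact ⟨le_antisymm h1 (h2.trans h3), le_antisymm h2 (h3.trans h1)⟩

end Cfsg.Agent.S0655
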