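import Cfsg.Statements.S0692
import Mathlib
import Cfsg.Agent.Lib.Helper5.RegTable

set_option autoImplicit false
open Cfsg

namespace Cfsg.Agent.S0692

open Cfsg.Agent.Lib.Helper5 Matrix

def tab : ℕ := 0x704a24a08049041090480040c1081470708108506005086080440080504310202042103060ca049020402800300a0c70a0890c90c088188040870ca0808604509048046052811400b08308209189083071022810508014402042087082860890a20a108050c708a0c0c60c2050801850b0040c3092480c40b1c10c6081451c0090c01c109085200060090060c2420c80b1c610704106009090c31010c04710404280042032040430b1011050810020a0714a1890604118a061481450a14704705146206041061480308a0800b003243072471810a1c018207144084081001490908414a0a00808805241240061c5183071850c50b0c2284081831860828a14109181142051872470c1431c6050c7288020402890c1c71c70b2081ca061c50020c1051c40a08920308002005072460c00a1c00c1061861000910a2050b08320709007208072401460b20520903204241080c11c30a045242042892440a20210a051c904a0b142248092482490704a180072832850a245286062442010a2431430c242202010012040724018704201282042891c8032881c90a287003080062450924a2460a1c3184072830070628228a05281081000000400300a001061c81060a141044090c528308049109062821c2072060480818a287041031c50100100a00000000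
def ent (a b : ZMod 11) : ℕ := (tab >>> (32 * (a.val * 11 + b.val))) % 4294967296
def f0 (a b : ZMod 11) : ZMod 11 := ((ent a b % 64 : ℕ) : ZMod 11)
def f1 (a b : ZMod 11) : ZMod 11 := (((ent a b >>> 6) % 64 : ℕ) : ZMod 11)
def pa (a b : ZMod 11) : ZMod 11 := (((ent a b >>> 12) % 64 : ℕ) : ZMod 11)
def pb (a b : ZMod 11) : ZMod 11 := (((ent a b >>> 18) % 64 : ℕ) : ZMod 11)
def dep (a b : ZMod 11) : ℕ := ent a b >>> 24

theorem chkA : ∀ a b : ZMod 11, (a ≠ 0 ∨ b ≠ 0) →
    f0 (0 * a + (-1) * b) (1 * a + 0 * b) = 0 * f0 a b + (-1) * f1 a b ∧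
    f1 (0 * a + (-1) * b) (1 * a + 0 * b) = 1 * f0 a b + 0 * f1 a b := by
  decide +kernel

theorem chkB : ∀ a b : ZMod 11, (a ≠ 0 ∨ b ≠ 0) →
    f0 (2 * a + 4 * b) (1 * a + (-3) * b) = 2 * f0 a b + 4 * f1 a b ∧
    f1 (2 * a + 4 * b) (1 * a + (-3) * b) = 1 * f0 a b + (-3) * f1 a b := by
  decide +kernel

theorem chkR : ∀ a b : ZMod 11, (a ≠ 0 ∨ b ≠ 0) → (a = 1 ∧ b = 0) ∨
    (dep (pa a b) (pb a b) < dep a b ∧ ((0 * pa a b + (-1) * pb a b = a ∧ 1 * pa a b + 0 * pb a b = b) ∨ (2 * pa a b + 4 * pb a b = a ∧ 1 * pa a b + (-3) * pb a b = b))) := by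
  decide +kernel

theorem chk1 : f0 1 0 = 0 ∧ f1 1 0 = 1 := by decide +kernel

/-- An exceptional sharply doubly transitive group of degree 11^2: the listed matrices generate a subgroup of GL(2,11) of order 120 acting regularly on the non-zero vectors. -/
theorem result (A : Matrix.GeneralLinearGroup (Fin 2) (ZMod 11)) (B : Matrix.GeneralLinearGroup (Fin 2) (ZMod 11)) (hA : (A : Matrix (Fin 2) (Fin 2) (ZMod 11)) = !![0, -1; 1, 0]) (hB : (B : Matrix (Fin 2) (Fin 2) (ZMod 11)) = !![2, 4; 1, -3]) : Nat.card (Subgroup.closure ({A, B} : Set (Matrix.GeneralLinearGroup (Fin 2) (ZMod 11)))) = 120 ∧ ∀ v w : Fin 2 → ZMod 11, v ≠ 0 → w ≠ 0 → ∃! h : Subgroup.closure ({A, B} : Set (Matrix.GeneralLinearGroup (Fin 2) (ZMod 11))), Matrix.mulVec ((h : Matrix.GeneralLinearGroup (Fin 2) (ZMod 11)) : Matrix (Fin 2) (Fin 2) (ZMod 11)) v = w := by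
  haveI : Fact (Nat.Prime 11) := ⟨by norm_num⟩
  have key := regular_of_table ({A, B} : Set (Matrix.GeneralLinearGroup (Fin 2) (ZMod 11))) f0 f1 pa pb dep chk1 ?_ ?_
  · exact key
  · rintro g hg a b hab
    simp only [Set.mem_insert_iff, Set.mem_singleton_iff] at hg
    rcases hg with rfl | rfl
    · rw [hA]; exact chkA a b hab
    · rw [hB]; exact chkB a b hab
  · intro a b hab
    rcases chkR a b hab with h | ⟨hd, h⟩
    · exact Or.inl h
    · refine Or.inr ⟨hd, ?_⟩
      rcases h with h | h
      · exact ⟨A, by simp, by rw [hA]; exact h⟩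
      · exact ⟨B, by simp, by rw [hB]; exact h⟩

end Cfsg.Agent.S0692
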