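import Cfsg.Statements.S0988
import Mathlib
import Cfsg.Agent.S0144

set_option autoImplicit false
open Cfsg

namespace Cfsg.Agent.S0988

theorem not_solvable {G : Type*} [Group G] [Finite G] [IsSimpleGroup G]
    (hnp : ¬ (Nat.card G).Prime) : ¬ Group.IsSolvable G := by
  intro hs
  have hc := IsSimpleGroup.comm_iff_isSolvable.2 hs
  letI : CommGroup G := { (inferInstance : Group G) with mul_comm := hc }
  exact hnp (IsSimpleGroup.prime_card)

theorem sylow_card {G : Type*} [Group G] [Finite G] (s k m : ℕ) [Fact s.Prime]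
    (hG : Nat.card G = s ^ k * m) (hm : ¬ s ∣ m) (S : Sylow s G) : Nat.card S = s ^ k := by
  have hs : s.Prime := Fact.out
  have hm0 : m ≠ 0 := by
    rintro rfl
    exact hm (dvd_zero _)
  rw [S.card_eq_multiplicity, hG, Nat.factorization_mul (pow_ne_zero _ hs.ne_zero) hm0,
    Nat.factorization_pow, hs.factorization]
  simp [Nat.factorization_eq_zero_of_not_dvd hm]

theorem burnside_contra {G : Type*} [Group G] [Finite G] [IsSimpleGroup G] (s : ℕ) [Fact s.Prime]
    (S : Sylow s G) (h1 : Nat.card S ≠ 1) (h2 : Nat.card S ≠ Nat.card G)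
    (hS : Subgroup.normalizer (S : Set G) ≤ Subgroup.centralizer (S : Set G)) : False := by
  have hc := MonoidHom.ker_transferSylow_isComplement' S hS
  have hcard := hc.card_mul_card
  rcases (MonoidHom.normal_ker (MonoidHom.transferSylow S hS)).eq_bot_or_eq_top with h | h
  · rw [h, Subgroup.card_bot, one_mul] at hcard
    exact h2 hcard
  · rw [h, Subgroup.card_top] at hcard
    have hpos : 0 < Nat.card G := Nat.card_pos
    have : Nat.card G * Nat.card S = Nat.card G * 1 := by rw [hcard, mul_one]
    exact h1 (Nat.eq_of_mul_eq_mul_left hpos this)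

theorem aut_order {P : Type*} [Group P] [Finite P] (p s : ℕ) (hp : p.Prime) (hs : s.Prime)
    (hps : p < s) (hP : Nat.card P = p ^ 2) (α : MulAut P) (hα : orderOf α = s) :
    p = 2 ∧ s = 3 := by
  haveI := Fact.mk hs
  have hpg : IsPGroup s (Subgroup.zpowers α) := by
    apply IsPGroup.of_card (n := 1)
    rw [Nat.card_zpowers, hα, pow_one]
  have hmod := hpg.card_modEq_card_fixedPoints P
  let F : Subgroup P :=
    { carrier := {x | α x = x}
      mul_mem' := by
        intro a b ha hb
        simp only [Set.mem_ofPred_eq] at *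
        rw [map_mul, ha, hb]
      one_mem' := map_one α
      inv_mem' := by
        intro a ha
        simp only [Set.mem_ofPred_eq] at *
        rw [map_inv, ha] }
  have hF : (MulAction.fixedPoints (Subgroup.zpowers α) P) = (F : Set P) := by
    ext x
    constructor
    · intro hx
      exact hx ⟨α, Subgroup.mem_zpowers α⟩
    · intro hx
      rintro ⟨β, hβ⟩
      obtain ⟨k, rfl⟩ := Subgroup.mem_zpowers_iff.1 hβ
      show (α ^ k) • x = x
      have h1 : α • x = x := hx
      exact MulAction.zpow_smul_eq_iff_period_dvd.2 (by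
        have : MulAction.period α x = 1 := by
          rw [MulAction.period_eq_one_iff]; exact h1
        rw [this]; simp)
  have hcF : Nat.card (MulAction.fixedPoints (Subgroup.zpowers α) P) = Nat.card F := by
    rw [hF]; rfl
  rw [hcF, hP] at hmod
  have hdvd : Nat.card F ∣ p ^ 2 := hP ▸ Subgroup.card_subgroup_dvd_card F
  obtain ⟨i, hi, hFi⟩ := (Nat.dvd_prime_pow hp).1 hdvd
  have hp2 := hp.two_le
  have hi2 : i ≠ 2 := by
    rintro rfl
    have hFtop : F = ⊤ := Subgroup.eq_top_of_card_eq F (by rw [hFi, hP])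
    have : α = 1 := by
      apply MulEquiv.ext
      intro x
      have hx : x ∈ F := by rw [hFtop]; trivial
      exact hx
    rw [this, orderOf_one] at hα
    exact hs.one_lt.ne hα
  have hsp1 : s ∣ p + 1 := by
    have hnd1 : ¬ s ∣ p := fun h => absurd (Nat.le_of_dvd hp.pos h) (by omega)
    have hnd2 : ¬ s ∣ p - 1 := fun h => absurd (Nat.le_of_dvd (by omega) h) (by omega)
    have hi' : i = 0 ∨ i = 1 := by omega
    rcases hi' with rfl | rfl
    · rw [hFi, pow_zero] at hmod
      have h3 : s ∣ p ^ 2 - 1 := (Nat.modEq_iff_dvd' (Nat.one_le_pow _ _ hp.pos)).1 hmod.symm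
      have h4 : p ^ 2 - 1 = (p - 1) * (p + 1) := by
        obtain ⟨c, rfl⟩ : ∃ c, p = c + 1 := ⟨p - 1, by omega⟩
        simp only [Nat.add_sub_cancel]
        have : (c + 1) ^ 2 = c * (c + 1 + 1) + 1 := by ring
        rw [this, Nat.add_sub_cancel]
      rw [h4] at h3
      rcases (hs.dvd_mul).1 h3 with h | h
      · exact absurd h hnd2
      · exact h
    · rw [hFi, pow_one] at hmod
      have h3 : s ∣ p ^ 2 - p := (Nat.modEq_iff_dvd' (by nlinarith)).1 hmod.symm
      have h4 : p ^ 2 - p = p * (p - 1) := by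
        obtain ⟨c, rfl⟩ : ∃ c, p = c + 1 := ⟨p - 1, by omega⟩
        simp only [Nat.add_sub_cancel]
        have : (c + 1) ^ 2 = (c + 1) * c + (c + 1) := by ring
        rw [this, Nat.add_sub_cancel]
      rw [h4] at h3
      rcases (hs.dvd_mul).1 h3 with h | h
      · exact absurd h hnd1
      · exact absurd h hnd2
  have hs1 : s = p + 1 := le_antisymm (Nat.le_of_dvd (by omega) hsp1) hps
  rcases hp.eq_two_or_odd with h | h
  · exact ⟨h, by omega⟩
  · exfalso
    rcases hs.eq_two_or_odd with h' | h' <;> omega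

theorem order_twelve_r {G : Type*} [Group G] [Finite G] [IsSimpleGroup G] (r : ℕ) (hr : r.Prime)
    (hr5 : 5 ≤ r) (hG : Nat.card G = 12 * r) : Nat.card G = 60 := by
  haveI := Fact.mk hr
  obtain ⟨R⟩ : Nonempty (Sylow r G) := inferInstance
  have hnd : ¬ r ∣ 12 := fun h => by
    have := Nat.le_of_dvd (by norm_num) h
    interval_cases r <;> first | (revert h; decide) | (revert hr; decide)
  have hRc : Nat.card R = r := by
    have := sylow_card r 1 12 (by rw [hG]; ring) hnd R
    rwa [pow_one] at this
  have hidx : (R : Subgroup G).index = 12 := by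
    have h1 := (R : Subgroup G).card_mul_index
    rw [hRc, hG] at h1
    have : r * (R : Subgroup G).index = r * 12 := by rw [h1]; ring
    exact Nat.eq_of_mul_eq_mul_left hr.pos this
  have hn1 : Nat.card (Sylow r G) ∣ 12 := hidx ▸ R.card_dvd_index
  have hn2 : Nat.card (Sylow r G) ≡ 1 [MOD r] := card_sylow_modEq_one r G
  have hn3 : Nat.card (Sylow r G) ≠ 1 := by
    intro h
    haveI : Subsingleton (Sylow r G) := (Finite.card_le_one_iff_subsingleton).1 h.le
    have hN := R.normal_of_subsingleton
    rcases hN.eq_bot_or_eq_top with h | h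
    · have : Nat.card R = 1 := by
        show Nat.card (R : Subgroup G) = 1
        rw [h, Subgroup.card_bot]
      omega
    · have : Nat.card R = Nat.card G := by
        show Nat.card (R : Subgroup G) = _
        rw [h, Subgroup.card_top]
      omega
  have hn4 : Nat.card (Sylow r G) ≠ 12 := by
    intro h
    rw [R.card_eq_index_normalizer] at h
    have h1 := (Subgroup.normalizer (R : Set G)).card_mul_index
    rw [h, hG] at h1
    have h2 : Nat.card (Subgroup.normalizer (R : Set G)) = r := by omega
    have h3 : (R : Subgroup G) = Subgroup.normalizer (R : Set G) :=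
      Subgroup.eq_of_le_of_card_ge Subgroup.le_normalizer (by rw [h2]; exact hRc.ge)
    haveI : IsCyclic R := isCyclic_of_prime_card hRc
    apply burnside_contra r R (by omega) (by omega)
    rw [← h3]
    intro x hx y hy
    have := (IsCyclic.commGroup (α := R)).mul_comm ⟨y, hy⟩ ⟨x, hx⟩
    exact congrArg Subtype.val this
  have hpos : 0 < Nat.card (Sylow r G) := Nat.card_pos
  have hle : Nat.card (Sylow r G) ≤ 12 := Nat.le_of_dvd (by norm_num) hn1
  have hdvd : r ∣ Nat.card (Sylow r G) - 1 := (Nat.modEq_iff_dvd' hpos).1 hn2.symm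
  have hr' : r = 5 := by
    generalize Nat.card (Sylow r G) = n at *
    have hle2 : r ≤ n - 1 := Nat.le_of_dvd (by omega) hdvd
    interval_cases n <;> first | omega | (exfalso; revert hn1; decide) | skip
    all_goals
      have : r ≤ 10 := by omega
      interval_cases r <;> first | rfl | (exfalso; revert hdvd; decide) | (exfalso; revert hr; decide)
  rw [hG, hr']

/-- If a finite simple group has order p^2 * q * r with p, q and r prime, then its order is 60. -/
theorem result {G : Type*} [Group G] [Finite G] [IsSimpleGroup G] (p q r : ℕ) (hp : p.Prime) (hq : q.Prime) (hr : r.Prime) (hG : Nat.card G = p ^ 2 * q * r) : Nat.card G = 60 := by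
  have hnp : ¬ (Nat.card G).Prime := by
    rw [hG]
    intro h
    have h1 : p ^ 2 * q * r = p * (p * q * r) := by ring
    rw [h1] at h
    have h2 := (Nat.prime_mul_iff.1 h)
    rcases h2 with ⟨_, h3⟩ | ⟨_, h3⟩
    · have := hp.two_le
      have := hq.two_le
      have := hr.two_le
      have : 2 * 2 * 2 ≤ p * q * r := by
        apply Nat.mul_le_mul (Nat.mul_le_mul _ _) <;> assumption
      omega
    · exact hp.one_lt.ne' h3
  have hns := not_solvable hnp
  have hpq : p ≠ q := by
    rintro rfl
    exact hns (Cfsg.Agent.S0144.result p r 3 1 hp hr (by rw [hG]; ring))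
  have hpr : p ≠ r := by
    rintro rfl
    exact hns (Cfsg.Agent.S0144.result p q 3 1 hp hq (by rw [hG]; ring))
  have hqr : q ≠ r := by
    rintro rfl
    exact hns (Cfsg.Agent.S0144.result p q 2 2 hp hq (by rw [hG]; ring))
  haveI := Fact.mk hp
  haveI := Fact.mk hq
  haveI := Fact.mk hr
  have hp2 := hp.two_le
  have hq2 := hq.two_le
  have hr2 := hr.two_le
  have hndp : ¬ p ∣ q * r := by
    intro h
    rcases (hp.dvd_mul).1 h with h | h
    · exact hpq ((Nat.prime_dvd_prime_iff_eq hp hq).1 h)
    · exact hpr ((Nat.prime_dvd_prime_iff_eq hp hr).1 h)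
  have hndq : ¬ q ∣ p ^ 2 * r := by
    intro h
    rcases (hq.dvd_mul).1 h with h | h
    · exact hpq ((Nat.prime_dvd_prime_iff_eq hq hp).1 (hq.dvd_of_dvd_pow h)).symm
    · exact hqr ((Nat.prime_dvd_prime_iff_eq hq hr).1 h)
  have hndr : ¬ r ∣ p ^ 2 * q := by
    intro h
    rcases (hr.dvd_mul).1 h with h | h
    · exact hpr ((Nat.prime_dvd_prime_iff_eq hr hp).1 (hr.dvd_of_dvd_pow h)).symm
    · exact hqr ((Nat.prime_dvd_prime_iff_eq hr hq).1 h).symm
  have hbig : ∀ x : ℕ, 2 ≤ x → x < p ^ 2 * q * r ∨ True := fun _ _ => Or.inr trivial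
  have hGq : q < Nat.card G := by
    rw [hG]
    have : 1 * q * 1 < p ^ 2 * q * r := by
      have h4 : 4 ≤ p ^ 2 := by nlinarith
      nlinarith [Nat.mul_le_mul h4 hq2]
    omega
  have hGr : r < Nat.card G := by
    rw [hG]
    have h4 : 4 ≤ p ^ 2 := by nlinarith
    nlinarith [Nat.mul_le_mul h4 hq2]
  have hGp : p ^ 2 < Nat.card G := by
    rw [hG]
    have h4 : 4 ≤ p ^ 2 := by nlinarith
    nlinarith [Nat.mul_le_mul hq2 hr2]
  have hmin : (Nat.card G).minFac = p := by
    have hmp : (Nat.card G).minFac.Prime := Nat.minFac_prime (by omega)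
    have hmd : (Nat.card G).minFac ∣ p ^ 2 * q * r := hG ▸ Nat.minFac_dvd _
    rcases (hmp.dvd_mul).1 hmd with h | h
    · rcases (hmp.dvd_mul).1 h with h | h
      · exact (Nat.prime_dvd_prime_iff_eq hmp hp).1 (hmp.dvd_of_dvd_pow h)
      · exfalso
        have hm := (Nat.prime_dvd_prime_iff_eq hmp hq).1 h
        obtain ⟨Q⟩ : Nonempty (Sylow q G) := inferInstance
        have hQc : Nat.card Q = q := by
          have := sylow_card q 1 (p ^ 2 * r) (by rw [hG]; ring) hndq Q
          rwa [pow_one] at this
        have hcyc : IsCyclic Q := isCyclic_of_prime_card hQc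
        exact burnside_contra q Q (by omega) (by omega) (hcyc.normalizer_le_centralizer hm)
    · exfalso
      have hm := (Nat.prime_dvd_prime_iff_eq hmp hr).1 h
      obtain ⟨R⟩ : Nonempty (Sylow r G) := inferInstance
      have hRc : Nat.card R = r := by
        have := sylow_card r 1 (p ^ 2 * q) (by rw [hG]; ring) hndr R
        rwa [pow_one] at this
      have hcyc : IsCyclic R := isCyclic_of_prime_card hRc
      exact burnside_contra r R (by omega) (by omega) (hcyc.normalizer_le_centralizer hm)
  have hpltq : p < q := by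
    have : p ≤ q := hmin ▸ Nat.minFac_le_of_dvd hq2 (by rw [hG]; exact ⟨p ^ 2 * r, by ring⟩)
    omega
  have hpltr : p < r := by
    have : p ≤ r := hmin ▸ Nat.minFac_le_of_dvd hr2 (by rw [hG]; exact ⟨p ^ 2 * q, by ring⟩)
    omega
  obtain ⟨P⟩ : Nonempty (Sylow p G) := inferInstance
  have hPc : Nat.card P = p ^ 2 := sylow_card p 2 (q * r) (by rw [hG]; ring) hndp P
  have hidx : (P : Subgroup G).index = q * r := by
    have h1 := (P : Subgroup G).card_mul_index
    rw [hPc, hG] at h1
    have : p ^ 2 * (P : Subgroup G).index = p ^ 2 * (q * r) := by rw [h1]; ring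
    exact Nat.eq_of_mul_eq_mul_left (by positivity) this
  have hNC : ¬ Subgroup.normalizer (P : Set G) ≤ Subgroup.centralizer (P : Set G) := by
    intro h
    have h4 : 4 ≤ p ^ 2 := by nlinarith
    exact burnside_contra p P (by omega) (by omega) h
  haveI hPcomm : IsMulCommutative (P : Subgroup G) := by
    exact IsPGroup.isMulCommutative_of_card_eq_prime_sq hPc
  set m := (Subgroup.centralizer (P : Set G)).relIndex (Subgroup.normalizer (P : Set G)) with hm
  have hm1 : m ≠ 1 := fun h => hNC (Subgroup.relIndex_eq_one.1 h)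
  have hmd : m ∣ q * r := by
    rw [← hidx]
    exact (Subgroup.relIndex_dvd_of_le_left _ (P : Subgroup G).le_centralizer).trans
      (Subgroup.relIndex_dvd_index_of_le Subgroup.le_normalizer)
  have hrange : Nat.card (P : Subgroup G).normalizerMonoidHom.range = m := by
    rw [← Subgroup.index_ker, Subgroup.normalizerMonoidHom_ker]
    rfl
  obtain ⟨s, hs, hsm⟩ := Nat.exists_prime_and_dvd hm1
  haveI := Fact.mk hs
  obtain ⟨α, hα⟩ := exists_prime_orderOf_dvd_card' (G := (P : Subgroup G).normalizerMonoidHom.range) s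
    (hrange ▸ hsm)
  have hα' : orderOf (α : MulAut (P : Subgroup G)) = s := by
    rw [Subgroup.orderOf_coe, hα]
  rcases (hs.dvd_mul).1 (hsm.trans hmd) with h | h
  · have hsq := (Nat.prime_dvd_prime_iff_eq hs hq).1 h
    obtain ⟨h2, h3⟩ := aut_order p s hp hs (hsq ▸ hpltq) hPc _ hα'
    apply order_twelve_r r hr
    · have : r ≠ 4 := by
        rintro rfl
        revert hr; decide
      omega
    · rw [hG, h2, ← hsq, h3]; ring
  · have hsr := (Nat.prime_dvd_prime_iff_eq hs hr).1 h
    obtain ⟨h2, h3⟩ := aut_order p s hp hs (hsr ▸ hpltr) hPc _ hα'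
    apply order_twelve_r q hq
    · have : q ≠ 4 := by
        rintro rfl
        revert hq; decide
      omega
    · rw [hG, h2, ← hsr, h3]; ring

end Cfsg.Agent.S0988
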