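import Cfsg.Statements.S0994
import Mathlib
import Cfsg.Agent.S0988

set_option autoImplicit false
open Cfsg

namespace Cfsg.Agent.S0994

open Cfsg.Agent.S0988

theorem relIndex_dvd_pred {G : Type*} [Group G] [Finite G] (r : ℕ) [Fact r.Prime] (R : Sylow r G)
    (hR : Nat.card R = r) :
    (Subgroup.centralizer (R : Set G)).relIndex (Subgroup.normalizer (R : Set G)) ∣ r - 1 := by
  have hcyc : IsCyclic R := isCyclic_of_prime_card hR
  have key := Subgroup.card_dvd_of_injective _
    (QuotientGroup.kerLift_injective (R : Subgroup G).normalizerMonoidHom)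
  rw [Subgroup.normalizerMonoidHom_ker, ← Subgroup.index, ← Subgroup.relIndex] at key
  rwa [hcyc.card_mulAut, hR, Nat.totient_prime Fact.out] at key

theorem relIndex_dvd_relIndex {G : Type*} [Group G] [Finite G] (r : ℕ) [Fact r.Prime] (R : Sylow r G)
    (hR : Nat.card R = r) :
    (Subgroup.centralizer (R : Set G)).relIndex (Subgroup.normalizer (R : Set G)) ∣
      (R : Subgroup G).relIndex (Subgroup.normalizer (R : Set G)) := by
  haveI hcyc : IsCyclic R := isCyclic_of_prime_card hR
  haveI : IsMulCommutative (R : Subgroup G) := ⟨⟨(IsCyclic.commGroup (α := R)).mul_comm⟩⟩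
  exact Subgroup.relIndex_dvd_of_le_left _ (R : Subgroup G).le_centralizer

theorem sylow_not_unique {G : Type*} [Group G] [Finite G] [IsSimpleGroup G] (r : ℕ) [Fact r.Prime]
    (R : Sylow r G) (h1 : Nat.card R ≠ 1) (h2 : Nat.card R ≠ Nat.card G) :
    Nat.card (Sylow r G) ≠ 1 := by
  intro h
  haveI : Subsingleton (Sylow r G) := (Finite.card_le_one_iff_subsingleton).1 h.le
  have hN := R.normal_of_subsingleton
  rcases hN.eq_bot_or_eq_top with h | h
  · apply h1
    show Nat.card (R : Subgroup G) = 1
    rw [h, Subgroup.card_bot]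
  · apply h2
    show Nat.card (R : Subgroup G) = _
    rw [h, Subgroup.card_top]

/-- No finite simple group has order 1188 = 2^2 * 3^3 * 11. -/
theorem result {G : Type*} [Group G] [Finite G] [IsSimpleGroup G] : Nat.card G ≠ 1188 := by
  intro hG
  haveI : Fact (Nat.Prime 11) := ⟨by norm_num⟩
  obtain ⟨R⟩ : Nonempty (Sylow 11 G) := inferInstance
  have hRc : Nat.card R = 11 := by
    have := sylow_card 11 1 108 (by rw [hG]; norm_num) (by norm_num) R
    rwa [pow_one] at this
  have hidx : (R : Subgroup G).index = 108 := by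
    have h1 := (R : Subgroup G).card_mul_index
    rw [hRc, hG] at h1
    omega
  have hn1 : Nat.card (Sylow 11 G) ∣ 108 := hidx ▸ R.card_dvd_index
  have hn2 : Nat.card (Sylow 11 G) ≡ 1 [MOD 11] := card_sylow_modEq_one 11 G
  have hn3 := sylow_not_unique 11 R (by omega) (by omega)
  have hn4 : Nat.card (Sylow 11 G) = 12 := by
    generalize Nat.card (Sylow 11 G) = n at *
    have hle : n ≤ 108 := Nat.le_of_dvd (by norm_num) hn1
    unfold Nat.ModEq at hn2
    interval_cases n <;> first | rfl | omega
  rw [R.card_eq_index_normalizer] at hn4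
  have h5 : (R : Subgroup G).relIndex (Subgroup.normalizer (R : Set G)) * (Subgroup.normalizer (R : Set G)).index = (R : Subgroup G).index :=
    Subgroup.relIndex_mul_index (Subgroup.le_normalizer (H := (R : Subgroup G)))
  rw [hn4, hidx] at h5
  have h6 : (R : Subgroup G).relIndex (Subgroup.normalizer (R : Set G)) = 9 := by omega
  have h7 := relIndex_dvd_relIndex 11 R hRc
  have h8 := relIndex_dvd_pred 11 R hRc
  rw [h6] at h7
  have h9 : (Subgroup.centralizer (R : Set G)).relIndex (Subgroup.normalizer (R : Set G)) = 1 := by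
    have := Nat.dvd_gcd h7 h8
    simpa using this
  exact burnside_contra 11 R (by omega) (by omega) (Subgroup.relIndex_eq_one.1 h9)

end Cfsg.Agent.S0994
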