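import Cfsg.Statements.S1002
import Mathlib
import Cfsg.Agent.S0994
import Cfsg.Agent.Lib.Helper22.SylowTwoP

set_option autoImplicit false
open Cfsg

namespace Cfsg.Agent.S1002

open Subgroup MulAction

theorem le_index {G : Type*} [Group G] [Finite G] [IsSimpleGroup G] (H : Subgroup G) (hH : H ≠ ⊤)
    (r : ℕ) (hr : r.Prime) (hd : r ∣ Nat.card G) : r ≤ H.index := by
  classical
  have hker : (MulAction.toPermHom G (G ⧸ H)).ker = ⊥ := by
    rcases (MonoidHom.normal_ker (MulAction.toPermHom G (G ⧸ H))).eq_bot_or_eq_top with h | h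
    · exact h
    · exfalso
      rw [← Subgroup.normalCore_eq_ker] at h
      exact hH (top_le_iff.1 (h ▸ Subgroup.normalCore_le H))
  have hinj := (MonoidHom.ker_eq_bot_iff _).1 hker
  have h1 := Subgroup.card_dvd_of_injective _ hinj
  rw [Nat.card_perm] at h1
  exact (hr.dvd_factorial).1 (hd.trans h1)

theorem sylow_num {G : Type*} [Group G] [Finite G] [IsSimpleGroup G] (hG : Nat.card G = 1004913)
    (r m : ℕ) [Fact r.Prime] (hm : 1004913 = r ^ 1 * m) (hrm : ¬ r ∣ m) (hr1 : r < 1004913) :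
    (∀ P : Sylow r G, Nat.card P = r) ∧
    Nat.card (Sylow r G) ∣ m ∧ Nat.card (Sylow r G) % r = 1 ∧ 409 ≤ Nat.card (Sylow r G) := by
  have hr : r.Prime := Fact.out
  have hc : ∀ P : Sylow r G, Nat.card P = r := fun P => by
    have := Cfsg.Agent.S0988.sylow_card r 1 m (hG.trans hm) hrm P
    simpa using this
  obtain ⟨P⟩ : Nonempty (Sylow r G) := inferInstance
  refine ⟨hc, ?_, ?_, ?_⟩
  · have h1 := P.card_dvd_index
    have h2 := (P : Subgroup G).card_mul_index
    have h3 : Nat.card (P : Subgroup G) = r := hc P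
    rw [h3, hG, hm, pow_one] at h2
    have h4 : (P : Subgroup G).index = m := Nat.eq_of_mul_eq_mul_left hr.pos h2
    rwa [h4] at h1
  · have h := card_sylow_modEq_one r G
    have h' : Nat.card (Sylow r G) % r = 1 % r := h
    rw [h', Nat.mod_eq_of_lt hr.one_lt]
  · rw [P.card_eq_index_normalizer]
    apply le_index _ _ 409 (by norm_num) (by rw [hG]; norm_num)
    intro htop
    have h1 : Nat.card (Sylow r G) = 1 := by
      rw [P.card_eq_index_normalizer, htop, Subgroup.index_top]
    exact Cfsg.Agent.S0994.sylow_not_unique r P (by rw [hc P]; exact hr.one_lt.ne')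
      (by rw [hc P, hG]; exact hr1.ne) h1

theorem eq_zpowers {G : Type*} [Group G] [Finite G] (r : ℕ) [Fact r.Prime] (P : Sylow r G)
    (hP : Nat.card P = r) {g : G} (hg : g ∈ (P : Subgroup G)) (h1 : g ≠ 1) :
    (P : Subgroup G) = zpowers g := by
  have hr : r.Prime := Fact.out
  symm
  apply Subgroup.eq_of_le_of_card_ge (zpowers_le.2 hg)
  rw [Nat.card_zpowers]
  have h2 : orderOf g ∣ r := by
    have := orderOf_dvd_natCard (⟨g, hg⟩ : (P : Subgroup G))
    rw [Subgroup.orderOf_mk] at this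
    exact this.trans (by rw [show Nat.card (P : Subgroup G) = r from hP])
  have h3 : orderOf g ≠ 1 := fun h => h1 (orderOf_eq_one_iff.1 h)
  rw [((Nat.dvd_prime hr).1 h2).resolve_left h3]
  exact hP.le

theorem count_order {G : Type*} [Group G] [Finite G] (r : ℕ) [Fact r.Prime]
    (hP : ∀ P : Sylow r G, Nat.card P = r) :
    Nat.card (Sylow r G) * (r - 1) ≤ Nat.card {g : G // orderOf g = r} := by
  classical
  have hr : r.Prime := Fact.out
  have ho : ∀ (P : Sylow r G) (g : G), g ∈ (P : Subgroup G) → g ≠ 1 → orderOf g = r := by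
    intro P g hg h1
    have := eq_zpowers r P (hP P) hg h1
    rw [← Nat.card_zpowers, ← this]
    exact hP P
  let f : (Σ P : Sylow r G, {g : (P : Subgroup G) // g ≠ 1}) → {g : G // orderOf g = r} :=
    fun x => ⟨x.2.1.1, ho x.1 _ x.2.1.2 (fun h => x.2.2 (Subtype.ext h))⟩
  have hf : Function.Injective f := by
    rintro ⟨P, ⟨⟨g, hgP⟩, hg⟩⟩ ⟨P', ⟨⟨g', hgP'⟩, hg'⟩⟩ h
    have hgg : g = g' := congrArg Subtype.val h
    subst hgg
    have hg1 : g ≠ 1 := fun h => hg (Subtype.ext h)
    have hPP : P = P' := by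
      apply Sylow.ext
      rw [eq_zpowers r P (hP P) hgP hg1, eq_zpowers r P' (hP P') hgP' hg1]
    subst hPP
    rfl
  have h1 := Nat.card_le_card_of_injective f hf
  haveI : Fintype (Sylow r G) := Fintype.ofFinite _
  rw [Nat.card_sigma] at h1
  have h2 : ∀ P : Sylow r G, Nat.card {g : (P : Subgroup G) // g ≠ 1} = r - 1 := by
    intro P
    haveI : Fintype (P : Subgroup G) := Fintype.ofFinite _
    rw [Nat.card_eq_fintype_card, Fintype.card_subtype_compl, Fintype.card_subtype_eq,
      ← Nat.card_eq_fintype_card]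
    rw [show Nat.card (P : Subgroup G) = r from hP P]
  simp only [h2, Finset.sum_const, Finset.card_univ, smul_eq_mul] at h1
  rwa [Nat.card_eq_fintype_card]

theorem four_sum {G : Type*} [Group G] [Finite G] :
    Nat.card {g : G // orderOf g = 3} + (Nat.card {g : G // orderOf g = 7} +
      (Nat.card {g : G // orderOf g = 13} + Nat.card {g : G // orderOf g = 409})) ≤ Nat.card G := by
  let f : {g : G // orderOf g = 3} ⊕ ({g : G // orderOf g = 7} ⊕
      ({g : G // orderOf g = 13} ⊕ {g : G // orderOf g = 409})) → G :=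
    Sum.elim Subtype.val (Sum.elim Subtype.val (Sum.elim Subtype.val Subtype.val))
  have hf : Function.Injective f := by
    rintro (⟨a, ha⟩ | ⟨a, ha⟩ | ⟨a, ha⟩ | ⟨a, ha⟩) (⟨b, hb⟩ | ⟨b, hb⟩ | ⟨b, hb⟩ | ⟨b, hb⟩) h <;>
    · have h' : a = b := h
      subst h'
      first
        | rfl
        | (exfalso; omega)
  have := Nat.card_le_card_of_injective f hf
  simpa [Nat.card_sum] using this

theorem class_count {G : Type*} [Group G] [Finite G] (p : G) (n : ℕ) (hp : orderOf p = n) :
    Nat.card G ≤ Nat.card (centralizer ({p} : Set G)) * Nat.card {g : G // orderOf g = n} := by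
  have h1 := (stabilizer (ConjAct G) p).card_mul_index
  rw [← Subgroup.nat_card_centralizer_nat_card_stabilizer, MulAction.index_stabilizer] at h1
  have h2 : Nat.card (ConjAct G) = Nat.card G := rfl
  rw [h2] at h1
  rw [← h1]
  apply Nat.mul_le_mul_left
  have h3 : orbit (ConjAct G) p ⊆ {g : G | orderOf g = n} := by
    rintro _ ⟨c, rfl⟩
    show orderOf (c • p) = n
    rw [ConjAct.smul_def, ← hp]
    exact (MulAut.conj (ConjAct.ofConjAct c)).orderOf_eq p
  exact Set.ncard_le_ncard h3 (Set.toFinite _)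

theorem mem_cent_of_comm {G : Type*} [Group G] {S : Subgroup G} {u x : G} (hS : S = zpowers u)
    (h : x * u = u * x) : x ∈ centralizer (S : Set G) := by
  rw [mem_centralizer_iff]
  intro y hy
  rw [SetLike.mem_coe, hS] at hy
  obtain ⟨k, rfl⟩ := mem_zpowers_iff.1 hy
  exact ((Commute.zpow_left (show Commute u x from h.symm) k)).eq

theorem cent_bound {G : Type*} [Group G] [Finite G] [IsSimpleGroup G] (hG : Nat.card G = 1004913)
    [Fact (Nat.Prime 409)] (hc : ∀ P : Sylow 409 G, Nat.card P = 409)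
    (hn : Nat.card (Sylow 409 G) = 819) :
    ∃ p : G, orderOf p = 3 ∧ Nat.card (centralizer ({p} : Set G)) ≤ 9 := by
  classical
  obtain ⟨Q⟩ : Nonempty (Sylow 409 G) := inferInstance
  set N := normalizer ((Q : Subgroup G) : Set G) with hN
  have hNcard : Nat.card N = 1227 := by
    have h1 := N.card_mul_index
    have h2 : N.index = 819 := by rw [← hn]; exact (Q.card_eq_index_normalizer).symm
    rw [h2, hG] at h1
    omega
  haveI : Fact (Nat.Prime 3) := ⟨Nat.prime_three⟩
  obtain ⟨⟨p, hpN⟩, hp3⟩ := exists_prime_orderOf_dvd_card' (G := N) 3 (by rw [hNcard]; norm_num)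
  rw [Subgroup.orderOf_mk] at hp3
  have hnc : ∀ u ∈ (Q : Subgroup G), u ≠ 1 → p * u ≠ u * p := by
    intro u hu hu1 hcomm
    have hQz := eq_zpowers 409 Q (hc Q) hu hu1
    apply Cfsg.Agent.S0988.burnside_contra 409 Q (by rw [hc Q]; norm_num)
      (by rw [hc Q, hG]; norm_num)
    set K := N ⊓ centralizer ((Q : Subgroup G) : Set G) with hK
    have hQK : (Q : Subgroup G) ≤ K := by
      refine le_inf le_normalizer ?_
      intro x hx
      apply mem_cent_of_comm hQz
      rw [hQz] at hx
      obtain ⟨j, rfl⟩ := mem_zpowers_iff.1 hx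
      exact (Commute.zpow_left (Commute.refl u) j).eq
    have hpK : p ∈ K := ⟨hpN, mem_cent_of_comm hQz hcomm⟩
    have d1 : 409 ∣ Nat.card K := by
      rw [← hc Q]; exact Subgroup.card_dvd_of_le hQK
    have d2 : 3 ∣ Nat.card K := by
      have := orderOf_dvd_natCard (⟨p, hpK⟩ : K)
      rwa [Subgroup.orderOf_mk, hp3] at this
    have d3 : 3 * 409 ∣ Nat.card K := by
      have : Nat.Coprime 3 409 := by norm_num
      exact (this.mul_dvd_of_dvd_of_dvd d2 d1)
    have hKN : K = N := Subgroup.eq_of_le_of_card_ge inf_le_left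
      (by rw [hNcard]; exact Nat.le_of_dvd Nat.card_pos d3)
    have : N ≤ centralizer ((Q : Subgroup G) : Set G) := by
      rw [← hKN]; exact inf_le_right
    exact this
  have keyA : ∀ (Q' : Sylow 409 G), Q' ≠ Q → p • Q' = Q' → ∀ u ∈ (Q : Subgroup G),
      p • (u • Q') = u • Q' → u = 1 := by
    intro Q' hne hfix u hu hfix2
    by_contra hu1
    have hw1 : u⁻¹ * p * u ∈ normalizer ((Q' : Subgroup G) : Set G) :=
      Sylow.smul_eq_iff_mem_normalizer.1 (by rw [mul_smul, mul_smul, hfix2, inv_smul_smul])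
    have hp' : p ∈ normalizer ((Q' : Subgroup G) : Set G) :=
      Sylow.smul_eq_iff_mem_normalizer.1 hfix
    have hw2 : u⁻¹ * p * u * p⁻¹ ∈ normalizer ((Q' : Subgroup G) : Set G) :=
      mul_mem hw1 (inv_mem hp')
    have hw3 : u⁻¹ * p * u * p⁻¹ ∈ (Q : Subgroup G) := by
      have : p * u * p⁻¹ ∈ (Q : Subgroup G) := (mem_normalizer_iff.1 hpN u).1 hu
      have e : u⁻¹ * p * u * p⁻¹ = u⁻¹ * (p * u * p⁻¹) := by group
      rw [e]; exact mul_mem (inv_mem hu) this
    have hw4 : u⁻¹ * p * u * p⁻¹ ∈ (Q' : Subgroup G) :=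
      Cfsg.Agent.Lib.Helper22.mem_sylow_of_mem_normalizer hw3 hw2
    by_cases hw : u⁻¹ * p * u * p⁻¹ = 1
    · apply hnc u hu hu1
      calc p * u = u * (u⁻¹ * p * u * p⁻¹) * p := by group
        _ = u * p := by rw [hw, mul_one]
    · apply hne
      apply Sylow.ext
      rw [eq_zpowers 409 Q' (hc Q') hw4 hw, eq_zpowers 409 Q (hc Q) hw3 hw]
  have hY : Nat.card {Q' : Sylow 409 G // p • Q' = Q' ∧ Q' ≠ Q} ≤ 2 := by
    let f : {Q' : Sylow 409 G // p • Q' = Q' ∧ Q' ≠ Q} × (Q : Subgroup G) →
        {Q' : Sylow 409 G // Q' ≠ Q} :=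
      fun x => ⟨x.2.1 • x.1.1, by
        intro h
        apply x.1.2.2
        have h0 : x.1.1 = x.2.1⁻¹ • Q := eq_inv_smul_iff.2 h
        rw [h0]
        exact Sylow.smul_eq_iff_mem_normalizer.2 (le_normalizer (inv_mem x.2.2))⟩
    have hf : Function.Injective f := by
      rintro ⟨⟨Q1, h1, h1'⟩, ⟨u1, hu1⟩⟩ ⟨⟨Q2, h2, h2'⟩, ⟨u2, hu2⟩⟩ h
      have h' : u1 • Q1 = u2 • Q2 := congrArg Subtype.val h
      have e : (u2⁻¹ * u1) • Q1 = Q2 := by rw [mul_smul, h', inv_smul_smul]
      have h3 := keyA Q1 h1' h1 (u2⁻¹ * u1) (mul_mem (inv_mem hu2) hu1) (by rw [e, h2])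
      have hu : u1 = u2 := by
        have := congrArg (u2 * ·) h3
        simpa using this
      subst hu
      have hQQ : Q1 = Q2 := by rw [← e]; simp
      subst hQQ
      rfl
    have h1 := Nat.card_le_card_of_injective f hf
    rw [Nat.card_prod] at h1
    have h2 : Nat.card {Q' : Sylow 409 G // Q' ≠ Q} = 818 := by
      haveI : Fintype (Sylow 409 G) := Fintype.ofFinite _
      rw [Nat.card_eq_fintype_card, Fintype.card_subtype_compl, Fintype.card_subtype_eq,
        ← Nat.card_eq_fintype_card, hn]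
    rw [h2, show Nat.card (Q : Subgroup G) = 409 from hc Q] at h1
    omega
  refine ⟨p, hp3, ?_⟩
  set C := centralizer ({p} : Set G) with hC
  have h1 := (stabilizer C Q).card_mul_index
  rw [MulAction.index_stabilizer] at h1
  have horb : (orbit C Q).ncard ≤ 3 := by
    have hsub : orbit C Q ⊆ insert Q {Q' : Sylow 409 G | p • Q' = Q' ∧ Q' ≠ Q} := by
      rintro _ ⟨c, rfl⟩
      by_cases h : c • Q = Q
      · left; exact h
      · right
        refine ⟨?_, h⟩
        show p • ((c : G) • Q) = (c : G) • Q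
        have hcp : p * (c : G) = (c : G) * p := (mem_centralizer_iff.1 c.2 p rfl)
        rw [← mul_smul, hcp, mul_smul, Sylow.smul_eq_iff_mem_normalizer.2 hpN]
    have h2 := Set.ncard_le_ncard hsub (Set.toFinite _)
    have h3 := Set.ncard_insert_le Q {Q' : Sylow 409 G | p • Q' = Q' ∧ Q' ≠ Q}
    have h4 : Set.ncard {Q' : Sylow 409 G | p • Q' = Q' ∧ Q' ≠ Q} ≤ 2 := hY
    omega
  have hstab : Nat.card (stabilizer C Q) ≤ 3 := by
    have hd : Nat.card (stabilizer C Q) ∣ 1227 := by
      rw [← hNcard]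
      let φ : stabilizer C Q →* N :=
        { toFun := fun s => ⟨(s.1 : G), Sylow.smul_eq_iff_mem_normalizer.1
            (show (s.1 : G) • Q = Q from s.2)⟩
          map_one' := rfl
          map_mul' := fun _ _ => rfl }
      exact Subgroup.card_dvd_of_injective φ
        (fun a b h => Subtype.ext (Subtype.ext (congrArg (fun x : N => (x : G)) h)))
    have hnd : ¬ 409 ∣ Nat.card (stabilizer C Q) := by
      intro h
      obtain ⟨s, hs⟩ := exists_prime_orderOf_dvd_card' (G := stabilizer C Q) 409 h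
      have hsN : (s.1 : G) ∈ N := Sylow.smul_eq_iff_mem_normalizer.1
        (show (s.1 : G) • Q = Q from s.2)
      have hso : orderOf (s.1 : G) = 409 := by
        have e1 : orderOf (s.1 : G) = orderOf s := by simp
        exact e1.trans hs
      have hsQ : (s.1 : G) ∈ (Q : Subgroup G) := by
        apply Cfsg.Agent.Lib.Helper22.le_sylow_of_le_normalizer (H := zpowers (s.1 : G)) ?_ Q
          (zpowers_le.2 hsN) (mem_zpowers _)
        exact IsPGroup.of_card (n := 1) (by rw [Nat.card_zpowers, hso, pow_one])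
      apply hnc _ hsQ (by intro h1; rw [h1, orderOf_one] at hso; norm_num at hso)
      exact (mem_centralizer_iff.1 s.1.2 p rfl)
    have h3 : Nat.card (stabilizer C Q) ∣ 3 := by
      have hcop : Nat.Coprime (Nat.card (stabilizer C Q)) 409 :=
        (Nat.Coprime.symm ((Nat.Prime.coprime_iff_not_dvd (by norm_num)).2 hnd))
      exact hcop.dvd_of_dvd_mul_right (by simpa using hd)
    exact Nat.le_of_dvd (by norm_num) h3
  calc Nat.card C = _ := h1.symm
    _ ≤ 3 * 3 := Nat.mul_le_mul hstab horb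
    _ = 9 := by norm_num

/-- No finite simple group has order 1004913 = 3^3 * 7 * 13 * 409. -/
theorem result {G : Type*} [Group G] [Finite G] [IsSimpleGroup G] : Nat.card G ≠ 1004913 := by
  intro hG
  haveI : Fact (Nat.Prime 409) := ⟨by norm_num⟩
  haveI : Fact (Nat.Prime 7) := ⟨by norm_num⟩
  haveI : Fact (Nat.Prime 13) := ⟨by norm_num⟩
  obtain ⟨c409, d409, m409, l409⟩ := sylow_num hG 409 2457 (by norm_num) (by norm_num) (by norm_num)
  obtain ⟨c7, d7, m7, l7⟩ := sylow_num hG 7 143559 (by norm_num) (by norm_num) (by norm_num)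
  obtain ⟨c13, d13, m13, l13⟩ := sylow_num hG 13 77301 (by norm_num) (by norm_num) (by norm_num)
  have n409 : Nat.card (Sylow 409 G) = 819 := by
    obtain ⟨k, hk⟩ := d409
    generalize Nat.card (Sylow 409 G) = n at hk m409 l409 ⊢
    have hk6 : k ≤ 6 := by
      by_contra h
      have := Nat.mul_le_mul l409 (show 7 ≤ k by omega)
      omega
    interval_cases k <;> omega
  have n7 : 47853 ≤ Nat.card (Sylow 7 G) := by
    obtain ⟨k, hk⟩ := d7
    generalize Nat.card (Sylow 7 G) = n at hk m7 l7 ⊢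
    have hk6 : k ≤ 351 := by
      by_contra h
      have := Nat.mul_le_mul l7 (show 352 ≤ k by omega)
      omega
    interval_cases k <;> omega
  have n13 : 25767 ≤ Nat.card (Sylow 13 G) := by
    obtain ⟨k, hk⟩ := d13
    generalize Nat.card (Sylow 13 G) = n at hk m13 l13 ⊢
    have hk6 : k ≤ 189 := by
      by_contra h
      have := Nat.mul_le_mul l13 (show 190 ≤ k by omega)
      omega
    interval_cases k <;> omega
  obtain ⟨p, hp3, hpC⟩ := cent_bound hG c409 n409
  have e3 := class_count p 3 hp3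
  have e7 := count_order 7 c7
  have e13 := count_order 13 c13
  have e409 := count_order 409 c409
  have tot := four_sum (G := G)
  rw [hG] at e3 tot
  rw [n409] at e409
  have e3' : 1004913 ≤ 9 * Nat.card {g : G // orderOf g = 3} :=
    e3.trans (Nat.mul_le_mul_right _ hpC)
  have e7' : 47853 * (7 - 1) ≤ Nat.card {g : G // orderOf g = 7} :=
    (Nat.mul_le_mul_right _ n7).trans e7
  have e13' : 25767 * (13 - 1) ≤ Nat.card {g : G // orderOf g = 13} :=
    (Nat.mul_le_mul_right _ n13).trans e13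
  omega

end Cfsg.Agent.S1002
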