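import Cfsg.Statements.S1039
import Cfsg.Agent.Lib.Helper7.Cox1
import Cfsg.Agent.Lib.Helper11.WG2Main
import Cfsg.Agent.Lib.Helper11.WB2Main
import Cfsg.Agent.Lib.Helper11.WD4Main
import Cfsg.Agent.Lib.Helper11.WF4Main
import Cfsg.Agent.Lib.Helper11.WE6Main
import Cfsg.Agent.Lib.Helper11.WE7Main
import Cfsg.Agent.Lib.Helper11.WE8Main

set_option autoImplicit false
open Cfsg

namespace Cfsg.Agent.S1039

/-- `N/H ≅ W`: there is a surjective homomorphism from `N` onto the Coxeter group of the type (Mathlib's Coxeter matrix G₂, B₂, F₄, E₆, E₇, E₈, nodes numbered as the fundamental roots) with kernel `H`, mapping each `n_{p_i}` to the `i`-th simple reflection. -/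
theorem result {F : Type*} [Field F]
    (p : Cfsg.Lie.ChevalleyDatum × (Σ n : ℕ, CoxeterMatrix (Fin n)))
    (hp : p ∈ [(Cfsg.Lie.chevG2, ⟨2, CoxeterMatrix.G₂⟩), (Cfsg.Lie.chevB2, ⟨2, CoxeterMatrix.B 2⟩), (Cfsg.Lie.chevD4, ⟨4, Cfsg.Lie.coxeterD4⟩), (Cfsg.Lie.chevF4, ⟨4, CoxeterMatrix.F₄⟩),
      (Cfsg.Lie.chevE6, ⟨6, CoxeterMatrix.E₆⟩), (Cfsg.Lie.chevE7, ⟨7, CoxeterMatrix.E₇⟩), (Cfsg.Lie.chevE8, ⟨8, CoxeterMatrix.E₈⟩)]) :
    ∃ φ : ↥(p.1.monomialSubgroup F) →* p.2.2.Group, Function.Surjective φ ∧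
      φ.ker = (p.1.diagonalSubgroup F).subgroupOf (p.1.monomialSubgroup F) ∧
      ∀ (i : Fin p.2.1) (g : ↥(p.1.monomialSubgroup F)),
        ((g : GL p.1.Idx F) : Matrix p.1.Idx p.1.Idx F) = p.1.nMat F (p.1.simple i) 1 → φ g = p.2.2.simple i := by
  simp only [List.mem_cons, List.mem_nil_iff, or_false] at hp
  rcases hp with rfl | rfl | rfl | rfl | rfl | rfl | rfl
  · exact Lib.Helper7.sys5G2.weyl_hom F 3 (by decide) (n := 2) rfl CoxeterMatrix.G₂ Lib.Helper7.relG2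
      (by rw [Lib.Helper11.WG2M.card_eq]; norm_num) (by rw [Lib.Helper11.WG2M.card_eq]; exact Lib.Helper7.cardWG2.ge)
  · exact Lib.Helper7.sys5B2.weyl_hom F 3 (by decide) (n := 2) rfl (CoxeterMatrix.B 2) Lib.Helper7.relB2
      (by rw [Lib.Helper11.WB2M.card_eq]; norm_num) (by rw [Lib.Helper11.WB2M.card_eq]; exact Lib.Helper7.cardWB2.ge)
  · exact Lib.Helper7.sys5D4.weyl_hom F 15 (by decide) (n := 4) rfl Cfsg.Lie.coxeterD4 Lib.Helper7.relD4c
      (by rw [Lib.Helper11.WD4M.card_eq]; norm_num) (by rw [Lib.Helper11.WD4M.card_eq]; exact Lib.Helper7.cardWD4.ge)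
  · exact Lib.Helper7.sys5F4.weyl_hom F 15 (by decide) (n := 4) rfl CoxeterMatrix.F₄ Lib.Helper7.relF4
      (by rw [Lib.Helper11.WF4M.card_eq]; norm_num) (by rw [Lib.Helper11.WF4M.card_eq]; exact Lib.Helper7.cardWF4.ge)
  · exact Lib.Helper7.sys5E6.weyl_hom F 63 (by decide) (n := 6) rfl CoxeterMatrix.E₆ Lib.Helper7.relE6c
      (by rw [Lib.Helper11.WE6M.card_eq]; norm_num) (by rw [Lib.Helper11.WE6M.card_eq]; exact Lib.Helper7.cardWE6.ge)
  · exact Lib.Helper7.sys5E7.weyl_hom F 127 (by decide) (n := 7) rfl CoxeterMatrix.E₇ Lib.Helper7.relE7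
      (by rw [Lib.Helper11.WE7M.card_eq]; norm_num) (by rw [Lib.Helper11.WE7M.card_eq]; exact Lib.Helper7.cardWE7.ge)
  · exact Lib.Helper7.sys5E8.weyl_hom F 255 (by decide) (n := 8) rfl CoxeterMatrix.E₈ Lib.Helper7.relE8
      (by rw [Lib.Helper11.WE8M.card_eq]; norm_num) (by rw [Lib.Helper11.WE8M.card_eq]; exact Lib.Helper7.cardWE8.ge)

end Cfsg.Agent.S1039
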