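import Mathlib
import Cfsg.Statements.S1250
import Cfsg.Agent.Lib.Helper8.Basic

set_option autoImplicit false
open Cfsg

namespace Cfsg.Agent.S1250

open Cfsg.Agent.Lib.Helper8
open scoped Pointwise

/-- Let S be a Sylow p-subgroup of the finite group G, A ≤ S strongly closed in S, and N a normal subgroup. Then the image of A in G ⧸ N is strongly closed in the image of S (which is a Sylow p-subgroup of G ⧸ N). -/
theorem result {G : Type*} [Group G] [Finite G] {p : ℕ} [Fact p.Prime] (S : Sylow p G) (A : Subgroup G) (hA : Cfsg.IsStronglyClosed A (S : Subgroup G)) (N : Subgroup G) [N.Normal] : Cfsg.IsStronglyClosed (A.map (QuotientGroup.mk' N)) ((S : Subgroup G).map (QuotientGroup.mk' N)) := by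
  refine ⟨Subgroup.map_mono hA.1, ?_⟩
  rintro _ ⟨a, ha, rfl⟩ q hq
  obtain ⟨g, rfl⟩ := QuotientGroup.mk_surjective q
  obtain ⟨s, hs, hs'⟩ := hq
  -- g a g⁻¹ ∈ S ⊔ N
  have hmem : g * a * g⁻¹ ∈ (S : Subgroup G) ⊔ N := by
    have h1 : s⁻¹ * (g * a * g⁻¹) ∈ N := by
      rw [← QuotientGroup.eq]
      exact hs'
    have : g * a * g⁻¹ = s * (s⁻¹ * (g * a * g⁻¹)) := by group
    rw [this]
    exact Subgroup.mul_mem _ (Subgroup.mem_sup_left hs) (Subgroup.mem_sup_right h1)
  have hY : IsPGroup p (Subgroup.zpowers (g * a * g⁻¹)) := by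
    have h1 : IsPGroup p (Subgroup.zpowers a) := S.2.to_le (by
      rw [Subgroup.zpowers_le]; exact hA.1 ha)
    have h2 := isPGroup_conjMap h1 g
    refine h2.to_le ?_
    rw [Subgroup.zpowers_le]
    exact conj_mem_conjMap (Subgroup.mem_zpowers a)
  obtain ⟨c, hc, hsup, -⟩ := exists_conj_sup_isPGroup ((S : Subgroup G) ⊔ N) S _ S.2 hY le_sup_left
    (by rw [Subgroup.zpowers_le]; exact hmem)
  have heq := S.is_maximal' hsup le_sup_left
  have h3 : c * (g * a * g⁻¹) * c⁻¹ ∈ (S : Subgroup G) := by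
    rw [← heq]
    exact Subgroup.mem_sup_right (conj_mem_conjMap (Subgroup.mem_zpowers _))
  have h4 : (c * g) * a * (c * g)⁻¹ ∈ A := by
    apply hA.2 a ha
    have e : c * g * a * (c * g)⁻¹ = c * (g * a * g⁻¹) * c⁻¹ := by group
    rw [e]; exact h3
  -- write c = s' * n
  have hc' : c ∈ ((S : Subgroup G) : Set G) * (N : Set G) := by
    rw [← Subgroup.mul_normal]; exact hc
  obtain ⟨s', hs1, n, hn, rfl⟩ := hc'
  have h5 : s'⁻¹ * ((s' * n * g) * a * (s' * n * g)⁻¹) * s'⁻¹⁻¹ ∈ A := by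
    apply hA.2 _ h4
    exact Subgroup.mul_mem _ (Subgroup.mul_mem _ (Subgroup.inv_mem _ hs1) (hA.1 h4)) (Subgroup.inv_mem _ (Subgroup.inv_mem _ hs1))
  refine ⟨_, h5, ?_⟩
  have hn1 : (QuotientGroup.mk n : G ⧸ N) = 1 := (QuotientGroup.eq_one_iff n).mpr hn
  simp only [QuotientGroup.mk'_apply, QuotientGroup.mk_mul, QuotientGroup.mk_inv, hn1]
  group

end Cfsg.Agent.S1250
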