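import Cfsg.Statements.S1251
import Cfsg.Agent.Lib.Helper16.SCl
import Cfsg.Agent.Lib.Helper17.Cores

set_option autoImplicit false
open Cfsg

namespace Cfsg.Agent.S1251

open Cfsg.Agent.Lib.Helper16


/-- Let S be a Sylow 2-subgroup of the finite group G and A ≤ S strongly closed in S. If H is a subgroup normalized by A with no nontrivial normal subgroup of odd order and A ∩ H = 1, then A ≤ C_G(H). -/
theorem result {G : Type*} [Group G] [Finite G] (S : Sylow 2 G) (A : Subgroup G) (hA : Cfsg.IsStronglyClosed A (S : Subgroup G)) (H : Subgroup G) (hAH : A ≤ Subgroup.normalizer (H : Set G)) (hO : Cfsg.oddCore ↥H = ⊥) (hdisj : A ⊓ H = ⊥) : A ≤ Subgroup.centralizer (H : Set G) := by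
  have : Fact (Nat.Prime 2) := ⟨Nat.prime_two⟩
  set Y : Subgroup G := H ⊔ A with hY
  have hHY : H ≤ Y := le_sup_left
  have hAY : A ≤ Y := le_sup_right
  have hYN : Y ≤ Subgroup.normalizer (H : Set G) := sup_le Subgroup.le_normalizer hAH
  have hHn : (H.subgroupOf Y).Normal := (Subgroup.normal_subgroupOf_iff_le_normalizer hHY).mpr hYN
  have hsup : H.subgroupOf Y ⊔ A.subgroupOf Y = ⊤ := by
    rw [← Subgroup.subgroupOf_sup hHY hAY, ← hY, Subgroup.subgroupOf_self]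
  have hdj : A.subgroupOf Y ⊓ H.subgroupOf Y = ⊥ := by
    rw [eq_bot_iff]
    intro x hx
    have h1 : (x : G) ∈ A ⊓ H := ⟨Subgroup.mem_subgroupOf.mp hx.1, Subgroup.mem_subgroupOf.mp hx.2⟩
    rw [hdisj, Subgroup.mem_bot] at h1
    exact Subgroup.mem_bot.mpr (Subtype.ext h1)
  have hO' : Cfsg.pPrimeCore 2 ↥(H.subgroupOf Y) = ⊥ := by
    have h1 := Cfsg.Agent.Lib.Helper17.pPrimeCore_map_le 2 (Subgroup.subgroupOfEquivOfLe hHY)
    have hO2 : Cfsg.pPrimeCore 2 ↥H = ⊥ := hO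
    rw [hO2, le_bot_iff] at h1
    exact (Subgroup.map_eq_bot_iff_of_injective _ (Subgroup.subgroupOfEquivOfLe hHY).injective).mp h1
  have hA2 : IsPGroup 2 A := S.2.to_le hA.1
  have hA2' : IsPGroup 2 (A.subgroupOf Y) := hA2.comap_of_injective Y.subtype Y.subtype_injective
  obtain ⟨T, hT⟩ := hA2'.exists_le_sylow
  have hTG : IsPGroup 2 ((T : Subgroup ↥Y).map Y.subtype) := T.2.map _
  obtain ⟨c, hc⟩ := Cfsg.Agent.Lib.Helper2.exists_conj_mem_sylow S hTG
  have hAT : ∀ x ∈ A, x ∈ (T : Subgroup ↥Y).map Y.subtype := by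
    intro x hx
    exact ⟨⟨x, hAY hx⟩, hT (Subgroup.mem_subgroupOf.mpr hx), rfl⟩
  have hcA : ∀ x ∈ A, c * x * c⁻¹ ∈ A := fun x hx => hA.2 x hx c (hc x (hAT x hx))
  have hsurj : Function.Surjective (fun x : A => (⟨c * x * c⁻¹, hcA x x.2⟩ : A)) := by
    apply Finite.injective_iff_surjective.mp
    intro x y hxy
    have h1 : c * (x : G) * c⁻¹ = c * (y : G) * c⁻¹ := congrArg Subtype.val hxy
    exact Subtype.ext (mul_left_cancel (mul_right_cancel h1))
  have hcl : ∀ a ∈ A.subgroupOf Y, ∀ g : ↥Y, g * a * g⁻¹ ∈ T → g * a * g⁻¹ ∈ A.subgroupOf Y := by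
    intro a ha g hg
    have ha' : (a : G) ∈ A := Subgroup.mem_subgroupOf.mp ha
    have h1 : ((g * a * g⁻¹ : ↥Y) : G) ∈ (T : Subgroup ↥Y).map Y.subtype := ⟨_, hg, rfl⟩
    have h2 := hc _ h1
    have e : c * ((g * a * g⁻¹ : ↥Y) : G) * c⁻¹ = (c * (g : G)) * (a : G) * (c * (g : G))⁻¹ := by
      simp only [Subgroup.coe_mul, Subgroup.coe_inv]; group
    rw [e] at h2
    have h3 := hA.2 _ ha' _ h2
    obtain ⟨x, hx⟩ := hsurj ⟨_, h3⟩
    have h4 : c * (x : G) * c⁻¹ = (c * (g : G)) * (a : G) * (c * (g : G))⁻¹ := congrArg Subtype.val hx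
    rw [← e] at h4
    have h5 : (x : G) = ((g * a * g⁻¹ : ↥Y) : G) := mul_left_cancel (mul_right_cancel h4)
    rw [Subgroup.mem_subgroupOf, ← h5]
    exact x.2
  have key := stronglyClosed_centralizes_aux (H.subgroupOf Y) (A.subgroupOf Y) hsup hdj hO' T hT hcl
  intro a ha
  rw [Subgroup.mem_centralizer_iff]
  intro h hh
  have h1 := key (show (⟨a, hAY ha⟩ : ↥Y) ∈ A.subgroupOf Y from Subgroup.mem_subgroupOf.mpr ha)
  have h2 := Subgroup.mem_centralizer_iff.mp h1 ⟨h, hHY hh⟩ (Subgroup.mem_subgroupOf.mpr hh)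
  exact congrArg Subtype.val h2

end Cfsg.Agent.S1251
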