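import Mathlib
import Cfsg.Statements.S1292
import Cfsg.Agent.Lib.Helper8.CharIn

set_option autoImplicit false
open Cfsg

namespace Cfsg.Agent.S1292

open Cfsg.Agent.Lib.Helper8

theorem result {G : Type*} [Group G] [Finite G] (h : ∀ t : G, orderOf t = 2 → Cfsg.generalizedFittingSubgroup ↥(Subgroup.centralizer ({t} : Set G)) = Cfsg.pCore 2 ↥(Subgroup.centralizer ({t} : Set G))) (T : Subgroup G) (hT : IsPGroup 2 ↥T) (hT1 : T ≠ ⊥) : Cfsg.generalizedFittingSubgroup ↥(Subgroup.normalizer (T : Set G)) = Cfsg.pCore 2 ↥(Subgroup.normalizer (T : Set G)) := by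
  haveI : Fact (Nat.Prime 2) := ⟨Nat.prime_two⟩
  rw [generalizedFitting_eq_pCore_iff_charIn]
  obtain ⟨t, htT, ht2, htc⟩ := exists_central_orderOf_eq hT hT1
  have hC := (generalizedFitting_eq_pCore_iff_charIn 2 _).mp (h t ht2)
  have hTC : T ≤ Subgroup.centralizer ({t} : Set G) := by
    intro x hx
    rw [Subgroup.mem_centralizer_singleton_iff]
    exact htc x hx
  have hD := hC.normalizer hT hTC
  intro K hK hK'
  have h1 := commutator_eq_bot_of_subnIn hK hK' hT Subgroup.le_normalizer le_rfl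
  rw [Subgroup.commutator_eq_bot_iff_le_centralizer] at h1
  have h2 : K ≤ Subgroup.centralizer ({t} : Set G) :=
    h1.trans (Subgroup.centralizer_le (by simpa using htT))
  exact hD K (hK.of_le (le_inf h2 hK.1) inf_le_right) hK'

end Cfsg.Agent.S1292
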