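import Mathlib
import Cfsg.Statements.S1293
import Cfsg.Agent.Lib.Helper8.PBalance

set_option autoImplicit false
open Cfsg
open Cfsg.Agent.Lib.Helper8

namespace Cfsg.Agent.S1293

/-- Let G be finite with L_{p'}(G) = 1, and H = N_G(P) for a nontrivial p-subgroup P. Then L_{p'}(H) = 1 and O_{p'}(H) ≤ O_{p'}(G). -/
theorem result {G : Type*} [Group G] [Finite G] (p : ℕ) [Fact p.Prime] (hL : Cfsg.pLayer p G = ⊥) (P : Subgroup G) (hP : IsPGroup p ↥P) (hP1 : P ≠ ⊥) : Cfsg.pLayer p ↥(Subgroup.normalizer (P : Set G)) = ⊥ ∧ (Cfsg.pPrimeCore p ↥(Subgroup.normalizer (P : Set G))).map (Subgroup.normalizer (P : Set G)).subtype ≤ Cfsg.pPrimeCore p G := by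
  constructor
  · rw [eq_bot_iff]
    apply sSup_le
    intro K hK
    exfalso
    have hK' := (isPComponent_iff p K).mp hK
    have h1 : SubnIn (K.map (Subgroup.normalizer (P : Set G)).subtype) (Subgroup.normalizer (P : Set G)) :=
      subnIn_map_subtype.mpr hK'.1
    have h2 : PQS p (K.map (Subgroup.normalizer (P : Set G)).subtype) :=
      (pqs_map_iff _ (Subgroup.normalizer (P : Set G)).subtype_injective p K).mpr hK'.2
    exact (local_of_pLayer_eq_bot p hL hP h1).2 h2
  · apply (local_of_pLayer_eq_bot p hL hP _).1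
    · rw [card_map_subtype]; exact coprime_card_pPrimeCore p
    · rw [subnIn_map_subtype]; exact Subgroup.Normal.isSubnormal inferInstance

end Cfsg.Agent.S1293
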