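import Cfsg.Statements.S1339
import Mathlib
import Cfsg.Agent.Lib.Helper8.FStarP
import Cfsg.Agent.S1325

set_option autoImplicit false
open Cfsg

namespace Cfsg.Agent.S1339

open Matrix Cfsg.Agent.Lib.Helper8

theorem fstar_of_cent {X : Type*} [Group X] [Finite X] (p : ℕ) [Fact p.Prime] (Q : Subgroup X)
    (hQn : Q.Normal) (hQp : IsPGroup p Q) (hC : Subgroup.centralizer (Q : Set X) ≤ Q) :
    Cfsg.generalizedFittingSubgroup X = Cfsg.pCore p X := by
  have hp : p.Prime := Fact.out
  have h1 : Cfsg.pPrimeCore p X = ⊥ := by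
    rw [eq_bot_iff]
    apply sSup_le
    rintro N ⟨hNn, hNc⟩
    obtain ⟨k, hk⟩ := IsPGroup.iff_card.mp hQp
    have hcop : Nat.Coprime (Nat.card N) (Nat.card Q) := by
      rw [hk]; exact Nat.Coprime.pow_right k hNc
    have hdis : N ⊓ Q = ⊥ := Subgroup.inf_eq_bot_of_coprime hcop
    have hNQ : N ≤ Q := by
      intro x hx
      apply hC
      rw [Subgroup.mem_centralizer_iff]
      intro y hy
      exact (Subgroup.commute_of_normal_of_disjoint N Q hNn hQn (disjoint_iff.2 hdis) x y hx hy).eq.symm
    rw [← hdis]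
    exact le_inf le_rfl hNQ
  have h2 := fitting_eq_pCore_of_pPrimeCore_eq_bot p h1
  have hQle : Q ≤ Cfsg.pCore p X := le_pCore_of_normal hQn hQp
  apply le_antisymm
  · apply Cfsg.Agent.S1325.result (Cfsg.pCore p X) h2.le
    exact (Subgroup.centralizer_le hQle).trans (hC.trans hQle)
  · rw [← h2]
    exact le_sup_right

variable {F : Type*} [Field F] {n : ℕ}

/-- facts about matrices commuting with `single i j 1` -/
theorem comm_facts (i j : Fin n) (c d : Matrix (Fin n) (Fin n) F)
    (hc : c * single i j (1 : F) = single i j (1 : F) * c) (hdc : d * c = 1)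
    (h1 : ∀ a : F, a ≠ 0 → a = 1) :
    c * single i i (1 : F) = single i i (1 : F) ∧ single j j (1 : F) * c = single j j (1 : F) := by
  have col : ∀ k, k ≠ i → c k i = 0 := by
    intro k hk
    have := congrFun (congrFun hc k) j
    rw [mul_single_apply_same, single_mul_apply_of_ne _ _ _ _ _ hk] at this
    simpa using this
  have row : ∀ l, l ≠ j → c j l = 0 := by
    intro l hl
    have := congrFun (congrFun hc i) l
    rw [mul_single_apply_of_ne _ _ _ _ _ hl, single_mul_apply_same] at this
    simpa using this.symm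
  have hij : c i i = c j j := by
    have := congrFun (congrFun hc i) j
    rw [mul_single_apply_same, single_mul_apply_same] at this
    simpa using this
  have hii : c i i = 1 := by
    apply h1
    intro h0
    have := congrFun (congrFun hdc i) i
    rw [Matrix.mul_apply, Matrix.one_apply_eq] at this
    have hz : ∑ k, d i k * c k i = 0 := by
      apply Finset.sum_eq_zero
      intro k _
      by_cases hk : k = i
      · rw [hk, h0, mul_zero]
      · rw [col k hk, mul_zero]
    rw [hz] at this
    exact zero_ne_one this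
  constructor
  · ext a b
    by_cases hb : b = i
    · subst hb
      rw [mul_single_apply_same, mul_one]
      by_cases ha : a = b
      · subst ha; rw [hii]; simp
      · rw [col a ha]; simp [Matrix.single_apply, Ne.symm ha]
    · rw [mul_single_apply_of_ne _ _ _ _ _ hb]
      simp [Matrix.single_apply, Ne.symm hb]
  · ext a b
    by_cases ha : a = j
    · subst ha
      rw [single_mul_apply_same, one_mul]
      by_cases hb : b = a
      · subst hb; rw [← hij, hii]; simp
      · rw [row b hb]; simp [Matrix.single_apply, Ne.symm hb]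
    · rw [single_mul_apply_of_ne _ _ _ _ _ ha]
      simp [Matrix.single_apply, Ne.symm ha]

theorem ring_mul {𝓡 : Type*} [Ring 𝓡] (P e a b : 𝓡) (ha : P * (a - 1) * (1 - e) = 0)
    (hb : P * (b - 1) * (1 - e) = 0) (he : e * b = e) : P * (a * b - 1) * (1 - e) = 0 := by
  have : P * (a * b - 1) * (1 - e) = (P * (a - 1) * (1 - e)) * (b - 1) * (1 - e)
      + P * (a - 1) * (e * b - e) * (1 - e) + P * (a - 1) * (1 - e) + P * (b - 1) * (1 - e) := by
    noncomm_ring
  rw [this, ha, hb, he]; simp

theorem ring_conj {𝓡 : Type*} [Ring 𝓡] (f e g c c' : 𝓡) (hg : (1 - f) * (g - 1) * (1 - e) = 0)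
    (h1 : c * c' = 1) (hf : c * f = f) (hff : f * f = f) (he : e * c' = e) (hee : e * e = e) :
    (1 - f) * (c * g * c' - 1) * (1 - e) = 0 := by
  have hu : (1 - f) * c = (1 - f) * c * (1 - f) := by
    have : (1 - f) * c * (1 - f) = (1 - f) * c - (1 - f) * (c * f) := by noncomm_ring
    rw [this, hf, sub_mul 1 f f, one_mul, hff, sub_self, sub_zero]
  have hv : c' * (1 - e) = (1 - e) * (c' * (1 - e)) := by
    have : (1 - e) * (c' * (1 - e)) = c' * (1 - e) - (e * c') * (1 - e) := by noncomm_ring
    rw [this, he, mul_sub e 1 e, mul_one, hee, sub_self, sub_zero]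
  have e1 : (1 - f) * (c * g * c' - 1) * (1 - e)
      = ((1 - f) * c) * (g - 1) * (c' * (1 - e)) + (1 - f) * (c * c' - 1) * (1 - e) := by
    noncomm_ring
  have e2 : ((1 - f) * c * (1 - f)) * (g - 1) * ((1 - e) * (c' * (1 - e)))
      = (1 - f) * c * ((1 - f) * (g - 1) * (1 - e)) * (c' * (1 - e)) := by noncomm_ring
  rw [e1, h1, hu, hv, e2, hg]; simp

theorem ring_inv {𝓡 : Type*} [Ring 𝓡] (f R a a' : 𝓡) (ha : (1 - f) * (a - 1) * R = 0)
    (h1 : a' * a = 1) (hf : a' * f = f) (hff : f * f = f) : (1 - f) * (a' - 1) * R = 0 := by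
  have e1 : (1 - f) * a' * ((1 - f) * (a - 1) * R) = (1 - f) * (a' * a) * R - (1 - f) * a' * R
      - (1 - f) * (a' * f) * (a - 1) * R := by noncomm_ring
  have e2 : (1 - f) * f = 0 := by rw [sub_mul, one_mul, hff, sub_self]
  rw [ha, h1, hf, e2] at e1
  have e3 : (1 - f) * (a' - 1) * R
      = -((1 - f) * 1 * R - (1 - f) * a' * R - 0 * (a - 1) * R) := by noncomm_ring
  rw [e3, ← e1]; simp

theorem ring_nil {𝓡 : Type*} [Ring 𝓡] (f e A : 𝓡) (h : (1 - f) * A * (1 - e) = 0)
    (hf : A * f = 0) (he : e * A = 0) : A * A * A = 0 := by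
  have h1 : A * A * A = A * ((1 - f) * A * (1 - e)) * A + A * (1 - f) * A * (e * A)
      + (A * f) * A * A := by noncomm_ring
  rw [h1, h, hf, he]; simp

theorem ring_pow4 {𝓡 : Type*} [Ring 𝓡] (A : 𝓡) (h3 : A * A * A = 0) (h2 : A + A = 0) :
    (1 + A) ^ 4 = 1 := by
  have : (1 + A) ^ 4 = 1 + (A + A) + (A + A) + (A + A) * A + (A + A) * A + (A + A) * A
      + (A * A * A) + (A * A * A) + (A * A * A) + (A * A * A) + A * A * A * A := by noncomm_ring
  rw [this, h3, h2]; simp

theorem main_lemma [Fintype F] [DecidableEq F] (hF : Fintype.card F = 2) (i j : Fin n)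
    (hij : i ≠ j) (t : Matrix.SpecialLinearGroup (Fin n) F)
    (ht : (t : Matrix (Fin n) (Fin n) F) = Matrix.transvection i j 1) :
    ∃ Q : Subgroup ↥(Subgroup.centralizer ({t} : Set (Matrix.SpecialLinearGroup (Fin n) F))),
      Q.Normal ∧ IsPGroup 2 Q ∧ Subgroup.centralizer (Q : Set _) ≤ Q := by
  have h1 : ∀ a : F, a ≠ 0 → a = 1 := by
    intro a ha0
    by_contra ha1
    have : 2 < Fintype.card F :=
      Fintype.two_lt_card_iff.2 ⟨0, 1, a, zero_ne_one, Ne.symm ha0, Ne.symm ha1⟩
    omega
  have h2 : (1 : F) + 1 = 0 := by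
    by_contra h
    have := h1 _ h
    exact one_ne_zero (by linear_combination this : (1 : F) = 0)
  have facts : ∀ x : ↥(Subgroup.centralizer ({t} : Set (Matrix.SpecialLinearGroup (Fin n) F))),
      x.1.1 * single i i (1 : F) = single i i (1 : F) ∧
      single j j (1 : F) * x.1.1 = single j j (1 : F) := by
    intro x
    have hx := Subgroup.mem_centralizer_singleton_iff.1 x.2
    have hm : x.1.1 * (1 + single i j (1 : F)) = (1 + single i j (1 : F)) * x.1.1 := by
      have := congrArg Subtype.val hx
      rw [Matrix.SpecialLinearGroup.coe_mul, Matrix.SpecialLinearGroup.coe_mul] at this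
      have ht' : t.1 = 1 + single i j (1 : F) := ht
      rwa [ht'] at this
    apply comm_facts i j x.1.1 (x.1⁻¹).1 _ _ h1
    · rw [mul_add, add_mul, mul_one, one_mul] at hm
      exact add_left_cancel hm
    · have := congrArg Subtype.val (inv_mul_cancel x.1)
      rwa [Matrix.SpecialLinearGroup.coe_mul] at this
  have hff : single i i (1 : F) * single i i (1 : F) = single i i (1 : F) := by simp
  have hee : single j j (1 : F) * single j j (1 : F) = single j j (1 : F) := by simp
  have cmul : ∀ x y : ↥(Subgroup.centralizer ({t} : Set (Matrix.SpecialLinearGroup (Fin n) F))),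
      (x * y).1.1 = x.1.1 * y.1.1 := fun x y => rfl
  have cinv : ∀ x : ↥(Subgroup.centralizer ({t} : Set (Matrix.SpecialLinearGroup (Fin n) F))),
      x.1.1 * (x⁻¹).1.1 = 1 := by
    intro x
    rw [← cmul, mul_inv_cancel]; rfl
  let Q : Subgroup ↥(Subgroup.centralizer ({t} : Set (Matrix.SpecialLinearGroup (Fin n) F))) :=
    { carrier := {x | (1 - single i i (1 : F)) * (x.1.1 - 1) * (1 - single j j (1 : F)) = 0}
      one_mem' := by
        show (1 - single i i (1 : F)) * ((1 : Matrix (Fin n) (Fin n) F) - 1) * _ = 0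
        simp
      mul_mem' := by
        intro a b ha hb
        show _ * ((a * b).1.1 - 1) * _ = 0
        rw [cmul]
        exact ring_mul _ _ _ _ ha hb (facts b).2
      inv_mem' := by
        intro a ha
        show _ * ((a⁻¹).1.1 - 1) * _ = 0
        exact ring_inv _ _ a.1.1 _ ha (by rw [← cmul, inv_mul_cancel]; rfl) (facts a⁻¹).1 hff }
  refine ⟨Q, ?_, ?_, ?_⟩
  · constructor
    intro g hg c
    show _ * ((c * g * c⁻¹).1.1 - 1) * _ = 0
    rw [cmul, cmul]
    exact ring_conj _ _ _ _ _ hg (cinv c) (facts c).1 hff (facts c⁻¹).2 hee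
  · rintro ⟨g, hg⟩
    refine ⟨2, ?_⟩
    have key : g.1 ^ 4 = 1 := by
      apply Subtype.ext
      rw [Matrix.SpecialLinearGroup.coe_pow]
      have e0 : (g.1 : Matrix (Fin n) (Fin n) F) = 1 + (g.1.1 - 1) := by abel
      rw [e0]
      apply ring_pow4
      · apply ring_nil (single i i (1 : F)) (single j j (1 : F)) _ hg
        · rw [sub_mul, one_mul, (facts g).1, sub_self]
        · rw [mul_sub, mul_one, (facts g).2, sub_self]
      · rw [← two_smul F, ← one_add_one_eq_two, h2, zero_smul]
    apply Subtype.ext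
    apply Subtype.ext
    simpa using key
  · intro c hc
    rw [Subgroup.mem_centralizer_iff] at hc
    have hcii : c.1.1 i i = 1 := by
      have := congrFun (congrFun (facts c).1 i) i
      rw [mul_single_apply_same] at this
      simpa using this
    have hrow : ∀ k, k ≠ i → ∀ b, c.1.1 k b = (1 : Matrix (Fin n) (Fin n) F) k b := by
      intro k hk b
      let τ : Matrix.SpecialLinearGroup (Fin n) F :=
        ⟨Matrix.transvection i k 1, Matrix.det_transvection_of_ne i k (Ne.symm hk) 1⟩
      have hτC : τ ∈ Subgroup.centralizer ({t} : Set (Matrix.SpecialLinearGroup (Fin n) F)) := by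
        rw [Subgroup.mem_centralizer_singleton_iff]
        apply Subtype.ext
        show Matrix.transvection i k 1 * t.1 = t.1 * Matrix.transvection i k 1
        rw [show t.1 = Matrix.transvection i j 1 from ht]
        simp only [Matrix.transvection, add_mul, mul_add, one_mul, mul_one,
          single_mul_single_of_ne _ _ _ _ hk, single_mul_single_of_ne _ _ _ _ hij.symm]
        abel
      have hτQ : (⟨τ, hτC⟩ : ↥(Subgroup.centralizer
          ({t} : Set (Matrix.SpecialLinearGroup (Fin n) F)))) ∈ Q := by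
        show (1 - single i i (1 : F)) * (Matrix.transvection i k 1 - 1) * _ = 0
        simp [Matrix.transvection, sub_mul]
      have hcomm := hc ⟨τ, hτC⟩ hτQ
      have hm : (1 + single i k (1 : F)) * c.1.1 = c.1.1 * (1 + single i k (1 : F)) :=
        congrArg (fun y : ↥(Subgroup.centralizer
          ({t} : Set (Matrix.SpecialLinearGroup (Fin n) F))) => y.1.1) hcomm
      rw [mul_add, add_mul, mul_one, one_mul] at hm
      have hm2 : single i k (1 : F) * c.1.1 = c.1.1 * single i k (1 : F) := add_left_cancel hm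
      have hm' := congrFun (congrFun hm2 i) b
      rw [single_mul_apply_same, one_mul] at hm'
      by_cases hb : b = k
      · subst hb
        rw [hm', mul_single_apply_same, hcii]; simp
      · rw [hm', mul_single_apply_of_ne _ _ _ _ _ hb, Matrix.one_apply_ne (Ne.symm hb)]
    have hP0 : (1 - single i i (1 : F)) * (c.1.1 - 1) = 0 := by
      ext a b
      rw [sub_mul, one_mul, Matrix.sub_apply, Matrix.zero_apply]
      by_cases ha : a = i
      · subst ha; rw [single_mul_apply_same, one_mul, sub_self]
      · rw [single_mul_apply_of_ne _ _ _ _ _ ha, sub_zero, Matrix.sub_apply, hrow a ha b, sub_self]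
    show (1 - single i i (1 : F)) * (c.1.1 - 1) * _ = 0
    rw [hP0, zero_mul]

/-- Let F be a field with 2 elements, n ≥ 3, and t ∈ SL(n, F) a transvection (t = 1 + E_{ij}, i ≠ j). Then the generalized Fitting subgroup of C(t) is O_2(C(t)). -/
theorem result {F : Type*} [Field F] [Fintype F] [DecidableEq F] (hF : Fintype.card F = 2) (n : ℕ) (hn : 3 ≤ n) (i j : Fin n) (hij : i ≠ j) (t : Matrix.SpecialLinearGroup (Fin n) F) (ht : (t : Matrix (Fin n) (Fin n) F) = Matrix.transvection i j 1) : Cfsg.generalizedFittingSubgroup ↥(Subgroup.centralizer ({t} : Set (Matrix.SpecialLinearGroup (Fin n) F))) = Cfsg.pCore 2 ↥(Subgroup.centralizer ({t} : Set (Matrix.SpecialLinearGroup (Fin n) F))) := by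
  haveI : Fact (Nat.Prime 2) := ⟨Nat.prime_two⟩
  obtain ⟨Q, hQn, hQp, hQc⟩ := main_lemma hF i j hij t ht
  exact fstar_of_cent 2 Q hQn hQp hQc

end Cfsg.Agent.S1339
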