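import Cfsg.Statements.S1638
import Mathlib
import Cfsg.Agent.Lib.Helper10.M24Small

set_option autoImplicit false
open scoped Pointwise
open Cfsg

namespace Cfsg.Agent.S1638

open Cfsg Cfsg.Agent.Lib.Helper28 Cfsg.Agent.Lib.Helper10
open scoped Pointwise

def gens : List (List ℕ) := [
  [0,2,1,15,12,10,16,13,21,3,5,19,6,18,9,17,11,20,7,4,14,22,8,23],
  [0,2,1,13,17,4,6,7,18,15,9,12,8,14,16,20,3,22,11,21,10,19,5,23]]

def masks : ℕ := 0x800804020002000800800400018000408001080000200080401002000400100102800000120000082000011000006000040204100000009000000c000400840001010040002400004100010020002002000201000840000002810100008080000880000200808800040000802001004020008010003000000050000100824000001080000022000042001020000080840080000804001000800018000028000202001400000088002800020020000003000600008001040040020100001004020040000401040002021000000021000210004400000108000440030000050000000404005000002080060000000012000014000044010400006000000024010000844000012000000410004004000048040010010004004008000800800101008040010008020010020002000011000104018000042000000140008400040008010200004001010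00200201002200000020400180000a000040100000102000208000a0000050000c000002020020200000801000300000420004002002100004200000020800082000808008100048000010001002040000084020800010080002008008200040800000810000004820001000041000008800280000c000080008000090002400000810000108000050010400040008200800008020011000080200048000200008001200080020010080002200000a000000a0090000400200000060010100000408004800010020000300000c0000408004040020400040004011000040400014000010010002004002200000900000001820000200004240000200001200100408000402000400010400004400000c00001404000420000400002400080200800200100208000200008200200201000200020200002200010200040201000400020400080400008400040400400440000410000400400204000210000202000200200400800400000a000006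

def pg : ℕ := 0xe100df10de00dd10dc00da00d910d900d810d800d610d400d210d200d100d010d000cf10ce10ce00cd00cc10cc00cb10cb00ca10ca00c910c900c900c200bb00b400b200ad10ad00ac10ab00a810a510a400a200a100a0109e009c109b009a1093109210920090008c108c008a00891088008610860085008310830082008100801080007f107d107d007c007b007a007900780077007610760075007410731073007200701070006f006d006c006b106a106a00680067106700660065006410640063106210611061005e105d105d005c105c005b105b005a0059105900580057105700561056005500541054005310530052005110510050004f104f004e104d104b104b004a00491049004810480047004610451045004410440043104300421042004110410040103f003e103e003d003c003b103b003a103a00390038103800361036003510350034103400331033003210320031103100301030002f102f002e102e002d102d002c102c002b102b002a102a00291029002900210020101c001b101a101a00190018101800130012101110110010000f000e100d100d000c100c000a100a00091009000810071007000610060005100500041004000310030002100200011001000100000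

def pos : ℕ := 0x9809c06109007f0d505902f0e50730b60a903c08b07c0310a40d10c300902600000000000009d0db0bc0770a305d03206c0a80490a60ad0840e40dd08305604401c02800000000000000008002e08f0300e009407b0c805c0d00cd02d08508a07906009100800500000000000000000006e07403d0c407d05a0620c70860460c00e60e30420aa05102301700000000000000000000009309a0450a00660ce0e10330c10de08908d06807a04a01d0060000000000000000000000000bf0ae0cf02b06709905f06d07805b02c0cc0c20df0220040000000000000000000000000000750b00da0470bb04b0b803a0410a70370dc0b400f01400000000000000000000000000000005207002a0c60ca0d90580630b504806b0880020190000000000000000000000000000000000ab06f03809e06908e03409b0d60a50d200a00700000000000000000000000000000000000006a05304f0400a10710760b10cb0c50030150000000000000000000000000000000000000000e207e0430d809f0810720870bd02401800000000000000000000000000000000000000000003503f0d40af05e06404e0b700d01a0000000000000000000000000000000000000000000000d70be08c0950b905503900b0100000000000000000000000000000000000000000000000000360b20920ba0a206500e0130000000000000000000000000000000000000000000000000000b309609708204d0210110000000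000000000000000000000000000000000000000000000000d303e05005400c01600000000000000000000000000000000000000000000000000000000003b04c0570200270000000000000000000000000000000000000000000000000000000000000ac0c901b01200000000000000000000000000000000000000000000000000000000000000002901e02500000000000000000000000000000000000000000000000000000000000000000001f001000000000000000000000000000000000000000000000000000000000000000000000000000000000000000000000000000000000000000000000000000000000000000000000000000000000000000000000000000000000000000000000000000000000000000000000000000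

def rep (c : ℕ) : ℕ := cond (Nat.beq c 0) 24 (cond (Nat.beq c 1) 40 (cond (Nat.beq c 3) 10 (cond (Nat.beq c 5) 6 (0))))

def L5 : List ℕ := [8536111, 8657159, 9471495, 11010247, 12656663]

theorem L5_ok : octsChk 8388615 L5 = true := by decide +kernel

noncomputable def cls (m : ℕ) : ℕ := Nat.add (Nat.mul 2 (pcF (Nat.land 6 m))) (cond (inOcts L5 m) 1 0)

def isP (m : ℕ) : Bool := Nat.beq (Nat.land 8388609 m) 0

theorem gens_ok : gens.all (inK [2 ^ 23, 2 ^ 0, 6]) = true := by decide +kernel

theorem orb_ok : orbCheck gens cls rep masks pg 231 = true := by decide +kernel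

theorem cov_ok : cntW 24 2 (fun m => not (covH isP hsh2 masks pos 231 m)) = 0 := by decide +kernel

theorem orbits_std {s t : Finset GolayPt} (hs : s.card = 2) (ht : t.card = 2) (hs' : isP (mask s) = true)
    (ht' : isP (mask t) = true)
    (h : cls (mask s) = cls (mask t)) : ∃ g ∈ stabK [2 ^ 23, 2 ^ 0, 6], g • s = t :=
  orbits_weight (gens_spec gens_ok) orb_ok cov_ok hs ht hs' ht' h

noncomputable def fIn (m : ℕ) : Bool := and (isP m) (and (Nat.beq (Nat.land 6 m) 0) (inOcts L5 m))

noncomputable def fOut (m : ℕ) : Bool := and (isP m) (and (Nat.beq (Nat.land 6 m) 0) (not (inOcts L5 m)))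

theorem countIn : cntW 24 2 fIn = 30 := by decide +kernel

theorem countOut : cntW 24 2 fOut = 160 := by decide +kernel

theorem unmask6 : unmask 6 = {pt 1, pt 2} := by decide

theorem unmaskB : unmask 8388615 = {pt 23, pt 0} ∪ {pt 1, pt 2} := by decide

/-- the data of the reduction to the standard configuration -/
structure Std (a : Equiv.Perm GolayPt) (p q : GolayPt) (s : Finset GolayPt) : Prop where
  mem : a ∈ M24
  hp : a p = pt 23
  hq : a q = pt 0
  hs : a • s = unmask 6

theorem exists_std {p q : GolayPt} (hpq : p ≠ q) {s : Finset GolayPt} (hs : s.card = 2 ∧ p ∉ s ∧ q ∉ s) :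
    ∃ a, Std a p q s := by
  obtain ⟨hc, hp, hq⟩ := hs
  obtain ⟨x, y, hxy, rfl⟩ := Finset.card_eq_two.1 hc
  simp only [Finset.mem_insert, Finset.mem_singleton, not_or] at hp hq
  obtain ⟨a, ha, h0, h1, h2, h3⟩ := four_to_std (a := p) (b := q) (c := x) (d := y)
    (by simp [hpq, hp.1, hp.2, hq.1, hq.2, hxy])
  refine ⟨a, ha, h0, h1, ?_⟩
  rw [unmask6, Finset.smul_finset_insert, Finset.smul_finset_singleton, Equiv.Perm.smul_def, Equiv.Perm.smul_def,
    h2, h3]

theorem tr_P {a : Equiv.Perm GolayPt} {p q : GolayPt} {s : Finset GolayPt} (h : Std a p q s) (t : Finset GolayPt) :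
    (p ∉ t ∧ q ∉ t) ↔ isP (mask (a • t)) = true := by
  have h1 := disjoint_iff_mask (unmask 8388609) (a • t)
  rw [mask_unmask _ (by norm_num)] at h1
  rw [isP, ← h1, unmask_duad, Finset.disjoint_insert_left, Finset.disjoint_singleton_left, ← h.hp, ← h.hq,
    apply_mem_smul_iff, apply_mem_smul_iff]

theorem tr_disj {a : Equiv.Perm GolayPt} {p q : GolayPt} {s : Finset GolayPt} (h : Std a p q s)
    (t : Finset GolayPt) : Disjoint s t ↔ Nat.beq (Nat.land 6 (mask (a • t))) 0 = true := by
  rw [← smul_disjoint_iff a, h.hs, disjoint_iff_mask, mask_unmask _ (by norm_num)]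

theorem tr_card {a : Equiv.Perm GolayPt} {p q : GolayPt} {s : Finset GolayPt} (h : Std a p q s)
    (t : Finset GolayPt) : (s ∩ t).card = pcF (Nat.land 6 (mask (a • t))) := by
  rw [← card_smul_inter a, h.hs, card_inter_eq_pcF, mask_unmask _ (by norm_num)]

theorem tr_oct {a : Equiv.Perm GolayPt} {p q : GolayPt} {s : Finset GolayPt} (h : Std a p q s)
    (t : Finset GolayPt) :
    (∃ o ∈ octads, p ∈ o ∧ q ∈ o ∧ s ∪ t ⊆ o) ↔ inOcts L5 (mask (a • t)) = true := by
  have hB : unmask 8388615 = a • ({p, q} ∪ s) := by
    rw [Finset.smul_finset_union, h.hs, unmaskB, unmask6, Finset.smul_finset_insert, Finset.smul_finset_singleton,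
      Equiv.Perm.smul_def, Equiv.Perm.smul_def, h.hp, h.hq]
  rw [← exists_octad_iff L5_ok (by norm_num), hB, ← Finset.smul_finset_union, exists_octad_smul_iff h.mem]
  constructor
  · rintro ⟨o, ho, hp, hq, hst⟩
    refine ⟨o, ho, ?_⟩
    intro x hx
    simp only [Finset.mem_union, Finset.mem_insert, Finset.mem_singleton] at hx
    rcases hx with ((rfl | rfl) | hx) | hx
    · exact hp
    · exact hq
    · exact hst (Finset.mem_union_left _ hx)
    · exact hst (Finset.mem_union_right _ hx)
  · rintro ⟨o, ho, hsub⟩
    refine ⟨o, ho, hsub (by simp), hsub (by simp), ?_⟩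
    intro x hx
    apply hsub
    simp only [Finset.mem_union] at hx ⊢
    rcases hx with hx | hx
    · exact Or.inl (Or.inr hx)
    · exact Or.inr hx


/-- Fix two points p ≠ q and a pair s of two further points. Among the pairs avoiding p, q and disjoint from s, exactly 30 lie in an octad together with p, q and s and exactly 160 do not; and any two pairs other than s that meet s in equally many points and agree on that octad property are carried to one another by an element of the group of the length-24 code fixing p, q and s. -/
theorem result (p q : Cfsg.GolayPt) (hpq : p ≠ q) (s : Finset Cfsg.GolayPt) (hs : (s.card = 2 ∧ p ∉ s ∧ q ∉ s)) : {t : Finset Cfsg.GolayPt | (t.card = 2 ∧ p ∉ t ∧ q ∉ t) ∧ Disjoint s t ∧ (∃ o ∈ Cfsg.octads, p ∈ o ∧ q ∈ o ∧ s ∪ t ⊆ o)}.ncard = 30 ∧ {t : Finset Cfsg.GolayPt | (t.card = 2 ∧ p ∉ t ∧ q ∉ t) ∧ Disjoint s t ∧ ¬ (∃ o ∈ Cfsg.octads, p ∈ o ∧ q ∈ o ∧ s ∪ t ⊆ o)}.ncard = 160 ∧ ∀ t t' : Finset Cfsg.GolayPt, (t.card = 2 ∧ p ∉ t ∧ q ∉ t) → (t'.card = 2 ∧ p ∉ t' ∧ q ∉ t') → t ≠ s → t' ≠ s → (s ∩ t).card = (s ∩ t').card → ((∃ o ∈ Cfsg.octads, p ∈ o ∧ q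 ∈ o ∧ s ∪ t ⊆ o) ↔ (∃ o ∈ Cfsg.octads, p ∈ o ∧ q ∈ o ∧ s ∪ t' ⊆ o)) → ∃ g : Equiv.Perm Cfsg.GolayPt, g ∈ Cfsg.M24 ∧ g p = p ∧ g q = q ∧ g • s = s ∧ g • t = t' := by
  obtain ⟨a, h⟩ := exists_std hpq hs
  refine ⟨?_, ?_, ?_⟩
  · rw [← countIn, ← ncard_weight_eq]
    apply ncard_transport a
    intro U
    simp only [Set.mem_ofPred_eq]
    rw [Finset.card_smul_finset, tr_P h, tr_disj h, tr_oct h, fIn, Bool.and_eq_true, Bool.and_eq_true, and_assoc]
  · rw [← countOut, ← ncard_weight_eq]
    apply ncard_transport a
    intro U
    simp only [Set.mem_ofPred_eq]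
    rw [Finset.card_smul_finset, tr_P h, tr_disj h, tr_oct h, fOut, Bool.and_eq_true, Bool.and_eq_true,
      Bool.not_eq_true', Bool.not_eq_true, and_assoc]
  · rintro t t' ⟨ht, htp⟩ ⟨ht', htp'⟩ - - hcard hiff
    rw [tr_P h] at htp htp'
    rw [tr_card h, tr_card h] at hcard
    rw [tr_oct h, tr_oct h] at hiff
    have hb : inOcts L5 (mask (a • t)) = inOcts L5 (mask (a • t')) := by
      rw [Bool.eq_iff_iff]; exact hiff
    have hcls : cls (mask (a • t)) = cls (mask (a • t')) := by
      unfold cls
      rw [hcard, hb]
    obtain ⟨g, hg, hgs⟩ := orbits_std (s := a • t) (t := a • t') (by rw [Finset.card_smul_finset, ht])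
      (by rw [Finset.card_smul_finset, ht']) htp htp' hcls
    obtain ⟨hg1, hg2⟩ := mem_stabK.1 hg
    have hg3 : g • unmask 6 = unmask 6 := hg2 _ (by simp)
    have hg4 : g (pt 23) = pt 23 := (smul_unmask_two_pow_iff g (by norm_num)).1 (hg2 _ (by simp))
    have hg5 : g (pt 0) = pt 0 := (smul_unmask_two_pow_iff g (by norm_num)).1 (hg2 _ (by simp))
    refine ⟨a⁻¹ * g * a, M24.mul_mem (M24.mul_mem (M24.inv_mem h.mem) hg1) h.mem, ?_, ?_, ?_, ?_⟩
    · rw [Equiv.Perm.mul_apply, Equiv.Perm.mul_apply, h.hp, hg4, Equiv.Perm.inv_eq_iff_eq, h.hp]
    · rw [Equiv.Perm.mul_apply, Equiv.Perm.mul_apply, h.hq, hg5, Equiv.Perm.inv_eq_iff_eq, h.hq]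
    · rw [mul_smul, mul_smul, h.hs, hg3, ← h.hs, inv_smul_smul]
    · rw [mul_smul, mul_smul, hgs, inv_smul_smul]

end Cfsg.Agent.S1638
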