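import Cfsg.Statements.S1910
import Mathlib
import Cfsg.Agent.Lib.Helper16.Syl
import Cfsg.Agent.Lib.Helper16.SPE
import Cfsg.Agent.Lib.Helper1.Coprime

set_option autoImplicit false
open Cfsg Subgroup Cfsg.Agent.Lib.Helper16

namespace Cfsg.Agent.S1910


abbrev cj {G : Type*} [Group G] (g : G) (H : Subgroup G) : Subgroup G :=
  H.map (MulAut.conj g).toMonoidHom

theorem card_prod_le_of_disjoint {G : Type*} [Group G] [Finite G] {A B N : Subgroup G}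
    (hA : A ≤ N) (hB : B ≤ N) (hAB : A ⊓ B = ⊥) : Nat.card A * Nat.card B ≤ Nat.card N := by
  rw [← Nat.card_prod]
  apply Nat.card_le_card_of_injective
    (fun tc : A × B => (⟨(tc.1 : G) * tc.2, mul_mem (hA tc.1.2) (hB tc.2.2)⟩ : N))
  rintro ⟨t, c⟩ ⟨t', c'⟩ h
  have h1 : (t : G) * c = t' * c' := congrArg Subtype.val h
  have h2 : (t' : G)⁻¹ * t = c' * (c : G)⁻¹ := by
    calc (t' : G)⁻¹ * t = (t' : G)⁻¹ * (t * c) * (c : G)⁻¹ := by group
      _ = (t' : G)⁻¹ * (t' * c') * (c : G)⁻¹ := by rw [h1]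
      _ = _ := by group
  have h3 : (t' : G)⁻¹ * t ∈ A ⊓ B := by
    refine Subgroup.mem_inf.mpr ⟨mul_mem (inv_mem t'.2) t.2, ?_⟩
    rw [h2]
    exact mul_mem c'.2 (inv_mem c.2)
  rw [hAB, Subgroup.mem_bot] at h3
  have h4 : (t : G) = t' := (inv_mul_eq_one.mp h3).symm
  have h5 : (c : G) = c' := by
    rw [h4] at h1
    exact mul_left_cancel h1
  exact Prod.ext (Subtype.ext h4) (Subtype.ext h5)

theorem card_le_of_forall_mul {G : Type*} [Group G] [Finite G] {A B N : Subgroup G}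
    (hA : A ≤ N) (hB : B ≤ N)
    (h : ∀ x ∈ N, ∃ u ∈ A, ∃ t ∈ B, x = u * t) : Nat.card N ≤ Nat.card A * Nat.card B := by
  rw [← Nat.card_prod]
  apply Nat.card_le_card_of_surjective
    (fun tc : A × B => (⟨(tc.1 : G) * tc.2, mul_mem (hA tc.1.2) (hB tc.2.2)⟩ : N))
  rintro ⟨x, hx⟩
  obtain ⟨u, hu, t, ht, rfl⟩ := h x hx
  exact ⟨(⟨u, hu⟩, ⟨t, ht⟩), rfl⟩

theorem core {G : Type*} [Group G] [Finite G] (𝒞 : Set (Subgroup G))
    (hc1 : ∀ x : G, ∀ P ∈ 𝒞, cj x P ∈ 𝒞)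
    (hti : ∀ P1 ∈ 𝒞, ∀ P2 ∈ 𝒞, ∀ w : G, w ∈ P1 → w ∈ P2 → w ≠ 1 → (∃ k : ℕ, w ^ 2 ^ k = 1) →
      P1 = P2)
    (hcard : ∀ P1 ∈ 𝒞, ∀ P2 ∈ 𝒞, ∀ R1 R2 : Subgroup G, SylIn 2 R1 P1 → SylIn 2 R2 P2 →
      Nat.card R1 = Nat.card R2)
    (P1 P2 : Subgroup G) (h1 : P1 ∈ 𝒞) (h2 : P2 ∈ 𝒞) (hne : P1 ≠ P2) (T S : Subgroup G)
    (hT : SylIn 2 T (P2 ⊓ normalizer (P1 : Set G))) (hT1 : T ≠ ⊥) (hS : SylIn 2 S (P1 ⊔ T))
    (hTS : T ≤ S) :
    T ⊓ P1 = ⊥ ∧ (∀ t ∈ T, ∀ u ∈ S ⊓ normalizer (T : Set G) ⊓ P1, t * u = u * t) ∧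
    (∀ x ∈ S ⊓ normalizer (T : Set G), ∃ u ∈ S ⊓ normalizer (T : Set G) ⊓ P1, ∃ t ∈ T, x = u * t) ∧
    S ⊓ normalizer (T : Set G) ⊓ P1 ≤ P1 ⊓ normalizer (P2 : Set G) ∧
    Nat.card T ≤ Nat.card ↥(S ⊓ normalizer (T : Set G) ⊓ P1) ∧
    (S ⊓ normalizer (T : Set G) = S → SylIn 2 (S ⊓ normalizer (T : Set G) ⊓ P1) P1) ∧
    (S ⊓ normalizer (T : Set G) ≠ S →
      ∃ x : G, cj x T ≤ S ⊓ normalizer (T : Set G) ∧ T ⊓ cj x T = ⊥) := by
  haveI : Fact (Nat.Prime 2) := ⟨Nat.prime_two⟩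
  obtain ⟨N, hN⟩ : ∃ N, N = S ⊓ normalizer (T : Set G) := ⟨_, rfl⟩
  obtain ⟨U, hU⟩ : ∃ U, U = N ⊓ P1 := ⟨_, rfl⟩
  rw [← hN, ← hU]
  have hTP2 : T ≤ P2 := hT.le.trans inf_le_left
  have hTN1 : T ≤ normalizer (P1 : Set G) := hT.le.trans inf_le_right
  have hTN : T ≤ N := by rw [hN]; exact le_inf hTS le_normalizer
  have hUN : U ≤ N := by rw [hU]; exact inf_le_left
  have hUP1 : U ≤ P1 := by rw [hU]; exact inf_le_right
  have hNS : N ≤ S := by rw [hN]; exact inf_le_left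
  have hNn : N ≤ normalizer (T : Set G) := by rw [hN]; exact inf_le_right
  have h2el : ∀ w ∈ T, ∃ k : ℕ, w ^ 2 ^ k = 1 := fun w hw =>
    IsPGroup.exists_pow_eq_one' hT.isPGroup hw
  have ha : T ⊓ P1 = ⊥ := by
    rw [eq_bot_iff]
    intro w hw
    rw [Subgroup.mem_bot]
    by_contra hw1
    exact hne (hti P1 h1 P2 h2 w hw.2 (hTP2 hw.1) hw1 (h2el w hw.1))
  have hb : ∀ t ∈ T, ∀ u ∈ U, t * u = u * t := by
    intro t ht u hu
    have h3 : t * u * t⁻¹ * u⁻¹ ∈ T ⊓ P1 := by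
      refine Subgroup.mem_inf.mpr ⟨?_, ?_⟩
      · have h5 := (Subgroup.mem_normalizer_iff.mp (hNn (hUN hu)) t⁻¹).mp (inv_mem ht)
        have h4 := mul_mem ht h5
        have h6 : t * (u * t⁻¹ * u⁻¹) = t * u * t⁻¹ * u⁻¹ := by group
        rwa [h6] at h4
      · have h5 := (Subgroup.mem_normalizer_iff.mp (hTN1 ht) u).mp (hUP1 hu)
        exact mul_mem h5 (inv_mem (hUP1 hu))
    rw [ha, Subgroup.mem_bot] at h3
    calc t * u = (t * u * t⁻¹ * u⁻¹) * (u * t) := by group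
      _ = u * t := by rw [h3, one_mul]
  have hc : ∀ x ∈ N, ∃ u ∈ U, ∃ t ∈ T, x = u * t := by
    intro x hx
    obtain ⟨q, hq, t, ht, rfl⟩ :=
      (Cfsg.Agent.Lib.Helper1.mem_sup_of_le_normalizer hTN1).mp (hS.le (hNS hx))
    refine ⟨q, ?_, t, ht, rfl⟩
    rw [hU]
    refine Subgroup.mem_inf.mpr ⟨?_, hq⟩
    have := mul_mem hx (inv_mem (hTN ht))
    simpa using this
  obtain ⟨⟨t0, ht0⟩, ht01'⟩ := (Subgroup.ne_bot_iff_exists_ne_one).mp hT1
  have ht01 : t0 ≠ 1 := fun h => ht01' (Subtype.ext h)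
  have hd : U ≤ P1 ⊓ normalizer (P2 : Set G) := by
    intro u hu
    refine Subgroup.mem_inf.mpr ⟨hUP1 hu, ?_⟩
    apply mem_normalizer_of_conj_eq
    apply hti _ (hc1 u P2 h2) P2 h2 t0 _ (hTP2 ht0) ht01 (h2el t0 ht0)
    have h3 := conj_mem_conj (g := u) (hTP2 ht0)
    have e : u * t0 * u⁻¹ = t0 := by rw [← hb t0 ht0 u hu]; group
    rwa [e] at h3
  have hSn : P1 ⊔ T ≤ normalizer (P1 : Set G) := sup_le le_normalizer hTN1
  have hf1 : N = S → SylIn 2 U P1 := by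
    intro h
    have := hS.inf_normal le_sup_left hSn
    rw [hU, h]; exact this
  have hf2 : N ≠ S → ∃ x : G, cj x T ≤ N ∧ T ⊓ cj x T = ⊥ := by
    intro h
    have hlt : N < S := lt_of_le_of_ne hNS h
    obtain ⟨x, hxS, hxN, hxn⟩ := exists_mem_normalizer_of_lt hS.isPGroup hlt
    refine ⟨x, ?_, ?_⟩
    · rintro _ ⟨t, ht, rfl⟩
      have := (Subgroup.mem_normalizer_iff.mp hxn t).mp (hTN ht)
      simpa using this
    · rw [eq_bot_iff]
      intro w hw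
      rw [Subgroup.mem_bot]
      by_contra hw1
      have hxP2 : cj x P2 = P2 := hti _ (hc1 x P2 h2) P2 h2 w (conj_mono hTP2 x hw.2) (hTP2 hw.1)
        hw1 (h2el w hw.1)
      have hxnP2 : x ∈ normalizer (P2 : Set G) := mem_normalizer_of_conj_eq hxP2
      have hTeq : T = S ⊓ P2 := hT.eq_of_le (hS.isPGroup.to_le inf_le_left)
        (le_inf inf_le_right (inf_le_left.trans (hS.le.trans hSn))) (le_inf hTS hTP2)
      apply hxN
      rw [hN]
      refine Subgroup.mem_inf.mpr ⟨hxS, ?_⟩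
      rw [Subgroup.mem_normalizer_iff]
      intro t
      have e1 : t ∈ S ↔ x * t * x⁻¹ ∈ S := by
        constructor
        · intro ht
          exact mul_mem (mul_mem hxS ht) (inv_mem hxS)
        · intro ht
          have := mul_mem (mul_mem (inv_mem hxS) ht) hxS
          simpa [mul_assoc] using this
      have e2 := Subgroup.mem_normalizer_iff.mp hxnP2 t
      constructor
      · intro ht
        rw [hTeq] at ht ⊢
        exact Subgroup.mem_inf.mpr ⟨e1.mp ht.1, e2.mp ht.2⟩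
      · intro ht
        rw [hTeq] at ht ⊢
        exact Subgroup.mem_inf.mpr ⟨e1.mpr ht.1, e2.mpr ht.2⟩
  refine ⟨ha, hb, hc, hd, ?_, hf1, hf2⟩
  by_cases h : N = S
  · obtain ⟨R2, hR2, hTR2⟩ := exists_sylIn_ge hT.isPGroup hTP2
    rw [← hcard P2 h2 P1 h1 R2 U hR2 (hf1 h)]
    exact Subgroup.card_le_of_le hTR2
  · obtain ⟨x, hx1, hx2⟩ := hf2 h
    have e1 := card_prod_le_of_disjoint hTN hx1 hx2
    have e2 := card_le_of_forall_mul hUN hTN hc
    rw [card_conj] at e1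
    have e3 : Nat.card T * Nat.card T ≤ Nat.card U * Nat.card T := e1.trans e2
    exact Nat.le_of_mul_le_mul_right e3 Nat.card_pos


/-- Let Q be a tightly embedded subgroup of a finite group G, g an element outside N_G(Q), T a nontrivial Sylow 2-subgroup of Q^g ∩ N_G(Q), and S a Sylow 2-subgroup of QT containing T. Then T ∩ Q = 1, and N_S(T) is the direct product of T and N_S(T) ∩ Q, with N_S(T) ∩ Q isomorphic to T. -/
theorem result {G : Type*} [Group G] [Finite G] (Q : Subgroup G) (hQ : Cfsg.IsTightlyEmbedded Q)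
    (g : G) (hg : g ∉ Subgroup.normalizer (Q : Set G))
    (T : Subgroup G) (hT1 : T ≠ ⊥) (hT : T ≤ Q.map (MulAut.conj g).toMonoidHom ⊓ Subgroup.normalizer (Q : Set G))
    (hTsyl : IsPGroup 2 T ∧ ¬ 2 ∣ T.relIndex (Q.map (MulAut.conj g).toMonoidHom ⊓ Subgroup.normalizer (Q : Set G)))
    (S : Subgroup G) (hTS : T ≤ S) (hS : S ≤ Q ⊔ T) (hSsyl : IsPGroup 2 S ∧ ¬ 2 ∣ S.relIndex (Q ⊔ T)) :
    T ⊓ Q = ⊥ ∧
      T ⊓ (S ⊓ Subgroup.normalizer (T : Set G) ⊓ Q) = ⊥ ∧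
      ⁅T, S ⊓ Subgroup.normalizer (T : Set G) ⊓ Q⁆ = ⊥ ∧
      T ⊔ (S ⊓ Subgroup.normalizer (T : Set G) ⊓ Q) = S ⊓ Subgroup.normalizer (T : Set G) ∧
      Nonempty (↥(S ⊓ Subgroup.normalizer (T : Set G) ⊓ Q) ≃* T) := by
  classical
  haveI : Fact (Nat.Prime 2) := ⟨Nat.prime_two⟩
  let 𝒞 : Set (Subgroup G) := {P | ∃ x : G, P = cj x Q}
  have hc1 : ∀ x : G, ∀ P ∈ 𝒞, cj x P ∈ 𝒞 := by
    rintro x _ ⟨y, rfl⟩
    exact ⟨x * y, conj_conj Q y x⟩
  have hti : ∀ P1 ∈ 𝒞, ∀ P2 ∈ 𝒞, ∀ w : G, w ∈ P1 → w ∈ P2 → w ≠ 1 → (∃ k : ℕ, w ^ 2 ^ k = 1) →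
      P1 = P2 := by
    rintro _ ⟨x, rfl⟩ _ ⟨y, rfl⟩ w hw1 hw2 hw ⟨k, hk⟩
    by_contra hne
    have hz : x⁻¹ * y ∉ Subgroup.normalizer (Q : Set G) := by
      intro hz
      apply hne
      have h3 := conj_eq_of_mem_normalizer hz
      have h4 : cj y Q = cj x (cj (x⁻¹ * y) Q) := by
        rw [show cj x (cj (x⁻¹ * y) Q) = cj (x * (x⁻¹ * y)) Q from conj_conj Q _ _]
        congr 2
        group
      rw [h4]
      show cj x Q = cj x (Q.map (MulAut.conj (x⁻¹ * y)).toMonoidHom)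
      rw [h3]
    have hodd := hQ.2 _ hz
    have hw' : x⁻¹ * w * x ∈ Q ⊓ Q.map (MulAut.conj (x⁻¹ * y)).toMonoidHom := by
      refine Subgroup.mem_inf.mpr ⟨mem_conj.mp hw1, ?_⟩
      rw [mem_conj]
      have h5 := mem_conj.mp hw2
      have h6 : (x⁻¹ * y)⁻¹ * (x⁻¹ * w * x) * (x⁻¹ * y) = y⁻¹ * w * y := by group
      rw [h6]; exact h5
    have h7 : orderOf (x⁻¹ * w * x) ∣ Nat.card ↥(Q ⊓ Q.map (MulAut.conj (x⁻¹ * y)).toMonoidHom) := by
      have := orderOf_dvd_natCard (⟨x⁻¹ * w * x, hw'⟩ :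
        ↥(Q ⊓ Q.map (MulAut.conj (x⁻¹ * y)).toMonoidHom))
      rwa [Subgroup.orderOf_mk] at this
    have h8 : (x⁻¹ * w * x) ^ 2 ^ k = 1 := by
      have : (x⁻¹ * w * x) ^ 2 ^ k = x⁻¹ * w ^ 2 ^ k * x := by
        have := conj_pow (a := x⁻¹) (b := w) (i := 2 ^ k)
        simpa using this
      rw [this, hk]; group
    have h9 : orderOf (x⁻¹ * w * x) ∣ 2 ^ k := orderOf_dvd_of_pow_eq_one h8
    have h10 : Nat.Coprime (2 ^ k) (Nat.card ↥(Q ⊓ Q.map (MulAut.conj (x⁻¹ * y)).toMonoidHom)) :=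
      Nat.Coprime.pow_left _ (Nat.coprime_two_left.mpr hodd)
    have h11 : orderOf (x⁻¹ * w * x) = 1 := Nat.eq_one_of_dvd_coprimes h10 h9 h7
    rw [orderOf_eq_one_iff] at h11
    apply hw
    calc w = x * (x⁻¹ * w * x) * x⁻¹ := by group
      _ = 1 := by rw [h11]; group
  have hcard : ∀ P1 ∈ 𝒞, ∀ P2 ∈ 𝒞, ∀ R1 R2 : Subgroup G, SylIn 2 R1 P1 → SylIn 2 R2 P2 →
      Nat.card R1 = Nat.card R2 := by
    have key : ∀ P1 ∈ 𝒞, ∀ P2 ∈ 𝒞, ∀ R1 R2 : Subgroup G, SylIn 2 R1 P1 → SylIn 2 R2 P2 →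
        Nat.card R1 ≤ Nat.card R2 := by
      rintro _ ⟨x, rfl⟩ _ ⟨y, rfl⟩ R1 R2 hR1 hR2
      have h3 := hR1.map_conj (y * x⁻¹)
      have h4 : (cj x Q).map (MulAut.conj (y * x⁻¹)).toMonoidHom = cj y Q := by
        rw [show (cj x Q).map (MulAut.conj (y * x⁻¹)).toMonoidHom = cj (y * x⁻¹ * x) Q from
          conj_conj Q _ _]
        congr 2
        group
      rw [h4] at h3
      have h5 := hR2.card_le h3.isPGroup h3.le
      rwa [card_conj] at h5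
    intro P1 h1 P2 h2 R1 R2 hR1 hR2
    exact le_antisymm (key P1 h1 P2 h2 R1 R2 hR1 hR2) (key P2 h2 P1 h1 R2 R1 hR2 hR1)
  have hQ𝒞 : Q ∈ 𝒞 := ⟨1, (conj_one Q).symm⟩
  have hP2𝒞 : cj g Q ∈ 𝒞 := ⟨g, rfl⟩
  have hne : Q ≠ cj g Q := fun h => hg (mem_normalizer_of_conj_eq h.symm)
  have hT' : SylIn 2 T (cj g Q ⊓ normalizer (Q : Set G)) := ⟨hT, hTsyl.1, hTsyl.2⟩
  have hS' : SylIn 2 S (Q ⊔ T) := ⟨hS, hSsyl.1, hSsyl.2⟩
  obtain ⟨ha, hb, hc, hd, he, hf1, hf2⟩ :=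
    core 𝒞 hc1 hti hcard Q (cj g Q) hQ𝒞 hP2𝒞 hne T S hT' hT1 hS' hTS
  obtain ⟨N, hN⟩ : ∃ N, N = S ⊓ normalizer (T : Set G) := ⟨_, rfl⟩
  obtain ⟨U, hU⟩ : ∃ U, U = N ⊓ Q := ⟨_, rfl⟩
  rw [← hN] at hb hc hd he hf1 hf2 ⊢
  rw [← hU] at hb hc hd he hf1 ⊢
  have hTN : T ≤ N := by rw [hN]; exact le_inf hTS le_normalizer
  have hUN : U ≤ N := by rw [hU]; exact inf_le_left
  have hUQ : U ≤ Q := by rw [hU]; exact inf_le_right
  have hTU : T ⊓ U = ⊥ := by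
    rw [eq_bot_iff, ← ha]
    exact inf_le_inf_left T hUQ
  refine ⟨ha, hTU, ?_, ?_, ?_⟩
  · rw [Subgroup.commutator_eq_bot_iff_le_centralizer]
    intro t ht
    rw [Subgroup.mem_centralizer_iff]
    intro u hu
    exact (hb t ht u hu).symm
  · apply le_antisymm (sup_le hTN hUN)
    intro x hx
    obtain ⟨u, hu, t, ht, rfl⟩ := hc x hx
    exact mul_mem (Subgroup.mem_sup_right hu) (Subgroup.mem_sup_left ht)
  · have hU2 : IsPGroup 2 U := hS'.isPGroup.to_le (hUN.trans (by rw [hN]; exact inf_le_left))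
    have hTcard1 : 1 < Nat.card T := by
      have : Nontrivial T := (Subgroup.nontrivial_iff_ne_bot T).mpr hT1
      exact Finite.one_lt_card
    -- the reverse inequality
    obtain ⟨T1, hT1s, hUT1⟩ := exists_sylIn_ge hU2 hd
    have hT1ne : T1 ≠ ⊥ := by
      rintro rfl
      have h3 : U = ⊥ := le_bot_iff.mp hUT1
      rw [h3] at he
      simp at he
      omega
    obtain ⟨S1, hS1s, hT1S1⟩ := exists_sylIn_ge (L := cj g Q ⊔ T1) hT1s.isPGroup le_sup_right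
    obtain ⟨-, -, -, hd', he', -, -⟩ :=
      core 𝒞 hc1 hti hcard (cj g Q) Q hP2𝒞 hQ𝒞 hne.symm T1 S1 hT1s hT1ne hS1s hT1S1
    have hU1card := hT'.card_le (hS1s.isPGroup.to_le (inf_le_left.trans inf_le_left)) hd'
    have hcardUT : Nat.card U = Nat.card T :=
      le_antisymm ((Subgroup.card_le_of_le hUT1).trans (he'.trans hU1card)) he
    by_cases h : N = S
    · have h3 := (hf1 h).map_conj g
      have h4 : SylIn 2 T (cj g Q) := sylIn_of_card_ge h3 hT'.isPGroup (hT'.le.trans inf_le_left)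
        (by rw [card_conj, hcardUT])
      obtain ⟨l, -, hl⟩ := h3.exists_conj h4
      exact ⟨((U.equivMapOfInjective _ (MulAut.conj g).injective).trans
        (((U.map (MulAut.conj g).toMonoidHom)).equivMapOfInjective _ (MulAut.conj l).injective)).trans
        (MulEquiv.subgroupCongr hl.symm)⟩
    · obtain ⟨x, hx1, hx2⟩ := hf2 h
      have hcardN : Nat.card U * Nat.card T = Nat.card N :=
        le_antisymm (card_prod_le_of_disjoint hUN hTN (by rw [inf_comm]; exact hTU))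
          (card_le_of_forall_mul hUN hTN hc)
      haveI hKn : (T.subgroupOf N).Normal :=
        (Subgroup.normal_subgroupOf_iff_le_normalizer hTN).mpr (by rw [hN]; exact inf_le_right)
      have cU : Nat.card (U.subgroupOf N) = Nat.card U :=
        Nat.card_congr (Subgroup.subgroupOfEquivOfLe hUN).toEquiv
      have cT : Nat.card (T.subgroupOf N) = Nat.card T :=
        Nat.card_congr (Subgroup.subgroupOfEquivOfLe hTN).toEquiv
      have cT' : Nat.card ((cj x T).subgroupOf N) = Nat.card T := by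
        rw [Nat.card_congr (Subgroup.subgroupOfEquivOfLe hx1).toEquiv, card_conj]
      have c1 : Subgroup.IsComplement' (U.subgroupOf N) (T.subgroupOf N) := by
        apply Subgroup.isComplement'_of_card_mul_and_disjoint
        · rw [cU, cT, hcardN]
        · rw [Subgroup.disjoint_def]
          intro y hy1 hy2
          have : (y : G) ∈ T ⊓ U := Subgroup.mem_inf.mpr
            ⟨Subgroup.mem_subgroupOf.mp hy2, Subgroup.mem_subgroupOf.mp hy1⟩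
          rw [hTU, Subgroup.mem_bot] at this
          exact Subtype.ext this
      have c2 : Subgroup.IsComplement' ((cj x T).subgroupOf N) (T.subgroupOf N) := by
        apply Subgroup.isComplement'_of_card_mul_and_disjoint
        · rw [cT', cT, ← hcardN, hcardUT]
        · rw [Subgroup.disjoint_def]
          intro y hy1 hy2
          have : (y : G) ∈ T ⊓ cj x T := Subgroup.mem_inf.mpr
            ⟨Subgroup.mem_subgroupOf.mp hy2, Subgroup.mem_subgroupOf.mp hy1⟩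
          rw [hx2, Subgroup.mem_bot] at this
          exact Subtype.ext this
      exact ⟨(Subgroup.subgroupOfEquivOfLe hUN).symm.trans (c1.QuotientMulEquiv.symm.trans
        (c2.QuotientMulEquiv.trans ((Subgroup.subgroupOfEquivOfLe hx1).trans
          (T.equivMapOfInjective _ (MulAut.conj x).injective).symm)))⟩

end Cfsg.Agent.S1910
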