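import Cfsg.Statements.S1921
import Cfsg.Agent.Lib.Helper8.FStar

set_option autoImplicit false
open Cfsg

namespace Cfsg.Agent.S1921

open Cfsg.Agent.Lib.Helper8

theorem aux {H : Type*} [Group H] [Finite H] (a : H) (L La J : Subgroup H) (hL : Cfsg.IsComponent L)
    (hLa' : La = L.map (MulAut.conj a).toMonoidHom)
    (hJ : J = Subgroup.closure {y : H | ∃ l ∈ L, y = l * (a * l * a⁻¹)})
    (hLa : La ≠ L) (x : H) (hxM : x ∈ L ⊔ La)
    (hxJ : x ∉ J ⊔ ((L ⊔ La) ⊓ Subgroup.centralizer ((L ⊔ La : Subgroup H) : Set H))) :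
    J ⊔ Subgroup.zpowers x = L ⊔ La := by
  have hLc := (isComponent_iff L).mp hL
  have hLac := (isComponent_iff La).mp (hLa' ▸ isComponent_conj hL a)
  have hcomm : ⁅L, La⁆ = ⊥ := hLc.2.commutator_eq_bot_of_ne hLac.2 hLc.1 hLac.1 (Ne.symm hLa)
  rw [Subgroup.commutator_eq_bot_iff_le_centralizer] at hcomm
  have hc : ∀ l ∈ L, ∀ m ∈ La, m * l = l * m := fun l hl m hm =>
    (Subgroup.mem_centralizer_iff.mp (hcomm hl)) m hm
  have hmemLa : ∀ l ∈ L, a * l * a⁻¹ ∈ La := fun l hl => by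
    rw [hLa']; exact ⟨l, hl, rfl⟩
  have hπ : ∀ l ∈ L, l * (a * l * a⁻¹) ∈ J := fun l hl => by
    rw [hJ]; exact Subgroup.subset_closure ⟨l, hl, rfl⟩
  have hJM : J ≤ L ⊔ La := by
    rw [hJ, Subgroup.closure_le]
    rintro _ ⟨l, hl, rfl⟩
    exact mul_mem ((le_sup_left : L ≤ L ⊔ La) hl) ((le_sup_right : La ≤ L ⊔ La) (hmemLa l hl))
  have hLn : La ≤ Subgroup.normalizer (L : Set H) := by
    refine le_trans ?_ (Subgroup.centralizer_le_normalizer _)
    intro m hm
    rw [Subgroup.mem_centralizer_iff]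
    intro l hl
    exact (hc l hl m hm).symm
  obtain ⟨m, hm, l, hl, rfl⟩ := (mem_sup_of_le_normalizer hLn).mp hxM
  obtain ⟨Hh, hHh⟩ : ∃ Hh, Hh = J ⊔ Subgroup.zpowers (m * l) := ⟨_, rfl⟩
  rw [← hHh]
  have hJH : J ≤ Hh := hHh ▸ le_sup_left
  have hxH : m * l ∈ Hh := by
    rw [hHh]; exact (le_sup_right : Subgroup.zpowers (m * l) ≤ _) (Subgroup.mem_zpowers _)
  obtain ⟨y, hy⟩ : ∃ y, y = (a * l * a⁻¹)⁻¹ * m := ⟨_, rfl⟩
  have hyLa : y ∈ La := hy ▸ mul_mem (inv_mem (hmemLa l hl)) hm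
  have hxy : m * l = l * (a * l * a⁻¹) * y := by
    rw [hy, hc l hl m hm]; group
  have hyH : y ∈ Hh := by
    have : y = (l * (a * l * a⁻¹))⁻¹ * (m * l) := by rw [hxy]; group
    rw [this]
    exact mul_mem (inv_mem (hJH (hπ l hl))) hxH
  have hyC : y ∉ Subgroup.centralizer ((L ⊔ La : Subgroup H) : Set H) := by
    intro h
    apply hxJ
    rw [hxy]
    exact mul_mem ((le_sup_left : J ≤ _) (hπ l hl))
      ((le_sup_right : (L ⊔ La) ⊓ Subgroup.centralizer ((L ⊔ La : Subgroup H) : Set H) ≤ _)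
        ⟨(le_sup_right : La ≤ L ⊔ La) hyLa, h⟩)
  have hconj : ∀ g ∈ La, ∀ n ∈ Hh ⊓ La, g * n * g⁻¹ ∈ Hh ⊓ La := by
    intro g hg n hn
    rw [Subgroup.mem_inf] at hn ⊢
    refine ⟨?_, mul_mem (mul_mem hg hn.2) (inv_mem hg)⟩
    rw [hLa'] at hg
    obtain ⟨l', hl', rfl⟩ := hg
    have h1 : a * l' * a⁻¹ ∈ La := hmemLa l' hl'
    have h2 : a * l' * a⁻¹ * n * (a * l' * a⁻¹)⁻¹ ∈ La := mul_mem (mul_mem h1 hn.2) (inv_mem h1)
    have h3 : (MulAut.conj a).toMonoidHom l' * n * ((MulAut.conj a).toMonoidHom l')⁻¹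
        = (l' * (a * l' * a⁻¹)) * n * (l' * (a * l' * a⁻¹))⁻¹ := by
      show a * l' * a⁻¹ * n * (a * l' * a⁻¹)⁻¹ = _
      have := hc l' hl' _ h2
      calc a * l' * a⁻¹ * n * (a * l' * a⁻¹)⁻¹
          = (a * l' * a⁻¹ * n * (a * l' * a⁻¹)⁻¹ * l') * l'⁻¹ := by group
        _ = (l' * (a * l' * a⁻¹ * n * (a * l' * a⁻¹)⁻¹)) * l'⁻¹ := by rw [this]
        _ = _ := by group
    rw [h3]
    exact mul_mem (mul_mem (hJH (hπ l' hl')) hn.1) (inv_mem (hJH (hπ l' hl')))
  have hnorm : La ≤ Subgroup.normalizer ((Hh ⊓ La : Subgroup H) : Set H) := by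
    intro g hg
    rw [Subgroup.mem_normalizer_iff]
    intro n
    constructor
    · exact hconj g hg n
    · intro h
      have := hconj g⁻¹ (inv_mem hg) _ h
      have e : g⁻¹ * (g * n * g⁻¹) * g⁻¹⁻¹ = n := by group
      rwa [e] at this
  have hLaH : La ≤ Hh := by
    rcases hLac.2.2.2 (Hh ⊓ La) inf_le_right hnorm with h | h
    · rw [← h]; exact inf_le_left
    · exfalso
      apply hyC
      rw [Subgroup.commutator_eq_bot_iff_le_centralizer] at h
      have h1 : y ∈ Subgroup.centralizer (La : Set H) := h ⟨hyH, hyLa⟩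
      have h2 : L ⊔ La ≤ Subgroup.centralizer ({y} : Set H) := by
        apply sup_le
        · intro l' hl'
          rw [Subgroup.mem_centralizer_singleton_iff]
          exact (hc l' hl' y hyLa).symm
        · intro m' hm'
          rw [Subgroup.mem_centralizer_singleton_iff]
          exact (Subgroup.mem_centralizer_iff.mp h1) m' hm'
      rw [Subgroup.mem_centralizer_iff]
      intro z hz
      have := h2 hz
      rw [Subgroup.mem_centralizer_singleton_iff] at this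
      exact this
  apply le_antisymm
  · rw [hHh]
    refine sup_le hJM ?_
    rw [Subgroup.zpowers_le]
    exact hxM
  · refine sup_le ?_ hLaH
    intro l' hl'
    have : l' = (l' * (a * l' * a⁻¹)) * (a * l' * a⁻¹)⁻¹ := by group
    rw [this]
    exact mul_mem (hJH (hπ l' hl')) (inv_mem (hLaH (hmemLa l' hl')))

/-- Let a be an involution of a finite group H and L a component of H with a L a⁻¹ ≠ L; put M = ⟨L, aLa⁻¹⟩ and let J be the subgroup generated by the elements x · a x a⁻¹ with x ∈ L (the diagonal). Then every element of M outside J·Z(M) generates M together with J. -/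
theorem result {H : Type*} [Group H] [Finite H] (a : H) (ha : orderOf a = 2) (L : Subgroup H) (hL : Cfsg.IsComponent L)
    (hLa : L.map (MulAut.conj a).toMonoidHom ≠ L) (x : H) (hxM : x ∈ L ⊔ L.map (MulAut.conj a).toMonoidHom)
    (hxJ : x ∉ Subgroup.closure {y : H | ∃ l ∈ L, y = l * (a * l * a⁻¹)} ⊔
      ((L ⊔ L.map (MulAut.conj a).toMonoidHom) ⊓ Subgroup.centralizer ((L ⊔ L.map (MulAut.conj a).toMonoidHom : Subgroup H) : Set H))) :
    Subgroup.closure {y : H | ∃ l ∈ L, y = l * (a * l * a⁻¹)} ⊔ Subgroup.zpowers x = L ⊔ L.map (MulAut.conj a).toMonoidHom := by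
  exact aux a L _ _ hL rfl rfl hLa x hxM hxJ

end Cfsg.Agent.S1921
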