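import Cfsg.Statements.S1922
import Cfsg.Agent.Lib.Helper18.Involutions
import Cfsg.Agent.Lib.Helper16.Syl

set_option autoImplicit false
open Cfsg

namespace Cfsg.Agent.S1922

theorem odd_card_of_involution {ι : Type*} [DecidableEq ι] (s : Finset ι) (g : ι → ι) (x₀ : ι)
    (hx₀ : x₀ ∈ s) (hmem : ∀ a ∈ s, g a ∈ s) (hinv : ∀ a ∈ s, g (g a) = a)
    (hfix : ∀ a ∈ s, g a = a ↔ a = x₀) : Odd s.card := by
  have h1 : ∑ a ∈ s.erase x₀, (1 : ZMod 2) = 0 := by
    apply Finset.sum_involution (fun a _ => g a)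
    · intro a _
      decide
    · intro a ha _ h
      rw [Finset.mem_erase] at ha
      exact ha.1 ((hfix a ha.2).mp h)
    · intro a ha
      rw [Finset.mem_erase] at ha ⊢
      refine ⟨?_, hmem a ha.2⟩
      intro h
      have h2 : g (g a) = g x₀ := by rw [h]
      rw [hinv a ha.2, (hfix x₀ hx₀).mpr rfl] at h2
      exact ha.1 h2
    · intro a ha
      rw [Finset.mem_erase] at ha
      exact hinv a ha.2
  rw [Finset.sum_const, nsmul_eq_mul, mul_one, ZMod.natCast_eq_zero_iff_even] at h1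
  rw [← Finset.card_erase_add_one hx₀]
  exact h1.add_one

/-- dihedral computations -/
theorem dih_conj {G : Type*} [Group G] {a b : G} (ha : a * a = 1) (hb : b * b = 1) (k : ℕ) :
    ∃ g : G, a * (a * b) ^ k = g * a * g⁻¹ ∨ a * (a * b) ^ k = g * b * g⁻¹ := by
  have h := Cfsg.Agent.Lib.Helper18.conj_pow_mul ha hb
  rcases Nat.even_or_odd' k with ⟨i, rfl | rfl⟩
  · refine ⟨((a * b) ^ i)⁻¹, Or.inl ?_⟩
    rw [inv_inv, two_mul, pow_add, ← mul_assoc, h i]
  · refine ⟨((a * b) ^ i)⁻¹, Or.inr ?_⟩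
    rw [inv_inv]
    have e : (a * b) ^ (2 * i + 1) = (a * b) ^ i * (a * b) * (a * b) ^ i := by
      rw [← pow_succ, ← pow_add]
      congr 1
      omega
    calc a * (a * b) ^ (2 * i + 1) = (a * (a * b) ^ i) * (a * b) * (a * b) ^ i := by
          rw [e]; simp only [mul_assoc]
      _ = ((a * b) ^ i)⁻¹ * (a * a) * b * (a * b) ^ i := by rw [h i]; simp only [mul_assoc]
      _ = _ := by rw [ha, mul_one]

/-- even order product: a central involution `w` with `a*w`, `b*w` conjugate to `a` or `b` -/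
theorem dih_even {G : Type*} [Group G] {a b : G} (ha : a * a = 1) (hb : b * b = 1)
    (he : Even (orderOf (a * b))) (h0 : orderOf (a * b) ≠ 0) :
    ∃ w : G, w ≠ 1 ∧ w * a = a * w ∧ w * b = b * w ∧
      (∃ g : G, a * w = g * a * g⁻¹ ∨ a * w = g * b * g⁻¹) ∧
      (∃ g : G, b * w = g * a * g⁻¹ ∨ b * w = g * b * g⁻¹) := by
  obtain ⟨k, hk⟩ := he
  have hk0 : 0 < k := by omega
  have hw2 : (a * b) ^ k * (a * b) ^ k = 1 := by
    rw [← pow_add, ← hk, pow_orderOf_eq_one]
  have hwi : ((a * b) ^ k)⁻¹ = (a * b) ^ k := inv_eq_of_mul_eq_one_left hw2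
  have hba : b * a = (a * b)⁻¹ := by
    rw [mul_inv_rev, inv_eq_of_mul_eq_one_left ha, inv_eq_of_mul_eq_one_left hb]
  have hw' : (b * a) ^ k = (a * b) ^ k := by
    rw [hba, inv_pow, hwi]
  refine ⟨(a * b) ^ k, ?_, ?_, ?_, dih_conj ha hb k, ?_⟩
  · intro h
    have := orderOf_le_of_pow_eq_one hk0 h
    omega
  · rw [Cfsg.Agent.Lib.Helper18.conj_pow_mul ha hb k, hwi]
  · rw [← hw', Cfsg.Agent.Lib.Helper18.conj_pow_mul hb ha k, hw', hwi]
  · obtain ⟨g, hg⟩ := dih_conj hb ha k
    rw [hw'] at hg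
    exact ⟨g, hg.symm⟩

/-- odd order product: `a` and `b` are conjugate under a conjugate of `a` -/
theorem dih_odd {G : Type*} [Group G] {a b : G} (ha : a * a = 1) (hb : b * b = 1)
    (ho : Odd (orderOf (a * b))) :
    ∃ g : G, (g * a * g⁻¹) * a * (g * a * g⁻¹)⁻¹ = b := by
  obtain ⟨k, hk⟩ := ho
  have h := Cfsg.Agent.Lib.Helper18.conj_pow_mul ha hb
  have hai : a⁻¹ = a := inv_eq_of_mul_eq_one_left ha
  refine ⟨(a * b) ^ (k * (k + 1)), ?_⟩
  obtain ⟨c, hc⟩ : ∃ c, c = (a * b) ^ (k * (k + 1)) := ⟨_, rfl⟩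
  have hh : a * c = c⁻¹ * a := by rw [hc]; exact h _
  have hh' : a * c⁻¹ = c * a := by
    calc a * c⁻¹ = c * (c⁻¹ * a) * c⁻¹ := by group
      _ = c * (a * c) * c⁻¹ := by rw [hh]
      _ = c * a := by group
  have h4 : c * c * c * c * (a * b) = 1 := by
    rw [hc, ← pow_add, ← pow_add, ← pow_add, ← pow_succ]
    have : k * (k + 1) + k * (k + 1) + k * (k + 1) + k * (k + 1) + 1 = orderOf (a * b) * (2 * k + 1) := by
      rw [hk]; ring
    rw [this, pow_mul, pow_orderOf_eq_one, one_pow]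
  rw [← hc]
  have h5 : c * c * c * c = b * a := by
    have : c * c * c * c = (a * b)⁻¹ := eq_inv_of_mul_eq_one_left h4
    rw [this, mul_inv_rev, hai, inv_eq_of_mul_eq_one_left hb]
  calc (c * a * c⁻¹) * a * (c * a * c⁻¹)⁻¹ = c * (a * c⁻¹) * a * c * a⁻¹ * c⁻¹ := by group
    _ = c * (c * a) * a * c * a * c⁻¹ := by rw [hh', hai]
    _ = c * c * (a * a) * c * (a * c⁻¹) := by simp only [mul_assoc]
    _ = c * c * c * c * a := by rw [ha, hh']; simp only [mul_assoc, mul_one]
    _ = b := by rw [h5, mul_assoc, ha, mul_one]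

/-- `x` has the unique fixed point `ω` -/
def UF {G Ω : Type*} [Group G] [MulAction G Ω] (x : G) (ω : Ω) : Prop :=
  ∀ ω' : Ω, x • ω' = ω' ↔ ω' = ω

theorem UF.conj {G Ω : Type*} [Group G] [MulAction G Ω] {x : G} {ω : Ω} (h : UF x ω) (g : G) :
    UF (g * x * g⁻¹) (g • ω) := by
  intro ω'
  rw [mul_smul, mul_smul, smul_eq_iff_eq_inv_smul, h, inv_smul_eq_iff]

theorem odd_class {G Ω : Type*} [Group G] [Finite G] [MulAction G Ω] [Finite Ω]
    [MulAction.IsPretransitive G Ω] (z : G) (hz : z * z = 1) (α β : Ω) (hαβ : α ≠ β)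
    (hP : ∀ d : G, IsConj z d → ∃ ω : Ω, UF d ω ∧
      ∀ t, IsConj z t → t ≠ d → t * d = d * t → UF (d * t) ω) :
    Odd (Nat.card {d : G // IsConj z d}) := by
  classical
  have := Fintype.ofFinite G
  have := Fintype.ofFinite Ω
  have : Nonempty Ω := ⟨α⟩
  choose! pt hpt using hP
  obtain ⟨D, hDdef⟩ : ∃ D : Finset G, D = Finset.univ.filter (IsConj z) := ⟨_, rfl⟩
  have hD : ∀ d, d ∈ D ↔ IsConj z d := by
    intro d
    rw [hDdef]
    simp
  have hsq : ∀ d, IsConj z d → d * d = 1 := by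
    intro d hd
    obtain ⟨g, hg⟩ := isConj_iff.mp hd
    rw [← hg]
    calc g * z * g⁻¹ * (g * z * g⁻¹) = g * (z * z) * g⁻¹ := by group
      _ = 1 := by rw [hz]; group
  have hconj : ∀ d g, IsConj z d → IsConj z (g * d * g⁻¹) :=
    fun d g hd => hd.trans (isConj_iff.mpr ⟨g, rfl⟩)
  have F1 : ∀ d g, IsConj z d → pt (g * d * g⁻¹) = g • pt d := by
    intro d g hd
    have h1 := (hpt d hd).1.conj g
    have h2 := (hpt _ (hconj d g hd)).1
    exact (h1 _).mp ((h2 _).mpr rfl)
  have F2 : ∀ a b, IsConj z a → IsConj z b → pt a ≠ pt b → Odd (orderOf (a * b)) := by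
    intro a b ha hb hne
    by_contra ho
    rw [Nat.not_odd_iff_even] at ho
    obtain ⟨w, hw1, hwa, hwb, ⟨g1, hg1⟩, ⟨g2, hg2⟩⟩ :=
      dih_even (hsq a ha) (hsq b hb) ho (orderOf_pos _).ne'
    have hawD : IsConj z (a * w) := by
      rcases hg1 with h | h
      · rw [h]; exact hconj a g1 ha
      · rw [h]; exact hconj b g1 hb
    have hbwD : IsConj z (b * w) := by
      rcases hg2 with h | h
      · rw [h]; exact hconj a g2 ha
      · rw [h]; exact hconj b g2 hb
    have h1 : UF (a * (a * w)) (pt a) := by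
      apply (hpt a ha).2 (a * w) hawD
      · intro h
        exact hw1 (mul_left_cancel (h.trans (mul_one a).symm))
      · rw [mul_assoc, hwa]
    have h2 : UF (b * (b * w)) (pt b) := by
      apply (hpt b hb).2 (b * w) hbwD
      · intro h
        exact hw1 (mul_left_cancel (h.trans (mul_one b).symm))
      · rw [mul_assoc, hwb]
    rw [← mul_assoc, hsq a ha, one_mul] at h1
    rw [← mul_assoc, hsq b hb, one_mul] at h2
    exact hne ((h2 _).mp ((h1 _).mpr rfl))
  have F3 : ∀ a b, IsConj z a → IsConj z b → pt a ≠ pt b →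
      ∃ j, IsConj z j ∧ j * a * j⁻¹ = b := by
    intro a b ha hb hne
    obtain ⟨g, hg⟩ := dih_odd (hsq a ha) (hsq b hb) (F2 a b ha hb hne)
    exact ⟨g * a * g⁻¹, hconj a g ha, hg⟩
  obtain ⟨Dp, hDp⟩ : ∃ Dp : Ω → Finset G, Dp = fun ω => D.filter (fun d => pt d = ω) := ⟨_, rfl⟩
  obtain ⟨J, hJ⟩ : ∃ J : Ω → Finset G, J = fun ω => D.filter (fun d => d • α = ω) := ⟨_, rfl⟩
  have mDp : ∀ ω d, d ∈ Dp ω ↔ IsConj z d ∧ pt d = ω := by
    intro ω d
    rw [hDp]
    simp [hD]
  have mJ : ∀ ω d, d ∈ J ω ↔ IsConj z d ∧ d • α = ω := by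
    intro ω d
    rw [hJ]
    simp [hD]
  have cDp : ∀ ω, (Dp ω).card = (Dp α).card := by
    intro ω
    obtain ⟨g, hg⟩ := MulAction.exists_smul_eq G α ω
    symm
    apply Finset.card_bij (fun d _ => g * d * g⁻¹)
    · intro d hd
      rw [mDp] at hd ⊢
      exact ⟨hconj d g hd.1, by rw [F1 d g hd.1, hd.2, hg]⟩
    · intro d1 _ d2 _ h
      simpa using h
    · intro e he
      rw [mDp] at he
      have h1 := hconj e g⁻¹ he.1
      have h2 := F1 e g⁻¹ he.1
      rw [inv_inv] at h1 h2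
      refine ⟨g⁻¹ * e * g, ?_, by group⟩
      rw [mDp]
      exact ⟨h1, by rw [h2, he.2, ← hg, inv_smul_smul]⟩
  have hcard1 : D.card = ∑ ω : Ω, (Dp α).card := by
    rw [Finset.card_eq_sum_card_fiberwise (f := pt) (t := Finset.univ) (fun _ _ => Finset.mem_coe.mpr (Finset.mem_univ _))]
    apply Finset.sum_congr rfl
    intro ω _
    rw [← cDp ω, hDp]
  have hcard2 : D.card = ∑ ω : Ω, (J ω).card := by
    rw [Finset.card_eq_sum_card_fiberwise (f := fun d => d • α) (t := Finset.univ) (fun _ _ => Finset.mem_coe.mpr (Finset.mem_univ _))]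
    rw [hJ]
  have hex : ∀ ω : Ω, ∃ b, IsConj z b ∧ pt b = ω := by
    intro ω
    obtain ⟨g, hg⟩ := MulAction.exists_smul_eq G (pt z) ω
    exact ⟨g * z * g⁻¹, hconj z g (IsConj.refl z), by rw [F1 z g (IsConj.refl z), hg]⟩
  have hJge : ∀ ω, (Dp α).card ≤ (J ω).card := by
    intro ω
    by_cases hω : ω = α
    · apply Finset.card_le_card
      intro d hd
      rw [mDp] at hd
      rw [mJ, hω]
      exact ⟨hd.1, ((hpt d hd.1).1 α).mpr hd.2.symm⟩
    · obtain ⟨b, hb, hbω⟩ := hex ω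
      have h1 : ∀ a, a ∈ Dp α → ∃ j, IsConj z j ∧ j * a * j⁻¹ = b := by
        intro a ha
        rw [mDp] at ha
        apply F3 a b ha.1 hb
        rw [ha.2, hbω]
        exact fun h => hω h.symm
      choose! jf hjf using h1
      apply Finset.card_le_card_of_injOn jf
      · intro a ha
        have h2 := hjf a ha
        rw [Finset.mem_coe, mDp] at ha
        rw [Finset.mem_coe, mJ]
        refine ⟨h2.1, ?_⟩
        have h3 := F1 a (jf a) ha.1
        rw [h2.2, hbω, ha.2] at h3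
        exact h3.symm
      · intro a1 ha1 a2 ha2 h
        have h1 := (hjf a1 ha1).2
        have h2 := (hjf a2 ha2).2
        rw [h, ← h2] at h1
        simpa using h1
  have hJeq : ∀ ω, (Dp α).card = (J ω).card := by
    intro ω
    exact (Finset.sum_eq_sum_iff_of_le (fun ω _ => hJge ω)).mp (hcard1.symm.trans hcard2) ω
      (Finset.mem_univ ω)
  have hm : Odd (J β).card := by
    have hne : (J β).Nonempty := by
      rw [← Finset.card_pos, ← hJeq β, Finset.card_pos]
      obtain ⟨a, ha, haα⟩ := hex α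
      exact ⟨a, (mDp α a).mpr ⟨ha, haα⟩⟩
    obtain ⟨j₀, hj₀⟩ := hne
    have hj₀' := (mJ β j₀).mp hj₀
    have hj₀i : j₀⁻¹ = j₀ := inv_eq_of_mul_eq_one_left (hsq j₀ hj₀'.1)
    have hback : ∀ j, j ∈ J β → j • β = α := by
      intro j hj
      rw [mJ] at hj
      rw [← hj.2, smul_smul, hsq j hj.1, one_smul]
    apply odd_card_of_involution (J β) (fun j => j₀ * j * j₀⁻¹) j₀ hj₀
    · intro j hj
      have hj' := (mJ β j).mp hj
      rw [mJ]
      refine ⟨hconj j j₀ hj'.1, ?_⟩
      rw [hj₀i, mul_smul, mul_smul, hj₀'.2, hback j hj, hj₀'.2]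
    · intro j _
      show j₀ * (j₀ * j * j₀⁻¹) * j₀⁻¹ = j
      calc j₀ * (j₀ * j * j₀⁻¹) * j₀⁻¹ = (j₀ * j₀) * j * (j₀ * j₀)⁻¹ := by group
        _ = j := by rw [hsq j₀ hj₀'.1]; group
    · intro j hj
      have hj' := (mJ β j).mp hj
      show j₀ * j * j₀⁻¹ = j ↔ j = j₀
      constructor
      · intro h
        by_contra hne
        have hc : j * j₀ = j₀ * j := by
          calc j * j₀ = (j₀ * j * j₀⁻¹) * j₀ := by rw [h]
            _ = j₀ * j := by group
        have h1 := (hpt j₀ hj₀'.1).2 j hj'.1 hne hc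
        have h2 : α = pt j₀ := by
          apply (h1 α).mp
          rw [mul_smul, hj'.2, hback j₀ hj₀]
        have h3 : β = pt j₀ := by
          apply (h1 β).mp
          rw [mul_smul, hback j hj, hj₀'.2]
        exact hαβ (h2.trans h3.symm)
      · intro h
        rw [h]
        group
  have hΩ : Odd (Fintype.card Ω) := by
    rw [← Finset.card_univ]
    apply odd_card_of_involution Finset.univ (fun ω => z • ω) (pt z) (Finset.mem_univ _)
    · intro _ _
      exact Finset.mem_univ _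
    · intro ω _
      show z • z • ω = ω
      rw [smul_smul, hz, one_smul]
    · intro ω _
      exact (hpt z (IsConj.refl z)).1 ω
  have hfin : Nat.card {d : G // IsConj z d} = D.card := by
    rw [Nat.card_eq_fintype_card, Fintype.card_subtype, hDdef]
  rw [hfin, hcard1, Finset.sum_const, Finset.card_univ, smul_eq_mul, hJeq β]
  exact hΩ.mul hm

theorem two_central_of_odd_class {G : Type*} [Group G] [Finite G] (z : G) (hz : orderOf z = 2)
    (ho : Odd (Nat.card {d : G // IsConj z d})) :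
    ∃ P : Sylow 2 G, z ∈ (Subgroup.center ↥(P : Subgroup G)).map (P : Subgroup G).subtype := by
  have : Fact (Nat.Prime 2) := ⟨Nat.prime_two⟩
  obtain ⟨P₀⟩ : Nonempty (Sylow 2 G) := inferInstance
  let act : MulAction ↥(P₀ : Subgroup G) {d : G // IsConj z d} :=
    { smul := fun g d => ⟨(g : G) * d * (g : G)⁻¹, d.2.trans (isConj_iff.mpr ⟨g, rfl⟩)⟩
      one_smul := by
        intro d
        apply Subtype.ext
        show ((1 : ↥(P₀ : Subgroup G)) : G) * d * ((1 : ↥(P₀ : Subgroup G)) : G)⁻¹ = d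
        simp
      mul_smul := by
        intro g h d
        apply Subtype.ext
        show ((g * h : ↥(P₀ : Subgroup G)) : G) * d * ((g * h : ↥(P₀ : Subgroup G)) : G)⁻¹
          = (g : G) * ((h : G) * d * (h : G)⁻¹) * (g : G)⁻¹
        rw [Subgroup.coe_mul]
        group }
  have hnd : ¬ 2 ∣ Nat.card {d : G // IsConj z d} := by
    rw [← even_iff_two_dvd, Nat.not_even_iff_odd]
    exact ho
  obtain ⟨⟨d, hd⟩, hfix⟩ := P₀.2.nonempty_fixed_point_of_prime_not_dvd_card _ hnd
  obtain ⟨x, hx⟩ := isConj_iff.mp hd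
  have hfix' : ∀ g ∈ (P₀ : Subgroup G), g * d * g⁻¹ = d := by
    intro g hg
    have := hfix ⟨g, hg⟩
    exact congrArg Subtype.val this
  have hmem : ∀ g, g ∈ ((x⁻¹ • P₀ : Sylow 2 G) : Subgroup G) ↔ x * g * x⁻¹ ∈ (P₀ : Subgroup G) := by
    intro g
    rw [Sylow.coe_subgroup_smul, Subgroup.mem_pointwise_smul_iff_inv_smul_mem]
    simp [MulAut.smul_def]
  have hcomm : ∀ g ∈ ((x⁻¹ • P₀ : Sylow 2 G) : Subgroup G), g * z = z * g := by
    intro g hg
    have h1 := hfix' _ ((hmem g).mp hg)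
    rw [← hx] at h1
    have h2 : x * (g * z * g⁻¹) * x⁻¹ = x * z * x⁻¹ := by
      rw [← h1]; group
    have h3 : g * z * g⁻¹ = z := by simpa using h2
    calc g * z = (g * z * g⁻¹) * g := by group
      _ = z * g := by rw [h3]
  have hzP : z ∈ ((x⁻¹ • P₀ : Sylow 2 G) : Subgroup G) := by
    have h1 : IsPGroup 2 ↥(Subgroup.zpowers z) := by
      apply IsPGroup.of_card (n := 1)
      rw [Nat.card_zpowers, hz, pow_one]
    have h2 : Subgroup.zpowers z ≤ Subgroup.normalizer (((x⁻¹ • P₀ : Sylow 2 G) : Subgroup G) : Set G) := by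
      rw [Subgroup.zpowers_le, Subgroup.mem_normalizer_iff]
      intro g
      constructor
      · intro hg
        rw [← hcomm g hg, mul_inv_cancel_right]
        exact hg
      · intro hg
        have := hcomm _ hg
        have h3 : z * g * z⁻¹ = g := by
          have h4 : z * g * z⁻¹ * z = z * (z * g * z⁻¹) := this
          have h5 : z * g = z * (z * g * z⁻¹) := by rw [← h4]; group
          exact (mul_left_cancel h5).symm
        rw [← h3]
        exact hg
    have h3 := IsPGroup.to_sup_of_normal_right' h1 (x⁻¹ • P₀ : Sylow 2 G).2 h2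
    have h4 := (x⁻¹ • P₀ : Sylow 2 G).3 h3 le_sup_right
    rw [← h4]
    exact (le_sup_left : Subgroup.zpowers z ≤ _) (Subgroup.mem_zpowers z)
  refine ⟨x⁻¹ • P₀, ⟨z, hzP⟩, ?_, rfl⟩
  rw [SetLike.mem_coe, Subgroup.mem_center_iff]
  intro g
  exact Subtype.ext (hcomm g g.2)

theorem mem_conj_iff {G : Type*} [Group G] (H : Subgroup G) (x g : G) :
    x ∈ H.map (MulAut.conj g).toMonoidHom ↔ g⁻¹ * x * g ∈ H := by
  constructor
  · rintro ⟨h, hh, rfl⟩
    have : g⁻¹ * (MulAut.conj g).toMonoidHom h * g = h := by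
      simp [MulAut.conj_apply, mul_assoc]
    rw [this]
    exact hh
  · intro h
    exact ⟨_, h, by simp [MulAut.conj_apply, mul_assoc]⟩

theorem smul_mk_eq_iff {G : Type*} [Group G] (H : Subgroup G) (x g : G) :
    x • (g : G ⧸ H) = (g : G ⧸ H) ↔ g⁻¹ * x * g ∈ H := by
  rw [MulAction.Quotient.smul_coe, eq_comm, QuotientGroup.eq, smul_eq_mul, mul_assoc]

theorem UF_iff {G : Type*} [Group G] (H : Subgroup G) (x : G) :
    UF x ((1 : G) : G ⧸ H) ↔ ∀ g : G, x ∈ H.map (MulAut.conj g).toMonoidHom ↔ g ∈ H := by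
  have e : ∀ g : G, ((g : G ⧸ H) = ((1 : G) : G ⧸ H)) ↔ g ∈ H := by
    intro g
    rw [eq_comm, QuotientGroup.eq, inv_one, one_mul]
  constructor
  · intro h g
    rw [mem_conj_iff, ← smul_mk_eq_iff, h, e]
  · intro h ω
    induction ω using QuotientGroup.induction_on with
    | H g => rw [smul_mk_eq_iff, ← mem_conj_iff, h, e]


/-- Let z be an involution of a finite group G and H a proper subgroup such that z lies in gHg⁻¹ exactly when g ∈ H. Then the following are equivalent: (1) for every conjugate t ≠ z of z commuting with z, the product zt lies in gHg⁻¹ exactly when g ∈ H; (2) z lies in the centre of some Sylow 2-subgroup of G, and for every conjugate t ≠ z of z commuting with z, the centralizer of zt is contained in H. -/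
theorem result {G : Type*} [Group G] [Finite G] (z : G) (hz : orderOf z = 2) (H : Subgroup G) (hH : H ≠ ⊤)
    (h0 : ∀ g : G, z ∈ H.map (MulAut.conj g).toMonoidHom ↔ g ∈ H) :
    (∀ t : G, IsConj z t → t ≠ z → t * z = z * t → ∀ g : G, z * t ∈ H.map (MulAut.conj g).toMonoidHom ↔ g ∈ H) ↔
      ((∃ P : Sylow 2 G, z ∈ (Subgroup.center ↥(P : Subgroup G)).map (P : Subgroup G).subtype) ∧
        ∀ t : G, IsConj z t → t ≠ z → t * z = z * t → Subgroup.centralizer ({z * t} : Set G) ≤ H) := by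
  have : Fact (Nat.Prime 2) := ⟨Nat.prime_two⟩
  have hz2 : z * z = 1 := Cfsg.Agent.Lib.Helper18.sq_eq_one_of_orderOf_two hz
  have hzi : z⁻¹ = z := inv_eq_of_mul_eq_one_left hz2
  have hzH : z ∈ H := by
    have := (h0 1).mpr H.one_mem
    rw [mem_conj_iff] at this
    simpa using this
  have hCz : ∀ c, c * z = z * c → c ∈ H := by
    intro c hc
    apply (h0 c).mp
    rw [mem_conj_iff]
    have : c⁻¹ * z * c = z := by
      rw [mul_assoc, ← hc]; group
    rw [this]
    exact hzH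
  constructor
  · intro h1
    constructor
    · apply two_central_of_odd_class z hz
      obtain ⟨g₁, hg₁⟩ : ∃ g₁, g₁ ∉ H := by
        by_contra hcon
        push Not at hcon
        exact hH (eq_top_iff.mpr (fun g _ => hcon g))
      apply odd_class (Ω := G ⧸ H) z hz2 ((1 : G) : G ⧸ H) ((g₁ : G) : G ⧸ H)
      · intro h
        rw [QuotientGroup.eq, inv_one, one_mul] at h
        exact hg₁ h
      · intro d hd
        obtain ⟨g, rfl⟩ := isConj_iff.mp hd
        refine ⟨g • ((1 : G) : G ⧸ H), ((UF_iff H z).mpr h0).conj g, ?_⟩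
        intro t ht hne hc
        have ht0 : IsConj z (g⁻¹ * t * g) := by
          have := ht.trans (isConj_iff.mpr ⟨g⁻¹, rfl⟩)
          rwa [inv_inv] at this
        have hne0 : g⁻¹ * t * g ≠ z := by
          intro h
          apply hne
          rw [← h]
          group
        have hc0 : g⁻¹ * t * g * z = z * (g⁻¹ * t * g) := by
          calc g⁻¹ * t * g * z = g⁻¹ * (t * (g * z * g⁻¹)) * g := by group
            _ = g⁻¹ * ((g * z * g⁻¹) * t) * g := by rw [hc]
            _ = _ := by group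
        have h2 := (UF_iff H (z * (g⁻¹ * t * g))).mpr (h1 (g⁻¹ * t * g) ht0 hne0 hc0)
        have h3 := h2.conj g
        have e : g * (z * (g⁻¹ * t * g)) * g⁻¹ = g * z * g⁻¹ * t := by group
        rwa [e] at h3
    · intro t ht hne hc c hcm
      have h2 := h1 t ht hne hc
      have hztH : z * t ∈ H := by
        have := (h2 1).mpr H.one_mem
        rw [mem_conj_iff] at this
        simpa using this
      apply (h2 c).mp
      rw [mem_conj_iff]
      rw [Subgroup.mem_centralizer_singleton_iff] at hcm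
      have : c⁻¹ * (z * t) * c = z * t := by
        rw [mul_assoc, ← hcm]; group
      rw [this]
      exact hztH
  · rintro ⟨⟨P, hP⟩, h2⟩ t ht hne hc g
    obtain ⟨⟨z', hz'P⟩, hzc, hzz⟩ := hP
    have hzz' : z' = z := hzz
    subst hzz'
    have hPc : ∀ x ∈ (P : Subgroup G), x * z' = z' * x := by
      intro x hx
      have := Subgroup.mem_center_iff.mp hzc ⟨x, hx⟩
      exact congrArg Subtype.val this
    have hPH : (P : Subgroup G) ≤ H := fun x hx => hCz x (hPc x hx)
    have htH : t ∈ H := hCz t hc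
    have ht2 : t * t = 1 := by
      obtain ⟨y, hy⟩ := isConj_iff.mp ht
      rw [← hy]
      calc y * z' * y⁻¹ * (y * z' * y⁻¹) = y * (z' * z') * y⁻¹ := by group
        _ = 1 := by rw [hz2]; group
    have hu2 : (z' * t) * (z' * t) = 1 := by
      calc (z' * t) * (z' * t) = z' * (t * z') * t := by group
        _ = (z' * z') * (t * t) := by rw [hc]; group
        _ = 1 := by rw [hz2, ht2, one_mul]
    have hu1 : z' * t ≠ 1 := by
      intro h
      apply hne
      have : t = z'⁻¹ := eq_inv_of_mul_eq_one_right h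
      rw [this, hzi]
    rw [mem_conj_iff]
    constructor
    · intro hu
      obtain ⟨u₀, hu₀⟩ : ∃ u₀, u₀ = g⁻¹ * (z' * t) * g := ⟨_, rfl⟩
      rw [← hu₀] at hu
      have hu₀2 : u₀ * u₀ = 1 := by
        rw [hu₀]
        calc g⁻¹ * (z' * t) * g * (g⁻¹ * (z' * t) * g) = g⁻¹ * ((z' * t) * (z' * t)) * g := by group
          _ = 1 := by rw [hu2]; group
      have hu₀1 : u₀ ≠ 1 := by
        intro h
        apply hu1
        have : z' * t = g * u₀ * g⁻¹ := by rw [hu₀]; group
        rw [this, h]; group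
      have hQ : IsPGroup 2 ↥(Subgroup.zpowers u₀) := by
        apply IsPGroup.of_card (n := 1)
        rw [Nat.card_zpowers, Cfsg.Agent.Lib.Helper18.orderOf_two_of_sq hu₀2 hu₀1, pow_one]
      have hS : Cfsg.Agent.Lib.Helper16.SylIn 2 (P : Subgroup G) H :=
        (Cfsg.Agent.Lib.Helper16.sylIn_top P).mono hPH le_top
      obtain ⟨l, hl, hle⟩ := hS.exists_conj_le hQ (by rw [Subgroup.zpowers_le]; exact hu)
      have h3 : l * u₀ * l⁻¹ ∈ (P : Subgroup G) :=
        hle ⟨u₀, Subgroup.mem_zpowers u₀, by simp [MulAut.conj_apply]⟩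
      have h4 := hPc _ h3
      -- `g l⁻¹ z l g⁻¹` commutes with `z t`
      have h5 : (g * l⁻¹) * z' * (g * l⁻¹)⁻¹ ∈ Subgroup.centralizer ({z' * t} : Set G) := by
        rw [Subgroup.mem_centralizer_singleton_iff]
        have e1 : z' * t = g * u₀ * g⁻¹ := by rw [hu₀]; group
        rw [e1]
        calc (g * l⁻¹) * z' * (g * l⁻¹)⁻¹ * (g * u₀ * g⁻¹)
            = g * l⁻¹ * (z' * (l * u₀ * l⁻¹)) * l * g⁻¹ := by group
          _ = g * l⁻¹ * ((l * u₀ * l⁻¹) * z') * l * g⁻¹ := by rw [h4]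
          _ = _ := by group
      have h6 := h2 t ht hne hc h5
      have h7 : (g * l⁻¹)⁻¹ ∈ H := by
        apply (h0 _).mp
        rw [mem_conj_iff, inv_inv]
        exact h6
      have h8 : g * l⁻¹ ∈ H := by
        have := H.inv_mem h7
        rwa [inv_inv] at this
      have := H.mul_mem h8 hl
      rwa [inv_mul_cancel_right] at this
    · intro hg
      exact H.mul_mem (H.mul_mem (H.inv_mem hg) (H.mul_mem hzH htH)) hg

end Cfsg.Agent.S1922
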