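import Mathlib
import Cfsg.Statements.S2530

set_option autoImplicit false
open Cfsg

namespace Cfsg.Agent.S2530

section abstractPart
variable {W : Type*} [Group W]

structure Rel (σ : ℕ → W) (m : ℕ) : Prop where
  inv : ∀ i, i < m → σ i * σ i = 1
  braid : ∀ i, i + 1 < m → σ i * σ (i + 1) * σ i = σ (i + 1) * σ i * σ (i + 1)
  comm : ∀ i j, i + 1 < j → j < m → σ i * σ j = σ j * σ i

def gens (σ : ℕ → W) (m : ℕ) : Set W := {x | ∃ i, i < m ∧ σ i = x}

def ee (σ : ℕ → W) (m : ℕ) : ℕ → W
  | 0 => 1
  | (j + 1) => ee σ m j * σ (m - j)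

theorem ee_zero (σ : ℕ → W) (m : ℕ) : ee σ m 0 = 1 := rfl
theorem ee_succ (σ : ℕ → W) (m j : ℕ) : ee σ m (j + 1) = ee σ m j * σ (m - j) := rfl

theorem lemA {σ : ℕ → W} {m : ℕ} (h : Rel σ (m + 1)) (i : ℕ) :
    ∀ j, i + j < m → σ i * ee σ m j = ee σ m j * σ i := by
  intro j
  induction j with
  | zero => intro _; rw [ee_zero, mul_one, one_mul]
  | succ j ih =>
    intro hj
    have h1 := ih (by omega)
    have h2 := h.comm i (m - j) (by omega) (by omega)
    rw [ee_succ]
    calc σ i * (ee σ m j * σ (m - j)) = (σ i * ee σ m j) * σ (m - j) := by rw [mul_assoc]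
      _ = ee σ m j * (σ i * σ (m - j)) := by rw [h1, mul_assoc]
      _ = ee σ m j * σ (m - j) * σ i := by rw [h2, mul_assoc]

theorem lemB {σ : ℕ → W} {m : ℕ} (h : Rel σ (m + 1)) (u : ℕ) (hu : u + 1 ≤ m) :
    ∀ j, m - u + 1 ≤ j → j ≤ m + 1 → ee σ m j * σ (u + 1) = σ u * ee σ m j := by
  intro j hj
  induction j, hj using Nat.le_induction with
  | base =>
    intro _
    obtain ⟨r, hr⟩ : ∃ r, m - u = r + 1 := ⟨m - u - 1, by omega⟩
    rw [hr]
    have e1 : m - (r + 1) = u := by omega
    have e2 : m - r = u + 1 := by omega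
    rw [ee_succ, ee_succ, e1, e2]
    have hA := lemA h u r (by omega)
    have hb := h.braid u (by omega)
    calc ee σ m r * σ (u + 1) * σ u * σ (u + 1)
        = ee σ m r * (σ (u + 1) * σ u * σ (u + 1)) := by simp only [mul_assoc]
      _ = ee σ m r * (σ u * σ (u + 1) * σ u) := by rw [hb]
      _ = (ee σ m r * σ u) * σ (u + 1) * σ u := by simp only [mul_assoc]
      _ = (σ u * ee σ m r) * σ (u + 1) * σ u := by rw [hA]
      _ = σ u * (ee σ m r * σ (u + 1) * σ u) := by simp only [mul_assoc]
  | succ j hj ih =>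
    intro hj2
    have h1 := ih (by omega)
    have h2 := h.comm (m - j) (u + 1) (by omega) (by omega)
    rw [ee_succ]
    calc ee σ m j * σ (m - j) * σ (u + 1) = ee σ m j * (σ (m - j) * σ (u + 1)) := by rw [mul_assoc]
      _ = (ee σ m j * σ (u + 1)) * σ (m - j) := by rw [h2, mul_assoc]
      _ = σ u * (ee σ m j * σ (m - j)) := by rw [h1, mul_assoc]

theorem main (σ : ℕ → W) : ∀ m, Rel σ m →
    ((Subgroup.closure (gens σ m) : Subgroup W) : Set W).Finite ∧
      ((Subgroup.closure (gens σ m) : Subgroup W) : Set W).ncard ≤ (m + 1).factorial := by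
  intro m
  induction m with
  | zero =>
    intro _
    have h0 : gens σ 0 = ∅ := by
      ext x
      simp [gens]
    rw [h0, Subgroup.closure_empty]
    simp
  | succ m ih =>
    intro h
    have h' : Rel σ m := ⟨fun i hi => h.inv i (by omega), fun i hi => h.braid i (by omega),
      fun i j hij hj => h.comm i j hij (by omega)⟩
    obtain ⟨hfin, hcard⟩ := ih h'
    set H := Subgroup.closure (gens σ m) with hH
    have hσH : ∀ i, i < m → σ i ∈ H := fun i hi => Subgroup.subset_closure ⟨i, hi, rfl⟩
    let f : W × ℕ → W := fun x => x.1 * ee σ m x.2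
    set U : Set W := f '' ((H : Set W) ×ˢ ((Finset.range (m + 2) : Finset ℕ) : Set ℕ)) with hU
    have hUmem : ∀ x, x ∈ U ↔ ∃ a ∈ H, ∃ j, j ≤ m + 1 ∧ x = a * ee σ m j := by
      intro x
      constructor
      · rintro ⟨⟨a, j⟩, ⟨ha, hj⟩, rfl⟩
        refine ⟨a, ha, j, ?_, rfl⟩
        have : j < m + 2 := by simpa using hj
        omega
      · rintro ⟨a, ha, j, hj, rfl⟩
        refine ⟨(a, j), ⟨ha, ?_⟩, rfl⟩
        have : j < m + 2 := by omega
        simpa using this
    have hstep : ∀ x ∈ U, ∀ t, t < m + 1 → x * σ t ∈ U := by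
      intro x hx t ht
      obtain ⟨a, ha, j, hj, rfl⟩ := (hUmem x).mp hx
      rw [hUmem]
      rcases lt_trichotomy (t + j) m with hlt | heq | hgt
      · refine ⟨a * σ t, H.mul_mem ha (hσH t (by omega)), j, hj, ?_⟩
        rw [mul_assoc, ← lemA h t j hlt, mul_assoc]
      · refine ⟨a, ha, j + 1, by omega, ?_⟩
        have e1 : m - j = t := by omega
        rw [ee_succ, e1, mul_assoc]
      · rcases Nat.eq_or_lt_of_le (Nat.succ_le_of_lt hgt) with heq | hgt2
        · obtain ⟨r, rfl⟩ : ∃ r, j = r + 1 := ⟨j - 1, by omega⟩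
          refine ⟨a, ha, r, by omega, ?_⟩
          have e1 : m - r = t := by omega
          rw [ee_succ, e1, mul_assoc, mul_assoc, h.inv t ht, mul_one]
        · obtain ⟨u, rfl⟩ : ∃ u, t = u + 1 := ⟨t - 1, by omega⟩
          refine ⟨a * σ u, H.mul_mem ha (hσH u (by omega)), j, hj, ?_⟩
          rw [mul_assoc, lemB h u (by omega) j (by omega) hj, mul_assoc]
    have hsub : ((Subgroup.closure (gens σ (m + 1)) : Subgroup W) : Set W) ⊆ U := by
      intro x hx
      have hx' : x ∈ Subgroup.closure (gens σ (m + 1)) := hx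
      clear hx
      induction hx' using Subgroup.closure_induction_right with
      | one => exact (hUmem 1).mpr ⟨1, H.one_mem, 0, by omega, by rw [ee_zero, mul_one]⟩
      | mul_right x hx y hy ih =>
        obtain ⟨t, ht, rfl⟩ := hy
        exact hstep x ih t ht
      | mul_inv_cancel x hx y hy ih =>
        obtain ⟨t, ht, rfl⟩ := hy
        rw [inv_eq_of_mul_eq_one_left (h.inv t ht)]
        exact hstep x ih t ht
    have hPfin : ((H : Set W) ×ˢ ((Finset.range (m + 2) : Finset ℕ) : Set ℕ)).Finite :=
      hfin.prod (Finset.finite_toSet _)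
    have hUfin : U.Finite := hPfin.image f
    refine ⟨hUfin.subset hsub, ?_⟩
    calc ((Subgroup.closure (gens σ (m + 1)) : Subgroup W) : Set W).ncard
        ≤ U.ncard := Set.ncard_le_ncard hsub hUfin
      _ ≤ ((H : Set W) ×ˢ ((Finset.range (m + 2) : Finset ℕ) : Set ℕ)).ncard :=
          Set.ncard_image_le hPfin
      _ = (H : Set W).ncard * (m + 2) := by
          rw [Set.ncard_prod, Set.ncard_coe_finset, Finset.card_range]
      _ ≤ (m + 1).factorial * (m + 2) := Nat.mul_le_mul_right _ hcard
      _ = (m + 1 + 1).factorial := by rw [Nat.factorial_succ (m + 1)]; ring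

theorem braid {x y : W} (hx2 : x * x = 1) (hy2 : y * y = 1) (h : (x * y) ^ 3 = 1) :
    x * y * x = y * x * y := by
  have hxi : x⁻¹ = x := inv_eq_of_mul_eq_one_left hx2
  have hyi : y⁻¹ = y := inv_eq_of_mul_eq_one_left hy2
  have h3 : x * y * x * (y * x * y) = 1 := by
    rw [pow_three] at h
    simpa [mul_assoc] using h
  have h4 : x * y * x = (y * x * y)⁻¹ := eq_inv_of_mul_eq_one_left h3
  rw [mul_inv_rev, mul_inv_rev, hxi, hyi] at h4
  rw [h4, mul_assoc]

theorem comm_of_sq {x y : W} (hx2 : x * x = 1) (hy2 : y * y = 1) (h : (x * y) ^ 2 = 1) :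
    x * y = y * x := by
  have hxi : x⁻¹ = x := inv_eq_of_mul_eq_one_left hx2
  have hyi : y⁻¹ = y := inv_eq_of_mul_eq_one_left hy2
  rw [sq] at h
  have h3 : x * y = (x * y)⁻¹ := eq_inv_of_mul_eq_one_left h
  rw [mul_inv_rev, hxi, hyi] at h3
  exact h3

end abstractPart

theorem swap_rel (n : ℕ) :
    (CoxeterMatrix.A n).IsLiftable (fun i : Fin n => Equiv.swap i.castSucc i.succ) := by
  intro i j
  by_cases hij : i = j
  · subst hij
    simp [CoxeterMatrix.A]
  · have hij' : (i : ℕ) ≠ j := fun h => hij (Fin.ext h)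
    by_cases hadj : (j : ℕ) + 1 = i ∨ (i : ℕ) + 1 = j
    · have hM : CoxeterMatrix.A n i j = 3 := by
        simp [CoxeterMatrix.A, hij, hadj]
      rw [hM]
      rcases hadj with h | h
      · have e : i.castSucc = j.succ := by
          ext; simp [h]
        have h3 : (Equiv.swap j.succ i.succ * Equiv.swap j.succ j.castSucc).IsThreeCycle := by
          apply Equiv.Perm.isThreeCycle_swap_mul_swap_same
          · intro hh; have := congrArg Fin.val hh; simp at this; omega
          · intro hh; have := congrArg Fin.val hh; simp at this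
          · intro hh; have := congrArg Fin.val hh; simp at this; omega
        show (Equiv.swap i.castSucc i.succ * Equiv.swap j.castSucc j.succ) ^ 3 = 1
        rw [e, Equiv.swap_comm j.castSucc j.succ, ← h3.orderOf]
        exact pow_orderOf_eq_one _
      · have e : j.castSucc = i.succ := by
          ext; simp [h]
        have h3 : (Equiv.swap i.succ i.castSucc * Equiv.swap i.succ j.succ).IsThreeCycle := by
          apply Equiv.Perm.isThreeCycle_swap_mul_swap_same
          · intro hh; have := congrArg Fin.val hh; simp at this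
          · intro hh; have := congrArg Fin.val hh; simp at this; omega
          · intro hh; have := congrArg Fin.val hh; simp at this; omega
        show (Equiv.swap i.castSucc i.succ * Equiv.swap j.castSucc j.succ) ^ 3 = 1
        rw [e, Equiv.swap_comm i.castSucc i.succ, ← h3.orderOf]
        exact pow_orderOf_eq_one _
    · have hM : CoxeterMatrix.A n i j = 2 := by
        simp [CoxeterMatrix.A, hij, hadj]
      rw [hM]
      push Not at hadj
      have hdis : Equiv.Perm.Disjoint (Equiv.swap i.castSucc i.succ)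
          (Equiv.swap j.castSucc j.succ) := by
        apply Equiv.Perm.disjoint_swap_swap
        simp only [List.nodup_cons, List.mem_cons, List.not_mem_nil, or_false, not_or,
          List.nodup_nil, and_true, not_false_eq_true]
        refine ⟨⟨?_, ?_, ?_⟩, ⟨?_, ?_⟩, ?_⟩
        · intro hh; have := congrArg Fin.val hh; simp at this
        · intro hh; have := congrArg Fin.val hh; simp at this; omega
        · intro hh; have := congrArg Fin.val hh; simp at this; omega
        · intro hh; have := congrArg Fin.val hh; simp at this; omega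
        · intro hh; have := congrArg Fin.val hh; simp at this; omega
        · intro hh; have := congrArg Fin.val hh; simp at this
      show (Equiv.swap i.castSucc i.succ * Equiv.swap j.castSucc j.succ) ^ 2 = 1
      rw [hdis.commute.mul_pow]
      simp [sq]

/-- The Coxeter presentation of the symmetric group: for every n, the symmetric group on n+1 letters is the Coxeter group of type A_n with the adjacent transpositions (i, i+1) as simple reflections; that is, it is presented by generators r_1, …, r_n subject to r_i² = 1, (r_i r_j)² = 1 for |i − j| > 1 and (r_i r_{i+1})³ = 1, with r_i mapping to (i, i+1). -/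
theorem result (n : ℕ) :
    ∃ cs : CoxeterSystem (CoxeterMatrix.A n) (Equiv.Perm (Fin (n + 1))), ∀ i : Fin n, cs.simple i = Equiv.swap i.castSucc i.succ := by
  classical
  let cs0 := (CoxeterMatrix.A n).toCoxeterSystem
  let σ : ℕ → (CoxeterMatrix.A n).Group := fun j => if h : j < n then cs0.simple ⟨j, h⟩ else 1
  have hσ : ∀ j (h : j < n), σ j = cs0.simple ⟨j, h⟩ := fun j h => dif_pos h
  have hrel : Rel σ n := by
    refine ⟨?_, ?_, ?_⟩
    · intro i hi
      rw [hσ i hi]
      exact cs0.simple_mul_simple_self _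
    · intro i hi
      rw [hσ i (by omega), hσ (i + 1) hi]
      apply braid (cs0.simple_mul_simple_self _) (cs0.simple_mul_simple_self _)
      have h1 := cs0.simple_mul_simple_pow ⟨i, by omega⟩ ⟨i + 1, hi⟩
      have hM3 : CoxeterMatrix.A n ⟨i, by omega⟩ ⟨i + 1, hi⟩ = 3 := by
        simp [CoxeterMatrix.A]
      rwa [hM3] at h1
    · intro i j hij hj
      rw [hσ i (by omega), hσ j hj]
      apply comm_of_sq (cs0.simple_mul_simple_self _) (cs0.simple_mul_simple_self _)
      have h1 := cs0.simple_mul_simple_pow ⟨i, by omega⟩ ⟨j, hj⟩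
      have hM2 : CoxeterMatrix.A n ⟨i, by omega⟩ ⟨j, hj⟩ = 2 := by
        have a1 : i ≠ j := by omega
        have a2 : ¬ (j + 1 = i ∨ i + 1 = j) := by omega
        simp [CoxeterMatrix.A, a1, a2]
      rwa [hM2] at h1
  have hgens : Subgroup.closure (gens σ n) = ⊤ := by
    rw [eq_top_iff, ← cs0.subgroup_closure_range_simple, Subgroup.closure_le]
    rintro _ ⟨i, rfl⟩
    exact Subgroup.subset_closure ⟨i, i.2, hσ i i.2⟩
  obtain ⟨hfin, hcard⟩ := main σ n hrel
  rw [hgens] at hfin hcard
  haveI : Finite (CoxeterMatrix.A n).Group := Set.finite_univ_iff.mp (by simpa using hfin)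
  have hcard' : Nat.card (CoxeterMatrix.A n).Group ≤ (n + 1).factorial := by
    have : ((⊤ : Subgroup (CoxeterMatrix.A n).Group) : Set (CoxeterMatrix.A n).Group) = Set.univ :=
      Subgroup.coe_top
    rw [this, Set.ncard_univ] at hcard
    exact hcard
  let φ : (CoxeterMatrix.A n).Group →* Equiv.Perm (Fin (n + 1)) := cs0.lift ⟨_, swap_rel n⟩
  have hφ : ∀ i, φ (cs0.simple i) = Equiv.swap i.castSucc i.succ :=
    fun i => cs0.lift_apply_simple (swap_rel n) i
  have hsurj : Function.Surjective φ := by
    rw [← MonoidHom.mrange_eq_top, eq_top_iff, ← Equiv.Perm.mclosure_swap_castSucc_succ n,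
      Submonoid.closure_le]
    rintro _ ⟨i, rfl⟩
    exact ⟨cs0.simple i, hφ i⟩
  have hbij : Function.Bijective φ := hsurj.bijective_of_nat_card_le (by
    rw [Nat.card_eq_fintype_card (α := Equiv.Perm (Fin (n + 1))), Fintype.card_perm,
      Fintype.card_fin]
    exact hcard')
  refine ⟨cs0.map (MulEquiv.ofBijective φ hbij), ?_⟩
  intro i
  rw [CoxeterSystem.map_simple]
  exact hφ i

end Cfsg.Agent.S2530
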