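-- Statement S2652; see Cfsg/Templates/S2652.lean.txt.
import Cfsg.Statements.S2652
import Cfsg.Agent.Lib.Helper11.F23S.Main

set_option autoImplicit false
open Cfsg

namespace Cfsg.Agent.S2652

/-- Let T be a Sylow 2-subgroup of the Fischer group Fi₂₃ (the finitely presented group `Spor.Fi23`; T has order 2¹⁸). Then every elementary abelian subgroup of Fi₂₃ contained in T and normal in T has order at most 2¹¹, and there is exactly one such subgroup of order 2¹¹. -/
theorem result
    (T : Sylow 2 Cfsg.Spor.Fi23) :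
    (∀ A : Subgroup Cfsg.Spor.Fi23, A ≤ T → (A.subgroupOf T).Normal → Cfsg.IsElementaryAbelian 2 A →
        Nat.card A ≤ 2 ^ 11) ∧
    ∃! A : Subgroup Cfsg.Spor.Fi23, A ≤ T ∧ (A.subgroupOf T).Normal ∧ Cfsg.IsElementaryAbelian 2 A ∧
        Nat.card A = 2 ^ 11 := by
  haveI : Finite Cfsg.Spor.Fi23 := Nat.finite_of_card_ne_zero Cfsg.Agent.S1697.card_le.1
  obtain ⟨T0, hT0, hQ⟩ := Cfsg.Agent.Lib.Helper11.F23S.main
  refine Cfsg.Agent.Lib.Helper11.SylEA.final 11 18 T0 (by rw [hT0]; norm_num) ?_ hQ T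
  rw [Cfsg.Agent.Lib.Helper11.F23S.hcard]
  have h : (4089470473293004800 : ℕ) = 2 ^ 18 * 15600091832325 := by norm_num
  rw [h, Nat.factorization_mul (by norm_num) (by norm_num), Nat.Prime.factorization_pow Nat.prime_two]
  have h2 : (15600091832325 : ℕ).factorization 2 = 0 :=
    Nat.factorization_eq_zero_of_not_dvd (by norm_num)
  simp [h2]

end Cfsg.Agent.S2652
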