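import Cfsg.Statements.S2804
import Cfsg.Agent.Lib.Helper16.PRed2

set_option autoImplicit false
open Cfsg

namespace Cfsg.Agent.S2804

open Cfsg.Agent.Lib.Helper16
open Cfsg.Agent.Lib.Helper8 (SubnIn subnIn_top)
open scoped commutatorElement


/-- Let L be a finite group and p a prime with C_L(O_p(L)) ≤ O_p(L), V a p-reduced normal subgroup of L and K a subnormal subgroup of L. Then [V, O^p(K)] is contained in K and is a p-reduced normal subgroup of K, where O^p(K) is the subgroup of K generated by its elements of order prime to p. -/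
theorem result {L : Type*} [Group L] [Finite L] {p : ℕ} [Fact p.Prime] (hchar : Subgroup.centralizer (Cfsg.pCore p L : Set L) ≤ Cfsg.pCore p L) (V : Subgroup L) (hV : Cfsg.IsPReducedNormal p V) (K : Subgroup L) (hK : K.IsSubnormal) : ⁅V, (Cfsg.pResidual p ↥K).map K.subtype⁆ ≤ K ∧ Cfsg.IsPReducedNormal p ((⁅V, (Cfsg.pResidual p ↥K).map K.subtype⁆).subgroupOf K) := by
  have hV' : PRed p V ⊤ := (isPReducedNormal_iff_pRed_top V).mp hV
  have hKV : K ≤ Subgroup.normalizer (V : Set L) := le_top.trans hV'.2.1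
  have hRs : SubnIn (pRes p K) ⊤ :=
    (SubnIn.of_normal (pRes_le K) (le_normalizer_pRes K)).trans (subnIn_top.mpr hK)
  have hVR : V ≤ Subgroup.normalizer (pRes p K : Set L) :=
    hV'.le_pCoreOf.trans (subnIn_pCoreOf_le_normalizer (pRes_idem K) hRs)
  have hWR : (⁅V, pRes p K⁆ : Subgroup L) ≤ pRes p K :=
    Subgroup.le_normalizer_iff_commutator_le_right.mp hVR
  have hWK : (⁅V, pRes p K⁆ : Subgroup L) ≤ K := hWR.trans (pRes_le K)
  have hWV : (⁅V, pRes p K⁆ : Subgroup L) ≤ V :=
    commutator_le_of_le_normalizer ((pRes_le K).trans hKV)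
  refine ⟨hWK, ?_⟩
  rw [isPReducedNormal_subgroupOf_iff hWK]
  refine ⟨hWK, le_normalizer_commutator hKV (le_normalizer_pRes K), elemAb_mono hWV hV'.elemAb, ?_⟩
  intro D hD hn hc
  have hDs : D.IsSubnormal := (SubnIn.of_normal hD hn).isSubnormal hK
  refine le_trans ?_ (Subgroup.centralizer_le (by exact_mod_cast hWV))
  apply isPReducedNormal_le_centralizer_of_isSubnormal hV hDs
  intro x hx hxc
  rw [mem_centralizer_iff_commute]
  intro v hv
  exact commute_of_chain hxc (hV'.isPGroup.to_le hWV) (mem_centralizer_iff_commute.mp (hc x hx hxc))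
    (comm_mem_commutator hv (mem_pRes (hD hx) hxc))

end Cfsg.Agent.S2804
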