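import Cfsg.Statements.S2809
import Cfsg.Agent.Lib.Helper16.Comm

set_option autoImplicit false
open Cfsg

namespace Cfsg.Agent.S2809

open Cfsg.Agent.Lib.Helper16


/-- Let H be a finite group, p a prime, R a p-subgroup of H with C_H(R) ≤ R, and L a subgroup of N_H(R) acting nilpotently on R (some iterated commutator [R, L, …, L] is trivial). Then L is a p-group. -/
theorem result {H : Type*} [Group H] [Finite H] {p : ℕ} [Fact p.Prime] (R : Subgroup H) (hR : IsPGroup p ↥R) (hC : Subgroup.centralizer (R : Set H) ≤ R) (L : Subgroup H) (hL : L ≤ Subgroup.normalizer (R : Set H)) (hnil : ∃ n : ℕ, Cfsg.iterCommutator R L n = ⊥) : IsPGroup p ↥L := by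
  obtain ⟨n, hn⟩ := hnil
  have hle : ∀ k, Cfsg.iterCommutator R L k ≤ R := by
    intro k
    induction k with
    | zero => exact le_rfl
    | succ k ih =>
      exact (Subgroup.commutator_mono ih le_rfl).trans (commutator_le_of_le_normalizer hL)
  apply isPGroup_of_forall_coprime
  intro x hx hc
  have key : ∀ j, ∀ u ∈ Cfsg.iterCommutator R L (n - j), Commute x u := by
    intro j
    induction j with
    | zero =>
      intro u hu
      rw [Nat.sub_zero, hn, Subgroup.mem_bot] at hu
      rw [hu]; exact Commute.one_right x
    | succ j ih =>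
      by_cases hj : j < n
      · have e : n - j = (n - (j + 1)) + 1 := by omega
        intro u hu
        rw [e] at ih
        apply commute_of_chain hc (hR.to_le (hle _)) ih
        exact comm_mem_commutator hu hx
      · have e : n - (j + 1) = n - j := by omega
        rw [e]; exact ih
  have h0 := key n
  rw [Nat.sub_self] at h0
  have hxR : x ∈ R := hC (mem_centralizer_iff_commute.mpr h0)
  exact eq_one_of_coprime_of_pgroup hc (IsPGroup.exists_pow_eq_one' hR hxR)

end Cfsg.Agent.S2809
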