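import Cfsg.Statements.S2810
import Cfsg.Agent.Lib.Helper16.Comm

set_option autoImplicit false
open Cfsg

namespace Cfsg.Agent.S2810

open Cfsg.Agent.Lib.Helper16


/-- Let H be a finite group of characteristic p and L a subgroup of H centralizing every factor of some H-invariant chain 1 = A₀ ≤ A₁ ≤ … ≤ Aₙ = O_p(H) of normal subgroups (that is, [A_{i+1}, L] ≤ Aᵢ for each i). Then L ≤ O_p(H). -/
theorem result {H : Type*} [Group H] [Finite H] {p : ℕ} [Fact p.Prime] (hchar : Subgroup.centralizer (Cfsg.pCore p H : Set H) ≤ Cfsg.pCore p H) (L : Subgroup H) (n : ℕ) (A : Fin (n + 1) → Subgroup H) (h0 : A 0 = ⊥) (hn : A (Fin.last n) = Cfsg.pCore p H) (hmono : Monotone A) (hnorm : ∀ i, (A i).Normal) (hcent : ∀ i : Fin n, ⁅A i.succ, L⁆ ≤ A i.castSucc) : L ≤ Cfsg.pCore p H := by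
  haveI := hnorm
  let K : Subgroup H := ⨅ i : Fin n, commStab (A i.succ) (A i.castSucc)
  have hKn : K.Normal := Subgroup.normal_iInf_normal (fun i => commStab_normal _ _)
  have hLK : L ≤ K := le_iInf fun i => le_commStab_of_commutator_le (hcent i)
  have hAp : ∀ i, IsPGroup p (A i) := fun i => (pCore_isPGroup).to_le (hn ▸ hmono (Fin.le_last i))
  have hKp : IsPGroup p K := by
    apply isPGroup_of_forall_coprime
    intro x hx hc
    have key : ∀ i : Fin (n+1), ∀ u ∈ A i, Commute x u := by
      intro i
      induction i using Fin.induction with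
      | zero => intro u hu; rw [h0, Subgroup.mem_bot] at hu; rw [hu]; exact Commute.one_right x
      | succ i ih =>
        intro u hu
        apply commute_of_chain hc (hAp i.castSucc) ih
        exact (Subgroup.mem_iInf.mp hx i) u hu
    have h1 := key (Fin.last n)
    rw [hn] at h1
    have hxP : x ∈ pCore p H := hchar (mem_centralizer_iff_commute.mpr h1)
    exact eq_one_of_coprime_of_pgroup hc (IsPGroup.exists_pow_eq_one' pCore_isPGroup hxP)
  exact hLK.trans (le_pCore hKn hKp)

end Cfsg.Agent.S2810
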