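import Cfsg.Statements.S2812
import Cfsg.Agent.Lib.Helper9.FStarAct

set_option autoImplicit false
open Cfsg

namespace Cfsg.Agent.S2812

open Cfsg.Agent.Lib.Helper8 Cfsg.Agent.Lib.Helper9

/-- Let H be a subgroup of the finite group G with O_p(H) = 1, Y a p-subgroup of G normalizing H, and L a subgroup of the generalized Fitting subgroup F*(H) that is subnormal in H and normalized by Y. Then L = [L, Y]·C_L(Y) and [L, Y] = [L, Y, Y]. -/
theorem result {G : Type*} [Group G] [Finite G] {p : ℕ} [Fact p.Prime] (H : Subgroup G) (hO : Cfsg.pCore p ↥H = ⊥) (Y : Subgroup G) (hY : IsPGroup p ↥Y) (hYH : Y ≤ Subgroup.normalizer (H : Set G)) (L : Subgroup G) (hLF : L ≤ (Cfsg.generalizedFittingSubgroup ↥H).map H.subtype) (hLsn : (L.subgroupOf H).IsSubnormal) (hYL : Y ≤ Subgroup.normalizer (L : Set G)) : ⁅L, Y⁆ ⊔ (L ⊓ Subgroup.centralizer (Y : Set G)) = L ∧ ⁅L, Y⁆ = ⁅⁅L, Y⁆, Y⁆ := by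
  have hLH : L ≤ H := hLF.trans (Subgroup.map_subtype_le _)
  have hS : L.subgroupOf H ≤ Cfsg.generalizedFittingSubgroup ↥H := by
    intro x hx
    obtain ⟨z, hz, hzx⟩ := hLF (Subgroup.mem_subgroupOf.mp hx)
    have : z = x := Subtype.ext hzx
    rwa [← this]
  have hgen' := le_sup_of_subnormal_of_le_fstar hS hLsn
  have hLmap : (L.subgroupOf H).map H.subtype = L := Subgroup.map_subgroupOf_eq_of_le hLH
  obtain ⟨FL, hFLdef⟩ : ∃ FL, FL = (Cfsg.fittingSubgroup ↥H ⊓ L.subgroupOf H).map H.subtype := ⟨_, rfl⟩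
  have hgen : L ≤ sSup ((Subgroup.map H.subtype) ''
      {K : Subgroup ↥H | Cfsg.IsComponent K ∧ K ≤ L.subgroupOf H}) ⊔ FL := by
    have h1 := Subgroup.map_mono (f := H.subtype) hgen'
    rw [hLmap, Subgroup.map_sup, (Subgroup.gc_map_comap H.subtype).l_sSup, ← sSup_image, ← hFLdef] at h1
    exact h1
  have hFL : FL ≤ L := by
    rw [hFLdef]
    exact (Subgroup.map_mono inf_le_right).trans hLmap.le
  have hYF : Y ≤ Subgroup.normalizer (FL : Set G) := by
    rw [hFLdef, Subgroup.map_inf_eq _ _ _ H.subtype_injective, hLmap]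
    exact Cfsg.Agent.Lib.Helper1.le_normalizer_inf (le_normalizer_map_fitting hYH) hYL
  have hcop : (Nat.card FL).Coprime p := by
    have h1 : Nat.card FL ∣ Nat.card (Cfsg.fittingSubgroup ↥H) := by
      rw [hFLdef, Subgroup.card_map_of_injective H.subtype_injective]
      exact Subgroup.card_dvd_of_le inf_le_left
    exact Nat.Coprime.coprime_dvd_left h1 (card_fitting_coprime hO)
  have hsplit := split_core p L Y FL _ hY hYL hgen (by
    rintro _ ⟨K, ⟨hK, hKL⟩, rfl⟩
    refine ⟨(qs_map_subtype K).mpr ((isComponent_iff K).mp hK).2, ?_, ?_⟩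
    · rw [← hLmap]; exact Subgroup.map_mono hKL
    · nth_rewrite 1 [← hLmap]
      exact (Subgroup.map_mono (hS.trans (fstar_le_normalizer_comp hK))).trans
        (Subgroup.le_normalizer_map H.subtype)) hFL hYF hcop
  exact ⟨hsplit, comm_stable_of_split hYL hsplit⟩

end Cfsg.Agent.S2812
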