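import Cfsg.Statements.S2813
import Cfsg.Agent.Lib.Helper16.Comm

set_option autoImplicit false
open Cfsg

namespace Cfsg.Agent.S2813

open Cfsg.Agent.Lib.Helper16
open scoped commutatorElement


/-- Let K be a subgroup of the finite group H with O_p(K) = 1 and Y a p-subgroup of N_H(K) with [K, Y, Y] = 1. Then [K, Y] = 1. -/
theorem result {H : Type*} [Group H] [Finite H] {p : ℕ} [Fact p.Prime] (K : Subgroup H) (hO : Cfsg.pCore p ↥K = ⊥) (Y : Subgroup H) (hY : IsPGroup p ↥Y) (hYK : Y ≤ Subgroup.normalizer (K : Set H)) (hq : ⁅⁅K, Y⁆, Y⁆ = ⊥) : ⁅K, Y⁆ = ⊥ := by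
  set M : Subgroup H := ⁅K, Y⁆ with hM
  have hMK : M ≤ K := commutator_le_of_le_normalizer hYK
  have hKM : K ≤ Subgroup.normalizer (M : Set H) := le_normalizer_commutator_left K Y
  have hYC : Y ≤ Subgroup.centralizer (M : Set H) := commutator_eq_bot_iff_le_centralizer'.mp hq
  have hKC : K ≤ Subgroup.normalizer (Subgroup.centralizer (M : Set H) : Set H) :=
    hKM.trans (normalizer_le_normalizer_centralizer M)
  have hMC : M ≤ Subgroup.centralizer (M : Set H) := by
    rw [hM, Subgroup.commutator_le]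
    intro k hk y hy
    have h1 : k * y * k⁻¹ ∈ Subgroup.centralizer (M : Set H) :=
      conj_mem_of_le_normalizer hKC hk (hYC hy)
    exact (Subgroup.centralizer (M : Set H)).mul_mem h1 ((Subgroup.centralizer (M : Set H)).inv_mem (hYC hy))
  have hMp : IsPGroup p M := by
    rw [hM, Subgroup.commutator_def]
    apply isPGroup_closure_of_commute
    · rintro s ⟨k, hk, y, hy, rfl⟩
      have hr : y * k * y⁻¹ * k⁻¹ ∈ M := comm_mem_commutator hk hy
      have hcomm : Commute y (y * k * y⁻¹ * k⁻¹) := mem_centralizer_iff_commute.mp (hYC hy) _ hr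
      obtain ⟨j, hj⟩ := IsPGroup.exists_pow_eq_one' hY hy
      have h1 := conj_pow_eq (x := y) (u := k) (r := y * k * y⁻¹ * k⁻¹) (by simp) hcomm (p ^ j)
      rw [hj] at h1
      have h2 : (y * k * y⁻¹ * k⁻¹) ^ p ^ j = 1 := by simpa using h1.symm
      refine ⟨j, ?_⟩
      have e : ⁅k, y⁆ = (y * k * y⁻¹ * k⁻¹)⁻¹ := by simp [commutatorElement_def, mul_assoc]
      rw [e, inv_pow, h2, inv_one]
    · rw [← Subgroup.commutator_def, ← hM]
      intro a ha b hb
      exact mem_centralizer_iff_commute.mp (hMC ha) b hb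
  have h3 : M ≤ pCoreOf p K := le_pCoreOf hMK hKM hMp
  rw [(pCoreOf_eq_bot_iff K).mpr hO] at h3
  exact eq_bot_iff.mpr h3

end Cfsg.Agent.S2813
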