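import Cfsg.Statements.S2814
import Cfsg.Agent.Lib.Helper16.Subn

set_option autoImplicit false
open Cfsg

namespace Cfsg.Agent.S2814

open Cfsg.Agent.Lib.Helper16
open Cfsg.Agent.Lib.Helper8 (SubnIn subnIn_top)
open scoped commutatorElement


/-- Let A be a subgroup of the finite group H and K the subnormal closure of A (intersection of the subnormal subgroups containing A). Then K is the normal closure of A inside K and N_H(A) ≤ N_H(K); K = A·O^p(K), O^p(K) being generated by the elements of K of order prime to p; and if A is a p-group, O^p(K) = [O^p(K), A]. -/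
theorem result {H : Type*} [Group H] [Finite H] {p : ℕ} [Fact p.Prime] (A : Subgroup H) (K : Subgroup H) (hK : K = Cfsg.subnormalClosure A) : (Subgroup.normalClosure ((A.subgroupOf K : Subgroup ↥K) : Set ↥K)).map K.subtype = K ∧ Subgroup.normalizer (A : Set H) ≤ Subgroup.normalizer (K : Set H) ∧ A ⊔ (Cfsg.pResidual p ↥K).map K.subtype = K ∧ (IsPGroup p ↥A → ⁅(Cfsg.pResidual p ↥K).map K.subtype, A⁆ = (Cfsg.pResidual p ↥K).map K.subtype) := by
  have hKs : K.IsSubnormal := hK ▸ subnormalClosure_isSubnormal A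
  have hAK : A ≤ K := hK ▸ le_subnormalClosure A
  have hmin : ∀ X : Subgroup H, A ≤ X → X.IsSubnormal → K ≤ X := fun X h1 h2 =>
    hK ▸ subnormalClosure_le h1 h2
  have hmin' : ∀ X : Subgroup H, A ≤ X → SubnIn X K → K ≤ X := fun X h1 h2 =>
    hmin X h1 (h2.isSubnormal hKs)
  have h3 : A ⊔ pRes p K = K :=
    le_antisymm (sup_le hAK (pRes_le K))
      (hmin' _ le_sup_left (subnIn_of_pRes_le le_sup_right (sup_le hAK (pRes_le K))))
  refine ⟨?_, ?_, h3, ?_⟩
  · apply le_antisymm (Subgroup.map_subtype_le _)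
    apply hmin' _ _ (Cfsg.Agent.Lib.Helper8.subnIn_map_subtype.mpr
      (Subgroup.normalClosure_normal).isSubnormal)
    intro a ha
    exact ⟨⟨a, hAK ha⟩, Subgroup.subset_normalClosure ha, rfl⟩
  · intro g hg
    apply mem_normalizer_of_conj_eq
    have h1 : K ≤ K.map (MulAut.conj g).toMonoidHom := by
      apply hmin _ _ (isSubnormal_conj hKs g)
      rw [← conj_eq_of_mem_normalizer hg]
      exact conj_mono hAK g
    exact (Subgroup.eq_of_le_of_card_ge h1 (by rw [card_conj])).symm
  · intro hAp
    have hAR : A ≤ Subgroup.normalizer (pRes p K : Set H) := hAK.trans (le_normalizer_pRes K)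
    have hW : (⁅pRes p K, A⁆ : Subgroup H) ≤ pRes p K := commutator_le_of_le_normalizer hAR
    apply le_antisymm hW
    have hn : K ≤ Subgroup.normalizer ((⁅pRes p K, A⁆ ⊔ A : Subgroup H) : Set H) := by
      refine h3.symm.le.trans (sup_le ?_ ?_)
      · exact le_normalizer_sup (le_normalizer_commutator_right _ _) Subgroup.le_normalizer
      · intro r hr
        apply mem_normalizer_of_conj_le
        rw [Subgroup.map_sup]
        apply sup_le
        · rw [conj_eq_of_mem_normalizer (le_normalizer_commutator_left _ _ hr)]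
          exact le_sup_left
        · rintro _ ⟨a, ha, rfl⟩
          have e : (MulAut.conj r).toMonoidHom a = ⁅r, a⁆ * a := by
            simp [commutatorElement_def]
          rw [e]
          exact Subgroup.mul_mem _
            ((le_sup_left : (⁅pRes p K, A⁆ : Subgroup H) ≤ _) (Subgroup.commutator_mem_commutator hr ha))
            ((le_sup_right : A ≤ (⁅pRes p K, A⁆ ⊔ A : Subgroup H)) ha)
    have hle : (⁅pRes p K, A⁆ ⊔ A : Subgroup H) ≤ K := sup_le (hW.trans (pRes_le K)) hAK
    have hK2 : K ≤ (⁅pRes p K, A⁆ ⊔ A : Subgroup H) :=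
      hmin' _ le_sup_right (SubnIn.of_normal hle hn)
    calc pRes p K ≤ pRes p (⁅pRes p K, A⁆ ⊔ A : Subgroup H) := pRes_mono hK2
      _ ≤ ⁅pRes p K, A⁆ := pRes_sup_le hAp (le_normalizer_commutator_right _ _)

end Cfsg.Agent.S2814
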