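import Cfsg.Statements.S2815
import Cfsg.Agent.Lib.Helper8.FStar
import Cfsg.Agent.Lib.Helper1.Transfer
import Cfsg.Agent.Lib.Helper1.Coprime
import Cfsg.Agent.Lib.Helper20.Primary

set_option autoImplicit false
open Cfsg

namespace Cfsg.Agent.S2815

open Cfsg.Agent.Lib.Helper8
open scoped commutatorElement

theorem aux {H : Type*} [Group H] [Finite H] {p : ℕ} [Fact p.Prime] (hp : p ∣ Nat.card H)
    (hO : Cfsg.pCore p H = ⊥) (K : Subgroup H) (hK : K = Cfsg.pResidual p H)
    (hq : Cfsg.IsQuasisimple ↥K) :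
    K = Cfsg.generalizedFittingSubgroup H ∧
    (∀ Y : Subgroup H, IsPGroup p ↥Y → Y ≠ ⊥ → ⁅K, Y⁆ = K ∧
      K ≤ ⨆ k : ↥K, Y.map (MulAut.conj (k : H)).toMonoidHom) ∧
    (∀ C : Subgroup H, C.Normal → ¬ K ≤ C → (Nat.card ↥C).Coprime p) ∧
    (¬ Cfsg.IsPClosed p H ∧ ∀ N : Subgroup H, N.Normal → ¬ Cfsg.IsPClosed p ↥N → K ≤ N) := by
  have hpp : p.Prime := Fact.out
  have hKn : K.Normal := hK ▸ Cfsg.Agent.Lib.Helper1.pResidual_normal p
  have hQS : QS K := (isQuasisimple_iff_QS K).mp hq
  have hKcomp : Cfsg.IsComponent K := ⟨hKn.isSubnormal, hq⟩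
  have hnK : ∀ X : Subgroup H, X ≤ Subgroup.normalizer (K : Set H) := by
    intro X
    rw [Subgroup.normalizer_eq_top_iff.mpr hKn]; exact le_top
  have hquot : IsPGroup p (H ⧸ K) := by
    subst hK
    exact Cfsg.Agent.Lib.Helper1.isPGroup_quotient_pResidual p
  -- `p`-elements of the Fitting subgroup are trivial
  have hFp : ∀ u ∈ Cfsg.fittingSubgroup H, (∃ k : ℕ, orderOf u = p ^ k) → u = 1 := by
    intro u hu ho
    have := Cfsg.Agent.Lib.Helper20.mem_pCore_of_mem_fitting hu ho
    rwa [hO, Subgroup.mem_bot] at this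
  have hFK : Cfsg.fittingSubgroup H ≤ K := by
    intro x hx
    rw [hK]
    apply Cfsg.Agent.Lib.Helper1.mem_pResidual_of_coprime
    have h0 : orderOf x ≠ 0 := (orderOf_pos x).ne'
    have h1 : x ^ (orderOf x / p ^ (orderOf x).factorization p) = 1 := by
      apply hFp _ (Subgroup.pow_mem _ hx _)
      refine ⟨(orderOf x).factorization p, ?_⟩
      rw [orderOf_pow_of_dvd (by
        intro h
        have := Nat.ordProj_mul_ordCompl_eq_self (orderOf x) p
        rw [h, mul_zero] at this
        exact h0 this.symm) (Nat.ordCompl_dvd _ _)]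
      exact Nat.div_div_self (Nat.ordProj_dvd _ _) h0
    have h2 : orderOf x ∣ orderOf x / p ^ (orderOf x).factorization p := orderOf_dvd_of_pow_eq_one h1
    exact Nat.Coprime.coprime_dvd_left h2 (Nat.coprime_ordCompl hpp h0).symm
  have hLK : Cfsg.layer H ≤ K := by
    apply sSup_le
    intro L hL
    by_contra hLK
    have hne : L ≠ K := fun h => hLK h.le
    have hL' := (isComponent_iff L).mp hL
    have hK' := (isComponent_iff K).mp hKcomp
    have hcomm : ⁅L, K⁆ = ⊥ := hL'.2.commutator_eq_bot_of_ne hK'.2 hL'.1 hK'.1 hne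
    apply hLK
    -- the image of `L` in `H/K` is perfect and solvable
    have hsolv : Group.IsSolvable (H ⧸ K) := by
      have := hquot.isNilpotent
      infer_instance
    have hsolv' : Group.IsSolvable (L.map (QuotientGroup.mk' K)) := inferInstance
    have hperf : ⁅L.map (QuotientGroup.mk' K), L.map (QuotientGroup.mk' K)⁆ = L.map (QuotientGroup.mk' K) := by
      rw [← Subgroup.map_commutator, hL'.2.1]
    have hbot : L.map (QuotientGroup.mk' K) = ⊥ := by
      by_contra hne'
      exact absurd hperf (Cfsg.Agent.Lib.Helper1.commutator_lt_of_solvable hsolv' hne').ne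
    intro x hx
    have : (QuotientGroup.mk' K) x ∈ L.map (QuotientGroup.mk' K) := ⟨x, hx, rfl⟩
    rw [hbot, Subgroup.mem_bot] at this
    exact (QuotientGroup.eq_one_iff x).mp this
  have hF : K = Cfsg.generalizedFittingSubgroup H :=
    le_antisymm ((le_layer_of_isComponent hKcomp).trans le_sup_left) (sup_le hLK hFK)
  -- subgroups centralizing `K` have no `p`-elements
  have hcen : ∀ u ∈ Subgroup.centralizer (K : Set H), (∃ k : ℕ, orderOf u = p ^ k) → u = 1 := by
    intro u hu ho
    apply hFp u _ ho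
    have hZn : (K ⊓ Subgroup.centralizer (K : Set H)).Normal := inferInstance
    have hZnil : Group.IsNilpotent ↥(K ⊓ Subgroup.centralizer (K : Set H)) := by
      apply isNilpotent_of_commutator_commutator_eq_bot
      have : ⁅K ⊓ Subgroup.centralizer (K : Set H), K ⊓ Subgroup.centralizer (K : Set H)⁆ = ⊥ := by
        rw [Subgroup.commutator_eq_bot_iff_le_centralizer]
        exact inf_le_right.trans (Subgroup.centralizer_le inf_le_left)
      rw [this, Subgroup.commutator_bot_left]
    have hZF : K ⊓ Subgroup.centralizer (K : Set H) ≤ Cfsg.fittingSubgroup H := le_sSup ⟨hZn, hZnil⟩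
    apply hZF
    refine Subgroup.mem_inf.mpr ⟨?_, hu⟩
    have h1 := centralizer_generalizedFitting_le (G := H)
    rw [← hF] at h1
    exact h1 hu
  have hrot : ∀ C : Subgroup H, ⁅⁅C, K⁆, K⁆ = ⊥ → C ≤ Subgroup.centralizer (K : Set H) := by
    intro C h
    have h2 : ⁅⁅K, C⁆, K⁆ = ⊥ := by rw [Subgroup.commutator_comm K C]; exact h
    have h3 : ⁅⁅K, K⁆, C⁆ = ⊥ := Subgroup.commutator_commutator_eq_bot_of_rotate h2 h
    rw [hQS.1, Subgroup.commutator_eq_bot_iff_le_centralizer] at h3
    exact Subgroup.le_centralizer_iff.mp h3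
  have hpel : ∀ Y : Subgroup H, IsPGroup p Y → ∀ y ∈ Y, ∃ k : ℕ, orderOf y = p ^ k := by
    intro Y hY y hy
    obtain ⟨k, hk⟩ := (IsPGroup.iff_orderOf.mp hY) ⟨y, hy⟩
    exact ⟨k, by rw [← hk, Subgroup.orderOf_mk]⟩
  have hC : ∀ C : Subgroup H, C.Normal → ¬ K ≤ C → (Nat.card ↥C).Coprime p := by
    intro C hCn hKC
    have hCK : ⁅C, K⁆ ≤ C ⊓ K := Subgroup.commutator_le_inf C K
    have h1 : K ≤ Subgroup.normalizer ((C ⊓ K : Subgroup H) : Set H) := by
      have : (C ⊓ K).Normal := inferInstance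
      rw [Subgroup.normalizer_eq_top_iff.mpr this]; exact le_top
    rcases hQS.2.2 (C ⊓ K) inf_le_right h1 with h | h
    · exact absurd (h ▸ inf_le_left) hKC
    · have h2 : ⁅⁅C, K⁆, K⁆ = ⊥ := by
        rw [eq_bot_iff, ← h]
        exact Subgroup.commutator_mono hCK le_rfl
      have h3 := hrot C h2
      rw [Nat.coprime_comm, Nat.Prime.coprime_iff_not_dvd hpp]
      intro hd
      obtain ⟨x, hx⟩ := exists_prime_orderOf_dvd_card' p hd
      have h4 := hcen x.1 (h3 x.2) ⟨1, by rw [Subgroup.orderOf_coe, hx, pow_one]⟩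
      rw [← Subgroup.orderOf_coe, h4, orderOf_one] at hx
      exact hpp.one_lt.ne hx
  refine ⟨hF, ?_, hC, ?_, ?_⟩
  · intro Y hY hYne
    have hKY : ⁅K, Y⁆ = K := by
      rcases hQS.2.2 ⁅K, Y⁆ (Cfsg.Agent.Lib.Helper1.commutator_le_of_le_normalizer (hnK Y))
        (Cfsg.Agent.Lib.Helper1.le_normalizer_commutator_left K Y) with h | h
      · exact h
      · exfalso
        apply hYne
        have h2 : ⁅⁅Y, K⁆, K⁆ = ⊥ := by rw [Subgroup.commutator_comm Y K]; exact h
        have h3 := hrot Y h2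
        rw [eq_bot_iff]
        intro y hy
        rw [Subgroup.mem_bot]
        exact hcen y (h3 hy) (hpel Y hY y hy)
    refine ⟨hKY, ?_⟩
    nth_rewrite 1 [← hKY]
    rw [Subgroup.commutator_le]
    intro k hk y hy
    rw [commutatorElement_def]
    apply mul_mem
    · exact Subgroup.mem_iSup_of_mem (⟨k, hk⟩ : K) ⟨y, hy, rfl⟩
    · refine Subgroup.mem_iSup_of_mem (1 : K) ⟨y⁻¹, inv_mem hy, ?_⟩
      simp
  · intro hcl
    obtain ⟨P⟩ : Nonempty (Sylow p H) := inferInstance
    have hPn := hcl P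
    have hle : (P : Subgroup H) ≤ Cfsg.pCore p H := Cfsg.Agent.Lib.Helper1.le_pCore hPn P.2
    rw [hO, le_bot_iff] at hle
    have h1 := P.card_eq_multiplicity
    rw [hle, Subgroup.card_bot] at h1
    have h2 : (Nat.card H).factorization p ≠ 0 := by
      have : 0 < (Nat.card H).factorization p :=
        hpp.factorization_pos_of_dvd Nat.card_pos.ne' hp
      omega
    have h3 : 1 < p ^ (Nat.card H).factorization p := Nat.one_lt_pow h2 hpp.one_lt
    omega
  · intro N hN hNcl
    by_contra hKN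
    apply hNcl
    have hcop := hC N hN hKN
    intro P
    have hbot : (P : Subgroup N) = ⊥ := by
      obtain ⟨n, hn⟩ := P.2.exists_card_eq
      have h1 : Nat.card (P : Subgroup N) ∣ Nat.card N := Subgroup.card_subgroup_dvd_card _
      have h2 : (Nat.card (P : Subgroup N)).Coprime (Nat.card (P : Subgroup N)) := by
        nth_rewrite 2 [hn]
        exact Nat.Coprime.pow_right n (Nat.Coprime.coprime_dvd_left h1 hcop)
      rw [Nat.coprime_self] at h2
      exact Subgroup.card_eq_one.mp h2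
    rw [hbot]
    infer_instance

/-- Let H be a finite group and p a prime dividing its order with O_p(H) = 1, and suppose K = O^p(H) (generated by the elements of order prime to p) is quasisimple. Then K = F*(H); for every nontrivial p-subgroup Y of H, K = [K, Y] and K lies in the subgroup generated by the K-conjugates of Y; every normal subgroup of H not containing K has order prime to p; and H is p-irreducible. -/
theorem result {H : Type*} [Group H] [Finite H] {p : ℕ} [Fact p.Prime] (hp : p ∣ Nat.card H) (hO : Cfsg.pCore p H = ⊥) (hq : Cfsg.IsQuasisimple ↥(Cfsg.pResidual p H)) : Cfsg.pResidual p H = Cfsg.generalizedFittingSubgroup H ∧ (∀ Y : Subgroup H, IsPGroup p ↥Y → Y ≠ ⊥ → ⁅Cfsg.pResidual p H, Y⁆ = Cfsg.pResidual p H ∧ Cfsg.pResidual p H ≤ ⨆ k : ↥(Cfsg.pResidual p H), Y.map (MulAut.conj (k : H)).toMonoidHom) ∧ (∀ C : Subgroup H, C.Normal → ¬ Cfsg.pResidual p H ≤ C → (Nat.card ↥C).Coprime p) ∧ Cfsg.IsPIrreducible p H := by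
  exact aux hp hO _ rfl hq

end Cfsg.Agent.S2815
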