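import Cfsg.Statements.S2816
import Cfsg.Agent.Lib.Helper9.FStarAct

set_option autoImplicit false
open Cfsg

namespace Cfsg.Agent.S2816

open Cfsg.Agent.Lib.Helper8 Cfsg.Agent.Lib.Helper9
open scoped commutatorElement

theorem comm_le_of_subnIn {G : Type*} [Group G] [Finite G] (p : ℕ) [Fact p.Prime] (Y : Subgroup G)
    (hY : IsPGroup p Y) (M K V : Subgroup G) (hKM : SubnIn K M) (hYK : Y ≤ K) (hVM : V ≤ M)
    (hMV : M ≤ Subgroup.normalizer (V : Set G)) (hcop : (Nat.card V).Coprime p) : ⁅V, Y⁆ ≤ K := by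
  induction hn : Nat.card M using Nat.strong_induction_on generalizing M V with
  | _ n ih =>
    have hYV : Y ≤ Subgroup.normalizer (V : Set G) := (hYK.trans hKM.1).trans hMV
    by_cases hne : K = M
    · rw [hne]
      exact (commutator_le_left_of_le_normalizer hYV).trans hVM
    · obtain ⟨N, hKN, hNM, hMN, hKsN⟩ := hKM.exists_normal hne
      have h1 : ⁅V, Y⁆ ≤ V ⊓ N :=
        le_inf (commutator_le_left_of_le_normalizer hYV)
          ((Subgroup.commutator_mono le_rfl (hYK.trans hKN)).trans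
            (commutator_le_right_of_le_normalizer (hVM.trans hMN)))
      have hcop' : (Nat.card Y).Coprime (Nat.card V) := by
        obtain ⟨k, hk⟩ := IsPGroup.iff_card.mp hY
        rw [hk]
        exact (Nat.Coprime.pow_right k hcop).symm
      have h2 := Cfsg.Agent.Lib.Helper1.coprime_commutator_stable Y V hYV hcop'
        (Or.inl (Cfsg.Agent.Lib.Helper1.solvable_of_isPGroup hY))
      rw [← h2]
      refine (Subgroup.commutator_mono h1 le_rfl).trans ?_
      exact ih (Nat.card N) (hn ▸ card_lt_of_lt hNM) N (V ⊓ N) hKsN inf_le_right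
        (Cfsg.Agent.Lib.Helper1.le_normalizer_inf (hNM.le.trans hMV) Subgroup.le_normalizer)
        (Nat.Coprime.coprime_dvd_left (Subgroup.card_dvd_of_le inf_le_left) hcop) rfl

theorem split_fstar {H : Type*} [Group H] [Finite H] {p : ℕ} [Fact p.Prime] (hO : Cfsg.pCore p H = ⊥)
    (Y : Subgroup H) (hY : IsPGroup p ↥Y) :
    ⁅Cfsg.generalizedFittingSubgroup H, Y⁆ = ⁅⁅Cfsg.generalizedFittingSubgroup H, Y⁆, Y⁆ := by
  have hn := generalizedFittingSubgroup_normal (G := H)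
  have hFn := fittingSubgroup_normal (G := H)
  have hYL : Y ≤ Subgroup.normalizer (Cfsg.generalizedFittingSubgroup H : Set H) := by
    rw [Subgroup.normalizer_eq_top_iff.mpr hn]; exact le_top
  apply comm_stable_of_split hYL
  refine split_core p _ Y (Cfsg.fittingSubgroup H) {K | Cfsg.IsComponent K} hY hYL le_rfl ?_ le_sup_right ?_
    (card_fitting_coprime hO)
  · intro K hK
    exact ⟨((isComponent_iff K).mp hK).2, (le_layer_of_isComponent hK).trans le_sup_left,
      fstar_le_normalizer_comp hK⟩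
  · rw [Subgroup.normalizer_eq_top_iff.mpr hFn]; exact le_top

theorem comm_le_fs {H : Type*} [Group H] [Finite H] {p : ℕ} [Fact p.Prime] (hO : Cfsg.pCore p H = ⊥)
    (Y : Subgroup H) (hY : IsPGroup p ↥Y) (K : Subgroup H) (hK : K.IsSubnormal) (hYK : Y ≤ K) :
    ⁅Cfsg.generalizedFittingSubgroup H, Y⁆ ≤ (Cfsg.generalizedFittingSubgroup ↥K).map K.subtype := by
  have hFn := fittingSubgroup_normal (G := H)
  obtain ⟨EK, hEK⟩ : ∃ EK, EK = (Cfsg.layer ↥K).map K.subtype := ⟨_, rfl⟩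
  obtain ⟨E', hE'⟩ : ∃ E', E' = sSup {L : Subgroup H | Cfsg.IsComponent L ∧ ¬ L ≤ K} := ⟨_, rfl⟩
  have hFS : (Cfsg.generalizedFittingSubgroup ↥K).map K.subtype = EK ⊔ (Cfsg.fittingSubgroup H ⊓ K) := by
    unfold Cfsg.generalizedFittingSubgroup
    rw [Subgroup.map_sup, map_fitting_eq hK, hEK]
  have hEKK : EK ≤ K := hEK ▸ Subgroup.map_subtype_le _
  have hE : Cfsg.layer H ≤ EK ⊔ E' := by
    apply sSup_le
    intro L hL
    by_cases h : L ≤ K
    · rw [hEK]; exact (comp_le_map_layer hL h).trans le_sup_left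
    · rw [hE']
      exact (le_sSup (show L ∈ {L : Subgroup H | Cfsg.IsComponent L ∧ ¬ L ≤ K} from ⟨hL, h⟩)).trans le_sup_right
  have hE'K : E' ≤ Subgroup.centralizer (K : Set H) := by
    rw [hE']
    apply sSup_le
    intro L hL
    rw [← Subgroup.commutator_eq_bot_iff_le_centralizer]
    exact (comp_le_or_comm hL.1 hK).resolve_left hL.2
  have hE'n : E' ≤ Subgroup.normalizer (EK : Set H) :=
    (hE'K.trans (Subgroup.centralizer_le hEKK)).trans (Subgroup.centralizer_le_normalizer _)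
  have hKEK : K ≤ Subgroup.normalizer (EK : Set H) := by
    have hln := layer_normal (G := ↥K)
    apply Cfsg.Agent.Lib.Helper1.le_normalizer_of_forall_conj_mem
    intro k hk z hz
    rw [hEK] at hz ⊢
    obtain ⟨z', hz', rfl⟩ := hz
    exact ⟨⟨k, hk⟩ * z' * ⟨k, hk⟩⁻¹, hln.conj_mem z' hz' _, rfl⟩
  have hEY : ⁅Cfsg.layer H, Y⁆ ≤ EK := by
    rw [Subgroup.commutator_le]
    intro x hx y hy
    obtain ⟨e', he', e, he, rfl⟩ := (mem_sup_of_le_normalizer hE'n).mp (hE hx)
    have h1 : y * e' = e' * y := (Subgroup.mem_centralizer_iff.mp (hE'K he')) y (hYK hy)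
    have h2 : y * e⁻¹ * y⁻¹ ∈ EK :=
      Cfsg.Agent.Lib.Helper1.conj_mem_of_mem_normalizer (hKEK (hYK hy)) (inv_mem he)
    have h3 : (e * (y * e⁻¹ * y⁻¹)) * e' = e' * (e * (y * e⁻¹ * y⁻¹)) :=
      (Subgroup.mem_centralizer_iff.mp (hE'K he')) _ (hEKK (mul_mem he h2))
    have h4 : y * e'⁻¹ * y⁻¹ = e'⁻¹ := by
      calc y * e'⁻¹ * y⁻¹ = e'⁻¹ * (e' * y) * e'⁻¹ * y⁻¹ := by group
        _ = e'⁻¹ * (y * e') * e'⁻¹ * y⁻¹ := by rw [h1]
        _ = _ := by group
    have e1 : ⁅e' * e, y⁆ = e * (y * e⁻¹ * y⁻¹) := by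
      calc ⁅e' * e, y⁆ = e' * (e * (y * e⁻¹ * y⁻¹)) * (y * e'⁻¹ * y⁻¹) := by
            rw [commutatorElement_def]; group
        _ = (e * (y * e⁻¹ * y⁻¹)) * e' * e'⁻¹ := by rw [h4, h3]
        _ = _ := by group
    rw [e1]
    exact mul_mem he h2
  have hFY : ⁅Cfsg.fittingSubgroup H, Y⁆ ≤ Cfsg.fittingSubgroup H ⊓ K := by
    refine le_inf (commutator_le_left_of_le_normalizer ?_) ?_
    · rw [Subgroup.normalizer_eq_top_iff.mpr hFn]; exact le_top
    · refine comm_le_of_subnIn p Y hY ⊤ K _ (subnIn_top.mpr hK) hYK le_top ?_ (card_fitting_coprime hO)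
      rw [Subgroup.normalizer_eq_top_iff.mpr hFn]
  rw [hFS, Subgroup.commutator_le]
  intro x hx y hy
  obtain ⟨e, he, f, hf, rfl⟩ := Subgroup.mem_sup_of_normal_right.mp hx
  have hfy : ⁅f, y⁆ ∈ Cfsg.fittingSubgroup H ⊓ K := hFY (Subgroup.commutator_mem_commutator hf hy)
  have hcomm := layer_comm_fitting (G := H)
  rw [Subgroup.commutator_eq_bot_iff_le_centralizer] at hcomm
  have h1 : ⁅f, y⁆ * e = e * ⁅f, y⁆ :=
    (Subgroup.mem_centralizer_iff.mp (hcomm he)) _ (Subgroup.mem_inf.mp hfy).1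
  have e1 : ⁅e * f, y⁆ = ⁅f, y⁆ * ⁅e, y⁆ := by
    calc ⁅e * f, y⁆ = (e * ⁅f, y⁆) * (y * e⁻¹ * y⁻¹) := by
          simp only [commutatorElement_def]; group
      _ = (⁅f, y⁆ * e) * (y * e⁻¹ * y⁻¹) := by rw [h1]
      _ = _ := by simp only [commutatorElement_def]; group
  rw [e1]
  exact mul_mem ((le_sup_right : Cfsg.fittingSubgroup H ⊓ K ≤ _) hfy)
    ((le_sup_left : EK ≤ _) (hEY (Subgroup.commutator_mem_commutator he hy)))

theorem fs_le {H : Type*} [Group H] [Finite H] (K : Subgroup H) (hK : K.IsSubnormal) :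
    (Cfsg.generalizedFittingSubgroup ↥K).map K.subtype ≤ Cfsg.generalizedFittingSubgroup H := by
  unfold Cfsg.generalizedFittingSubgroup
  rw [Subgroup.map_sup, map_fitting_eq hK]
  exact sup_le_sup (map_layer_le hK) inf_le_left

/-- Let H be a finite group and p a prime with O_p(H) = 1, and Y a p-subgroup of H. Then for every subnormal subgroup K of H containing Y, [F*(H), Y] = [F*(K), Y] = [F*(K), Y, Y]; and if Y₀ ≤ Y with [F*(H), Y, Y₀] = 1 then Y₀ = 1 (in particular [F*(H), Y] = 1 forces Y = 1). -/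
theorem result {H : Type*} [Group H] [Finite H] {p : ℕ} [Fact p.Prime] (hO : Cfsg.pCore p H = ⊥) (Y : Subgroup H) (hY : IsPGroup p ↥Y) : (∀ K : Subgroup H, K.IsSubnormal → Y ≤ K → ⁅Cfsg.generalizedFittingSubgroup H, Y⁆ = ⁅(Cfsg.generalizedFittingSubgroup ↥K).map K.subtype, Y⁆ ∧ ⁅(Cfsg.generalizedFittingSubgroup ↥K).map K.subtype, Y⁆ = ⁅⁅(Cfsg.generalizedFittingSubgroup ↥K).map K.subtype, Y⁆, Y⁆) ∧ (∀ Y₀ : Subgroup H, Y₀ ≤ Y → ⁅⁅Cfsg.generalizedFittingSubgroup H, Y⁆, Y₀⁆ = ⊥ → Y₀ = ⊥) := by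
  have hst := split_fstar hO Y hY
  constructor
  · intro K hK hYK
    have h1 := comm_le_fs hO Y hY K hK hYK
    have h2 := fs_le K hK
    have h3 : ⁅Cfsg.generalizedFittingSubgroup H, Y⁆ = ⁅(Cfsg.generalizedFittingSubgroup ↥K).map K.subtype, Y⁆ := by
      apply le_antisymm _ (Subgroup.commutator_mono h2 le_rfl)
      rw [hst]
      exact Subgroup.commutator_mono h1 le_rfl
    refine ⟨h3, ?_⟩
    rw [← h3]
    exact hst
  · intro Y₀ hY₀ hbot
    have hY₀p : IsPGroup p Y₀ := hY.to_le hY₀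
    have hst₀ := split_fstar hO Y₀ hY₀p
    have h1 : ⁅Cfsg.generalizedFittingSubgroup H, Y₀⁆ = ⊥ := by
      rw [hst₀, eq_bot_iff, ← hbot]
      exact Subgroup.commutator_mono (Subgroup.commutator_mono le_rfl hY₀) le_rfl
    rw [Subgroup.commutator_eq_bot_iff_le_centralizer] at h1
    have h2 : Y₀ ≤ Subgroup.centralizer (Cfsg.generalizedFittingSubgroup H : Set H) :=
      Subgroup.le_centralizer_iff.mp h1
    have hn := generalizedFittingSubgroup_normal (G := H)
    have hZn : (Cfsg.generalizedFittingSubgroup H ⊓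
        Subgroup.centralizer (Cfsg.generalizedFittingSubgroup H : Set H)).Normal := inferInstance
    have hZnil : Group.IsNilpotent ↥(Cfsg.generalizedFittingSubgroup H ⊓
        Subgroup.centralizer (Cfsg.generalizedFittingSubgroup H : Set H)) := by
      apply isNilpotent_of_commutator_commutator_eq_bot
      have : ⁅Cfsg.generalizedFittingSubgroup H ⊓
          Subgroup.centralizer (Cfsg.generalizedFittingSubgroup H : Set H),
          Cfsg.generalizedFittingSubgroup H ⊓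
          Subgroup.centralizer (Cfsg.generalizedFittingSubgroup H : Set H)⁆ = ⊥ := by
        rw [Subgroup.commutator_eq_bot_iff_le_centralizer]
        exact inf_le_right.trans (Subgroup.centralizer_le inf_le_left)
      rw [this, Subgroup.commutator_bot_left]
    have hZF : Cfsg.generalizedFittingSubgroup H ⊓
        Subgroup.centralizer (Cfsg.generalizedFittingSubgroup H : Set H) ≤ Cfsg.fittingSubgroup H :=
      le_sSup ⟨hZn, hZnil⟩
    rw [eq_bot_iff]
    intro y hy
    have hyF : y ∈ Cfsg.fittingSubgroup H :=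
      hZF (Subgroup.mem_inf.mpr ⟨centralizer_generalizedFitting_le (h2 hy), h2 hy⟩)
    obtain ⟨k, hk⟩ := (IsPGroup.iff_orderOf.mp hY₀p) ⟨y, hy⟩
    have := Cfsg.Agent.Lib.Helper20.mem_pCore_of_mem_fitting hyF ⟨k, by rw [← hk, Subgroup.orderOf_mk]⟩
    rwa [hO] at this

end Cfsg.Agent.S2816
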