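import Cfsg.Statements.S2817
import Cfsg.Agent.S2816
import Cfsg.Agent.Lib.Helper22.Comm
import Cfsg.Agent.Lib.Helper1.PGrp
import Cfsg.Agent.Lib.Helper9.DualPQ
import Cfsg.Agent.Lib.Helper8.CoprimeAct

set_option autoImplicit false
open Cfsg

namespace Cfsg.Agent.S2817
open Cfsg.Agent.Lib.Helper9 Cfsg.Agent.Lib.Helper8 Cfsg.Agent.Lib.Helper1
open scoped commutatorElement

theorem three_subgroups_rel {G : Type*} [Group G] (N H₁ H₂ H₃ : Subgroup G)
    (n1 : H₁ ≤ Subgroup.normalizer (N : Set G)) (n2 : H₂ ≤ Subgroup.normalizer (N : Set G))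
    (n3 : H₃ ≤ Subgroup.normalizer (N : Set G))
    (h1 : ⁅⁅H₂, H₃⁆, H₁⁆ ≤ N) (h2 : ⁅⁅H₃, H₁⁆, H₂⁆ ≤ N) : ⁅⁅H₁, H₂⁆, H₃⁆ ≤ N := by
  obtain ⟨W, hW⟩ : ∃ W, W = Subgroup.normalizer (N : Set G) := ⟨_, rfl⟩
  rw [← hW] at n1 n2 n3
  have hNn : (N.subgroupOf W).Normal := by rw [hW]; exact Subgroup.normal_in_normalizer
  have key : ∀ A B C : Subgroup G, A ≤ W → B ≤ W → C ≤ W →
      (⁅⁅A.subgroupOf W, B.subgroupOf W⁆, C.subgroupOf W⁆ ≤ N.subgroupOf W ↔ ⁅⁅A, B⁆, C⁆ ≤ N) := by
    intro A B C hA hB hC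
    show _ ≤ N.comap W.subtype ↔ _
    rw [← Subgroup.map_le_iff_le_comap, Subgroup.map_commutator,
      Subgroup.map_commutator, Subgroup.subgroupOf_map_subtype, Subgroup.subgroupOf_map_subtype,
      Subgroup.subgroupOf_map_subtype, inf_eq_left.mpr hA, inf_eq_left.mpr hB, inf_eq_left.mpr hC]
  rw [← key _ _ _ n1 n2 n3]
  exact Cfsg.Agent.Lib.Helper22.three_subgroups_le _ _ _ _ ((key _ _ _ n2 n3 n1).mpr h1)
    ((key _ _ _ n3 n1 n2).mpr h2)

theorem center_inf_commutator_le_frattini {G : Type*} [Group G] :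
    Subgroup.center G ⊓ commutator G ≤ frattini G := by
  rw [le_frattini_iff]
  intro M hM
  by_cases hc : Subgroup.center G ≤ M
  · exact inf_le_left.trans hc
  · have htop : M ⊔ Subgroup.center G = ⊤ := by
      apply hM.2
      exact lt_of_le_of_ne le_sup_left (fun h => hc (h ▸ le_sup_right))
    refine inf_le_right.trans ?_
    rw [commutator_def, Subgroup.commutator_le]
    intro x _ y _
    have hx : x ∈ M ⊔ Subgroup.center G := htop ▸ Subgroup.mem_top x
    have hy : y ∈ M ⊔ Subgroup.center G := htop ▸ Subgroup.mem_top y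
    rw [← SetLike.mem_coe, Subgroup.mul_normal] at hx hy
    obtain ⟨m, hm, z, hz, rfl⟩ := hx
    obtain ⟨m', hm', z', hz', rfl⟩ := hy
    have hz1 := Subgroup.mem_center_iff.mp hz
    have hz2 := Subgroup.mem_center_iff.mp hz'
    have e1 : ∀ y : G, ⁅m * z, y⁆ = ⁅m, y⁆ := by
      intro y
      rw [commutatorElement_def, commutatorElement_def, mul_inv_rev]
      have : z * y * z⁻¹ = y := by rw [← hz1 y, mul_inv_cancel_right]
      calc _ = m * (z * y * z⁻¹) * m⁻¹ * y⁻¹ := by group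
        _ = _ := by rw [this]
    have e2 : ∀ x : G, ⁅x, m' * z'⁆ = ⁅x, m'⁆ := by
      intro x
      rw [commutatorElement_def, commutatorElement_def, mul_inv_rev]
      have : z' * x⁻¹ * z'⁻¹ = x⁻¹ := by rw [← hz2 x⁻¹, mul_inv_cancel_right]
      calc _ = x * m' * (z' * x⁻¹ * z'⁻¹) * m'⁻¹ := by group
        _ = _ := by rw [this]
    rw [e1, e2]
    exact (Subgroup.commutator_le_self M) (Subgroup.commutator_mem_commutator hm hm')

theorem mem_commutator_of_fixed {G : Type*} [Group G] [Finite G] (L Q : Subgroup G)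
    (hQL : Q ≤ Subgroup.normalizer (L : Set G)) (hLQ : ⁅L, Q⁆ = L) (z : G) (hz : z ∈ L)
    (hzQ : ∀ q ∈ Q, q * z * q⁻¹ = z) (hcop : (orderOf z).Coprime (Nat.card Q)) :
    (⟨z, hz⟩ : L) ∈ commutator L := by
  have := Fintype.ofFinite Q
  obtain ⟨ψ, hψ⟩ : ∃ ψ : L →* Abelianization L, ψ = ∏ q : Q, (Abelianization.of).comp
    (conjNormalizer q.1 (hQL q.2)).toMonoidHom := ⟨_, rfl⟩
  have hap : ∀ l : L, ψ l = ∏ q : Q, Abelianization.of (conjNormalizer q.1 (hQL q.2) l) := by
    intro l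
    rw [hψ, MonoidHom.finsetProd_apply]
    rfl
  have hinv : ∀ (q₀ : Q) (l : L), ψ (conjNormalizer q₀.1 (hQL q₀.2) l) = ψ l := by
    intro q₀ l
    rw [hap, hap]
    apply Fintype.prod_equiv (Equiv.mulRight q₀)
    intro q
    congr 1
    apply Subtype.ext
    simp [conjNormalizer, mul_assoc]
  have hker : L ≤ (ψ.ker).map L.subtype := by
    conv_lhs => rw [← hLQ]
    rw [Subgroup.commutator_le]
    intro l hl q hq
    refine ⟨⟨l, hl⟩ * (conjNormalizer q (hQL hq) ⟨l, hl⟩)⁻¹, ?_, ?_⟩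
    · rw [SetLike.mem_coe, MonoidHom.mem_ker, map_mul, map_inv, hinv ⟨q, hq⟩, mul_inv_cancel]
    · simp [conjNormalizer, commutatorElement_def, mul_assoc]
  have h1 : ψ ⟨z, hz⟩ = 1 := by
    obtain ⟨w, hw, hwz⟩ := hker hz
    have : w = ⟨z, hz⟩ := Subtype.ext hwz
    rw [← this]; exact hw
  have h2 : ψ ⟨z, hz⟩ = (Abelianization.of (⟨z, hz⟩ : L)) ^ Nat.card Q := by
    rw [hap, Nat.card_eq_fintype_card, ← Finset.card_univ, ← Finset.prod_const]
    apply Finset.prod_congr rfl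
    intro q _
    congr 1
    apply Subtype.ext
    exact hzQ q.1 q.2
  have h3 : (Abelianization.of (⟨z, hz⟩ : L)) ^ orderOf z = 1 := by
    rw [← map_pow]
    have : (⟨z, hz⟩ : L) ^ orderOf z = 1 := Subtype.ext (by simp [pow_orderOf_eq_one])
    rw [this, map_one]
  have h4 : orderOf (Abelianization.of (⟨z, hz⟩ : L)) = 1 :=
    Nat.dvd_one.mp (hcop ▸ Nat.dvd_gcd (orderOf_dvd_of_pow_eq_one h3)
      (orderOf_dvd_of_pow_eq_one (h2 ▸ h1)))
  rw [orderOf_eq_one_iff] at h4
  rw [← Abelianization.ker_of]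
  exact h4


theorem split_sub {H : Type*} [Group H] [Finite H] {p : ℕ} [Fact p.Prime] (hO : Cfsg.pCore p H = ⊥)
    (M Y : Subgroup H) (hY : IsPGroup p ↥Y) (hM : M ≤ Cfsg.generalizedFittingSubgroup H)
    (hFM : Cfsg.generalizedFittingSubgroup H ≤ Subgroup.normalizer (M : Set H))
    (hYM : Y ≤ Subgroup.normalizer (M : Set H)) :
    ⁅M, Y⁆ ⊔ (M ⊓ Subgroup.centralizer (Y : Set H)) = M := by
  have hn := generalizedFittingSubgroup_normal (G := H)
  have hFn := fittingSubgroup_normal (G := H)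
  have hsn : M.IsSubnormal := (SubnIn.of_normal hM hFM).isSubnormal hn.isSubnormal
  refine split_core p M Y (Cfsg.fittingSubgroup H ⊓ M) {K | Cfsg.IsComponent K ∧ K ≤ M} hY hYM
    (le_sup_of_subnormal_of_le_fstar hM hsn) ?_ inf_le_right ?_ ?_
  · intro K hK
    exact ⟨((isComponent_iff K).mp hK.1).2, hK.2, hM.trans (fstar_le_normalizer_comp hK.1)⟩
  · apply Cfsg.Agent.Lib.Helper1.le_normalizer_inf _ hYM
    rw [Subgroup.normalizer_eq_top_iff.mpr hFn]; exact le_top
  · exact Nat.Coprime.coprime_dvd_left (Subgroup.card_dvd_of_le inf_le_left) (card_fitting_coprime hO)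

theorem le_normalizer_sup_of {G : Type*} [Group G] {X Y Z : Subgroup G}
    (h1 : X ≤ Subgroup.normalizer (Y : Set G)) (h2 : X ≤ Subgroup.normalizer (Z : Set G)) :
    X ≤ Subgroup.normalizer ((Y ⊔ Z : Subgroup G) : Set G) := by
  intro a ha
  rw [Subgroup.mem_normalizer_iff_map_conj_eq, Subgroup.map_sup,
    Subgroup.mem_normalizer_iff_map_conj_eq.mp (h1 ha), Subgroup.mem_normalizer_iff_map_conj_eq.mp (h2 ha)]

theorem comm_bot_of_le_centralizer {G : Type*} [Group G] {A B : Subgroup G}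
    (h : A ≤ Subgroup.centralizer (B : Set G)) : ⁅A, B⁆ = ⊥ := by
  rw [Subgroup.commutator_eq_bot_iff_le_centralizer]; exact h

theorem result' {H : Type*} [Group H] [Finite H] {p : ℕ} [Fact p.Prime] (hO : Cfsg.pCore p H = ⊥) (Q : Subgroup H) (hQ : IsPGroup p ↥Q) (L : Subgroup H) (Fs : Subgroup H) (hFs : Fs = Cfsg.generalizedFittingSubgroup H) (hL : L = ⁅Fs, Q⁆) (F : Subgroup H) (hF : F ≤ Fs ∧ Fs ≤ Subgroup.normalizer (F : Set H) ∧ Q ≤ Subgroup.centralizer (F : Set H) ∧ ∀ N : Subgroup H, N ≤ Fs → Fs ≤ Subgroup.normalizer (N : Set H) → Q ≤ Subgroup.centralizer (N : Set H) → N ≤ F) : F = Fs ⊓ Subgroup.centralizer ((L ⊔ Q : Subgroup H) : Set H) ∧ ⁅L, Q⁆ = L ∧ L ⊓ F ≤ (frattini ↥L).map L.subtype ∧ (∀ B : Subgroup H, IsPGroup p ↥B → B ≤ Subgroup.normalizer (Q : Set H) → ⁅L, B⁆ ≤ F → ⁅L, B⁆ = ⊥) ∧ (Nat.card ↥(Subgroup.centralizer ((F ⊔ L : Subgroup H) : Set H))).Coprime p := by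
  have hpp : p.Prime := Fact.out
  obtain ⟨hF1, hF2, hF3, hF4⟩ := hF
  have hn : Fs.Normal := hFs ▸ generalizedFittingSubgroup_normal (G := H)
  have hNtop : ∀ X : Subgroup H, X ≤ Subgroup.normalizer (Fs : Set H) := by
    intro X; rw [Subgroup.normalizer_eq_top_iff.mpr hn]; exact le_top
  have hLFs : L ≤ Fs := hL ▸ commutator_le_of_le_normalizer (hNtop Q)
  have hFsL : Fs ≤ Subgroup.normalizer (L : Set H) := hL ▸ le_normalizer_commutator_left Fs Q
  have hQL : Q ≤ Subgroup.normalizer (L : Set H) := hL ▸ le_normalizer_commutator_right (hNtop Q)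
  have hQF : ⁅Q, F⁆ = ⊥ := comm_bot_of_le_centralizer hF3
  have hFQ : ⁅F, Q⁆ = ⊥ := by rw [Subgroup.commutator_comm]; exact hQF
  -- L centralizes F
  have hLF : ⁅L, F⁆ = ⊥ := by
    rw [hL]
    apply Subgroup.commutator_commutator_eq_bot_of_rotate
    · rw [hQF, Subgroup.commutator_bot_left]
    · have : ⁅F, Fs⁆ ≤ F := commutator_le_of_le_normalizer hF2
      exact le_bot_iff.mp ((Subgroup.commutator_mono this le_rfl).trans hFQ.le)
  have hLcF : L ≤ Subgroup.centralizer (F : Set H) :=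
    Subgroup.commutator_eq_bot_iff_le_centralizer.mp hLF
  have hFsLQ : Fs ≤ Subgroup.normalizer ((L ⊔ Q : Subgroup H) : Set H) := by
    apply le_normalizer_of_forall_conj_mem
    intro x hx
    have : L ⊔ Q ≤ (L ⊔ Q).comap (MulAut.conj x).toMonoidHom := by
      apply sup_le
      · intro l hl
        exact Subgroup.mem_sup_left (conj_mem_of_mem_normalizer (hFsL hx) hl)
      · intro q hq
        show x * q * x⁻¹ ∈ L ⊔ Q
        have h1 : ⁅x, q⁆ ∈ L := hL ▸ Subgroup.commutator_mem_commutator hx hq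
        have h2 : x * q * x⁻¹ = ⁅x, q⁆ * q := by rw [commutatorElement_def]; group
        rw [h2]
        exact Subgroup.mul_mem _ (Subgroup.mem_sup_left h1) (Subgroup.mem_sup_right hq)
    intro y hy
    exact this hy
  have part1 : F = Fs ⊓ Subgroup.centralizer ((L ⊔ Q : Subgroup H) : Set H) := by
    apply le_antisymm
    · apply le_inf hF1
      exact Subgroup.le_centralizer_iff.mp (sup_le hLcF hF3)
    · apply hF4 _ inf_le_left
      · exact Cfsg.Agent.Lib.Helper1.le_normalizer_inf (hNtop Fs) (le_normalizer_centralizer_of hFsLQ)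
      · apply Subgroup.le_centralizer_iff.mp
        exact inf_le_right.trans (Subgroup.centralizer_le (by exact_mod_cast (le_sup_right : Q ≤ L ⊔ Q)))
  have part2 : ⁅L, Q⁆ = L := by
    rw [hL, hFs]; exact (Cfsg.Agent.S2816.split_fstar hO Q hQ).symm
  have hFQc : ∀ z ∈ F, ∀ q ∈ Q, q * z * q⁻¹ = z := by
    intro z hz q hq
    have := Subgroup.mem_centralizer_iff.mp (hF3 hq) z hz
    rw [← this, mul_inv_cancel_right]
  have hZ0F : L ⊓ F ≤ Cfsg.fittingSubgroup H := by
    apply le_fittingSubgroup_of_isSubnormal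
    · have h1 : SubnIn (L ⊓ F) Fs := SubnIn.of_normal (inf_le_left.trans hLFs)
        (Cfsg.Agent.Lib.Helper1.le_normalizer_inf hFsL hF2)
      exact h1.isSubnormal hn.isSubnormal
    · apply isNilpotent_of_commutator_commutator_eq_bot
      have : ⁅L ⊓ F, L ⊓ F⁆ = ⊥ :=
        le_bot_iff.mp ((Subgroup.commutator_mono inf_le_left inf_le_right).trans hLF.le)
      rw [this, Subgroup.commutator_bot_left]
  refine ⟨part1, part2, ?_, ?_, ?_⟩
  · intro z hz
    refine ⟨⟨z, hz.1⟩, ?_, rfl⟩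
    apply center_inf_commutator_le_frattini
    refine Subgroup.mem_inf.mpr ⟨?_, ?_⟩
    · rw [Subgroup.mem_center_iff]
      intro l
      apply Subtype.ext
      exact (Subgroup.mem_centralizer_iff.mp (hLcF l.2) z hz.2).symm
    · apply mem_commutator_of_fixed L Q hQL part2 z hz.1 (hFQc z hz.2)
      have h1 : orderOf z ∣ Nat.card (Cfsg.fittingSubgroup H) := by
        have := orderOf_dvd_natCard (⟨z, hZ0F hz⟩ : Cfsg.fittingSubgroup H)
        rwa [Subgroup.orderOf_mk] at this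
      obtain ⟨k, hk⟩ := IsPGroup.iff_card.mp hQ
      rw [hk]
      exact Nat.Coprime.pow_right _ (Nat.Coprime.coprime_dvd_left h1 (card_fitting_coprime hO))
  · intro B hB hBQ hLB
    have hBL : B ≤ Subgroup.normalizer (L : Set H) := hL ▸ le_normalizer_commutator_of (hNtop B) hBQ
    have hBF : B ≤ Subgroup.normalizer (F : Set H) := by
      rw [part1]
      exact Cfsg.Agent.Lib.Helper1.le_normalizer_inf (hNtop B)
        (le_normalizer_centralizer_of (le_normalizer_sup_of hBL hBQ))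
    have hLB' : ⁅L, B⁆ ≤ L ⊓ F := le_inf (commutator_le_of_le_normalizer hBL) hLB
    obtain ⟨Y, hY⟩ : ∃ Y, Y = ⁅B, Q⁆ := ⟨_, rfl⟩
    have hYQ : Y ≤ Q := by
      rw [hY, Subgroup.commutator_comm]; exact commutator_le_of_le_normalizer hBQ
    have hYp : IsPGroup p Y := hQ.to_le hYQ
    have hcZ : ∀ X : Subgroup H, X ≤ Subgroup.centralizer (F : Set H) →
        X ≤ Subgroup.normalizer ((L ⊓ F : Subgroup H) : Set H) := by
      intro X hX
      exact (hX.trans (Subgroup.centralizer_le (by exact_mod_cast (inf_le_right : L ⊓ F ≤ F)))).trans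
        (Subgroup.centralizer_le_normalizer _)
    have hYL : ⁅Y, L⁆ ≤ L ⊓ F := by
      rw [hY]
      apply three_subgroups_rel _ _ _ _ (Cfsg.Agent.Lib.Helper1.le_normalizer_inf hBL hBF) (hcZ Q hF3)
        (hcZ L hLcF)
      · rw [Subgroup.commutator_comm Q L, part2]; exact hLB'
      · exact ((Subgroup.commutator_mono hLB le_rfl).trans hFQ.le).trans bot_le
    have hst := Cfsg.Agent.S2816.split_fstar hO Y hYp
    rw [← hFs] at hst
    have h1 : ⁅Fs, Y⁆ ≤ L := hL ▸ Subgroup.commutator_mono le_rfl hYQ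
    have h2 : ⁅⁅Fs, Y⁆, Y⁆ ≤ L ⊓ F := by
      refine (Subgroup.commutator_mono h1 le_rfl).trans ?_
      rw [Subgroup.commutator_comm]; exact hYL
    have h3 : ⁅⁅⁅Fs, Y⁆, Y⁆, Y⁆ = ⊥ :=
      le_bot_iff.mp ((Subgroup.commutator_mono (h2.trans inf_le_right) hYQ).trans hFQ.le)
    have h4 : ⁅⁅Fs, Y⁆, Y⁆ = ⊥ := by
      rw [← hst] at h3; exact h3
    have hYbot : Y = ⊥ := (Cfsg.Agent.S2816.result hO Y hYp).2 Y le_rfl (hFs ▸ h4)
    rw [← part2]
    apply Subgroup.commutator_commutator_eq_bot_of_rotate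
    · rw [Subgroup.commutator_comm Q B, ← hY, hYbot, Subgroup.commutator_bot_left]
    · rw [Subgroup.commutator_comm B L]
      exact le_bot_iff.mp ((Subgroup.commutator_mono hLB le_rfl).trans hFQ.le)
  · rw [Nat.coprime_comm, Nat.Prime.coprime_iff_not_dvd hpp]
    intro hd
    obtain ⟨x, hx⟩ := exists_prime_orderOf_dvd_card' p hd
    obtain ⟨X, hX⟩ : ∃ X, X = Subgroup.zpowers (x : H) := ⟨_, rfl⟩
    have hXc : X ≤ Subgroup.centralizer ((F ⊔ L : Subgroup H) : Set H) := by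
      rw [hX, Subgroup.zpowers_le]; exact x.2
    have hXp : IsPGroup p X := by
      rw [hX]
      apply isPGroup_zpowers_of_pow_eq_one
      have := pow_orderOf_eq_one x
      rw [hx] at this
      exact_mod_cast congrArg Subtype.val this
    have hXL : ⁅X, L⁆ = ⊥ := comm_bot_of_le_centralizer
      (hXc.trans (Subgroup.centralizer_le (by exact_mod_cast (le_sup_right : L ≤ F ⊔ L))))
    obtain ⟨C₁, hC₁⟩ : ∃ C₁, C₁ = Fs ⊓ Subgroup.centralizer (L : Set H) := ⟨_, rfl⟩
    have hC1 : ⁅C₁, Q⁆ ⊔ (C₁ ⊓ Subgroup.centralizer (Q : Set H)) = C₁ := by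
      apply split_sub hO C₁ Q hQ
      · rw [hC₁, ← hFs]; exact inf_le_left
      · rw [hC₁, ← hFs]
        exact Cfsg.Agent.Lib.Helper1.le_normalizer_inf (hNtop Fs) (le_normalizer_centralizer_of hFsL)
      · rw [hC₁]
        exact Cfsg.Agent.Lib.Helper1.le_normalizer_inf (hNtop Q) (le_normalizer_centralizer_of hQL)
    have hC2 : C₁ ≤ F ⊔ L := by
      rw [← hC1]
      apply sup_le
      · refine le_trans ?_ le_sup_right
        rw [hL]; exact Subgroup.commutator_mono (hC₁ ▸ inf_le_left) le_rfl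
      · refine le_trans ?_ le_sup_left
        rw [part1, hC₁]
        intro c hc
        refine Subgroup.mem_inf.mpr ⟨hc.1.1, ?_⟩
        have h1 : L ≤ Subgroup.centralizer ({c} : Set H) := by
          intro l hl
          rw [Subgroup.mem_centralizer_singleton_iff]
          exact (Subgroup.mem_centralizer_iff.mp hc.1.2 l hl)
        have h2 : Q ≤ Subgroup.centralizer ({c} : Set H) := by
          intro l hl
          rw [Subgroup.mem_centralizer_singleton_iff]
          exact (Subgroup.mem_centralizer_iff.mp hc.2 l hl)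
        rw [Subgroup.mem_centralizer_iff]
        intro y hy
        exact Subgroup.mem_centralizer_singleton_iff.mp (sup_le h1 h2 hy)
    have h5 : ⁅Fs, X⁆ ≤ C₁ := by
      rw [hC₁]
      apply le_inf (commutator_le_of_le_normalizer (hNtop X))
      apply Subgroup.commutator_eq_bot_iff_le_centralizer.mp
      apply Subgroup.commutator_commutator_eq_bot_of_rotate
      · rw [hXL, Subgroup.commutator_bot_left]
      · have : ⁅L, Fs⁆ ≤ L := commutator_le_of_le_normalizer hFsL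
        refine le_bot_iff.mp ((Subgroup.commutator_mono this le_rfl).trans ?_)
        rw [Subgroup.commutator_comm]; exact hXL.le
    have h6 : ⁅⁅Fs, X⁆, X⁆ = ⊥ := by
      refine le_bot_iff.mp ((Subgroup.commutator_mono (h5.trans hC2) le_rfl).trans ?_)
      rw [Subgroup.commutator_comm]
      exact (comm_bot_of_le_centralizer hXc).le
    have hXbot : X = ⊥ := (Cfsg.Agent.S2816.result hO X hXp).2 X le_rfl (hFs ▸ h6)
    rw [hX, Subgroup.zpowers_eq_bot] at hXbot
    have : x = 1 := Subtype.ext hXbot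
    rw [this, orderOf_one] at hx
    exact hpp.one_lt.ne hx


/-- Let H be a finite group and p a prime with O_p(H) = 1, Q a p-subgroup of H, L = [F*(H), Q], and F the largest normal subgroup of F*(H) centralized by Q (a normal subgroup of F*(H) centralized by Q and containing every such). Then F = C_{F*(H)}(LQ); L = [L, Q]; L ∩ F ≤ Φ(L); every p-subgroup B of N_H(Q) with [L, B] ≤ F satisfies [L, B] = 1; and C_H(FL) has order prime to p. -/
theorem result {H : Type*} [Group H] [Finite H] {p : ℕ} [Fact p.Prime] (hO : Cfsg.pCore p H = ⊥) (Q : Subgroup H) (hQ : IsPGroup p ↥Q) (L : Subgroup H) (hL : L = ⁅Cfsg.generalizedFittingSubgroup H, Q⁆) (F : Subgroup H) (hF : F ≤ Cfsg.generalizedFittingSubgroup H ∧ Cfsg.generalizedFittingSubgroup H ≤ Subgroup.normalizer (F : Set H) ∧ Q ≤ Subgroup.centralizer (F : Set H) ∧ ∀ N : Subgroup H, N ≤ Cfsg.generalizedFittingSubgroup H → Cfsg.generalizedFittingSubgroup H ≤ Subgroup.normalizer (N : Set H) → Q ≤ Subgroup.centralizer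 (N : Set H) → N ≤ F) : F = Cfsg.generalizedFittingSubgroup H ⊓ Subgroup.centralizer ((L ⊔ Q : Subgroup H) : Set H) ∧ ⁅L, Q⁆ = L ∧ L ⊓ F ≤ (frattini ↥L).map L.subtype ∧ (∀ B : Subgroup H, IsPGroup p ↥B → B ≤ Subgroup.normalizer (Q : Set H) → ⁅L, B⁆ ≤ F → ⁅L, B⁆ = ⊥) ∧ (Nat.card ↥(Subgroup.centralizer ((F ⊔ L : Subgroup H) : Set H))).Coprime p := by
  exact result' hO Q hQ L _ rfl hL F hF

end Cfsg.Agent.S2817
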