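import Cfsg.Statements.S2818
import Cfsg.Agent.Lib.Helper16.Frat

set_option autoImplicit false
open Cfsg

namespace Cfsg.Agent.S2818

open Cfsg.Agent.Lib.Helper16
open scoped commutatorElement


/-- Let P be a finite p-subgroup of a group G and H a subgroup of N_G(P) with [P, H] ≤ Ω₁(Z(P)) (the elements of order dividing p in the centre of P). Then H centralizes the Frattini subgroup of P. -/
theorem result {G : Type*} [Group G] [Finite G] {p : ℕ} [Fact p.Prime] (P : Subgroup G) (hP : IsPGroup p ↥P) (H : Subgroup G) (hH : H ≤ Subgroup.normalizer (P : Set G)) (h : ⁅P, H⁆ ≤ Cfsg.omegaOne p (P ⊓ Subgroup.centralizer (P : Set G))) : ⁅(frattini ↥P).map P.subtype, H⁆ = ⊥ := by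
  rw [Subgroup.commutator_eq_bot_iff_le_centralizer]
  have hZc : ∀ a ∈ P ⊓ Subgroup.centralizer (P : Set G), ∀ b ∈ P ⊓ Subgroup.centralizer (P : Set G),
      Commute a b := by
    intro a ha b hb
    exact (Subgroup.mem_centralizer_iff.mp hb.2 a ha.1)
  have hc : ∀ x ∈ P, ∀ k ∈ H, ⁅x, k⁆ ∈ omegaOne p (P ⊓ Subgroup.centralizer (P : Set G)) :=
    fun x hx k hk => h (Subgroup.commutator_mem_commutator hx hk)
  intro y hy
  obtain ⟨y, hy, rfl⟩ := hy
  rw [Subgroup.mem_centralizer_iff]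
  intro k hk
  have hmul : ∀ a b : ↥P, ⁅((a * b : ↥P) : G), k⁆ = ⁅(a : G), k⁆ * ⁅(b : G), k⁆ := by
    intro a b
    have h1 : Commute (a : G) ⁅(b : G), k⁆ :=
      (Subgroup.mem_centralizer_iff.mp (omegaOne_le _ _ (hc b b.2 k hk)).2 a a.2)
    have h2 : ⁅((a * b : ↥P) : G), k⁆ = (a : G) * ⁅(b : G), k⁆ * (a : G)⁻¹ * ⁅(a : G), k⁆ := by
      simp only [commutatorElement_def, Subgroup.coe_mul]
      group
    rw [h2, h1.eq, mul_inv_cancel_right]
    exact hZc _ (omegaOne_le _ _ (hc b b.2 k hk)) _ (omegaOne_le _ _ (hc a a.2 k hk))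
  let f : ↥P →* G := MonoidHom.mk' (fun x => ⁅(x : G), k⁆) hmul
  have hfx : ∀ x : ↥P, f x = ⁅(x : G), k⁆ := fun _ => rfl
  have hker : frattini ↥P ≤ f.ker := by
    apply frattini_le_of_elemAb (p := p)
    · rw [commutator_def, Subgroup.commutator_le]
      intro a _ b _
      rw [MonoidHom.mem_ker, map_commutatorElement, commutatorElement_eq_one_iff_commute]
      exact hZc _ (omegaOne_le _ _ (hc a a.2 k hk)) _ (omegaOne_le _ _ (hc b b.2 k hk))
    · intro x
      rw [MonoidHom.mem_ker, map_pow]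
      exact pow_eq_one_of_mem_omegaOne hZc (hc x x.2 k hk)
  have := hker hy
  rw [MonoidHom.mem_ker, hfx, commutatorElement_eq_one_iff_mul_comm] at this
  exact this.symm

end Cfsg.Agent.S2818
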