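import Cfsg.Statements.S2819
import Cfsg.Agent.Lib.Helper16.Frat

set_option autoImplicit false
open Cfsg

namespace Cfsg.Agent.S2819

open Cfsg.Agent.Lib.Helper16
open scoped commutatorElement


/-- Let P be a finite p-subgroup of a group G, H a subgroup of N_G(P), and Y a subgroup of H centralizing the derived subgroup P' such that [P, Y] is elementary abelian. Then O^p(⟨Y^H⟩), the subgroup of the normal closure of Y in H generated by its elements of order prime to p, centralizes the Frattini subgroup of P. -/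
theorem result {G : Type*} [Group G] [Finite G] {p : ℕ} [Fact p.Prime] (P : Subgroup G) (hP : IsPGroup p ↥P) (H : Subgroup G) (hH : H ≤ Subgroup.normalizer (P : Set G)) (Y : Subgroup G) (hYH : Y ≤ H) (hYc : Y ≤ Subgroup.centralizer ((⁅P, P⁆ : Subgroup G) : Set G)) (hel : Cfsg.IsElementaryAbelian p ⁅P, Y⁆) (NY : Subgroup G) (hNY : NY = (Subgroup.normalClosure ((Y.subgroupOf H : Subgroup ↥H) : Set ↥H)).map H.subtype) : (Cfsg.pResidual p ↥NY).map NY.subtype ≤ Subgroup.centralizer (((frattini ↥P).map P.subtype : Subgroup G) : Set G) := by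
  subst hNY
  have hDP : (⁅P, P⁆ : Subgroup G) ≤ P := commutator_le_of_le_normalizer Subgroup.le_normalizer
  have hHΦ : H ≤ Subgroup.normalizer (((frattini ↥P).map P.subtype : Subgroup G) : Set G) :=
    hH.trans (normalizer_le_normalizer_map_char _)
  have hHD : H ≤ Subgroup.normalizer ((⁅P, P⁆ : Subgroup G) : Set G) := le_normalizer_commutator hH hH
  have hDp : IsPGroup p (⁅P, P⁆ : Subgroup G) := hP.to_le hDP
  have hPY : (⁅P, Y⁆ : Subgroup G) ≤ P := commutator_le_of_le_normalizer (hYH.trans hH)
  have key : ∀ y ∈ Y, ∀ u ∈ (frattini ↥P).map P.subtype, y * u * y⁻¹ * u⁻¹ ∈ (⁅P, P⁆ : Subgroup G) := by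
    intro y hy u hu
    obtain ⟨u, hu, rfl⟩ := hu
    have hcm : ∀ a : ↥P, ⁅(a : G), y⁆ ∈ P := fun a => hPY (Subgroup.commutator_mem_commutator a.2 hy)
    let c : ↥P → ↥P := fun a => ⟨⁅(a : G), y⁆, hcm a⟩
    have hc : ∀ a b : ↥P, c (a * b) = a * c b * a⁻¹ * c a := by
      intro a b
      apply Subtype.ext
      simp only [c, commutatorElement_def, Subgroup.coe_mul, Subgroup.coe_inv]
      group
    let φ : ↥P →* Abelianization ↥P := MonoidHom.mk' (fun a => Abelianization.of (c a)) (by
      intro a b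
      simp only [hc, map_mul, map_inv]
      rw [mul_comm (Abelianization.of a), mul_inv_cancel_right, mul_comm])
    have hφ : ∀ a, φ a = Abelianization.of (c a) := fun _ => rfl
    have hker : frattini ↥P ≤ φ.ker := by
      apply frattini_le_of_elemAb (p := p)
      · exact Abelianization.commutator_subset_ker φ
      · intro x
        rw [MonoidHom.mem_ker, map_pow, hφ, ← map_pow]
        have : c x ^ p = 1 := by
          apply Subtype.ext
          simp only [c, Subgroup.coe_pow, Subgroup.coe_one]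
          exact hel.2 _ (Subgroup.commutator_mem_commutator x.2 hy)
        rw [this, map_one]
    have h1 := hker hu
    rw [MonoidHom.mem_ker, hφ] at h1
    have h2 : c u ∈ commutator ↥P := (QuotientGroup.eq_one_iff _).mp h1
    have h3 : ((c u : ↥P) : G) ∈ (⁅P, P⁆ : Subgroup G) := by
      rw [← Subgroup.map_subtype_commutator]
      exact ⟨_, h2, rfl⟩
    have h4 := (⁅P, P⁆ : Subgroup G).inv_mem h3
    simpa [c, commutatorElement_def, mul_assoc] using h4
  have hYC : Y ≤ commStab' ((frattini ↥P).map P.subtype) ⁅P, P⁆ ⊓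
      Subgroup.centralizer ((⁅P, P⁆ : Subgroup G) : Set G) :=
    le_inf (fun y hy => ⟨hHD (hYH hy), key y hy⟩) hYc
  have hCn : H ≤ Subgroup.normalizer ((commStab' ((frattini ↥P).map P.subtype) ⁅P, P⁆ ⊓
      Subgroup.centralizer ((⁅P, P⁆ : Subgroup G) : Set G) : Subgroup G) : Set G) := by
    apply le_normalizer_inf _ (hHD.trans (normalizer_le_normalizer_centralizer _))
    intro h hh
    apply mem_normalizer_of_conj_le
    rintro _ ⟨g, ⟨hg1, hg2⟩, rfl⟩
    refine ⟨?_, ?_⟩
    · exact Subgroup.mul_mem _ (Subgroup.mul_mem _ (hHD hh) hg1) (Subgroup.inv_mem _ (hHD hh))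
    · intro a ha
      have h1 := hg2 _ (conj_mem_of_le_normalizer' hHΦ hh ha)
      have h2 := conj_mem_of_le_normalizer hHD hh h1
      simpa [mul_assoc] using h2
  have hNC := normalClosure_map_le hYC hCn
  rw [pRes_le_iff]
  intro x hx hxc
  rw [mem_centralizer_iff_commute]
  intro u hu
  have hxC := hNC hx
  exact commute_of_chain hxc hDp (fun r hr => (mem_centralizer_iff_commute.mp hxC.2 r hr)) (hxC.1.2 u hu)

end Cfsg.Agent.S2819
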