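import Cfsg.Statements.S2820
import Cfsg.Agent.Lib.Helper16.Subn

set_option autoImplicit false
open Cfsg

namespace Cfsg.Agent.S2820

open Cfsg.Agent.Lib.Helper16
open Cfsg.Agent.Lib.Helper8 (SubnIn subnIn_top)
open scoped commutatorElement


/-- Let A and B be subnormal subgroups of the finite group H with A a p-group and B = O^p(B) (B generated by its elements of order prime to p). Then A normalizes B and B = O^p(AB), the subgroup of ⟨A, B⟩ generated by its elements of order prime to p. -/
theorem result {H : Type*} [Group H] [Finite H] {p : ℕ} [Fact p.Prime] (A B : Subgroup H) (hA : A.IsSubnormal) (hB : B.IsSubnormal) (hAp : IsPGroup p ↥A) (hBres : (Cfsg.pResidual p ↥B).map B.subtype = B) : A ≤ Subgroup.normalizer (B : Set H) ∧ (Cfsg.pResidual p ↥(A ⊔ B)).map (A ⊔ B).subtype = B := by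
  have h1 : A ≤ pCoreOf p (⊤ : Subgroup H) := subnIn_le_pCoreOf hAp (subnIn_top.mpr hA)
  have h2 : pCoreOf p (⊤ : Subgroup H) ≤ Subgroup.normalizer (B : Set H) :=
    subnIn_pCoreOf_le_normalizer hBres (subnIn_top.mpr hB)
  refine ⟨h1.trans h2, ?_⟩
  apply le_antisymm
  · rw [sup_comm]
    exact pRes_sup_le hAp (h1.trans h2)
  · calc B = pRes p B := hBres.symm
      _ ≤ pRes p (A ⊔ B) := pRes_mono le_sup_right

end Cfsg.Agent.S2820
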