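import Cfsg.Statements.S2821
import Cfsg.Agent.Lib.Helper16.PRed2

set_option autoImplicit false
open Cfsg

namespace Cfsg.Agent.S2821

open Cfsg.Agent.Lib.Helper16
open Cfsg.Agent.Lib.Helper8 (SubnIn subnIn_top)
open scoped commutatorElement


/-- Let H be a finite group, p a prime, T a Sylow p-subgroup and L a subgroup of characteristic p containing T; let Y_L be the largest p-reduced normal subgroup of L (the join of the normal elementary abelian p-subgroups V of L with O_p(L/C_L(V)) = 1). Then T₀ := C_T(Y_L) is a Sylow p-subgroup of C_H(Y_L); moreover O_p(L) ≤ T₀ ≤ C_L(Y_L) and Ω₁(Z(T)) ≤ Z_L ≤ Y_L ≤ Ω₁(Z(O_p(L))), where Z_L is generated by the Ω₁(Z(S)) over the Sylow p-subgroups S of L. -/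
theorem result {H : Type*} [Group H] [Finite H] {p : ℕ} [Fact p.Prime] (T : Sylow p H) (L : Subgroup H) (hTL : (T : Subgroup H) ≤ L) (hL : Subgroup.centralizer (Cfsg.pCore p ↥L : Set ↥L) ≤ Cfsg.pCore p ↥L) (T₀ : Subgroup H) (hT₀ : T₀ = (T : Subgroup H) ⊓ Subgroup.centralizer (((Cfsg.largestPReducedOf p L) : Subgroup H) : Set H)) : (∃ P : Sylow p ↥(Subgroup.centralizer (((Cfsg.largestPReducedOf p L) : Subgroup H) : Set H)), (P : Subgroup ↥(Subgroup.centralizer (((Cfsg.largestPReducedOf p L) : Subgroup H) : Set H))) = T₀.subgroupOf (Subgroup.centralizer (((Cfsg.largestPReducedOf p L) : Subgroup H) : Set H))) ∧ (Cfsg.pCoreOf p L) ≤ T₀ ∧ T₀ ≤ L ⊓ Subgroup.centralizer (((Cfsg.largestPReducedOf p L) : Subgroup H) : Set H) ∧ (Cfsg.omegaOne p ((T : Subgroup H) ⊓ Subgroup.centralizer (((T : Subgroup H) : Subgroup H) : Set H))) ≤ Cfsg.sylowCenterClosure p L ∧ Cfsg.sylowCenterClosure p L ≤ (Cfsg.largestPReducedOf p L) ∧ (Cfsg.largestPReducedOf p L) ≤ (Cfsg.omegaOne p ((Cfsg.pCoreOf p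 L) ⊓ Subgroup.centralizer (((Cfsg.pCoreOf p L) : Subgroup H) : Set H))) := by
  subst hT₀
  have hY := pRed_largestPReducedOf (p := p) L
  have hS : SylIn p (T : Subgroup H) L := (sylIn_top T).mono hTL le_top
  have hcp : CharP p L := (charP_iff' L).mp hL
  refine ⟨?_, le_inf (pCoreOf_le_sylIn hS) hY.pCoreOf_le_centralizer, inf_le_inf_right _ hTL, ?_, ?_,
    hY.le_omegaOne⟩
  · have h1 : SylIn p (T : Subgroup H) (Subgroup.normalizer (largestPReducedOf p L : Set H)) :=
      (sylIn_top T).mono (hTL.trans hY.2.1) le_top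
    exact (h1.inf_normal (Subgroup.centralizer_le_normalizer _)
      (normalizer_le_normalizer_centralizer _)).exists_sylow
  · obtain ⟨P, hP⟩ := hS.exists_sylow_map
    unfold sylowCenterClosure
    have := le_iSup (fun S : Sylow p ↥L => omegaOne p (((S : Subgroup ↥L).map L.subtype) ⊓
      Subgroup.centralizer (((S : Subgroup ↥L).map L.subtype : Subgroup H) : Set H))) P
    simp only [hP] at this
    exact this
  · unfold sylowCenterClosure
    apply iSup_le
    intro S
    have h1 := sylIn_of_sylow S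
    exact (le_ncl _ L).trans
      (((pRed_omegaOne_center _).ncl hcp h1 le_rfl h1.1).le_largestPReducedOf)

end Cfsg.Agent.S2821
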