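import Cfsg.Statements.S2823
import Cfsg.Agent.Lib.Helper16.ZL
import Cfsg.Agent.Lib.Helper16.SPE

set_option autoImplicit false
open Cfsg

namespace Cfsg.Agent.S2823

open Cfsg.Agent.Lib.Helper16
open Cfsg.Agent.Lib.Helper8 (SubnIn subnIn_top)
open scoped commutatorElement


/-- Let H be a finite group, p a prime, T a Sylow p-subgroup and L a subgroup of characteristic p containing T; let Z_L be the subgroup generated by the Ω₁(Z(S)) over the Sylow p-subgroups S of L and O^p(L) the subgroup generated by the elements of L of order prime to p. Then Z_L = Ω₁(Z(L))·[Z_L, O^p(L)] and [Z_L, L] = [Z_L, O^p(L)]. -/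
theorem result {H : Type*} [Group H] [Finite H] {p : ℕ} [Fact p.Prime] (T : Sylow p H) (L : Subgroup H) (hTL : (T : Subgroup H) ≤ L) (hL : Subgroup.centralizer (Cfsg.pCore p ↥L : Set ↥L) ≤ Cfsg.pCore p ↥L) : Cfsg.sylowCenterClosure p L = (Cfsg.omegaOne p (L ⊓ Subgroup.centralizer ((L : Subgroup H) : Set H))) ⊔ ⁅Cfsg.sylowCenterClosure p L, (Cfsg.pResidual p ↥L).map L.subtype⁆ ∧ ⁅Cfsg.sylowCenterClosure p L, L⁆ = ⁅Cfsg.sylowCenterClosure p L, (Cfsg.pResidual p ↥L).map L.subtype⁆ := by
  have hcp : CharP p L := (charP_iff' L).mp hL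
  have hS : SylIn p (T : Subgroup H) L := (sylIn_top T).mono hTL le_top
  have hZe : IsElementaryAbelian p (sylowCenterClosure p L) :=
    elemAb_mono (sylowCenterClosure_le_largest hcp) (pRed_largestPReducedOf L).elemAb
  have hZe' := (elemAb_iff _).mp hZe
  have hLZ := le_normalizer_sylowCenterClosure (p := p) L
  have hLW : L ≤ Subgroup.normalizer ((⁅sylowCenterClosure p L, pRes p L⁆ : Subgroup H) : Set H) :=
    le_normalizer_commutator hLZ (le_normalizer_pRes L)
  have hWZ : (⁅sylowCenterClosure p L, pRes p L⁆ : Subgroup H) ≤ sylowCenterClosure p L :=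
    commutator_le_of_le_normalizer ((pRes_le L).trans hLZ)
  constructor
  · apply le_antisymm
    · rw [sylowCenterClosure_le_iff]
      intro S hSS z hz
      obtain ⟨hz1, hz2, hz3⟩ := mem_omegaCenter_iff.mp hz
      have hzZ := le_sylowCenterClosure hSS hz
      obtain ⟨c, hc, w, hw, e⟩ := exists_decomp (K := L) (S := S) hZe'.1 hLZ hSS.2.2
        ⟨hzZ, hz2⟩ hz3 ⁅sylowCenterClosure p L, pRes p L⁆
        (fun k hk => comm_mem_commutator_pRes hSS hzZ hz2 hk)
      rw [e]
      exact Subgroup.mul_mem _ ((le_sup_left : omegaOne p (L ⊓ Subgroup.centralizer (L : Set H)) ≤ _)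
        (mem_omegaOne ⟨sylowCenterClosure_le L hc.1, hc.2⟩ (hZe'.2 c hc.1)))
        ((le_sup_right : (⁅sylowCenterClosure p L, pRes p L⁆ : Subgroup H) ≤
          omegaOne p (L ⊓ Subgroup.centralizer (L : Set H)) ⊔ _) hw.1)
    · apply sup_le _ hWZ
      intro x hx
      obtain ⟨hx1, hx2, hx3⟩ := mem_omegaCenter_iff.mp hx
      apply le_sylowCenterClosure hS
      rw [mem_omegaCenter_iff]
      refine ⟨?_, Subgroup.centralizer_le (by exact_mod_cast hTL) hx2, hx3⟩
      have h1 : Subgroup.zpowers x ≤ pCoreOf p L := by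
        apply le_pCoreOf (by rwa [Subgroup.zpowers_le])
        · refine le_trans ?_ (centralizer_singleton_le_normalizer_zpowers x)
          intro l hl
          rw [Subgroup.mem_centralizer_singleton_iff]
          exact (mem_centralizer_iff_commute.mp hx2 l hl).symm.eq
        · exact isPGroup_zpowers_of_pow_eq_one' hx3
      exact pCoreOf_le_sylIn hS (h1 (Subgroup.mem_zpowers x))
  · apply le_antisymm _ (Subgroup.commutator_mono le_rfl (pRes_le L))
    rw [Subgroup.commutator_comm]
    apply commutator_le_of_le_commStab'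
    rw [sylowCenterClosure_le_iff]
    intro S hSS z hz
    obtain ⟨hz1, hz2, hz3⟩ := mem_omegaCenter_iff.mp hz
    refine ⟨hLW (hSS.1 hz1), fun a ha => ?_⟩
    have h1 := comm_mem_commutator_pRes hSS (le_sylowCenterClosure hSS hz) hz2 ha
    have h2 := Subgroup.inv_mem _ h1
    simpa [mul_assoc] using h2

end Cfsg.Agent.S2823
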