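import Cfsg.Statements.S2824
import Cfsg.Agent.Lib.Helper16.PRed2

set_option autoImplicit false
open Cfsg

namespace Cfsg.Agent.S2824

open Cfsg.Agent.Lib.Helper16
open Cfsg.Agent.Lib.Helper8 (SubnIn subnIn_top)
open scoped commutatorElement


/-- Let H be a finite group, p a prime, T a Sylow p-subgroup, L and M subgroups of characteristic p containing T, Y_L the largest p-reduced normal subgroup of L and T₀ = C_T(Y_L). If M·C_H(Y_L) = L·C_H(Y_L), then L* := N_M(T₀) has Y_{L*} = Y_L and L·C_H(Y_L) = L*·C_H(Y_L). -/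
theorem result {H : Type*} [Group H] [Finite H] {p : ℕ} [Fact p.Prime] (T : Sylow p H) (L M : Subgroup H) (hTL : (T : Subgroup H) ≤ L) (hTM : (T : Subgroup H) ≤ M) (hL : Subgroup.centralizer (Cfsg.pCore p ↥L : Set ↥L) ≤ Cfsg.pCore p ↥L) (hM : Subgroup.centralizer (Cfsg.pCore p ↥M : Set ↥M) ≤ Cfsg.pCore p ↥M) (T₀ : Subgroup H) (hT₀ : T₀ = (T : Subgroup H) ⊓ Subgroup.centralizer (((Cfsg.largestPReducedOf p L) : Subgroup H) : Set H)) (hfac : M ⊔ Subgroup.centralizer (((Cfsg.largestPReducedOf p L) : Subgroup H) : Set H) = L ⊔ Subgroup.centralizer (((Cfsg.largestPReducedOf p L) : Subgroup H) : Set H)) (Ls : Subgroup H) (hLs : Ls = M ⊓ Subgroup.normalizer ((T₀ : Subgroup H) : Set H)) : (Cfsg.largestPReducedOf p Ls) = (Cfsg.largestPReducedOf p L) ∧ L ⊔ Subgroup.centralizer (((Cfsg.largestPReducedOf p L) : Subgroup H) : Set H) = Ls ⊔ Subgroup.centralizer (((Cfsg.largestPReducedOf p L) : Subgroup H) : Set H) := by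
  subst hT₀ hLs
  have hY := pRed_largestPReducedOf (p := p) L
  have hSL : SylIn p (T : Subgroup H) L := (sylIn_top T).mono hTL le_top
  have hSM : SylIn p (T : Subgroup H) M := (sylIn_top T).mono hTM le_top
  have hcp : CharP p L := (charP_iff' L).mp hL
  obtain ⟨_, hstr⟩ := largest_structure hcp hSL hY (fun V hV => hV.le_largestPReducedOf)
  set Y := largestPReducedOf p L with hYdef
  have hMY : M ≤ Subgroup.normalizer (Y : Set H) := by
    calc M ≤ M ⊔ Subgroup.centralizer (Y : Set H) := le_sup_left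
      _ = L ⊔ Subgroup.centralizer (Y : Set H) := hfac
      _ ≤ _ := sup_le hY.2.1 (Subgroup.centralizer_le_normalizer _)
  have h2 : L ⊔ Subgroup.centralizer (Y : Set H) =
      (M ⊓ Subgroup.normalizer (((T : Subgroup H) ⊓ Subgroup.centralizer (Y : Set H) : Subgroup H) : Set H)) ⊔
        Subgroup.centralizer (Y : Set H) := by
    rw [← hfac]
    apply le_antisymm
    · apply sup_le _ le_sup_right
      intro g hg
      obtain ⟨a, ha, c, hc, rfl⟩ := exists_mul_normalizer_centralizer hSM hMY hg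
      exact Subgroup.mul_mem _ ((le_sup_left : _ ≤ _ ⊔ Subgroup.centralizer (Y : Set H)) ha)
        ((le_sup_right : Subgroup.centralizer (Y : Set H) ≤ _) hc.2)
    · exact sup_le_sup_right inf_le_left _
  refine ⟨?_, h2⟩
  have hTLs : (T : Subgroup H) ≤
      M ⊓ Subgroup.normalizer (((T : Subgroup H) ⊓ Subgroup.centralizer (Y : Set H) : Subgroup H) : Set H) :=
    le_inf hTM (le_normalizer_inf Subgroup.le_normalizer
      (hTM.trans (hMY.trans (normalizer_le_normalizer_centralizer Y))))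
  have hYT : Y ≤ (T : Subgroup H) := hY.le_pCoreOf.trans (pCoreOf_le_sylIn hSL)
  apply le_antisymm
  · have hY' := pRed_largestPReducedOf (p := p)
      (M ⊓ Subgroup.normalizer (((T : Subgroup H) ⊓ Subgroup.centralizer (Y : Set H) : Subgroup H) : Set H))
    set Y' := largestPReducedOf p
      (M ⊓ Subgroup.normalizer (((T : Subgroup H) ⊓ Subgroup.centralizer (Y : Set H) : Subgroup H) : Set H))
    have hSLs := (sylIn_top T).mono hTLs le_top
    have h3 : (T : Subgroup H) ⊓ Subgroup.centralizer (Y : Set H) ≤ pCoreOf p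
        (M ⊓ Subgroup.normalizer (((T : Subgroup H) ⊓ Subgroup.centralizer (Y : Set H) : Subgroup H) : Set H)) :=
      le_pCoreOf (inf_le_left.trans hTLs) inf_le_right (T.2.to_le inf_le_left)
    have h4 : Y' ≤ Subgroup.centralizer
        (((T : Subgroup H) ⊓ Subgroup.centralizer (Y : Set H) : Subgroup H) : Set H) :=
      Subgroup.le_centralizer_iff.mp (h3.trans hY'.pCoreOf_le_centralizer)
    have h5 : Y ≤ (T : Subgroup H) ⊓ Subgroup.centralizer (Y : Set H) :=
      le_inf hYT (elemAb_le_centralizer hY.elemAb)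
    have h6 : Y' ≤ (T : Subgroup H) ⊓ Subgroup.centralizer (Y : Set H) :=
      le_inf (hY'.le_pCoreOf.trans (pCoreOf_le_sylIn hSLs))
        (h4.trans (Subgroup.centralizer_le (by exact_mod_cast h5)))
    rw [hstr]
    exact fun y hy => mem_omegaOne ⟨h6 hy, h4 hy⟩ (hY'.elemAb.2 y hy)
  · exact (hY.of_sup_eq (hYT.trans hTLs) h2.symm).le_largestPReducedOf

end Cfsg.Agent.S2824
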