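import Cfsg.Statements.S2826
import Cfsg.Agent.Lib.Helper16.Trace
import Cfsg.Agent.Lib.Helper16.PRed

set_option autoImplicit false
open Cfsg

namespace Cfsg.Agent.S2826

open Cfsg.Agent.Lib.Helper16
open Cfsg.Agent.Lib.Helper8 (SubnIn subnIn_top)
open scoped commutatorElement


/-- Let H be a finite group of characteristic p, T a Sylow p-subgroup, and V a normal elementary abelian p-subgroup of H containing Ω₁(Z(T)). Then C_H(Ω₁(Z(T))) = C_H([V, O^p(H)] ∩ Ω₁(Z(T))), O^p(H) being generated by the elements of order prime to p. -/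
theorem result {H : Type*} [Group H] [Finite H] {p : ℕ} [Fact p.Prime] (hH : Subgroup.centralizer (Cfsg.pCore p H : Set H) ≤ Cfsg.pCore p H) (T : Sylow p H) (V : Subgroup H) [V.Normal] (hV : Cfsg.IsElementaryAbelian p V) (hZV : (Cfsg.omegaOne p ((T : Subgroup H) ⊓ Subgroup.centralizer (((T : Subgroup H) : Subgroup H) : Set H))) ≤ V) : Subgroup.centralizer ((Cfsg.omegaOne p ((T : Subgroup H) ⊓ Subgroup.centralizer (((T : Subgroup H) : Subgroup H) : Set H))) : Set H) = Subgroup.centralizer (((⁅V, Cfsg.pResidual p H⁆ ⊓ (Cfsg.omegaOne p ((T : Subgroup H) ⊓ Subgroup.centralizer (((T : Subgroup H) : Subgroup H) : Set H)))) : Subgroup H) : Set H) := by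
  apply le_antisymm
  · exact Subgroup.centralizer_le (by exact_mod_cast
      (inf_le_right : ⁅V, pResidual p H⁆ ⊓ (omegaOne p ((T : Subgroup H) ⊓
        Subgroup.centralizer ((T : Subgroup H) : Set H))) ≤ _))
  · intro x hx
    have hx' := mem_centralizer_iff_commute.mp hx
    rw [mem_centralizer_iff_commute]
    intro z hz
    have hVe := (elemAb_iff V).mp hV
    have hzT := omegaOne_le _ _ hz
    have hzp : z ^ p = 1 := hVe.2 z (hZV hz)
    have hVT : V ≤ (T : Subgroup H) := IsPGroup.le_sylow_of_normal (elemAb_isPGroup hV) T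
    have hnd : ¬ p ∣ (T : Subgroup H).relIndex ⊤ := (sylIn_top T).2.2
    obtain ⟨c, hc, w, hw, e⟩ := exists_decomp (K := ⊤) (S := (T : Subgroup H)) hVe.1
      (by rw [Subgroup.normalizer_eq_top]) hnd ⟨hZV hz, hzT.2⟩ hzp ⁅V, pResidual p H⁆ (by
        intro k _
        have hk : k ∈ pRes p (⊤ : Subgroup H) ⊔ (T : Subgroup H) := by
          rw [pRes_sup_sylIn (sylIn_top T)]; exact Subgroup.mem_top k
        obtain ⟨r, hr, t, ht, rfl⟩ := exists_mul_of_mem_sup
          (le_top.trans (le_normalizer_pRes (p := p) (⊤ : Subgroup H))) hk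
        rw [pRes_top] at hr
        have e1 : t * z * t⁻¹ = z := by
          rw [(mem_centralizer_iff_commute.mp hzT.2 t ht).symm.eq, mul_inv_cancel_right]
        have e2 : r * t * z * (r * t)⁻¹ * z⁻¹ = r * (t * z * t⁻¹) * r⁻¹ * z⁻¹ := by group
        rw [e2, e1]
        exact comm_mem_commutator (hZV hz) hr)
    have hcx : Commute x c := (mem_centralizer_iff_commute.mp hc.2 x (Subgroup.mem_top x)).symm
    have hwz : w = c⁻¹ * z := by rw [e]; simp
    have hwT : w ∈ Subgroup.centralizer ((T : Subgroup H) : Set H) := by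
      rw [hwz]
      exact Subgroup.mul_mem _ (Subgroup.inv_mem _ (Subgroup.centralizer_le (by simp) hc.2)) hzT.2
    have hwO : w ∈ omegaOne p ((T : Subgroup H) ⊓ Subgroup.centralizer ((T : Subgroup H) : Set H)) :=
      mem_omegaOne ⟨hVT hw.2, hwT⟩ (hVe.2 w hw.2)
    rw [e]
    exact hcx.mul_right (hx' w ⟨hw.1, hwO⟩)

end Cfsg.Agent.S2826
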