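import Cfsg.Statements.S2827
import Cfsg.Agent.Lib.Helper16.PIrr

set_option autoImplicit false
open Cfsg

namespace Cfsg.Agent.S2827

open Cfsg.Agent.Lib.Helper16
open scoped commutatorElement


/-- Let H be a finite p-irreducible group (not p-closed, and O^p(H) lies in every normal subgroup that is not p-closed) and T a Sylow p-subgroup. Then H is generated by the conjugates of T and H = H'·T; O^p(H) ≤ H'; and for every normal subgroup Y of T not contained in O_p(H), O^p(H) = [O^p(H), Y] and O^p(H) is contained in the normal closure of Y in H. -/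
theorem result {H : Type*} [Group H] [Finite H] {p : ℕ} [Fact p.Prime] (hH : Cfsg.IsPIrreducible p H) (T : Sylow p H) : Subgroup.normalClosure ((T : Subgroup H) : Set H) = ⊤ ∧ commutator H ⊔ (T : Subgroup H) = ⊤ ∧ Cfsg.pResidual p H ≤ commutator H ∧ ∀ Y : Subgroup H, Y ≤ (T : Subgroup H) → (T : Subgroup H) ≤ Subgroup.normalizer (Y : Set H) → ¬ Y ≤ Cfsg.pCore p H → ⁅Cfsg.pResidual p H, Y⁆ = Cfsg.pResidual p H ∧ Cfsg.pResidual p H ≤ Subgroup.normalClosure (Y : Set H) := by
  have hH' : PIrr p (⊤ : Subgroup H) := isPIrreducible_iff_top.mp hH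
  have hT : SylIn p (T : Subgroup H) ⊤ := sylIn_top T
  have key1 : ∀ N : Subgroup H, N.Normal → (T : Subgroup H) ≤ N → N = ⊤ := fun N hN hTN =>
    hH'.eq_of_sylIn_le hT le_top (by rw [Subgroup.normalizer_eq_top]) hTN
  have hCT : commutator H ⊔ (T : Subgroup H) = ⊤ := by
    apply key1 _ _ le_sup_right
    refine ⟨fun x hx g => ?_⟩
    have : g * x * g⁻¹ = ⁅g, x⁆ * x := by simp [commutatorElement_def]
    rw [this]
    exact Subgroup.mul_mem _ (Subgroup.mem_sup_left
      (Subgroup.commutator_mem_commutator (Subgroup.mem_top g) (Subgroup.mem_top x))) hx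
  refine ⟨key1 _ Subgroup.normalClosure_normal Subgroup.subset_normalClosure, hCT, ?_, ?_⟩
  · have h1 := pRes_sup_le (K := commutator H) (J := (T : Subgroup H)) T.isPGroup'
      (by rw [Subgroup.normalizer_eq_top]; exact le_top)
    rwa [hCT, pRes_top] at h1
  · intro Y hYT hTY hY
    rw [← pCoreOf_top] at hY
    constructor
    · have h1 := hH'.commutator_pRes_eq hT hYT hTY hY
      rwa [pRes_top] at h1
    · have h1 := hH'.pRes_le_of_not_le (N := Subgroup.normalClosure (Y : Set H)) le_top
        (by rw [Subgroup.normalizer_eq_top]) Subgroup.subset_normalClosure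
        (T.isPGroup'.to_le hYT) hY
      rwa [pRes_top] at h1

end Cfsg.Agent.S2827
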