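import Cfsg.Statements.S2828
import Cfsg.Agent.Lib.Helper16.PIrr

set_option autoImplicit false
open Cfsg

namespace Cfsg.Agent.S2828

open Cfsg.Agent.Lib.Helper16
open scoped commutatorElement


/-- Let H be a finite group, p a prime and D a normal p-subgroup of H. Then H is p-irreducible if and only if H/D is p-irreducible, and H is strongly p-irreducible if and only if H/D is strongly p-irreducible. -/
theorem result {H : Type*} [Group H] [Finite H] {p : ℕ} [Fact p.Prime] (D : Subgroup H) [D.Normal] (hD : IsPGroup p ↥D) : (Cfsg.IsPIrreducible p H ↔ Cfsg.IsPIrreducible p (H ⧸ D)) ∧ (Cfsg.IsStronglyPIrreducible p H ↔ Cfsg.IsStronglyPIrreducible p (H ⧸ D)) := by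
  have hker : IsPGroup p (QuotientGroup.mk' D).ker := by rwa [QuotientGroup.ker_mk']
  exact ⟨isPIrreducible_iff_of_surjective _ (QuotientGroup.mk'_surjective D) hker,
    isStronglyPIrreducible_iff_of_surjective _ (QuotientGroup.mk'_surjective D) hker⟩

end Cfsg.Agent.S2828
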