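import Cfsg.Statements.S2829
import Cfsg.Agent.Lib.Helper16.Cores

set_option autoImplicit false
open Cfsg

namespace Cfsg.Agent.S2829

open Cfsg.Agent.Lib.Helper16
open scoped commutatorElement


/-- Every strongly p-irreducible finite group is p-irreducible. -/
theorem result {H : Type*} [Group H] [Finite H] {p : ℕ} [Fact p.Prime] (hH : Cfsg.IsStronglyPIrreducible p H) : Cfsg.IsPIrreducible p H := by
  refine ⟨hH.1, fun N hN hNc => hH.2 N hN fun hle => hNc ?_⟩
  intro P
  have hK : ((pCore p H).subgroupOf N) ≤ (P : Subgroup ↥N) := by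
    have hn : ((pCore p H).subgroupOf N).Normal := by
      have : (pCore p H).Normal := inferInstance
      exact this.subgroupOf N
    have hp : IsPGroup p ((pCore p H).subgroupOf N) := by
      have h1 : IsPGroup p (pCore p H) := pCore_isPGroup
      exact h1.comap_of_injective N.subtype N.subtype_injective
    exact (le_pCore hn hp).trans (pCore_le_sylow P)
  constructor
  intro x hx g
  have h1 : ⁅g, x⁆ ∈ (P : Subgroup ↥N) := by
    apply hK
    rw [Subgroup.mem_subgroupOf]
    apply hle
    have : ((⁅g, x⁆ : ↥N) : H) = ⁅(g : H), (x : H)⁆ := by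
      simp [commutatorElement_def]
    rw [this]
    exact Subgroup.commutator_mem_commutator g.2 (Subgroup.mem_top _)
  have h2 : g * x * g⁻¹ = ⁅g, x⁆ * x := by
    simp [commutatorElement_def]
  rw [h2]
  exact (P : Subgroup ↥N).mul_mem h1 hx

end Cfsg.Agent.S2829
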