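import Cfsg.Statements.S2830
import Cfsg.Agent.Lib.Helper16.PIrr

set_option autoImplicit false
open Cfsg

namespace Cfsg.Agent.S2830

open Cfsg.Agent.Lib.Helper16
open scoped commutatorElement


/-- Let H act by conjugation on the elementary abelian p-subgroup V of a finite group G (H ≤ N(V)), with H p-irreducible and O^p(H) not centralizing V. Then C_H(V) is p-closed and C_T(V) ≤ O_p(H) for every p-subgroup T of H. If in addition O_p(H) centralizes V, then C_T(V) = T ∩ O_p(H) for every p-subgroup T of H, and V is p-reduced for H: O_p(H/C_H(V)) = 1. -/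
theorem result {G : Type*} [Group G] [Finite G] {p : ℕ} [Fact p.Prime] (V H : Subgroup G) (hV : Cfsg.IsElementaryAbelian p V) (hHV : H ≤ Subgroup.normalizer (V : Set G)) (hH : Cfsg.IsPIrreducible p ↥H) (hnc : ¬ (Cfsg.pResidual p ↥H).map H.subtype ≤ Subgroup.centralizer (V : Set G)) [hn : ((Subgroup.centralizer (V : Set G)).subgroupOf H).Normal] : Cfsg.IsPClosed p ↥(H ⊓ Subgroup.centralizer (V : Set G)) ∧ (∀ T : Subgroup G, T ≤ H → IsPGroup p ↥T → T ⊓ Subgroup.centralizer (V : Set G) ≤ Cfsg.pCoreOf p H) ∧ (Cfsg.pCoreOf p H ≤ Subgroup.centralizer (V : Set G) → (∀ T : Subgroup G, T ≤ H → IsPGroup p ↥T → T ⊓ Subgroup.centralizer (V : Set G) = T ⊓ Cfsg.pCoreOf p H) ∧ Cfsg.pCore p (↥H ⧸ (Subgroup.centralizer (V : Set G)).subgroupOf H) = ⊥) := by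
  have h : PIrr p H := (isPIrreducible_iff H).mp hH
  have hCn : H ≤ Subgroup.normalizer ((H ⊓ Subgroup.centralizer (V : Set G) : Subgroup G) : Set G) :=
    le_normalizer_inf Subgroup.le_normalizer (hHV.trans (normalizer_le_normalizer_centralizer V))
  have h1 := h.le_sup_of_not_le (N := H ⊓ Subgroup.centralizer (V : Set G)) inf_le_left hCn
    (fun hc => hnc (hc.trans inf_le_right))
  have h2 : ∀ T : Subgroup G, T ≤ H → IsPGroup p ↥T →
      T ⊓ Subgroup.centralizer (V : Set G) ≤ Cfsg.pCoreOf p H := by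
    intro T hTH hT
    exact (h1.1.le_pCoreOf (inf_le_inf hTH le_rfl) (hT.to_le inf_le_left)).trans
      (pCoreOf_le_pCoreOf_of_normal inf_le_left hCn)
  refine ⟨(isPClosed_iff _).mpr h1.1, h2, fun hO => ⟨fun T hTH hT => ?_, ?_⟩⟩
  · exact le_antisymm (le_inf inf_le_left (h2 T hTH hT)) (inf_le_inf le_rfl hO)
  · apply pCore_quotient_subgroupOf_eq_bot
    intro D hDH hD hDC
    have h3 := h.le_sup_of_not_le hDH hD (by
      intro hc
      apply hnc
      rw [pRes_le_iff]
      intro x hx hxc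
      exact hDC x (hc (mem_pRes hx hxc)) hxc)
    refine h3.2.trans (sup_le ?_ hO)
    rw [pRes_le_iff]
    exact hDC

end Cfsg.Agent.S2830
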