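import Cfsg.Statements.S2831
import Cfsg.Agent.Lib.Helper16.PIrr

set_option autoImplicit false
open Cfsg

namespace Cfsg.Agent.S2831

open Cfsg.Agent.Lib.Helper16
open scoped commutatorElement


/-- Let H be a finite group with Sylow p-subgroup T such that H is T-minimal (H is generated by the conjugates of T and T lies in exactly one maximal subgroup of H). Then H is p-irreducible: H is not p-closed and O^p(H) lies in every normal subgroup of H that is not p-closed. -/
theorem result {H : Type*} [Group H] [Finite H] {p : ℕ} [Fact p.Prime] (T : Sylow p H) (hmin : Cfsg.IsMinimalOver (T : Subgroup H)) : Cfsg.IsPIrreducible p H := by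
  obtain ⟨hcl, M, ⟨hM, hTM⟩, huniq⟩ := hmin
  have hle : ∀ X : Subgroup H, (T : Subgroup H) ≤ X → X ≠ ⊤ → X ≤ M := by
    intro X hTX hX
    obtain ⟨M', hM', hXM'⟩ := (eq_top_or_exists_le_coatom X).resolve_left hX
    rw [← huniq M' ⟨hM', hTX.trans hXM'⟩]; exact hXM'
  rw [isPIrreducible_iff_top]
  have hT := sylIn_top T
  refine ⟨fun hc => ?_, fun N _ hn hN => ?_⟩
  · have h1 := hc.le_normalizer hT
    have hTn : (T : Subgroup H).Normal := Subgroup.normalizer_eq_top_iff.mp (top_le_iff.mp h1)
    have h2 : Subgroup.normalClosure ((T : Subgroup H) : Set H) = T := Subgroup.normalClosure_eq_self _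
    apply hM.1
    rw [eq_top_iff, ← hcl, h2]
    exact hTM
  · have hTN : SylIn p ((T : Subgroup H) ⊓ N) N := hT.inf_normal le_top hn
    by_contra hcon
    have h1 : N ⊔ (T : Subgroup H) ≠ ⊤ := by
      intro h
      apply hcon
      have h5 := pRes_sup_le (K := N) (J := (T : Subgroup H)) T.isPGroup' (le_top.trans hn)
      rwa [h] at h5
    have h2 : Subgroup.normalizer (((T : Subgroup H) ⊓ N : Subgroup H) : Set H) ≠ ⊤ := by
      intro h
      apply hN
      exact pCl_of_sylIn_normal hTN (by rw [h]; exact le_top)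
    have h3 : N ⊔ (T : Subgroup H) ≤ M := hle _ le_sup_right h1
    have h4 : Subgroup.normalizer (((T : Subgroup H) ⊓ N : Subgroup H) : Set H) ≤ M :=
      hle _ (le_normalizer_inf Subgroup.le_normalizer (le_top.trans hn)) h2
    apply hM.1
    rw [eq_top_iff]
    intro g hg
    obtain ⟨n, hnN, m, hm, rfl⟩ := hTN.frattini hn hg
    exact M.mul_mem (h3 (Subgroup.mem_sup_left hnN)) (h4 hm)

end Cfsg.Agent.S2831
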