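import Cfsg.Statements.S2832
import Cfsg.Agent.Lib.Helper16.YMin

set_option autoImplicit false
open Cfsg

namespace Cfsg.Agent.S2832

open Cfsg.Agent.Lib.Helper16
open scoped commutatorElement


/-- Let H be a finite group with Sylow p-subgroup T such that H is T-minimal (generated by the conjugates of T, with T in exactly one maximal subgroup), and let N be a normal subgroup of H. Then either H/N is a p-group or H/N is minimal over the image of T in the same sense. -/
theorem result {H : Type*} [Group H] [Finite H] {p : ℕ} [Fact p.Prime] (T : Sylow p H) (hmin : Cfsg.IsMinimalOver (T : Subgroup H)) (N : Subgroup H) [N.Normal] : IsPGroup p (H ⧸ N) ∨ Cfsg.IsMinimalOver ((T : Subgroup H).map (QuotientGroup.mk' N)) := by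
  obtain ⟨L₀, h⟩ := IsMinimalOver.exists_yMin hmin
  by_cases hNT : N ⊔ (T : Subgroup H) = ⊤
  · left
    intro x
    obtain ⟨x, rfl⟩ := QuotientGroup.mk'_surjective N x
    have hx : x ∈ N ⊔ (T : Subgroup H) := by rw [hNT]; exact Subgroup.mem_top x
    obtain ⟨n, hn, t, ht, rfl⟩ := exists_mul_of_mem_sup
      (by rw [Subgroup.normalizer_eq_top]; exact le_top) hx
    obtain ⟨k, hk⟩ := IsPGroup.exists_pow_eq_one' T.isPGroup' ht
    refine ⟨k, ?_⟩
    have h1 : QuotientGroup.mk' N (n * t) = QuotientGroup.mk' N t := by
      rw [map_mul, show QuotientGroup.mk' N n = 1 from (QuotientGroup.eq_one_iff n).mpr hn, one_mul]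
    rw [h1, ← map_pow, hk, map_one]
  · right
    have h1 : N ≤ L₀ := le_sup_left.trans (h.le_of_ne_top _ le_sup_right hNT)
    exact (h.map (QuotientGroup.mk' N) (QuotientGroup.mk'_surjective N)
      (by rwa [QuotientGroup.ker_mk'])).isMinimalOver

end Cfsg.Agent.S2832
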