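import Cfsg.Statements.S2833
import Cfsg.Agent.Lib.Helper16.Comm

set_option autoImplicit false
open Cfsg

namespace Cfsg.Agent.S2833

open Cfsg.Agent.Lib.Helper16
open scoped commutatorElement


/-- Let V be a subgroup of a finite group G normalized by the subgroup L, let X ≤ L and g ∈ L with [V, X, X] = 1 and L generated by X and gXg⁻¹. Put W = [V, L]. Then W = [V, X]·[V, gXg⁻¹], C_W(X) = [V, X], and C_W(L) = [V, X] ∩ [V, gXg⁻¹]. -/
theorem result {G : Type*} [Group G] [Finite G] (V L : Subgroup G) (hLV : L ≤ Subgroup.normalizer (V : Set G)) (X : Subgroup G) (hX : X ≤ L) (g : G) (hg : g ∈ L) (hq : ⁅⁅V, X⁆, X⁆ = ⊥) (hgen : X ⊔ X.map (MulAut.conj g).toMonoidHom = L) (W : Subgroup G) (hW : W = ⁅V, L⁆) : ⁅V, X⁆ ⊔ ⁅V, X.map (MulAut.conj g).toMonoidHom⁆ = W ∧ W ⊓ Subgroup.centralizer (X : Set G) = ⁅V, X⁆ ∧ W ⊓ Subgroup.centralizer (L : Set G) = ⁅V, X⁆ ⊓ ⁅V, X.map (MulAut.conj g).toMonoidHom⁆ := by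
  subst hW
  set Xg : Subgroup G := X.map (MulAut.conj g).toMonoidHom with hXg
  set A : Subgroup G := ⁅V, X⁆ with hA
  set B : Subgroup G := ⁅V, Xg⁆ with hB
  have hVg : V.map (MulAut.conj g).toMonoidHom = V := conj_eq_of_mem_normalizer (hLV hg)
  have hBA : B = A.map (MulAut.conj g).toMonoidHom := by
    rw [hA, Subgroup.map_commutator, hVg]
  have hXgL : Xg ≤ L := hgen ▸ le_sup_right
  have hAV : A ≤ V := commutator_le_of_le_normalizer (hX.trans hLV)
  have hBV : B ≤ V := commutator_le_of_le_normalizer (hXgL.trans hLV)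
  have hAC : A ≤ Subgroup.centralizer (X : Set G) := Subgroup.commutator_eq_bot_iff_le_centralizer.mp hq
  have hBC : B ≤ Subgroup.centralizer (Xg : Set G) := by
    rw [hBA, hXg, centralizer_conj]
    exact conj_mono hAC g
  have hXJ : X ≤ Subgroup.normalizer ((A ⊔ B : Subgroup G) : Set G) := by
    intro x hx
    apply mem_normalizer_of_conj_le
    rw [Subgroup.map_sup]
    apply sup_le
    · rw [conj_eq_of_mem_normalizer (le_normalizer_commutator_right V X hx)]
      exact le_sup_left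
    · rintro _ ⟨b, hb, rfl⟩
      have h1 : x * b * x⁻¹ * b⁻¹ ∈ A := comm_mem_commutator (hBV hb) hx
      have h2 : x * b * x⁻¹ * b⁻¹ * b ∈ A ⊔ B :=
        (A ⊔ B).mul_mem (Subgroup.mem_sup_left h1) (Subgroup.mem_sup_right hb)
      simpa [mul_assoc] using h2
  have hXgJ : Xg ≤ Subgroup.normalizer ((A ⊔ B : Subgroup G) : Set G) := by
    intro x hx
    apply mem_normalizer_of_conj_le
    rw [Subgroup.map_sup]
    apply sup_le
    · rintro _ ⟨b, hb, rfl⟩
      have h1 : x * b * x⁻¹ * b⁻¹ ∈ B := comm_mem_commutator (hAV hb) hx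
      have h2 : x * b * x⁻¹ * b⁻¹ * b ∈ A ⊔ B :=
        (A ⊔ B).mul_mem (Subgroup.mem_sup_right h1) (Subgroup.mem_sup_left hb)
      simpa [mul_assoc] using h2
    · rw [conj_eq_of_mem_normalizer (le_normalizer_commutator_right V Xg hx)]
      exact le_sup_right
  have h1 : A ⊔ B = ⁅V, L⁆ := by
    apply le_antisymm
    · exact sup_le (Subgroup.commutator_mono le_rfl hX) (Subgroup.commutator_mono le_rfl hXgL)
    · rw [← hgen]
      exact commutator_sup_le hXJ hXgJ le_sup_left le_sup_right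
  have hBnA : B ≤ Subgroup.normalizer (A : Set G) := hBV.trans (le_normalizer_commutator_left V X)
  have hCL : Subgroup.centralizer (L : Set G) =
      Subgroup.centralizer (X : Set G) ⊓ Subgroup.centralizer (Xg : Set G) := by
    rw [← hgen, centralizer_sup_eq]
  -- elements of `B` (resp. `A`) centralizing `L` lie in `A` (resp. `B`)
  have hkey : ∀ b ∈ Subgroup.centralizer (L : Set G), (b ∈ B ↔ b ∈ A) := by
    intro b hb
    have hbg : g⁻¹ * b * g = b := by
      have := Subgroup.mem_centralizer_iff.mp hb g hg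
      rw [mul_assoc, ← this]; simp
    rw [hBA, mem_conj, hbg]
  have h2 : ⁅V, L⁆ ⊓ Subgroup.centralizer (X : Set G) = A := by
    apply le_antisymm
    · rintro w ⟨hw, hwc⟩
      rw [SetLike.mem_coe, ← h1] at hw
      obtain ⟨a, ha, b, hb, rfl⟩ := exists_mul_of_mem_sup hBnA hw
      have hbc : b ∈ Subgroup.centralizer (X : Set G) := by
        have := (Subgroup.centralizer (X : Set G)).mul_mem
          ((Subgroup.centralizer (X : Set G)).inv_mem (hAC ha)) hwc
        simpa using this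
      have hbL : b ∈ Subgroup.centralizer (L : Set G) := by
        rw [hCL]; exact ⟨hbc, hBC hb⟩
      exact A.mul_mem ha ((hkey b hbL).mp hb)
    · exact le_inf (h1 ▸ le_sup_left) hAC
  refine ⟨h1, h2, ?_⟩
  apply le_antisymm
  · rintro w ⟨hw, hwc⟩
    have hwc' : w ∈ Subgroup.centralizer (L : Set G) := hwc
    have hwA : w ∈ A := by
      rw [← h2]
      refine ⟨hw, ?_⟩
      rw [hCL] at hwc'
      exact hwc'.1
    exact ⟨hwA, (hkey w hwc').mpr hwA⟩
  · rintro w ⟨hwA, hwB⟩
    refine ⟨?_, ?_⟩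
    · rw [SetLike.mem_coe, ← h1]; exact Subgroup.mem_sup_left hwA
    · rw [hCL]; exact ⟨hAC hwA, hBC hwB⟩

end Cfsg.Agent.S2833
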