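import Cfsg.Statements.S2836
import Cfsg.Agent.Lib.Helper16.YMin2

set_option autoImplicit false
open Cfsg

namespace Cfsg.Agent.S2836

open Cfsg.Agent.Lib.Helper16
open scoped commutatorElement


/-- Let L be a finite group, L₀ a maximal subgroup, T a Sylow p-subgroup of L₀, Y ≤ T, and suppose L is Y-minimal. Let D be the intersection of the conjugates of L₀ (the core of L₀). Then D contains O_p(L) and D/O_p(L) is the Frattini subgroup of L/O_p(L), so D is p-closed; and every normal subgroup N of L contained in L₀ is p-closed with N/O_p(N) a nilpotent group of order prime to p. -/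
theorem result {L : Type*} [Group L] [Finite L] {p : ℕ} [Fact p.Prime] (L₀ : Subgroup L) (hL₀ : IsCoatom L₀) (T : Sylow p ↥L₀) (Y : Subgroup L) (hYT : Y ≤ (T : Subgroup ↥L₀).map L₀.subtype) (hmin : Cfsg.IsMinimalOver Y) : (Cfsg.pCore p L ≤ L₀.normalCore ∧ (L₀.normalCore).map (QuotientGroup.mk' (Cfsg.pCore p L)) = frattini (L ⧸ Cfsg.pCore p L) ∧ Cfsg.IsPClosed p ↥(L₀.normalCore)) ∧ ∀ (N : Subgroup L) [N.Normal], N ≤ L₀ → Cfsg.IsPClosed p ↥N ∧ Group.IsNilpotent (↥N ⧸ Cfsg.pCore p ↥N) ∧ (Nat.card (↥N ⧸ Cfsg.pCore p ↥N)).Coprime p := by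
  have hT : SylIn p ((T : Subgroup ↥L₀).map L₀.subtype) L₀ := sylIn_of_sylow T
  have h : YMin Y L₀ := yMin_of hL₀ (hYT.trans hT.le) hmin
  refine ⟨⟨h.pCore_le_normalCore hYT hT, h.map_normalCore_eq_frattini hYT hT,
    (isPClosed_iff _).mpr (h.pCl hYT hT inferInstance (Subgroup.normalCore_le L₀))⟩, ?_⟩
  intro N hN hNL
  have h1 := h.pCl hYT hT hN hNL
  exact ⟨(isPClosed_iff _).mpr h1, h.isNilpotent_quotient hYT hT hN hNL, h1.coprime_card_quotient⟩

end Cfsg.Agent.S2836
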