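import Cfsg.Statements.S2837
import Cfsg.Agent.Lib.Helper16.YMin2
import Cfsg.Agent.Lib.Helper16.Frat
import Cfsg.Agent.Lib.Helper22.Frat

set_option autoImplicit false
open Cfsg

namespace Cfsg.Agent.S2837

open Cfsg.Agent.Lib.Helper16
open scoped commutatorElement

theorem aux_norm {L : Type*} [Group L] [Finite L] (Q Y Y' : Subgroup L) [hQ : Q.Normal]
    (hQY : Q ≤ Subgroup.normalizer (Y : Set L)) :
    Y ≤ Subgroup.normalizer (((Q ⊓ Y) ⊔ (Q ⊓ Y') : Subgroup L) : Set L) := by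
  intro y hy
  apply mem_normalizer_of_conj_le
  rw [Subgroup.map_sup]
  refine sup_le ?_ ?_
  · refine le_trans (le_of_eq ?_) le_sup_left
    apply conj_eq_of_mem_normalizer
    exact le_normalizer_inf (K := Y) (by rw [Subgroup.normalizer_eq_top]; exact le_top)
      Subgroup.le_normalizer hy
  · rintro _ ⟨v, hv, rfl⟩
    have e : (MulAut.conj y).toMonoidHom v = (y * v * y⁻¹ * v⁻¹) * v := by simp
    rw [e]
    refine Subgroup.mul_mem _ (Subgroup.mem_sup_left ⟨?_, ?_⟩) (Subgroup.mem_sup_right hv)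
    · exact Q.mul_mem (hQ.conj_mem v hv.1 y) (Q.inv_mem hv.1)
    · have h1 : v * y⁻¹ * v⁻¹ ∈ Y := conj_mem_of_le_normalizer hQY hv.1 (Y.inv_mem hy)
      have := Y.mul_mem hy h1
      simpa [mul_assoc] using this


/-- Let L be a finite group of characteristic p, L₀ a maximal subgroup, Y an elementary abelian p-subgroup of L₀ with L Y-minimal and O_p(L) ≤ N_L(Y). Put A = the normal closure of O_p(L) ∩ Y in L. Then for every g ∈ L outside L₀: Φ(A) = A' = [A ∩ Y, A] = [A ∩ Y, A ∩ gYg⁻¹] ≤ C_Y(L), and Y ∩ gYg⁻¹ = (A ∩ Y) ∩ (A ∩ gYg⁻¹) = C_Y(L) = C_A(L). -/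
theorem result {L : Type*} [Group L] [Finite L] {p : ℕ} [Fact p.Prime] (hchar : Subgroup.centralizer (Cfsg.pCore p L : Set L) ≤ Cfsg.pCore p L) (L₀ : Subgroup L) (hL₀ : IsCoatom L₀) (Y : Subgroup L) (hYL₀ : Y ≤ L₀) (hYel : Cfsg.IsElementaryAbelian p Y) (hmin : Cfsg.IsMinimalOver Y) (hOY : Cfsg.pCore p L ≤ Subgroup.normalizer (Y : Set L)) (A : Subgroup L) (hA : A = Subgroup.normalClosure (((Cfsg.pCore p L ⊓ Y : Subgroup L)) : Set L)) (g : L) (hg : g ∉ L₀) : (frattini ↥A).map A.subtype = ⁅A, A⁆ ∧ ⁅A, A⁆ = ⁅A ⊓ Y, A⁆ ∧ ⁅A ⊓ Y, A⁆ = ⁅A ⊓ Y, A ⊓ Y.map (MulAut.conj g).toMonoidHom⁆ ∧ ⁅A ⊓ Y, A⁆ ≤ Y ⊓ Subgroup.center L ∧ Y ⊓ Y.map (MulAut.conj g).toMonoidHom = Y ⊓ Subgroup.center L ∧ (A ⊓ Y) ⊓ (A ⊓ Y.map (MulAut.conj g).toMonoidHom) = Y ⊓ Subgroup.center L ∧ A ⊓ Subgroup.center L = Y ⊓ Subgroup.center L := by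
  have h : YMin Y L₀ := yMin_of hL₀ hYL₀ hmin
  obtain ⟨hYc, hYp⟩ := (elemAb_iff Y).mp hYel
  have hQn : (Cfsg.pCore p L).Normal := inferInstance
  have htop := h.sup_conj_eq_top hg
  have hZ := h.inf_conj_eq (fun a ha b hb => (hYc a ha b hb).eq) hg
  set Q := Cfsg.pCore p L with hQdef
  set Yg := Y.map (MulAut.conj g).toMonoidHom with hYg
  have hYgc : ∀ a ∈ Yg, ∀ b ∈ Yg, Commute a b := by
    rintro _ ⟨a, ha, rfl⟩ _ ⟨b, hb, rfl⟩
    exact (hYc a ha b hb).map _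
  have hYgp : ∀ a ∈ Yg, a ^ p = 1 := by
    rintro _ ⟨a, ha, rfl⟩
    rw [← map_pow, hYp a ha, map_one]
  have hQYg : Q ≤ Subgroup.normalizer (Yg : Set L) := by
    rw [hYg, normalizer_conj]
    have h1 := conj_mono hOY g
    rwa [conj_eq_of_mem_normalizer (by rw [Subgroup.normalizer_eq_top]; exact Subgroup.mem_top _)] at h1
  have hAn : A.Normal := by rw [hA]; exact Subgroup.normalClosure_normal
  have hQYA : Q ⊓ Y ≤ A := by rw [hA]; exact Subgroup.subset_normalClosure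
  have hAQ : A ≤ Q := by rw [hA]; exact Subgroup.normalClosure_le_normal inf_le_left
  have hU : A ⊓ Y = Q ⊓ Y := le_antisymm (inf_le_inf hAQ le_rfl) (le_inf hQYA inf_le_right)
  have hV : A ⊓ Yg = Q ⊓ Yg := by
    refine le_antisymm (inf_le_inf hAQ le_rfl) (le_inf ?_ inf_le_right)
    rintro x ⟨hxQ, y, hy, rfl⟩
    have h1 : y ∈ Q := by
      have := hQn.conj_mem _ hxQ g⁻¹
      simpa [mul_assoc] using this
    exact hAn.conj_mem y (hQYA ⟨h1, hy⟩) g
  have hAUV : A = (A ⊓ Y) ⊔ (A ⊓ Yg) := by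
    refine le_antisymm ?_ (sup_le inf_le_left inf_le_left)
    rw [hU, hV]
    have hBn : ((Q ⊓ Y) ⊔ (Q ⊓ Yg)).Normal := by
      rw [← Subgroup.normalizer_eq_top_iff, eq_top_iff, ← htop]
      refine sup_le (aux_norm Q Y Yg hOY) ?_
      rw [sup_comm]
      exact aux_norm Q Yg Y hQYg
    rw [hA]
    exact Subgroup.normalClosure_le_normal
      (show ((Q ⊓ Y : Subgroup L) : Set L) ⊆ _ from (le_sup_left : Q ⊓ Y ≤ (Q ⊓ Y) ⊔ (Q ⊓ Yg)))
  have hUVle : ⁅A ⊓ Y, A ⊓ Yg⁆ ≤ Y ⊓ Subgroup.center L := by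
    rw [← hZ]
    refine le_inf ?_ ?_
    · exact (Subgroup.commutator_mono inf_le_right (inf_le_left.trans hAQ)).trans
        (commutator_le_of_le_normalizer hOY)
    · rw [Subgroup.commutator_comm]
      exact (Subgroup.commutator_mono inf_le_right (inf_le_left.trans hAQ)).trans
        (commutator_le_of_le_normalizer hQYg)
  have hWn : ∀ X : Subgroup L, X ≤ Subgroup.normalizer ((⁅A ⊓ Y, A ⊓ Yg⁆ : Subgroup L) : Set L) := by
    intro X x _
    rw [Subgroup.mem_normalizer_iff]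
    intro w
    constructor
    · intro hw
      have := Subgroup.mem_center_iff.mp (hUVle hw).2 x
      rw [this]; simpa using hw
    · intro hw
      have h1 := Subgroup.mem_center_iff.mp (hUVle hw).2 x⁻¹
      have h2 : w = x⁻¹ * (x * w * x⁻¹) * x := by simp [mul_assoc]
      rw [h2, h1]; simpa using hw
  have hUU : ⁅A ⊓ Y, A ⊓ Y⁆ = ⊥ := by
    rw [Subgroup.commutator_eq_bot_iff_le_centralizer]
    intro a ha
    rw [mem_centralizer_iff_commute]
    intro b hb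
    exact hYc _ ha.2 _ hb.2
  have hVV : ⁅A ⊓ Yg, A ⊓ Yg⁆ = ⊥ := by
    rw [Subgroup.commutator_eq_bot_iff_le_centralizer]
    intro a ha
    rw [mem_centralizer_iff_commute]
    intro b hb
    exact hYgc _ ha.2 _ hb.2
  have hAA : ⁅A, A⁆ ≤ ⁅A ⊓ Y, A ⊓ Yg⁆ := by
    have h1 : ⁅A ⊓ Y, (A ⊓ Y) ⊔ (A ⊓ Yg)⁆ ≤ ⁅A ⊓ Y, A ⊓ Yg⁆ :=
      commutator_sup_le (hWn _) (hWn _) (by rw [hUU]; exact bot_le) le_rfl
    have h2 : ⁅A ⊓ Yg, (A ⊓ Y) ⊔ (A ⊓ Yg)⁆ ≤ ⁅A ⊓ Y, A ⊓ Yg⁆ :=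
      commutator_sup_le (hWn _) (hWn _) (by rw [Subgroup.commutator_comm]) (by rw [hVV]; exact bot_le)
    rw [← hAUV] at h1 h2
    have h3 : ⁅A, (A ⊓ Y) ⊔ (A ⊓ Yg)⁆ ≤ ⁅A ⊓ Y, A ⊓ Yg⁆ :=
      commutator_sup_le (hWn _) (hWn _) (by rw [Subgroup.commutator_comm]; exact h1)
        (by rw [Subgroup.commutator_comm]; exact h2)
    rwa [← hAUV] at h3
  have hUA : ⁅A ⊓ Y, A⁆ ≤ ⁅A, A⁆ := Subgroup.commutator_mono inf_le_left le_rfl
  have hUV' : ⁅A ⊓ Y, A ⊓ Yg⁆ ≤ ⁅A ⊓ Y, A⁆ := Subgroup.commutator_mono le_rfl inf_le_left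
  have hZA : Y ⊓ Subgroup.center L ≤ A := by
    refine le_trans (le_inf ?_ inf_le_left) hQYA
    exact inf_le_right.trans ((Subgroup.center_le_centralizer _).trans hchar)
  have hAZ : A ⊓ Subgroup.center L = Y ⊓ Subgroup.center L := by
    refine le_antisymm (le_inf ?_ inf_le_right) (le_inf hZA inf_le_right)
    rintro z ⟨hzA, hzZ⟩
    rw [hAUV] at hzA
    have hn : A ⊓ Yg ≤ Subgroup.normalizer ((A ⊓ Y : Subgroup L) : Set L) :=
      le_normalizer_inf (by rw [Subgroup.normalizer_eq_top]; exact le_top)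
        ((inf_le_left.trans hAQ).trans hOY)
    obtain ⟨u, hu, v, hv, rfl⟩ := exists_mul_of_mem_sup hn hzA
    have hvZ : v ∈ Subgroup.center L := by
      have h1 : Y ⊔ Yg ≤ Subgroup.centralizer {v} := by
        refine sup_le ?_ ?_
        · intro y hy
          rw [Subgroup.mem_centralizer_singleton_iff]
          have h2 := Subgroup.mem_center_iff.mp hzZ y
          have h3 := (hYc y hy u hu.2).eq
          have h4 : u * (y * v) = u * (v * y) := by
            calc u * (y * v) = (u * y) * v := (mul_assoc _ _ _).symm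
              _ = (y * u) * v := by rw [h3]
              _ = y * (u * v) := mul_assoc _ _ _
              _ = (u * v) * y := h2
              _ = u * (v * y) := mul_assoc _ _ _
          exact mul_left_cancel h4
        · intro y hy
          rw [Subgroup.mem_centralizer_singleton_iff]
          exact (hYgc y hy v hv.2).eq
      rw [htop] at h1
      rw [Subgroup.mem_center_iff]
      intro x
      exact Subgroup.mem_centralizer_singleton_iff.mp (h1 (Subgroup.mem_top x))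
    have hvY : v ∈ Y := by
      have h1 := mem_conj.mp hv.2
      have h2 := Subgroup.mem_center_iff.mp hvZ g
      rw [mul_assoc, ← h2] at h1
      simpa using h1
    exact Y.mul_mem hu.2 hvY
  refine ⟨?_, le_antisymm (hAA.trans hUV') hUA, le_antisymm (hUA.trans hAA) hUV',
    (hUA.trans hAA).trans hUVle, hZ, ?_, hAZ⟩
  · rw [← Subgroup.map_subtype_commutator]
    congr 1
    have hAp : IsPGroup p ↥A := (pCore_isPGroup (p := p) (G := L)).to_le hAQ
    refine le_antisymm ?_ (Cfsg.Agent.Lib.Helper22.commutator_le_frattini hAp)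
    apply frattini_le_of_elemAb (p := p) le_rfl
    rintro ⟨x, hx⟩
    have hx' := hx
    rw [hAUV] at hx'
    have hn : A ⊓ Yg ≤ Subgroup.normalizer ((A ⊓ Y : Subgroup L) : Set L) :=
      le_normalizer_inf (by rw [Subgroup.normalizer_eq_top]; exact le_top)
        ((inf_le_left.trans hAQ).trans hOY)
    obtain ⟨u, hu, v, hv, rfl⟩ := exists_mul_of_mem_sup hn hx'
    rw [← Abelianization.ker_of, MonoidHom.mem_ker, map_pow]
    have e : (⟨u * v, hx⟩ : ↥A) = ⟨u, hu.1⟩ * ⟨v, hv.1⟩ := rfl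
    rw [e, map_mul, mul_pow, ← map_pow, ← map_pow]
    have e1 : (⟨u, hu.1⟩ : ↥A) ^ p = 1 := Subtype.ext (hYp u hu.2)
    have e2 : (⟨v, hv.1⟩ : ↥A) ^ p = 1 := Subtype.ext (hYgp v hv.2)
    rw [e1, e2, map_one, one_mul]
  · apply le_antisymm
    · rw [← hZ]
      exact inf_le_inf inf_le_right inf_le_right
    · refine le_inf (le_inf hZA inf_le_left) (le_inf hZA ?_)
      rw [← hZ]
      exact inf_le_right

end Cfsg.Agent.S2837
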