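import Cfsg.Statements.S2839
import Cfsg.Agent.Lib.Helper16.WC

set_option autoImplicit false
open Cfsg

namespace Cfsg.Agent.S2839

open Cfsg.Agent.Lib.Helper16
open Cfsg.Agent.Lib.Helper8 (SubnIn subnIn_top)
open scoped commutatorElement


/-- Let Q be a nontrivial p-subgroup of the finite group H that is a weakly closed subgroup, K a subgroup containing Q and N a normal subgroup of H. Then Q is a weakly closed subgroup of K; every H-conjugate of Q contained in K is a K-conjugate of Q; N_K(Q) contains a Sylow p-subgroup of K; N = N_N(Q)·O^p(N); and QN/N is a weakly closed subgroup of H/N. -/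
theorem result {H : Type*} [Group H] [Finite H] {p : ℕ} [Fact p.Prime] (Q : Subgroup H) (hQp : IsPGroup p ↥Q) (hQ1 : Q ≠ ⊥) (hwc : Cfsg.IsWeaklyClosedSubgroup p Q) (K : Subgroup H) (hQK : Q ≤ K) (N' : Subgroup H) [N'.Normal] : Cfsg.IsWeaklyClosedSubgroup p (Q.subgroupOf K) ∧ (∀ g : H, ((Q : Subgroup H).map (MulAut.conj (g : H)).toMonoidHom) ≤ K → ∃ k ∈ K, ((Q : Subgroup H).map (MulAut.conj (g : H)).toMonoidHom) = ((Q : Subgroup H).map (MulAut.conj (k : H)).toMonoidHom)) ∧ Cfsg.IsParabolic p ((Subgroup.normalizer ((Q : Subgroup H) : Set H)).subgroupOf K) ∧ (N' ⊓ Subgroup.normalizer ((Q : Subgroup H) : Set H)) ⊔ (Cfsg.pResidual p ↥N').map N'.subtype = N' ∧ Cfsg.IsWeaklyClosedSubgroup p (Q.map (QuotientGroup.mk' N')) := by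
  have hw : WCl p Q := wcl_of_isWeaklyClosedSubgroup hwc
  refine ⟨hw.subgroupOf hQp hQK, fun g hg => hw.exists_conj_eq hQp hQK hg, ?_, ?_, hw.map_mk hQp N'⟩
  · obtain ⟨T, hT, hQT⟩ := exists_sylIn_ge hQp hQK
    obtain ⟨P, hP⟩ := hT.exists_sylow
    refine ⟨P, ?_⟩
    rw [hP]
    exact Subgroup.comap_mono (hw.le_normalizer hT.2.1 hQT)
  · obtain ⟨T, hQT⟩ := hQp.exists_le_sylow
    have hS : SylIn p ((T : Subgroup H) ⊓ N') N' :=
      (sylIn_top T).inf_normal le_top (by rw [Subgroup.normalizer_eq_top])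
    apply le_antisymm (sup_le inf_le_left (pRes_le N'))
    calc N' = pRes p N' ⊔ ((T : Subgroup H) ⊓ N') := (pRes_sup_sylIn hS).symm
      _ ≤ _ := sup_le le_sup_right (le_trans (le_inf inf_le_right
          (inf_le_left.trans (hw.le_normalizer T.2 hQT))) le_sup_left)

end Cfsg.Agent.S2839
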