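import Cfsg.Statements.S2840
import Cfsg.Agent.Lib.Helper16.WC

set_option autoImplicit false
open Cfsg

namespace Cfsg.Agent.S2840

open Cfsg.Agent.Lib.Helper16
open Cfsg.Agent.Lib.Helper8 (SubnIn subnIn_top)
open scoped commutatorElement


/-- Let Q be a nontrivial p-subgroup of the finite group H that is a weakly closed subgroup and K a subgroup containing Q; let K° be the weak closure of Q in K (generated by the H-conjugates of Q inside K). Then K° is generated by the K-conjugates of Q, and K° is the subnormal closure of Q in K. -/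
theorem result {H : Type*} [Group H] [Finite H] {p : ℕ} [Fact p.Prime] (Q : Subgroup H) (hQp : IsPGroup p ↥Q) (hQ1 : Q ≠ ⊥) (hwc : Cfsg.IsWeaklyClosedSubgroup p Q) (K : Subgroup H) (hQK : Q ≤ K) (Kc : Subgroup H) (hKc : Kc = Cfsg.weakClosure Q K) : Kc = ⨆ k : ↥K, ((Q : Subgroup H).map (MulAut.conj ((k : H) : H)).toMonoidHom) ∧ Kc = (Cfsg.subnormalClosure (Q.subgroupOf K)).map K.subtype := by
  have hw : WCl p Q := wcl_of_isWeaklyClosedSubgroup hwc
  have h1 : Kc = ⨆ k : ↥K, Q.map (MulAut.conj (k : H)).toMonoidHom := by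
    rw [hKc]
    unfold weakClosure
    apply le_antisymm
    · apply iSup_le
      rintro ⟨g, hg⟩
      obtain ⟨k, hk, e⟩ := hw.exists_conj_eq hQp hQK hg
      rw [e]
      exact le_iSup (fun k : ↥K => Q.map (MulAut.conj (k : H)).toMonoidHom) ⟨k, hk⟩
    · apply iSup_le
      intro k
      exact le_iSup (fun g : {g : H // Q.map (MulAut.conj g).toMonoidHom ≤ K} =>
        Q.map (MulAut.conj (g : H)).toMonoidHom) ⟨k, conj_le_of_le_of_mem hQK k.2⟩
  refine ⟨h1, ?_⟩
  have hKcK : Kc ≤ K := by
    rw [h1]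
    exact iSup_le fun k => conj_le_of_le_of_mem hQK k.2
  have hQKc : Q ≤ Kc := by
    rw [h1]
    have := le_iSup (fun k : ↥K => Q.map (MulAut.conj (k : H)).toMonoidHom) 1
    have e : Q.map (MulAut.conj ((1 : ↥K) : H)).toMonoidHom = Q := conj_one Q
    exact e.symm.le.trans this
  have hn : K ≤ Subgroup.normalizer (Kc : Set H) := by
    intro x hx
    apply mem_normalizer_of_conj_le
    rw [h1, Subgroup.map_iSup]
    apply iSup_le
    intro k
    rw [conj_conj]
    exact le_iSup (fun k : ↥K => Q.map (MulAut.conj (k : H)).toMonoidHom) (⟨x, hx⟩ * k)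
  have key : ∀ {K' : Subgroup H} {X : Subgroup H}, SubnIn X K' → Q ≤ X → ∀ k ∈ K',
      Q.map (MulAut.conj k).toMonoidHom ≤ X := by
    intro K'
    induction K' using (wellFounded_lt (α := Subgroup H)).induction with
    | _ K' ih =>
      intro X hX hQX k hk
      by_cases hXK : X = K'
      · rw [hXK]
        exact conj_le_of_le_of_mem (hXK ▸ hQX) hk
      · obtain ⟨N, hXN, hNK, hKN, hs⟩ := hX.exists_normal hXK
        have h2 : Q.map (MulAut.conj k).toMonoidHom ≤ N := by
          calc _ ≤ N.map (MulAut.conj k).toMonoidHom := conj_mono (hQX.trans hXN) k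
            _ = N := conj_eq_of_mem_normalizer (hKN hk)
        obtain ⟨n, hn, e⟩ := hw.exists_conj_eq hQp (hQX.trans hXN) h2
        rw [e]
        exact ih N hNK hs hQX n hn
  apply le_antisymm
  · have hS : SubnIn ((subnormalClosure (Q.subgroupOf K)).map K.subtype) K :=
      Cfsg.Agent.Lib.Helper8.subnIn_map_subtype.mpr (subnormalClosure_isSubnormal _)
    have hQS : Q ≤ (subnormalClosure (Q.subgroupOf K)).map K.subtype := by
      intro q hq
      exact ⟨⟨q, hQK hq⟩, le_subnormalClosure _ hq, rfl⟩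
    rw [h1]
    exact iSup_le fun k => key hS hQS k k.2
  · have h3 : subnormalClosure (Q.subgroupOf K) ≤ Kc.subgroupOf K := by
      apply subnormalClosure_le (Subgroup.comap_mono hQKc)
      exact ((Subgroup.normal_subgroupOf_iff_le_normalizer hKcK).mpr hn).isSubnormal
    rintro _ ⟨x, hx, rfl⟩
    exact h3 hx

end Cfsg.Agent.S2840
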