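import Cfsg.Statements.S2841
import Cfsg.Agent.Lib.Helper16.WC

set_option autoImplicit false
open Cfsg

namespace Cfsg.Agent.S2841

open Cfsg.Agent.Lib.Helper16
open Cfsg.Agent.Lib.Helper8 (SubnIn subnIn_top)
open scoped commutatorElement


/-- Let Q be a nontrivial p-subgroup of the finite group H that is a weakly closed subgroup and N a normal subgroup of H. Then N = N_N(Q)·[N, Q] and [N, Q] = (Q ∩ [N, Q])·[N, Q, Q]. -/
theorem result {H : Type*} [Group H] [Finite H] {p : ℕ} [Fact p.Prime] (Q : Subgroup H) (hQp : IsPGroup p ↥Q) (hQ1 : Q ≠ ⊥) (hwc : Cfsg.IsWeaklyClosedSubgroup p Q) (N' : Subgroup H) [N'.Normal] : (∀ n : H, n ∈ N' → ∃ a ∈ N' ⊓ Subgroup.normalizer ((Q : Subgroup H) : Set H), ∃ b ∈ ⁅N', Q⁆, n = a * b) ∧ (∀ c : H, c ∈ ⁅N', Q⁆ → ∃ a ∈ Q ⊓ ⁅N', Q⁆, ∃ b ∈ ⁅⁅N', Q⁆, Q⁆, c = a * b) := by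
  have hw : WCl p Q := wcl_of_isWeaklyClosedSubgroup hwc
  have hMN : (⁅N', Q⁆ : Subgroup H) ≤ N' := Subgroup.commutator_le_left N' Q
  constructor
  · intro n hn
    obtain ⟨c, hc, e⟩ := hw.exists_commutator_conj hQp (N'.inv_mem hn)
    refine ⟨n * c, ⟨N'.mul_mem hn (hMN hc), ?_⟩, c⁻¹, Subgroup.inv_mem _ hc, by simp⟩
    apply mem_normalizer_of_conj_eq
    rw [← conj_conj, ← e, conj_conj_inv]
  · have hle : (⁅N', Q⁆ : Subgroup H) ≤ Q ⊔ ⁅⁅N', Q⁆, Q⁆ := by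
      rw [Subgroup.commutator_le]
      intro n hn q hq
      obtain ⟨c, hc, e⟩ := hw.exists_commutator_conj hQp hn
      have h1 : n * q * n⁻¹ ∈ Q.map (MulAut.conj n).toMonoidHom := conj_mem_conj hq
      rw [e] at h1
      have h2 := conj_le_commutator_sup hc h1
      rw [sup_comm] at h2
      have e2 : ⁅n, q⁆ = n * q * n⁻¹ * q⁻¹ := rfl
      rw [e2]
      exact Subgroup.mul_mem _ h2 (Subgroup.inv_mem _ ((le_sup_left : Q ≤ Q ⊔ ⁅⁅N', Q⁆, Q⁆) hq))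
    intro c hc
    obtain ⟨a, ha, b, hb, rfl⟩ := exists_mul_of_mem_sup' (le_normalizer_commutator_right _ Q) (hle hc)
    refine ⟨a, ⟨ha, ?_⟩, b, hb, rfl⟩
    have hb' : b ∈ (⁅N', Q⁆ : Subgroup H) :=
      commutator_le_of_le_normalizer (le_normalizer_commutator_right N' Q) hb
    have := Subgroup.mul_mem _ hc (Subgroup.inv_mem _ hb')
    simpa using this

end Cfsg.Agent.S2841
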