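import Cfsg.Statements.S2843
import Cfsg.Agent.Lib.Helper16.Large

set_option autoImplicit false
open Cfsg

namespace Cfsg.Agent.S2843

open Cfsg.Agent.Lib.Helper16
open Cfsg.Agent.Lib.Helper8 (SubnIn subnIn_top)
open scoped commutatorElement


/-- Let Q be a nontrivial large p-subgroup of the finite group H, Q ≤ L ≤ H, and Y a nontrivial p-subgroup of H normalized by L. Let L° be the weak closure of Q in L (generated by the conjugates of Q inside L). Then L° equals the weak closure of Q in L·C_H(Y), and [L°, C_H(Y)] ≤ O_p(L°); in particular C_H(Y) normalizes L°. -/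
theorem result {H : Type*} [Group H] [Finite H] {p : ℕ} [Fact p.Prime] (Q : Subgroup H) (hQp : IsPGroup p ↥Q) (hQ1 : Q ≠ ⊥) (hL : Cfsg.IsLarge Q) (L : Subgroup H) (hQL : Q ≤ L) (Y : Subgroup H) (hYp : IsPGroup p ↥Y) (hY1 : Y ≠ ⊥) (hLY : L ≤ Subgroup.normalizer ((Y : Subgroup H) : Set H)) : Cfsg.weakClosure Q L = Cfsg.weakClosure Q (L ⊔ Subgroup.centralizer ((Y : Subgroup H) : Set H)) ∧ ⁅Cfsg.weakClosure Q L, Subgroup.centralizer ((Y : Subgroup H) : Set H)⁆ ≤ (Cfsg.pCoreOf p (Cfsg.weakClosure Q L)) ∧ Subgroup.centralizer ((Y : Subgroup H) : Set H) ≤ Subgroup.normalizer (((Cfsg.weakClosure Q L) : Subgroup H) : Set H) := by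
  have hw : WCl p Q := isLarge_wcl hL hQ1
  have hLC : L ≤ Subgroup.normalizer (Subgroup.centralizer (Y : Set H) : Set H) :=
    hLY.trans (normalizer_le_normalizer_centralizer Y)
  have hLCY : L ⊔ Subgroup.centralizer (Y : Set H) ≤ Subgroup.normalizer (Y : Set H) :=
    sup_le hLY (Subgroup.centralizer_le_normalizer _)
  have hA : ∀ g : H, Q.map (MulAut.conj g).toMonoidHom ≤ L ⊔ Subgroup.centralizer (Y : Set H) →
      Subgroup.centralizer (Y : Set H) ≤
        Subgroup.normalizer ((Q.map (MulAut.conj g).toMonoidHom : Subgroup H) : Set H) := by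
    intro g hg
    have h1 := inf_centralizer_ne_bot hYp (isPGroup_conj hQp g) (hg.trans hLCY) hY1
    have h2 := (isLarge_conj hL g).2 _ inf_le_right h1
    refine le_trans ?_ h2
    exact (Subgroup.centralizer_le (by exact_mod_cast
      (inf_le_left : Y ⊓ Subgroup.centralizer ((Q.map (MulAut.conj g).toMonoidHom : Subgroup H) : Set H) ≤ Y))).trans
      (Subgroup.centralizer_le_normalizer _)
  have hCQ : Subgroup.centralizer (Y : Set H) ≤ Subgroup.normalizer (Q : Set H) := by
    have := hA 1 (by rw [conj_one]; exact hQL.trans le_sup_left)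
    rwa [conj_one] at this
  have h1 : weakClosure Q L = weakClosure Q (L ⊔ Subgroup.centralizer (Y : Set H)) := by
    apply le_antisymm
    · rw [weakClosure_le_iff]
      exact fun g hg => le_weakClosure (hg.trans le_sup_left)
    · rw [weakClosure_le_iff]
      intro g hg
      obtain ⟨k, hk, e⟩ := hw.exists_conj_eq hQp (hQL.trans le_sup_left) hg
      obtain ⟨l, hl, c, hc, rfl⟩ := exists_mul_of_mem_sup' hLC hk
      rw [e, ← conj_conj, conj_eq_of_mem_normalizer (hCQ hc)]
      exact le_weakClosure (conj_le_of_le_of_mem hQL hl)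
  have hWn : weakClosure Q L ≤ Subgroup.normalizer
      ((weakClosure Q L ⊓ pCoreOf p (Subgroup.centralizer (Y : Set H)) : Subgroup H) : Set H) :=
    le_normalizer_inf Subgroup.le_normalizer
      (weakClosure_le.trans (hLC.trans (normalizer_le_normalizer_pCoreOf _)))
  have h2 : ⁅weakClosure Q L, Subgroup.centralizer (Y : Set H)⁆ ≤
      weakClosure Q L ⊓ pCoreOf p (Subgroup.centralizer (Y : Set H)) := by
    rw [Subgroup.commutator_comm]
    apply commutator_le_of_le_commStab'
    rw [weakClosure_le_iff]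
    intro g hg
    apply le_commStab' ((le_weakClosure hg).trans hWn)
    have h3 := commutator_le_inf_of_normalize (hg.trans hLC) (hA g (hg.trans le_sup_left))
    refine h3.trans (le_inf (inf_le_right.trans (le_weakClosure hg)) ?_)
    apply le_pCoreOf inf_le_left
    · exact le_normalizer_inf Subgroup.le_normalizer (hA g (hg.trans le_sup_left))
    · exact (isPGroup_conj hQp g).to_le inf_le_right
  refine ⟨h1, h2.trans ?_, ?_⟩
  · exact le_pCoreOf inf_le_left hWn ((pCoreOf_isPGroup _).to_le inf_le_right)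
  · exact Subgroup.le_normalizer_iff_commutator_le_left.mpr (h2.trans inf_le_left)

end Cfsg.Agent.S2843
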