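import Cfsg.Statements.S2844
import Cfsg.Agent.Lib.Helper16.WC

set_option autoImplicit false
open Cfsg

namespace Cfsg.Agent.S2844

open Cfsg.Agent.Lib.Helper16
open Cfsg.Agent.Lib.Helper8 (SubnIn subnIn_top)
open scoped commutatorElement


/-- Let Q be a nontrivial large p-subgroup of the finite group H and Q• = O_p(N_H(Q)). Then for every g ∈ H outside N_H(Q): C_H(Q) ∩ C_H(gQg⁻¹) = 1, C_H(Q•) ∩ C_H(gQ•g⁻¹) = 1, Z(Q) ∩ Z(gQg⁻¹) = 1 and Z(Q•) ∩ Z(gQ•g⁻¹) = 1; moreover N_H(Q) = N_H(Q•) and Q• is large in H. -/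
theorem result {H : Type*} [Group H] [Finite H] {p : ℕ} [Fact p.Prime] (Q : Subgroup H) (hQp : IsPGroup p ↥Q) (hQ1 : Q ≠ ⊥) (hL : Cfsg.IsLarge Q) (Qb : Subgroup H) (hQb : Qb = Cfsg.largeBullet p Q) : (∀ g : H, g ∉ Subgroup.normalizer ((Q : Subgroup H) : Set H) → Subgroup.centralizer ((Q : Subgroup H) : Set H) ⊓ Subgroup.centralizer ((((Q : Subgroup H).map (MulAut.conj (g : H)).toMonoidHom) : Subgroup H) : Set H) = ⊥ ∧ Subgroup.centralizer ((Qb : Subgroup H) : Set H) ⊓ Subgroup.centralizer ((((Qb : Subgroup H).map (MulAut.conj (g : H)).toMonoidHom) : Subgroup H) : Set H) = ⊥ ∧ (Q ⊓ Subgroup.centralizer ((Q : Subgroup H) : Set H)) ⊓ (((Q : Subgroup H).map (MulAut.conj (g : H)).toMonoidHom) ⊓ Subgroup.centralizer ((((Q : Subgroup H).map (MulAut.conj (g : H)).toMonoidHom) : Subgroup H) : Set H)) = ⊥ ∧ (Qb ⊓ Subgroup.centralizer ((Qb : Subgroup H) : Set H)) ⊓ (((Qb : Subgroup H).map (MulAut.conj (g : H)).toMonoidHom) ⊓ Subgroup.centralizer ((((Qb : Subgroup H).map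 (MulAut.conj (g : H)).toMonoidHom) : Subgroup H) : Set H)) = ⊥) ∧ Subgroup.normalizer ((Q : Subgroup H) : Set H) = Subgroup.normalizer ((Qb : Subgroup H) : Set H) ∧ Cfsg.IsLarge Qb := by
  subst hQb
  unfold largeBullet
  obtain ⟨hL1, hL2⟩ := hL
  -- normalizers of p-overgroups
  have hN : ∀ R : Subgroup H, IsPGroup p R → Q ≤ R →
      Subgroup.normalizer (R : Set H) ≤ Subgroup.normalizer (Q : Set H) := by
    intro R hR hQR
    have hR1 : R ≠ ⊥ := fun e => hQ1 (le_bot_iff.mp (e ▸ hQR))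
    have h1 := center_ne_bot hR hR1
    have h2 : R ⊓ Subgroup.centralizer (R : Set H) ≤ Subgroup.centralizer (Q : Set H) :=
      inf_le_right.trans (Subgroup.centralizer_le (by exact_mod_cast hQR))
    refine le_trans ?_ (hL2 _ h2 h1)
    exact le_normalizer_inf le_rfl (normalizer_le_normalizer_centralizer R)
  have hwc : WCl p Q := wcl_of_normalizer_le hN
  have hQb : Q ≤ pCoreOf p (Subgroup.normalizer (Q : Set H)) :=
    le_pCoreOf Subgroup.le_normalizer le_rfl hQp
  have hcb : Subgroup.centralizer (pCoreOf p (Subgroup.normalizer (Q : Set H)) : Set H) ≤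
      Subgroup.centralizer (Q : Set H) := Subgroup.centralizer_le (by exact_mod_cast hQb)
  have hNN : Subgroup.normalizer (Q : Set H) =
      Subgroup.normalizer (pCoreOf p (Subgroup.normalizer (Q : Set H)) : Set H) :=
    le_antisymm (le_normalizer_pCoreOf _) (hN _ (pCoreOf_isPGroup _) hQb)
  have key : ∀ g : H, g ∉ Subgroup.normalizer (Q : Set H) →
      Subgroup.centralizer (Q : Set H) ⊓
        Subgroup.centralizer ((Q.map (MulAut.conj g).toMonoidHom : Subgroup H) : Set H) = ⊥ := by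
    intro g hg
    by_contra hU
    have h1 := hL2 _ inf_le_left hU
    have h2 : Q.map (MulAut.conj g).toMonoidHom ≤ Subgroup.normalizer (Q : Set H) := by
      refine le_trans ?_ h1
      intro x hx
      apply Subgroup.centralizer_le_normalizer
      rw [mem_centralizer_iff_commute]
      intro y hy
      exact (mem_centralizer_iff_commute.mp hy.2 x hx).symm
    have h3 : IsPGroup p (Q.map (MulAut.conj g).toMonoidHom ⊔ Q : Subgroup H) :=
      IsPGroup.to_sup_of_normal_right' (isPGroup_conj hQp g) hQp h2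
    exact hg (mem_normalizer_of_conj_eq (hwc _ h3 le_sup_right g le_sup_left))
  refine ⟨fun g hg => ⟨key g hg, ?_, ?_, ?_⟩, hNN, ?_, ?_⟩
  · rw [eq_bot_iff, ← key g hg]
    refine inf_le_inf hcb ?_
    rw [centralizer_conj, centralizer_conj]
    exact conj_mono hcb g
  · rw [eq_bot_iff, ← key g hg]
    exact inf_le_inf inf_le_right inf_le_right
  · rw [eq_bot_iff, ← key g hg]
    refine inf_le_inf (inf_le_right.trans hcb) (inf_le_right.trans ?_)
    rw [centralizer_conj, centralizer_conj]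
    exact conj_mono hcb g
  · exact hcb.trans (hL1.trans hQb)
  · intro U hU hU1
    rw [← hNN]
    exact hL2 U (hU.trans hcb) hU1

end Cfsg.Agent.S2844
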