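import Cfsg.Statements.S2845
import Cfsg.Agent.Lib.Helper16.Large

set_option autoImplicit false
open Cfsg

namespace Cfsg.Agent.S2845

open Cfsg.Agent.Lib.Helper16
open Cfsg.Agent.Lib.Helper8 (SubnIn subnIn_top)
open scoped commutatorElement


/-- Let Q be a nontrivial large p-subgroup of the finite group H. Then for every subgroup L ≥ Q with O_p(L) ≠ 1, C_H(O_p(L)) is a p-group and L has characteristic p, and either the weak closure L° of Q in L equals Q or C_H(L°) = 1; for every subgroup R of H containing a Sylow p-subgroup of H with O_p(R) ≠ 1, C_H(O_p(R)) ≤ O_p(R); and H has parabolic characteristic p. -/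
theorem result {H : Type*} [Group H] [Finite H] {p : ℕ} [Fact p.Prime] (Q : Subgroup H) (hQp : IsPGroup p ↥Q) (hQ1 : Q ≠ ⊥) (hL : Cfsg.IsLarge Q) : (∀ L : Subgroup H, Q ≤ L → Cfsg.pCore p ↥L ≠ ⊥ → IsPGroup p ↥(Subgroup.centralizer (((Cfsg.pCoreOf p L) : Subgroup H) : Set H)) ∧ Subgroup.centralizer (Cfsg.pCore p ↥L : Set ↥L) ≤ Cfsg.pCore p ↥L ∧ (Cfsg.weakClosure Q L = Q ∨ Subgroup.centralizer (((Cfsg.weakClosure Q L) : Subgroup H) : Set H) = ⊥)) ∧ (∀ R : Subgroup H, Cfsg.IsParabolic p R → Cfsg.pCore p ↥R ≠ ⊥ → Subgroup.centralizer (((Cfsg.pCoreOf p R) : Subgroup H) : Set H) ≤ (Cfsg.pCoreOf p R)) ∧ Cfsg.IsOfParabolicCharacteristic p H := by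
  have hw : WCl p Q := isLarge_wcl hL hQ1
  have hB : ∀ R : Subgroup H, IsParabolic p R → pCore p ↥R ≠ ⊥ →
      Subgroup.centralizer (pCoreOf p R : Set H) ≤ pCoreOf p R := by
    rintro R ⟨T, hTR⟩ hR1
    obtain ⟨g, _, hg⟩ := (sylIn_top T).exists_conj_le hQp le_top
    have hne : Q.map (MulAut.conj g).toMonoidHom ≠ ⊥ := by
      intro e
      apply hQ1
      rw [← conj_inv_conj Q g, e, Subgroup.map_bot]
    obtain ⟨_, h2, _⟩ := isLarge_main (isLarge_conj hL g) (isPGroup_conj hQp g) hne (hg.trans hTR)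
      (fun e => hR1 ((pCoreOf_eq_bot_iff R).mp e))
    have hRD : R ≤ Subgroup.normalizer (Subgroup.centralizer (pCoreOf p R : Set H) : Set H) :=
      (le_normalizer_pCoreOf R).trans (normalizer_le_normalizer_centralizer _)
    have h3 : IsPGroup p (Subgroup.centralizer (pCoreOf p R : Set H) ⊔ (T : Subgroup H) : Subgroup H) :=
      IsPGroup.to_sup_of_normal_left' h2 T.2 (hTR.trans hRD)
    have h4 := (sylIn_top T).eq_of_le h3 le_top le_sup_right
    have h5 : Subgroup.centralizer (pCoreOf p R : Set H) ≤ R := by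
      refine le_trans ?_ hTR
      rw [h4]
      exact le_sup_left
    exact le_pCoreOf h5 hRD h2
  refine ⟨?_, hB, ?_⟩
  · intro L hQL hL1
    obtain ⟨_, h2, h3⟩ := isLarge_main hL hQp hQ1 hQL (fun e => hL1 ((pCoreOf_eq_bot_iff L).mp e))
    refine ⟨h2, (charP_iff' L).mpr h3, ?_⟩
    by_cases hU : Subgroup.centralizer (weakClosure Q L : Set H) = ⊥
    · exact Or.inr hU
    · left
      have hQW : Q ≤ weakClosure Q L := self_le_weakClosure hQL
      have h4 := hL.2 _ (Subgroup.centralizer_le (by exact_mod_cast hQW)) hU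
      have h5 : weakClosure Q L ≤ Subgroup.normalizer (Q : Set H) :=
        (Subgroup.le_normalizer.trans (normalizer_le_normalizer_centralizer _)).trans h4
      apply le_antisymm _ hQW
      rw [weakClosure_le_iff]
      intro g hg
      have h6 : IsPGroup p (Q.map (MulAut.conj g).toMonoidHom ⊔ Q : Subgroup H) :=
        IsPGroup.to_sup_of_normal_right' (isPGroup_conj hQp g) hQp ((le_weakClosure hg).trans h5)
      exact (hw _ h6 le_sup_right g le_sup_left).le
  · intro R hR hR1 hpar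
    rw [charP_iff']
    have h1 : R ≤ pCoreOf p (Subgroup.normalizer (R : Set H)) :=
      le_pCoreOf Subgroup.le_normalizer le_rfl hR
    have h2 : pCore p ↥(Subgroup.normalizer (R : Set H)) ≠ ⊥ := by
      intro e
      rw [← pCoreOf_eq_bot_iff] at e
      exact hR1 (le_bot_iff.mp (e ▸ h1))
    exact inf_le_right.trans (hB _ hpar h2)

end Cfsg.Agent.S2845
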