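import Cfsg.Statements.S2848
import Cfsg.Agent.Lib.Helper16.PRed2
import Cfsg.Agent.Lib.Helper16.WC

set_option autoImplicit false
open Cfsg

namespace Cfsg.Agent.S2848

open Cfsg.Agent.Lib.Helper16
open Cfsg.Agent.Lib.Helper8 (SubnIn subnIn_top)
open scoped commutatorElement


/-- Standing hypotheses: G a finite group, S a Sylow p-subgroup, Q a nontrivial large p-subgroup of G contained in S (C_G(Q) ≤ Q and N_G(U) ≤ N_G(Q) for all nontrivial U ≤ C_G(Q)), and M a subgroup containing S with the basic property (M ∈ 𝔐_G(S)); Y_M denotes the largest p-reduced normal subgroup of M and M† = M·C_G(Y_M). Then O_p(M) is a weakly closed subgroup of M† (for p): it is the only M†-conjugate of itself inside some Sylow p-subgroup of M† containing it. -/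
theorem result {G : Type*} [Group G] [Finite G] {p : ℕ} [Fact p.Prime] (S : Sylow p G) (Q : Subgroup G) (hQp : IsPGroup p ↥Q) (hQ1 : Q ≠ ⊥) (hQS : Q ≤ (S : Subgroup G)) (hQ : Cfsg.IsLarge Q) (M : Subgroup G) (hSM : (S : Subgroup G) ≤ M) (hM : Cfsg.IsInFrakM p M) : Cfsg.IsWeaklyClosedSubgroup p (((Cfsg.pCoreOf p M)).subgroupOf (M ⊔ Subgroup.centralizer (((Cfsg.largestPReducedOf p M) : Subgroup G) : Set G))) := by
  have hY := pRed_largestPReducedOf (p := p) M
  set Y := largestPReducedOf p M with hYdef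
  have hclosed : IsPClosed p ↥(M ⊓ Subgroup.centralizer (Y : Set G)) := hM.2.2.2.2.1
  have hSMs : SylIn p (S : Subgroup G) M := (sylIn_top S).mono hSM le_top
  have hMC : M ≤ Subgroup.normalizer (Subgroup.centralizer (Y : Set G) : Set G) :=
    hY.2.1.trans (normalizer_le_normalizer_centralizer Y)
  have hMCM := le_normalizer_inf_centralizer hY.2.1
  have hSy : SylIn p ((S : Subgroup G) ⊓ Subgroup.centralizer (Y : Set G))
      (M ⊓ Subgroup.centralizer (Y : Set G)) := by
    have h1 := hSMs.inf_normal inf_le_left hMCM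
    rwa [← inf_assoc, inf_eq_left.mpr hSM] at h1
  have hCMn : M ⊓ Subgroup.centralizer (Y : Set G) ≤
      Subgroup.normalizer (((S : Subgroup G) ⊓ Subgroup.centralizer (Y : Set G) : Subgroup G) : Set G) := by
    obtain ⟨P, hP⟩ := hSy.exists_sylow
    have h1 := hclosed P
    rw [hP] at h1
    exact (Subgroup.normal_subgroupOf_iff_le_normalizer hSy.1).mp h1
  have hMn : M ≤
      Subgroup.normalizer (((S : Subgroup G) ⊓ Subgroup.centralizer (Y : Set G) : Subgroup G) : Set G) := by
    intro m hm
    obtain ⟨l, hl, e⟩ := hSy.exists_conj (hSy.conj_of_mem (hMCM hm))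
    rw [conj_eq_of_mem_normalizer (hCMn hl)] at e
    exact mem_normalizer_of_conj_eq e
  have hQ : pCoreOf p M = (S : Subgroup G) ⊓ Subgroup.centralizer (Y : Set G) :=
    le_antisymm (le_inf (pCoreOf_le_sylIn hSMs) hY.pCoreOf_le_centralizer)
      (le_pCoreOf (inf_le_left.trans hSM) hMn (S.2.to_le inf_le_left))
  have hSd : SylIn p (S : Subgroup G) (M ⊔ Subgroup.centralizer (Y : Set G)) :=
    (sylIn_top S).mono (hSM.trans le_sup_left) le_top
  apply isWeaklyClosedSubgroup_subgroupOf hSd (pCoreOf_le_sylIn hSMs)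
  intro k hk hle
  apply conj_eq_of_le
  have hkC : k ∈ Subgroup.normalizer (Subgroup.centralizer (Y : Set G) : Set G) :=
    (sup_le hMC Subgroup.le_normalizer) hk
  have h1 : (pCoreOf p M).map (MulAut.conj k).toMonoidHom ≤ Subgroup.centralizer (Y : Set G) := by
    calc _ ≤ (Subgroup.centralizer (Y : Set G)).map (MulAut.conj k).toMonoidHom :=
          conj_mono hY.pCoreOf_le_centralizer k
      _ = _ := conj_eq_of_mem_normalizer hkC
  calc _ ≤ (S : Subgroup G) ⊓ Subgroup.centralizer (Y : Set G) := le_inf hle h1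
    _ = _ := hQ.symm

end Cfsg.Agent.S2848
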