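import Cfsg.Statements.S2872
import Cfsg.Agent.Lib.Helper1.PGrp
import Cfsg.Agent.Lib.Helper18.Transfer

set_option autoImplicit false
open Cfsg

namespace Cfsg.Agent.S2872


/-- Let S be a Sylow 2-subgroup of the finite group G. Then G has a proper normal subgroup of 2-power index (O²(G) ≠ G), or Ω₁(Z(S)) is contained in the Frattini subgroup of S, or N_G(S) acts nontrivially on Ω₁(Z(S)) by conjugation. -/
theorem result {G : Type*} [Group G] [Finite G] (S : Sylow 2 G) : Cfsg.pResidual 2 G ≠ ⊤ ∨ Cfsg.omegaOne 2 ((S : Subgroup G) ⊓ Subgroup.centralizer ((S : Subgroup G) : Set G)) ≤ (frattini ↥(S : Subgroup G)).map (S : Subgroup G).subtype ∨ ∃ g ∈ Subgroup.normalizer ((S : Subgroup G) : Set G), ∃ z ∈ Cfsg.omegaOne 2 ((S : Subgroup G) ⊓ Subgroup.centralizer ((S : Subgroup G) : Set G)), g * z * g⁻¹ ≠ z := by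
  classical
  have hp2 : Fact (Nat.Prime 2) := ⟨Nat.prime_two⟩
  by_contra hcon
  push Not at hcon
  obtain ⟨h1, h2, h3⟩ := hcon
  -- a generator outside the Frattini subgroup
  have hex : ∃ z : G, (z ∈ (S : Subgroup G) ⊓ Subgroup.centralizer ((S : Subgroup G) : Set G) ∧ z ^ 2 = 1) ∧
      z ∉ (frattini ↥(S : Subgroup G)).map (S : Subgroup G).subtype := by
    by_contra hne
    push Not at hne
    apply h2
    unfold Cfsg.omegaOne
    rw [Subgroup.closure_le]
    intro z hz
    exact hne z hz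
  obtain ⟨z, ⟨hzZ, hz2⟩, hzF⟩ := hex
  have hzS : z ∈ (S : Subgroup G) := (Subgroup.mem_inf.mp hzZ).1
  have hzC : z ∈ Subgroup.centralizer ((S : Subgroup G) : Set G) := (Subgroup.mem_inf.mp hzZ).2
  have hzO : z ∈ Cfsg.omegaOne 2 ((S : Subgroup G) ⊓ Subgroup.centralizer ((S : Subgroup G) : Set G)) :=
    Subgroup.subset_closure ⟨hzZ, hz2⟩
  have hzF' : (⟨z, hzS⟩ : ↥(S : Subgroup G)) ∉ frattini ↥(S : Subgroup G) := by
    intro h
    exact hzF ⟨⟨z, hzS⟩, h, rfl⟩
  rw [Cfsg.Agent.Lib.Helper1.mem_frattini_iff] at hzF'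
  push Not at hzF'
  obtain ⟨M, hM, hzM⟩ := hzF'
  obtain ⟨hMn, hMi⟩ := Cfsg.Agent.Lib.Helper1.isCoatom_pgroup S.2 hM
  let ϕ : ↥(S : Subgroup G) →* ℤˣ :=
    { toFun := fun s => if s ∈ M then 1 else -1
      map_one' := by simp [M.one_mem]
      map_mul' := by
        intro a b
        have := Subgroup.mul_mem_iff_of_index_two hMi (a := a) (b := b)
        by_cases ha : a ∈ M <;> by_cases hb : b ∈ M <;> simp [ha, hb, this] }
  have hϕz : ϕ ⟨z, hzS⟩ = -1 := by
    change (if (⟨z, hzS⟩ : ↥(S : Subgroup G)) ∈ M then (1 : ℤˣ) else -1) = -1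
    rw [if_neg hzM]
  have hT : MonoidHom.transfer ϕ z = -1 := by
    apply Cfsg.Agent.Lib.Helper18.transfer_central_involution S z hzS hz2
    · intro s hs
      exact (Subgroup.mem_centralizer_iff.mp hzC s hs)
    · intro g hg h
      have h4 := h3 g⁻¹ (inv_mem hg) z hzO
      rw [inv_inv] at h4
      have : (⟨g⁻¹ * z * g, h⟩ : ↥(S : Subgroup G)) = ⟨z, hzS⟩ := Subtype.ext h4
      rw [this, hϕz]
  have hle : Cfsg.pResidual 2 G ≤ (MonoidHom.transfer ϕ).ker := by
    unfold Cfsg.pResidual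
    rw [Subgroup.closure_le]
    intro g hg
    have hg' : Nat.Coprime (orderOf g) 2 := hg
    change g ∈ (MonoidHom.transfer ϕ).ker
    rw [MonoidHom.mem_ker]
    rcases Int.units_eq_one_or (MonoidHom.transfer ϕ g) with h | h
    · exact h
    · exfalso
      have h5 : (MonoidHom.transfer ϕ g) ^ orderOf g = 1 := by
        rw [← map_pow, pow_orderOf_eq_one, map_one]
      rw [h] at h5
      have hodd : Odd (orderOf g) := (Nat.coprime_two_right).mp hg'
      rw [hodd.neg_one_pow] at h5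
      exact absurd h5 (by decide)
  rw [h1] at hle
  have : z ∈ (MonoidHom.transfer ϕ).ker := hle (Subgroup.mem_top z)
  rw [MonoidHom.mem_ker, hT] at this
  exact absurd this (by decide)

end Cfsg.Agent.S2872
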