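import Cfsg.Statements.S2874
import Mathlib

set_option autoImplicit false
open Cfsg

namespace Cfsg.Agent.S2874

open Matrix

variable {k : ℕ}

def hh (k : ℕ) : ZMod (2 ^ k) := 2 ^ (k - 1)

theorem two_pow_k : (2 : ZMod (2 ^ k)) ^ k = 0 := by
  have := ZMod.natCast_self (2 ^ k)
  push_cast at this
  exact this

theorem two_hh (hk : 2 ≤ k) : 2 * hh k = 0 := by
  rw [hh, ← pow_succ', show k - 1 + 1 = k by omega, two_pow_k]

theorem hh_sq (hk : 2 ≤ k) : hh k * hh k = 0 := by
  rw [hh, ← pow_add, show k - 1 + (k - 1) = k + (k - 2) by omega, pow_add, two_pow_k, zero_mul]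

theorem eq_zero_or_hh (hk : 2 ≤ k) (x : ZMod (2 ^ k)) (hx : 2 * x = 0) : x = 0 ∨ x = hh k := by
  haveI : NeZero (2 ^ k) := ⟨by positivity⟩
  obtain ⟨m, rfl⟩ : ∃ m, k = m + 1 := ⟨k - 1, by omega⟩
  have hv := ZMod.natCast_zmod_val x
  have hlt := ZMod.val_lt x
  set n := x.val with hn
  rw [← hv] at hx ⊢
  have h1 : ((2 * n : ℕ) : ZMod (2 ^ (m + 1))) = 0 := by push_cast; exact hx
  rw [ZMod.natCast_eq_zero_iff, pow_succ, mul_comm] at h1
  have h2 : 2 ^ m ∣ n := Nat.dvd_of_mul_dvd_mul_left (by norm_num) h1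
  obtain ⟨c, hc⟩ := h2
  have hc2 : c < 2 := by
    by_contra h
    have : 2 ^ m * 2 ≤ 2 ^ m * c := Nat.mul_le_mul_left _ (by omega)
    rw [pow_succ] at hlt
    omega
  interval_cases c
  · left; rw [hc]; simp
  · right; rw [hc, hh]; simp

theorem parity (x : ZMod (2 ^ k)) : (∃ y, x = 2 * y) ∨ ∃ y, x = 1 + 2 * y := by
  haveI : NeZero (2 ^ k) := ⟨by positivity⟩
  have hv := ZMod.natCast_zmod_val x
  rcases Nat.even_or_odd' x.val with ⟨m, hm | hm⟩
  · left; refine ⟨m, ?_⟩; rw [← hv, hm]; push_cast; ring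
  · right; refine ⟨m, ?_⟩; rw [← hv, hm]; push_cast; ring

theorem unit_odd (y : ZMod (2 ^ k)) : IsUnit (1 + 2 * y) := by
  apply IsNilpotent.isUnit_one_add
  exact ⟨k, by rw [mul_pow, two_pow_k, zero_mul]⟩

theorem unit_sq_add (z : ZMod (2 ^ k)) : IsUnit (z ^ 2 + z + 1) := by
  rcases parity z with ⟨y, rfl⟩ | ⟨y, rfl⟩
  · have := unit_odd (k := k) (2 * y ^ 2 + y)
    convert this using 1; ring
  · have := unit_odd (k := k) (1 + 3 * y + 2 * y ^ 2)
    convert this using 1; ring

theorem cube_root (z : ZMod (2 ^ k)) (hz : z ^ 3 = 1) : z = 1 := by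
  have h : (z ^ 2 + z + 1) * (z - 1) = 0 := by linear_combination hz
  have := (unit_sq_add z).mul_right_eq_zero.1 h
  exact sub_eq_zero.1 this

def Cm (k : ℕ) : Matrix (Fin 2) (Fin 2) (ZMod (2 ^ k)) := !![0, -1; 1, -1]
def Cm2 (k : ℕ) : Matrix (Fin 2) (Fin 2) (ZMod (2 ^ k)) := !![-1, 1; -1, 0]
def Am (q r : ZMod (2 ^ k)) : Matrix (Fin 2) (Fin 2) (ZMod (2 ^ k)) :=
  !![1 + q + r, q; r, 1 + q + r]

theorem Cm_mul : Cm k * Cm2 k = 1 := by
  ext i j; fin_cases i <;> fin_cases j <;> simp [Cm, Cm2]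

theorem Cm2_mul : Cm2 k * Cm k = 1 := by
  ext i j; fin_cases i <;> fin_cases j <;> simp [Cm, Cm2]

/-- solving for the involution -/
theorem solve_a (hk : 2 ≤ k) (a : Matrix (Fin 2) (Fin 2) (ZMod (2 ^ k))) (h1 : a * a = 1)
    (h2 : a * (Cm k * a * Cm2 k) = Cm2 k * a * Cm k) :
    ∃ q r, (q = 0 ∨ q = hh k) ∧ (r = 0 ∨ r = hh k) ∧ a = Am q r := by
  obtain ⟨p, q, r, s, rfl⟩ : ∃ p q r s, a = !![p, q; r, s] :=
    ⟨a 0 0, a 0 1, a 1 0, a 1 1, by ext i j; fin_cases i <;> fin_cases j <;> rfl⟩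
  have e00 : p * p + q * r = 1 := by simpa using congrFun (congrFun h1 0) 0
  have e01 : p * q + q * s = 0 := by simpa using congrFun (congrFun h1 0) 1
  have e10 : r * p + s * r = 0 := by simpa using congrFun (congrFun h1 1) 0
  have e11 : r * q + s * s = 1 := by simpa using congrFun (congrFun h1 1) 1
  have hd2 := congrArg Matrix.det h1
  have hd3 := congrArg Matrix.det h2
  simp only [Matrix.det_mul, Matrix.det_one] at hd2 hd3
  have dC : (Cm k).det = 1 := by simp [Cm, Matrix.det_fin_two]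
  have dC2 : (Cm2 k).det = 1 := by simp [Cm2, Matrix.det_fin_two]
  rw [dC, dC2] at hd3
  have hdet : p * s - q * r = 1 := by
    have e : (!![p, q; r, s] : Matrix (Fin 2) (Fin 2) (ZMod (2 ^ k))).det = p * s - q * r := by
      simp [Matrix.det_fin_two]
    rw [e] at hd2 hd3
    linear_combination hd2 - hd3
  have tq : 2 * q = 0 := by linear_combination p * e01 - q * e00 - q * hdet
  have tr : 2 * r = 0 := by linear_combination p * e10 - r * e00 - r * hdet
  have hq := eq_zero_or_hh hk q tq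
  have hr := eq_zero_or_hh hk r tr
  have hs2 := hh_sq hk
  have qr : q * r = 0 := by rcases hq with rfl | rfl <;> rcases hr with rfl | rfl <;> simp [hs2]
  have qq : q * q = 0 := by rcases hq with rfl | rfl <;> simp [hs2]
  have rr : r * r = 0 := by rcases hr with rfl | rfl <;> simp [hs2]
  have hsp : s = p := by linear_combination (-s) * e00 + p * hdet + (s + p) * qr
  subst hsp
  have f00 := congrFun (congrFun h2 0) 0
  simp [Cm, Cm2, Matrix.mul_apply, Fin.sum_univ_two] at f00
  have f01 := congrFun (congrFun h2 0) 1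
  simp [Cm, Cm2, Matrix.mul_apply, Fin.sum_univ_two] at f01
  have f10 := congrFun (congrFun h2 1) 0
  simp [Cm, Cm2, Matrix.mul_apply, Fin.sum_univ_two] at f10
  refine ⟨q, r, hq, hr, ?_⟩
  have hsq : s * q = q := by linear_combination -f10 + rr + s * tr
  have hsr : s * r = r := by linear_combination -f01 + hsq - qr
  have hs : s = 1 + q + r := by linear_combination -f00 + hsr + e00 - qq
  simp only [Am, ← hs]

theorem solve_x (x : Matrix (Fin 2) (Fin 2) (ZMod (2 ^ k))) (h3 : x * x * x = 1) (hne : x ≠ 1) :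
    IsUnit (x 1 0) ∧ x * !![1, x 0 0; 0, x 1 0] = !![1, x 0 0; 0, x 1 0] * Cm k := by
  obtain ⟨a, b, c, d, rfl⟩ : ∃ p q r s, x = !![p, q; r, s] :=
    ⟨x 0 0, x 0 1, x 1 0, x 1 1, by ext i j; fin_cases i <;> fin_cases j <;> rfl⟩
  have hd := congrArg Matrix.det h3
  simp only [Matrix.det_mul, Matrix.det_one] at hd
  have e : (!![a, b; c, d] : Matrix (Fin 2) (Fin 2) (ZMod (2 ^ k))).det = a * d - b * c := by
    simp [Matrix.det_fin_two]
  rw [e] at hd
  have hdet : a * d - b * c = 1 := cube_root _ (by linear_combination hd)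
  have g00 := congrFun (congrFun h3 0) 0
  have g01 := congrFun (congrFun h3 0) 1
  have g10 := congrFun (congrFun h3 1) 0
  have g11 := congrFun (congrFun h3 1) 1
  simp [Matrix.mul_apply, Fin.sum_univ_two] at g00 g01 g10 g11
  have E00 : (a + d + 1) * ((a + d - 1) * a - 1) = 0 := by
    linear_combination g00 + (2 * a + d) * hdet
  have E11 : (a + d + 1) * ((a + d - 1) * d - 1) = 0 := by
    linear_combination g11 + (2 * d + a) * hdet
  have E01 : (a + d + 1) * ((a + d - 1) * b) = 0 := by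
    linear_combination g01 + b * hdet
  have E10 : (a + d + 1) * ((a + d - 1) * c) = 0 := by
    linear_combination g10 + c * hdet
  have htau : a + d = -1 := by
    rcases parity (a + d) with ⟨y, hy⟩ | ⟨y, hy⟩
    · exfalso
      have hu : IsUnit (a + d + 1) := by
        have := unit_odd (k := k) y
        rw [hy]; convert this using 1; ring
      have F00 := hu.mul_right_eq_zero.1 E00
      have F11 := hu.mul_right_eq_zero.1 E11
      have F01 := hu.mul_right_eq_zero.1 E01
      have F10 := hu.mul_right_eq_zero.1 E10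
      have hb : b = 0 := by linear_combination a * F01 - b * F00
      have hc : c = 0 := by linear_combination a * F10 - c * F00
      have had : a = d := by linear_combination d * F00 - a * F11
      subst hb hc had
      have ha : a = 1 := cube_root a (by linear_combination g00)
      subst ha
      apply hne
      ext i j; fin_cases i <;> fin_cases j <;> simp
    · have hu : IsUnit ((a + d - 1) * a - 1) := by
        have := (unit_odd (k := k) (-(y * a))).neg
        rw [hy]; convert this using 1; ring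
      have := hu.mul_left_eq_zero.1 E00
      linear_combination this
  constructor
  · have hu : IsUnit (b * c) := by
      have := (unit_sq_add a).neg
      convert this using 1
      linear_combination (-1 : ZMod (2 ^ k)) * hdet + a * htau
    exact isUnit_of_mul_isUnit_right hu
  · ext i j
    fin_cases i <;> fin_cases j <;> simp [Cm, Matrix.mul_apply, Fin.sum_univ_two]
    · linear_combination (-1 : ZMod (2 ^ k)) * hdet + a * htau
    · linear_combination c * htau

abbrev Gam (k : ℕ) := GL (Fin 2) (ZMod (2 ^ k))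
abbrev A4 := ↥(alternatingGroup (Fin 4))

def a0 : A4 := ⟨Equiv.swap 0 1 * Equiv.swap 2 3, by rw [Equiv.Perm.mem_alternatingGroup]; decide⟩
def x0 : A4 := ⟨Equiv.swap 0 1 * Equiv.swap 1 2, by rw [Equiv.Perm.mem_alternatingGroup]; decide⟩

theorem rel_x : x0 * x0 * x0 = 1 := by decide
theorem rel_x1 : x0 ≠ 1 := by decide
theorem rel_a : a0 * a0 = 1 := by decide
theorem rel_a1 : a0 ≠ 1 := by decide
theorem rel_ax : a0 * (x0 * a0 * x0⁻¹) = x0⁻¹ * a0 * x0 := by decide
theorem gen_A4 : ∀ g : A4, ∃ i : Fin 3, ∃ j l : Fin 2,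
    g = x0 ^ (i : ℕ) * a0 ^ (j : ℕ) * (x0 * a0 * x0⁻¹) ^ (l : ℕ) := by decide

theorem closure_A4 : Subgroup.closure ({a0, x0} : Set A4) = ⊤ := by
  rw [eq_top_iff]
  intro g _
  obtain ⟨i, j, l, rfl⟩ := gen_A4 g
  have ha : a0 ∈ Subgroup.closure ({a0, x0} : Set A4) := Subgroup.subset_closure (by simp)
  have hx : x0 ∈ Subgroup.closure ({a0, x0} : Set A4) := Subgroup.subset_closure (by simp)
  exact mul_mem (mul_mem (pow_mem hx _) (pow_mem ha _))
    (pow_mem (mul_mem (mul_mem hx ha) (inv_mem hx)) _)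

def K0 (k : ℕ) : Subgroup (Gam k) :=
  Subgroup.closure {y : Gam k | y.1 = Cm k ∨ ∃ q r, (q = 0 ∨ q = hh k) ∧ (r = 0 ∨ r = hh k) ∧
    y.1 = Am q r}

theorem conj_Am (q r : ZMod (2 ^ k)) (hq : 2 * q = 0) (hr : 2 * r = 0) :
    Cm k * Am q r * Cm2 k = Am r (q + r) := by
  ext i j
  fin_cases i <;> fin_cases j <;> simp [Cm, Cm2, Am, Matrix.mul_apply, Fin.sum_univ_two]
  all_goals first
    | ring1
    | linear_combination hr
    | linear_combination (-1 : ZMod (2 ^ k)) * hr
    | linear_combination hq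
    | linear_combination (-1 : ZMod (2 ^ k)) * hq
    | linear_combination hq + hr
    | linear_combination (-1 : ZMod (2 ^ k)) * hq - hr
    | linear_combination hq - hr
    | linear_combination hr - hq

theorem main (hk : 2 ≤ k) (ψ : A4 →* Gam k) (hψ : Function.Injective ψ) :
    ∃ g : Gam k, ∀ y : Gam k, y ∈ ψ.range ↔ g⁻¹ * y * g ∈ K0 k := by
  set x := ψ x0 with hx
  set a := ψ a0 with ha
  have hx3 : x * x * x = 1 := by rw [hx, ← map_mul, ← map_mul, rel_x, map_one]
  have hx1 : x ≠ 1 := fun h => rel_x1 (hψ (by rw [← hx, h, map_one]))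
  have ha2 : a * a = 1 := by rw [ha, ← map_mul, rel_a, map_one]
  have ha1 : a ≠ 1 := fun h => rel_a1 (hψ (by rw [← ha, h, map_one]))
  have hax : a * (x * a * x⁻¹) = x⁻¹ * a * x := by
    rw [ha, hx, ← map_inv, ← map_mul, ← map_mul, ← map_mul, ← map_mul, ← map_mul, rel_ax]
  obtain ⟨hu, hg⟩ := solve_x x.1 (by
    have := congrArg Units.val hx3
    simpa using this) (fun h => hx1 (Units.ext h))
  have hdet : IsUnit (!![1, x.1 0 0; 0, x.1 1 0] : Matrix (Fin 2) (Fin 2) (ZMod (2 ^ k))).det := by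
    simpa [Matrix.det_fin_two] using hu
  obtain ⟨g, hgv⟩ := (Matrix.isUnit_iff_isUnit_det _).2 hdet
  -- conjugated elements
  obtain ⟨x', hx'⟩ : ∃ x', x' = g⁻¹ * x * g := ⟨_, rfl⟩
  obtain ⟨a', ha'⟩ : ∃ a', a' = g⁻¹ * a * g := ⟨_, rfl⟩
  have hx'C : x'.1 = Cm k := by
    have h1 : g * x' = x * g := by rw [hx']; group
    have h2 : g.1 * x'.1 = g.1 * Cm k := by
      have := congrArg Units.val h1
      rw [Units.val_mul, Units.val_mul, hgv, hg] at this
      rw [hgv]; exact this
    have hginv : (g⁻¹).1 * g.1 = 1 := by rw [← Units.val_mul, inv_mul_cancel]; rfl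
    calc x'.1 = ((g⁻¹).1 * g.1) * x'.1 := by rw [hginv, one_mul]
      _ = (g⁻¹).1 * (g.1 * x'.1) := mul_assoc _ _ _
      _ = (g⁻¹).1 * (g.1 * Cm k) := by rw [h2]
      _ = Cm k := by rw [← mul_assoc, hginv, one_mul]
  have hx'inv : (x'⁻¹).1 = Cm2 k := by
    have h1 : x'.1 * (x'⁻¹).1 = 1 := by rw [← Units.val_mul, mul_inv_cancel]; rfl
    rw [hx'C] at h1
    calc (x'⁻¹).1 = (Cm2 k * Cm k) * (x'⁻¹).1 := by rw [Cm2_mul, one_mul]
      _ = Cm2 k := by rw [mul_assoc, h1, mul_one]
  have ha'2 : a' * a' = 1 := by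
    calc a' * a' = g⁻¹ * (a * a) * g := by rw [ha']; group
      _ = 1 := by rw [ha2]; group
  have ha'1 : a' ≠ 1 := by
    intro h
    apply ha1
    calc a = g * a' * g⁻¹ := by rw [ha']; group
      _ = 1 := by rw [h]; group
  have ha'x : a' * (x' * a' * x'⁻¹) = x'⁻¹ * a' * x' := by
    calc a' * (x' * a' * x'⁻¹) = g⁻¹ * (a * (x * a * x⁻¹)) * g := by rw [ha', hx']; group
      _ = g⁻¹ * (x⁻¹ * a * x) * g := by rw [hax]
      _ = x'⁻¹ * a' * x' := by rw [ha', hx']; group
  obtain ⟨q, r, hq, hr, haq⟩ := solve_a hk a'.1 (by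
      have := congrArg Units.val ha'2
      simpa using this) (by
      have := congrArg Units.val ha'x
      simp only [Units.val_mul, hx'C, hx'inv] at this
      exact this)
  have hhh : hh k + hh k = 0 := by have := two_hh hk; linear_combination this
  have t0 : ∀ z, (z = 0 ∨ z = hh k) → 2 * z = 0 := by
    rintro z (rfl | rfl)
    · simp
    · exact two_hh hk
  have hb' : (x' * a' * x'⁻¹).1 = Am r (q + r) := by
    rw [Units.val_mul, Units.val_mul, hx'C, hx'inv, haq, conj_Am q r (t0 q hq) (t0 r hr)]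
  have hc' : (x' * (x' * a' * x'⁻¹) * x'⁻¹).1 = Am (q + r) (r + (q + r)) := by
    rw [Units.val_mul, Units.val_mul, hx'C, hx'inv, hb',
      conj_Am _ _ (t0 r hr) (by linear_combination t0 q hq + t0 r hr)]
  have Am0 : Am (0 : ZMod (2 ^ k)) 0 = 1 := by
    ext i j; fin_cases i <;> fin_cases j <;> simp [Am]
  have hK : Subgroup.closure ({a', x'} : Set (Gam k)) = K0 k := by
    apply le_antisymm
    · rw [Subgroup.closure_le]
      rintro y (rfl | rfl)
      · exact Subgroup.subset_closure (Or.inr ⟨q, r, hq, hr, haq⟩)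
      · exact Subgroup.subset_closure (Or.inl hx'C)
    · rw [K0, Subgroup.closure_le]
      have ma : a' ∈ Subgroup.closure ({a', x'} : Set (Gam k)) :=
        Subgroup.subset_closure (by simp)
      have mx : x' ∈ Subgroup.closure ({a', x'} : Set (Gam k)) :=
        Subgroup.subset_closure (by simp)
      have mb := mul_mem (mul_mem mx ma) (inv_mem mx)
      have mc := mul_mem (mul_mem mx mb) (inv_mem mx)
      have key : ∀ z ∈ Subgroup.closure ({a', x'} : Set (Gam k)), ∀ y : Gam k, y.1 = z.1 →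
          y ∈ Subgroup.closure ({a', x'} : Set (Gam k)) :=
        fun z hz y h => (Units.ext h : y = z) ▸ hz
      rintro y (hy | ⟨q', r', hq', hr', hy⟩)
      · exact key x' mx y (by rw [hy, hx'C])
      · have hne : ¬ (q = 0 ∧ r = 0) := by
          rintro ⟨rfl, rfl⟩
          exact ha'1 (Units.ext (by rw [haq, Am0]; rfl))
        rcases hq with rfl | rfl <;> rcases hr with rfl | rfl <;>
          rcases hq' with rfl | rfl <;> rcases hr' with rfl | rfl <;>
          first
            | exact absurd ⟨rfl, rfl⟩ hne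
            | (refine key 1 (one_mem _) y ?_; rw [hy, Am0]; rfl)
            | (refine key _ ma y ?_; rw [hy, haq]; done)
            | (refine key _ mb y ?_; rw [hy, hb']; (try simp [hhh]); done)
            | (refine key _ mc y ?_; rw [hy, hc']; (try simp [hhh]); done)
  have hrange : ψ.range = Subgroup.closure ({a, x} : Set (Gam k)) := by
    rw [MonoidHom.range_eq_map, ← closure_A4, MonoidHom.map_closure, Set.image_pair]
  refine ⟨g, fun y => ?_⟩
  rw [← hK, hrange]
  have hmap : Subgroup.closure ({a', x'} : Set (Gam k))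
      = (Subgroup.closure ({a, x} : Set (Gam k))).map (MulAut.conj g⁻¹).toMonoidHom := by
    rw [MonoidHom.map_closure, Set.image_pair]
    simp [ha', hx']
  rw [hmap]
  have := Subgroup.mem_map_iff_mem (f := (MulAut.conj g⁻¹).toMonoidHom)
    (MulAut.conj g⁻¹).injective (K := Subgroup.closure ({a, x} : Set (Gam k))) (x := y)
  rw [← this]
  simp

/-- For k ≥ 2, any two subgroups of GL₂(ℤ/2ᵏℤ) (the automorphism group of the homocyclic group ℤ/2ᵏ × ℤ/2ᵏ) that are isomorphic to the alternating group of degree 4 are conjugate. -/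
theorem result (k : ℕ) (hk : 2 ≤ k) (H₁ H₂ : Subgroup (GL (Fin 2) (ZMod (2 ^ k)))) (h₁ : Nonempty (↥H₁ ≃* ↥(alternatingGroup (Fin 4)))) (h₂ : Nonempty (↥H₂ ≃* ↥(alternatingGroup (Fin 4)))) : ∃ g : GL (Fin 2) (ZMod (2 ^ k)), H₂ = H₁.map (MulAut.conj g).toMonoidHom := by
  obtain ⟨e₁⟩ := h₁
  obtain ⟨e₂⟩ := h₂
  have rng : ∀ (H : Subgroup (Gam k)) (e : ↥H ≃* A4) (y : Gam k),
      y ∈ (H.subtype.comp e.symm.toMonoidHom).range ↔ y ∈ H := by
    intro H e y
    constructor
    · rintro ⟨z, rfl⟩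
      exact (e.symm z).2
    · intro hy
      exact ⟨e ⟨y, hy⟩, by simp⟩
  obtain ⟨g₁, hg₁⟩ := main hk (H₁.subtype.comp e₁.symm.toMonoidHom)
    (H₁.subtype_injective.comp e₁.symm.injective)
  obtain ⟨g₂, hg₂⟩ := main hk (H₂.subtype.comp e₂.symm.toMonoidHom)
    (H₂.subtype_injective.comp e₂.symm.injective)
  refine ⟨g₂ * g₁⁻¹, ?_⟩
  ext y
  rw [Subgroup.mem_map_equiv, ← rng H₂ e₂, hg₂, ← rng H₁ e₁, hg₁]
  have : g₁⁻¹ * ((MulAut.conj (g₂ * g₁⁻¹)).symm y) * g₁ = g₂⁻¹ * y * g₂ := by
    rw [MulAut.conj_symm_apply]; group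
  rw [this]

end Cfsg.Agent.S2874
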