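import Cfsg.Statements.S2881
import Cfsg.Agent.Lib.Helper19.ESF

set_option autoImplicit false
open Cfsg

namespace Cfsg.Agent.S2881

/-- Let E be an extraspecial 2-group of order 2^(2m+1) of plus type (containing an elementary abelian subgroup of order 2^(m+1)), and let ω be an automorphism of E of order 5 whose fixed points are exactly the centre of E. Then m is divisible by 4. -/
theorem result {E : Type*} [Group E] [Finite E] (m : ℕ) (hm : 1 ≤ m) (hE : Cfsg.IsExtraspecial 2 E) (hcard : Nat.card E = 2 ^ (2 * m + 1)) (hplus : ∃ A : Subgroup E, Cfsg.IsElementaryAbelian 2 A ∧ Nat.card A = 2 ^ (m + 1)) (ω : E ≃* E) (hω : orderOf ω = 5) (hfix : ∀ x : E, ω x = x ↔ x ∈ Subgroup.center E) : 4 ∣ m := by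
  classical
  haveI := Fintype.ofFinite E
  haveI : Fact (Nat.Prime 2) := ⟨Nat.prime_two⟩
  haveI : Fact (Nat.Prime 5) := ⟨by norm_num⟩
  have hcount := Cfsg.Agent.Lib.Helper19.ES.order4_count hE m hcard hplus
  obtain ⟨z, h⟩ := Cfsg.Agent.Lib.Helper19.ES.IsES.of_extraspecial hE
  let f : Function.End {x : E // orderOf x = 4} := fun x => ⟨ω x.1, by rw [MulEquiv.orderOf_eq]; exact x.2⟩
  have hfpow : ∀ (n : ℕ) (x : {x : E // orderOf x = 4}), ((f ^ n) x).1 = (ω ^ n) x.1 := by
    intro n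
    induction n with
    | zero => intro x; rw [pow_zero, pow_zero]; rfl
    | succ k ih =>
      intro x
      rw [pow_succ', pow_succ']
      show ω ((f ^ k) x).1 = ω ((ω ^ k) x.1)
      rw [ih]
  have hf5 : f ^ 5 ^ 1 = 1 := by
    funext x
    apply Subtype.ext
    rw [pow_one, hfpow, ← hω, pow_orderOf_eq_one]
    rfl
  have hmod := Equiv.Perm.card_fixedPoints_modEq (p := 5) (n := 1) hf5
  have hfix0 : Fintype.card (Function.fixedPoints f) = 0 := by
    rw [Fintype.card_eq_zero_iff]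
    constructor
    rintro ⟨x, hx⟩
    have h1 : ω x.1 = x.1 := congrArg Subtype.val hx
    have h2 := (hfix _).1 h1
    rw [h.center_eq] at h2
    have h3 := (h.mem2 _).1 h2
    have h4 := (Cfsg.Agent.Lib.Helper19.ES.orderOf_four_iff hE x.1).1 x.2
    rcases h3 with h3 | h3
    · exact h4 (by rw [h3, one_pow])
    · exact h4 (by rw [h3, ← h.ord, pow_orderOf_eq_one])
  rw [hfix0, ← Nat.card_eq_fintype_card, hcount] at hmod
  have h5 : 5 ∣ 2 ^ (2 * m) - 2 ^ m := (Nat.modEq_zero_iff_dvd).1 hmod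
  have h6 : 2 ^ (2 * m) - 2 ^ m = 2 ^ m * (2 ^ m - 1) := by
    rw [Nat.mul_sub, mul_one, two_mul, pow_add]
  rw [h6] at h5
  have h7 : 5 ∣ 2 ^ m - 1 := by
    apply Nat.Coprime.dvd_of_dvd_mul_left _ h5
    exact Nat.Coprime.pow_right _ (by norm_num)
  have h8 : 2 ^ m % 5 = 2 ^ (m % 4) % 5 := by
    conv_lhs => rw [← Nat.div_add_mod m 4, pow_add, pow_mul]
    rw [Nat.mul_mod, Nat.pow_mod]
    norm_num
  have h9 : 0 < 2 ^ m := by positivity
  have h10 : 2 ^ m % 5 = 1 := by omega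
  rw [h8] at h10
  have h11 : m % 4 < 4 := Nat.mod_lt _ (by norm_num)
  have h12 : m % 4 = 0 := by
    interval_cases (m % 4) <;> simp_all
  omega

end Cfsg.Agent.S2881
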