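import Cfsg.Statements.S2882
import Cfsg.Agent.Lib.Helper28.SylM24

set_option autoImplicit false
open Cfsg

namespace Cfsg.Agent.S2882

/-- In the Mathieu group of degree 24 (realised as the automorphism group of the extended binary Golay code) every Sylow 2-subgroup is self-normalizing. -/
theorem result (S : Sylow 2 ↥Cfsg.M24) : Subgroup.normalizer ((S : Subgroup ↥Cfsg.M24) : Set ↥Cfsg.M24) = (S : Subgroup ↥Cfsg.M24) := by
  open Cfsg.Agent.Lib.Helper28 in
  exact sylow_self_normalizing Cfsg.M24 inM24P_spec pc24 239085 pc24_ok pc24_in good24_0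
    (by rw [card_M24]; rfl) (by norm_num) S

end Cfsg.Agent.S2882
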