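import Mathlib
import Cfsg.Agent.Lib.Helper18.Transfer
import Cfsg.Statements.S3309

namespace Cfsg.Agent.S3309

open Cfsg.Agent.Lib.Helper18

abbrev P := Multiplicative (ZMod 2) × DihedralGroup 4

def sgn : Multiplicative (ZMod 2) →* ℤˣ :=
  MonoidHom.mk' (fun a => if a = 1 then 1 else -1) (by decide)

def ψ : P →* ℤˣ := sgn.comp (MonoidHom.fst _ _)

def c0 : P := (Multiplicative.ofAdd 1, 1)

theorem c0_sq : c0 ^ 2 = 1 := by decide

theorem c0_central : ∀ y : P, y * c0 = c0 * y := by decide

theorem c0_not_sq : ∀ y : P, y * y ≠ c0 := by decide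

theorem key : ∀ x : P, (∀ y, y * x = x * y) → x ≠ 1 → (∀ y, y * y ≠ x) → ψ x = -1 := by
  decide

/-- A finite group whose Sylow 2-subgroups are isomorphic to the direct product of a group of order 2 and the dihedral group of order 8 is not a non-abelian simple group. -/
theorem result {G : Type*} [Group G] [Finite G] (S : Sylow 2 G) (hS : Nonempty (↥(S : Subgroup G) ≃* Multiplicative (ZMod 2) × DihedralGroup 4))
    [IsSimpleGroup G] (hG : ¬ IsMulCommutative G) : False := by
  obtain ⟨e⟩ := hS
  let c : (S : Subgroup G) := e.symm c0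
  let ϕ : (S : Subgroup G) →* ℤˣ := ψ.comp e.toMonoidHom
  have hcZ : ∀ s ∈ (S : Subgroup G), s * (c : G) = c * s := by
    intro s hs
    have : (⟨s, hs⟩ : (S : Subgroup G)) * c = c * ⟨s, hs⟩ := by
      apply e.injective
      rw [map_mul, map_mul, e.apply_symm_apply]
      exact c0_central _
    exact congrArg Subtype.val this
  have hT : MonoidHom.transfer ϕ (c : G) = -1 := by
    apply transfer_central_involution S c c.2
    · have : c ^ 2 = 1 := by rw [← map_pow, c0_sq, map_one]
      exact_mod_cast congrArg Subtype.val this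
    · exact hcZ
    · intro g hg h
      have hnorm := Subgroup.mem_normalizer_iff.mp hg
      show ψ (e ⟨g⁻¹ * c * g, h⟩) = -1
      apply key
      · intro y
        obtain ⟨s, rfl⟩ := e.surjective y
        rw [← map_mul, ← map_mul]
        congr 1
        apply Subtype.ext
        show (s : G) * (g⁻¹ * c * g) = g⁻¹ * c * g * s
        have hs' : g * s * g⁻¹ ∈ (S : Subgroup G) := (hnorm s).mp s.2
        have h1 := hcZ _ hs'
        calc (s : G) * (g⁻¹ * c * g) = g⁻¹ * (g * s * g⁻¹ * c) * g := by group
          _ = g⁻¹ * (c * (g * s * g⁻¹)) * g := by rw [h1]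
          _ = _ := by group
      · intro h1
        have h2 : (⟨g⁻¹ * c * g, h⟩ : (S : Subgroup G)) = 1 := by
          apply e.injective; rw [h1, map_one]
        have h3 : g⁻¹ * (c : G) * g = 1 := congrArg Subtype.val h2
        have h4 : (c : G) = 1 := by
          have : (c : G) = g * (g⁻¹ * c * g) * g⁻¹ := by group
          rw [this, h3]; group
        have h5 : c = 1 := Subtype.ext h4
        have h6 : c0 = 1 := by
          have := congrArg e h5
          rwa [e.apply_symm_apply, map_one] at this
        exact absurd h6 (by decide)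
      · intro y hy
        obtain ⟨s, rfl⟩ := e.surjective y
        rw [← map_mul] at hy
        have h2 := e.injective hy
        have h3 : (s : G) * s = g⁻¹ * c * g := congrArg Subtype.val h2
        have hs' : g * s * g⁻¹ ∈ (S : Subgroup G) := (hnorm s).mp s.2
        have h4 : (⟨g * s * g⁻¹, hs'⟩ : (S : Subgroup G)) * ⟨g * s * g⁻¹, hs'⟩ = c := by
          apply Subtype.ext
          show g * s * g⁻¹ * (g * s * g⁻¹) = c
          calc g * s * g⁻¹ * (g * s * g⁻¹) = g * ((s : G) * s) * g⁻¹ := by group
            _ = _ := by rw [h3]; group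
        have h5 := congrArg e h4
        rw [map_mul, e.apply_symm_apply] at h5
        exact c0_not_sq _ h5
  have hidx := index_ker_of_apply_eq_neg_one _ _ hT
  rcases (MonoidHom.normal_ker (MonoidHom.transfer ϕ)).eq_bot_or_eq_top with h | h
  · rw [h, Subgroup.index_bot] at hidx
    have h1 : Nat.card (S : Subgroup G) = 16 := by
      rw [Nat.card_congr e.toEquiv]
      simp [Nat.card_eq_fintype_card, DihedralGroup.card]
    have h2 := Subgroup.card_subgroup_dvd_card (S : Subgroup G)
    rw [h1, hidx] at h2
    omega
  · rw [h, Subgroup.index_top] at hidx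
    omega

end Cfsg.Agent.S3309
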