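import Cfsg.Statements.S2968
import Cfsg.Agent.Lib.Helper17.Basic

set_option autoImplicit false
open Cfsg

namespace Cfsg.Agent.S2968

open Cfsg.Agent.Lib.Helper17

/-- Let G be a finite group, p a prime, P a Sylow p-subgroup of G and x ∈ P an element of p-power order which is isolated in G (the only conjugate of x commuting with x is x itself). Then x lies in the centre of P, and the subgroup generated by x is both strongly closed and weakly closed in P with respect to G. -/
theorem result {G : Type*} [Group G] [Finite G] {p : ℕ} [Fact p.Prime] (P : Sylow p G) (x : G) (hxP : x ∈ (P : Subgroup G)) (hx : ∃ k : ℕ, orderOf x = p ^ k) (hiso : Cfsg.IsIsolated x) : x ∈ (P : Subgroup G) ⊓ Subgroup.centralizer ((P : Subgroup G) : Set G) ∧ Cfsg.IsStronglyClosed (Subgroup.zpowers x) (P : Subgroup G) ∧ Cfsg.IsWeaklyClosed (Subgroup.zpowers x) (P : Subgroup G) := by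
  have hc := isolated_comm_of_pGroup hiso P.2 hxP
  have hle : Subgroup.zpowers x ≤ (P : Subgroup G) := by
    rw [Subgroup.zpowers_le]; exact hxP
  refine ⟨⟨hxP, ?_⟩, ⟨hle, ?_⟩, ⟨hle, ?_⟩⟩
  · show x ∈ Subgroup.centralizer ((P : Subgroup G) : Set G)
    rw [Subgroup.mem_centralizer_iff]
    intro y hy
    exact hc y hy
  · intro y hy g hg
    -- H = C_G(g y g⁻¹)
    obtain ⟨k, rfl⟩ := Subgroup.mem_zpowers_iff.mp hy
    have h1 : x ∈ Subgroup.centralizer ({g * x ^ k * g⁻¹} : Set G) := by
      rw [Subgroup.mem_centralizer_singleton_iff]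
      exact (hc _ hg).symm
    have h2 : g * x * g⁻¹ ∈ Subgroup.centralizer ({g * x ^ k * g⁻¹} : Set G) := by
      rw [Subgroup.mem_centralizer_singleton_iff]
      have : x * x ^ k = x ^ k * x := (Commute.self_zpow x k)
      calc g * x * g⁻¹ * (g * x ^ k * g⁻¹) = g * (x * x ^ k) * g⁻¹ := by group
        _ = g * (x ^ k * x) * g⁻¹ := by rw [this]
        _ = _ := by group
    obtain ⟨c, hcC, hcx⟩ := isolated_conj_in_subgroup hx hiso _ h1 g h2
    rw [Subgroup.mem_centralizer_singleton_iff] at hcC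
    have h3 : c * (g * x ^ k * g⁻¹) * c⁻¹ = x ^ k := by
      have : c * (g * x ^ k * g⁻¹) * c⁻¹ = (c * (g * x * g⁻¹) * c⁻¹) ^ k := by
        rw [conj_zpow, conj_zpow]
      rw [this, hcx]
    have h4 : g * x ^ k * g⁻¹ = x ^ k := by
      calc g * x ^ k * g⁻¹ = (g * x ^ k * g⁻¹ * c) * c⁻¹ := by rw [mul_inv_cancel_right]
        _ = x ^ k := by rw [← hcC, h3]
    rw [h4]
    exact hy
  · intro g hg
    have h1 : g * x * g⁻¹ ∈ (P : Subgroup G) := hg (conj_mem_map_conj_iff.mpr (Subgroup.mem_zpowers x))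
    have h2 : g * x * g⁻¹ = x := hiso g (hc _ h1).symm
    rw [MonoidHom.map_zpowers]
    congr 1

end Cfsg.Agent.S2968
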