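import Cfsg.Statements.S2970
import Cfsg.Agent.Lib.Helper17.Basic

set_option autoImplicit false
open Cfsg

namespace Cfsg.Agent.S2970

open Cfsg.Agent.Lib.Helper17

/-- Let G be a finite group, p a prime and x ∈ G an element of p-power order which is isolated in G. Then the image of x in any quotient G ⧸ N is isolated in G ⧸ N; and if x ≠ 1 and the Sylow p-subgroups of G are cyclic, then G has a normal p-complement. -/
theorem result {G : Type*} [Group G] [Finite G] {p : ℕ} [Fact p.Prime] (x : G) (hx : ∃ k : ℕ, orderOf x = p ^ k) (hiso : Cfsg.IsIsolated x) : (∀ (N : Subgroup G) [N.Normal], Cfsg.IsIsolated (QuotientGroup.mk x : G ⧸ N)) ∧ (x ≠ 1 → (∀ P : Sylow p G, IsCyclic ↥(P : Subgroup G)) → Cfsg.HasNormalPComplement p G) := by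
  constructor
  · intro N _ g' hcomm
    obtain ⟨g, rfl⟩ := QuotientGroup.mk_surjective g'
    set y : G ⧸ N := (g : G ⧸ N) * (x : G ⧸ N) * (g : G ⧸ N)⁻¹ with hy
    set H := (Subgroup.centralizer ({y} : Set (G ⧸ N))).comap (QuotientGroup.mk' N) with hH
    have hxH : x ∈ H := by
      rw [hH, Subgroup.mem_comap, Subgroup.mem_centralizer_singleton_iff]
      exact hcomm
    have hgH : g * x * g⁻¹ ∈ H := by
      rw [hH, Subgroup.mem_comap, Subgroup.mem_centralizer_singleton_iff]
      simp [hy]
    obtain ⟨h, hh, hhx⟩ := isolated_conj_in_subgroup hx hiso H hxH g hgH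
    rw [hH, Subgroup.mem_comap, Subgroup.mem_centralizer_singleton_iff] at hh
    have h1 : (QuotientGroup.mk' N h) * y * (QuotientGroup.mk' N h)⁻¹ = (x : G ⧸ N) := by
      have := congrArg (QuotientGroup.mk' N) hhx
      simpa [hy] using this
    rw [hh, mul_inv_cancel_right] at h1
    exact h1
  · intro hx1 hcyc
    obtain ⟨k0, hk0⟩ := hx
    have hpx : IsPGroup p ↥(Subgroup.zpowers x) := by
      apply isPGroup_zpowers_of_pow_eq_one (e := k0)
      rw [← hk0]; exact pow_orderOf_eq_one x
    obtain ⟨P, hP⟩ := hpx.exists_le_sylow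
    have hxP : x ∈ (P : Subgroup G) := hP (Subgroup.mem_zpowers x)
    have hcP := hcyc P
    obtain ⟨a, ha⟩ := hcP.exists_generator
    obtain ⟨n, hn⟩ := IsPGroup.iff_card.mp P.2
    have hoa : orderOf (a : G) = p ^ n := by
      rw [Subgroup.orderOf_coe, orderOf_eq_card_of_forall_mem_zpowers ha, hn]
    have hcommP : ∀ u ∈ (P : Subgroup G), ∀ v ∈ (P : Subgroup G), u * v = v * u := by
      intro u hu v hv
      obtain ⟨i, hi⟩ := Subgroup.mem_zpowers_iff.mp (ha ⟨u, hu⟩)
      obtain ⟨j, hj⟩ := Subgroup.mem_zpowers_iff.mp (ha ⟨v, hv⟩)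
      have hi' : (a : G) ^ i = u := by simpa using congrArg Subtype.val hi
      have hj' : (a : G) ^ j = v := by simpa using congrArg Subtype.val hj
      rw [← hi', ← hj', ← zpow_add, ← zpow_add, add_comm]
    have hNC : Subgroup.normalizer ((P : Subgroup G) : Set G) ≤ Subgroup.centralizer ((P : Subgroup G) : Set G) := by
      intro g hg
      -- it suffices that g commutes with a
      have key : ∀ c : G, c * (a : G) = (a : G) * c → c ∈ Subgroup.centralizer ((P : Subgroup G) : Set G) := by
        intro c hc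
        rw [Subgroup.mem_centralizer_iff]
        intro u hu
        obtain ⟨i, hi⟩ := Subgroup.mem_zpowers_iff.mp (ha ⟨u, hu⟩)
        have hi' : (a : G) ^ i = u := by simpa using congrArg Subtype.val hi
        rw [← hi']
        exact ((Commute.zpow_right (show Commute c (a : G) from hc) i)).symm
      have hga : g * (a : G) * g⁻¹ ∈ (P : Subgroup G) := (Subgroup.mem_normalizer_iff.mp hg a).mp a.2
      obtain ⟨k, hk⟩ := Subgroup.mem_zpowers_iff.mp (ha ⟨_, hga⟩)
      have hk' : (a : G) ^ k = g * (a : G) * g⁻¹ := by simpa using congrArg Subtype.val hk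
      obtain ⟨j, hj⟩ := Subgroup.mem_zpowers_iff.mp (ha ⟨x, hxP⟩)
      have hj' : (a : G) ^ j = x := by simpa using congrArg Subtype.val hj
      have hgx : g * x * g⁻¹ = x := by
        have h1 : g * x * g⁻¹ ∈ (P : Subgroup G) := (Subgroup.mem_normalizer_iff.mp hg x).mp hxP
        exact hiso g (hcommP _ hxP _ h1)
      have h1 : (a : G) ^ ((k - 1) * j) = 1 := by
        have : (a : G) ^ (k * j) = (a : G) ^ j := by
          rw [zpow_mul, hk', conj_zpow, hj', hgx]
        rw [sub_mul, one_mul, zpow_sub, this, mul_inv_cancel]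
      have h2 : ((p ^ n : ℕ) : ℤ) ∣ (k - 1) * j := by
        rw [← hoa]; exact orderOf_dvd_iff_zpow_eq_one.mpr h1
      have h3 : ¬ ((p ^ n : ℕ) : ℤ) ∣ j := by
        intro hd
        apply hx1
        rw [← hj']
        rw [← hoa] at hd
        exact orderOf_dvd_iff_zpow_eq_one.mp hd
      have hpp : Prime (p : ℤ) := Nat.prime_iff_prime_int.mp (Fact.out)
      have h4 : (p : ℤ) ∣ k - 1 := by
        by_contra hnd
        apply h3
        have hco : IsCoprime ((p ^ n : ℕ) : ℤ) (k - 1) := by
          push_cast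
          exact IsCoprime.pow_left ((Prime.coprime_iff_not_dvd hpp).mpr hnd)
        exact hco.dvd_of_dvd_mul_left h2
      have h5 : ∀ m : ℕ, g ^ m * (a : G) * (g ^ m)⁻¹ = (a : G) ^ (k ^ m) := by
        intro m
        induction m with
        | zero => simp
        | succ m ih =>
          calc g ^ (m + 1) * (a : G) * (g ^ (m + 1))⁻¹ = g * (g ^ m * (a : G) * (g ^ m)⁻¹) * g⁻¹ := by
                rw [pow_succ']; group
            _ = g * ((a : G) ^ (k ^ m)) * g⁻¹ := by rw [ih]
            _ = (g * (a : G) * g⁻¹) ^ (k ^ m) := by rw [conj_zpow]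
            _ = (a : G) ^ (k ^ (m + 1)) := by rw [← hk', ← zpow_mul, pow_succ']
      have h6 : ((p : ℤ) ^ (n + 1)) ∣ k ^ p ^ n - 1 ^ p ^ n := dvd_sub_pow_of_dvd_sub h4 n
      have h7 : (a : G) ^ (k ^ p ^ n) = (a : G) := by
        have : (a : G) ^ (k ^ p ^ n - 1) = 1 := by
          apply orderOf_dvd_iff_zpow_eq_one.mp
          rw [hoa]
          rw [one_pow] at h6
          refine dvd_trans ?_ h6
          push_cast
          exact pow_dvd_pow _ (Nat.le_succ n)
        rw [zpow_sub, zpow_one, mul_inv_eq_one] at this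
        exact this
      have h8 : g ^ (p ^ n) ∈ Subgroup.centralizer ((P : Subgroup G) : Set G) := by
        apply key
        have := h5 (p ^ n)
        rw [h7] at this
        calc g ^ p ^ n * (a : G) = (g ^ p ^ n * (a : G) * (g ^ p ^ n)⁻¹) * g ^ p ^ n := by group
          _ = (a : G) * g ^ p ^ n := by rw [this]
      obtain ⟨e, m, hm, hem⟩ := Nat.exists_eq_pow_mul_and_not_dvd (orderOf_pos g).ne' p (Fact.out : p.Prime).ne_one
      have h9 : g ^ m ∈ (P : Subgroup G) := by
        apply mem_sylow_of_pElement_normalizer P (e := e)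
        · rw [← pow_mul, mul_comm, ← hem, pow_orderOf_eq_one]
        · exact Subgroup.pow_mem _ hg m
      have h10 : g ^ m ∈ Subgroup.centralizer ((P : Subgroup G) : Set G) := by
        apply key
        exact hcommP _ h9 _ a.2
      have hco : (p ^ n).Coprime m := Nat.Coprime.pow_left n ((Nat.Prime.coprime_iff_not_dvd Fact.out).mpr hm)
      exact mem_of_pow_mem_of_coprime _ hco h8 h10
    exact ⟨P, (MonoidHom.transferSylow P hNC).ker, inferInstance, MonoidHom.ker_transferSylow_isComplement' P hNC⟩

end Cfsg.Agent.S2970
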