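import Cfsg.Statements.S2971
import Cfsg.Agent.Lib.Helper17.RankOne
import Cfsg.Agent.Lib.Helper17.Cores
import Cfsg.Agent.S2970

set_option autoImplicit false
open Cfsg

namespace Cfsg.Agent.S2971

open Cfsg.Agent.Lib.Helper17

/-- Let G be a finite group and p an odd prime such that G has p-rank at most 1 (no elementary abelian subgroup of order p²). If x ∈ G is an isolated element of order p, then x is central modulo the largest normal subgroup of G of order prime to p. -/
theorem result {G : Type*} [Group G] [Finite G] {p : ℕ} [Fact p.Prime] (hp : p ≠ 2) (hrk : Cfsg.PRankLE p 1 G) (x : G) (hx : orderOf x = p) (hiso : Cfsg.IsIsolated x) : Cfsg.InZStar p x := by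
  have hpp : p.Prime := Fact.out
  have hx1 : x ≠ 1 := by
    rintro rfl
    rw [orderOf_one] at hx
    exact hpp.one_lt.ne hx
  have hcyc : ∀ P : Sylow p G, IsCyclic ↥(P : Subgroup G) := fun P =>
    cyclic_of_pRankLE_one hp P.2 (pRankLE_subgroup hrk _)
  obtain ⟨P, N, hN, hc⟩ := (Cfsg.Agent.S2970.result x ⟨1, by rw [pow_one]; exact hx⟩ hiso).2 hx1 hcyc
  have hcP := hcyc P
  have h1 : commutator G ≤ N :=
    Subgroup.Normal.commutator_le_of_self_sup_commutative_eq_top hc.sup_eq_top inferInstance
  have h2 : N ≤ Cfsg.pPrimeCore p G := by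
    apply le_pPrimeCore hN
    have h3 : Nat.card N = (P : Subgroup G).index := by
      have h4 := hc.card_mul_card
      have h5 := (P : Subgroup G).card_mul_index
      have h6 : Nat.card ↥(P : Subgroup G) * Nat.card N =
          Nat.card ↥(P : Subgroup G) * (P : Subgroup G).index := by rw [h5, ← h4, mul_comm]
      exact Nat.eq_of_mul_eq_mul_left Nat.card_pos h6
    rw [h3]
    exact ((Nat.Prime.coprime_iff_not_dvd hpp).mpr P.not_dvd_index).symm
  intro g
  apply h2
  apply h1
  rw [commutator_def]
  exact Subgroup.commutator_mem_commutator (Subgroup.mem_top g) (Subgroup.mem_top x)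

end Cfsg.Agent.S2971
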