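import Cfsg.Statements.S2972
import Cfsg.Agent.Lib.Helper17.ZpStar

set_option autoImplicit false
open Cfsg

namespace Cfsg.Agent.S2972

open Cfsg.Agent.Lib.Helper17

/-- Let G be a finite group, p a prime and x ∈ G an isolated element of order p (the only conjugate of x commuting with x is x) which is not central modulo the largest normal subgroup of order prime to p, while x is central modulo the largest normal subgroup of order prime to p in every proper subgroup containing x, and the image of x is so in every quotient of G by a nontrivial normal subgroup (a minimal counterexample to the Z*_p statement). Then the derived subgroup G' is a non-abelian simple group and G = G'⟨x⟩. -/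
theorem result {G : Type*} [Group G] [Finite G] {p : ℕ} [Fact p.Prime] (x : G) (hx : orderOf x = p) (hiso : Cfsg.IsIsolated x) (hnz : ¬ Cfsg.InZStar p x) (hmin : ∀ (H : Subgroup G) (hxH : x ∈ H), H ≠ ⊤ → Cfsg.InZStar p (⟨x, hxH⟩ : ↥H)) (hquot : ∀ (N : Subgroup G) [N.Normal], N ≠ ⊥ → Cfsg.InZStar p (QuotientGroup.mk x : G ⧸ N)) : IsSimpleGroup ↥(commutator G) ∧ ¬ IsMulCommutative ↥(commutator G) ∧ commutator G ⊔ Subgroup.zpowers x = ⊤ := by
  have hp : p.Prime := Fact.out
  have hcore := zps_core_eq_bot hnz hquot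
  have hcl := zps_normalClosure hiso hnz hmin hcore
  have hcen := zps_center_eq_bot hiso hnz hquot
  obtain ⟨g0, hg0⟩ := zps_not_central hnz
  have htopne : (⊤ : Subgroup G) ≠ ⊥ := by
    intro h
    apply hg0
    have h1 : ∀ a : G, a = 1 := fun a => Subgroup.mem_bot.mp (h ▸ Subgroup.mem_top a)
    rw [h1 (g0 * x * g0⁻¹), h1 x]
  obtain ⟨N, hNn, hN1, -, hNmin⟩ := exists_minimal_normal_le ⊤ inferInstance htopne
  have htop : N ⊔ Subgroup.zpowers x = ⊤ := by
    by_contra hne
    have hxH : x ∈ N ⊔ Subgroup.zpowers x := Subgroup.mem_sup_right (Subgroup.mem_zpowers x)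
    have h1 := zps_comm_of_subgroup hcore _ N le_sup_left hxH (hmin _ hxH hne)
    have h2 : x ∈ Subgroup.centralizer (N : Set G) := by
      rw [Subgroup.mem_centralizer_iff]
      intro n hn
      exact eq_mul_of_mul_inv_eq (h1 n hn)
    have h3 : Subgroup.normalClosure ({x} : Set G) ≤ Subgroup.centralizer (N : Set G) :=
      Subgroup.normalClosure_le_normal (Set.singleton_subset_iff.mpr h2)
    rw [hcl] at h3
    apply hN1
    rw [← le_bot_iff, ← hcen]
    intro n hn
    rw [Subgroup.mem_center_iff]
    intro g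
    exact (Subgroup.mem_centralizer_iff.mp (h3 (Subgroup.mem_top g)) n hn).symm
  have hpdvd : ∀ S : Subgroup G, S.Normal → S ≠ ⊥ → p ∣ Nat.card S := by
    intro S hS hS1
    by_contra hnd
    apply hS1
    rw [← le_bot_iff, ← hcore]
    exact le_pPrimeCore hS ((Nat.Prime.coprime_iff_not_dvd hp).mpr hnd).symm
  have hNnc : ¬ IsMulCommutative ↥N := by
    intro hc
    obtain ⟨y, hyN, hy1, hxy⟩ := zps_exists_commuting hx hiso N N htop Subgroup.le_normalizer
      (hpdvd N hNn hN1)
    apply hy1
    have h0 : y ∈ Subgroup.center G := by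
      have h1 : N ⊔ Subgroup.zpowers x ≤ Subgroup.centralizer ({y} : Set G) := by
        apply sup_le
        · intro n hn
          rw [Subgroup.mem_centralizer_singleton_iff]
          exact setLike_mul_comm hn hyN
        · rw [Subgroup.zpowers_le, Subgroup.mem_centralizer_singleton_iff]
          exact hxy
      rw [htop] at h1
      rw [Subgroup.mem_center_iff]
      intro g
      exact Subgroup.mem_centralizer_singleton_iff.mp (h1 (Subgroup.mem_top g))
    rw [hcen] at h0
    exact Subgroup.mem_bot.mp h0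
  have hNN : ⁅N, N⁆ = N := by
    apply hNmin _ inferInstance _ (Subgroup.commutator_le_left N N)
    intro hbot
    apply hNnc
    rw [Subgroup.commutator_eq_bot_iff_le_centralizer] at hbot
    refine ⟨⟨fun a b => Subtype.ext ?_⟩⟩
    exact (Subgroup.mem_centralizer_iff.mp (hbot b.2) a a.2)
  have hcomm : commutator G = N := by
    apply le_antisymm
    · exact Subgroup.Normal.commutator_le_of_self_sup_commutative_eq_top htop inferInstance
    · rw [commutator_def]
      calc N = ⁅N, N⁆ := hNN.symm
        _ ≤ ⁅(⊤ : Subgroup G), ⊤⁆ := Subgroup.commutator_mono le_top le_top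
  have hsimple : IsSimpleGroup ↥N := by
    have hnt : Nontrivial ↥N := (Subgroup.nontrivial_iff_ne_bot N).mpr hN1
    refine ⟨fun T hT => ?_⟩
    by_contra hcon
    push Not at hcon
    obtain ⟨hT1, hT2⟩ := hcon
    obtain ⟨S, hSn, hS1, hST, hSmin⟩ := exists_minimal_normal_le T hT hT1
    obtain ⟨SG, hSG⟩ : ∃ SG, SG = S.map N.subtype := ⟨_, rfl⟩
    have hSGcard : Nat.card SG = Nat.card S := by
      rw [hSG, Subgroup.card_map_of_injective N.subtype_injective]
    have hpS : p ∣ Nat.card SG := by
      rw [hSGcard]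
      by_contra hnd
      apply hS1
      have h1 := le_pPrimeCore hSn ((Nat.Prime.coprime_iff_not_dvd hp).mpr hnd).symm
      have h2 := (Subgroup.map_mono h1).trans (pPrimeCore_normal_le p N)
      rw [hcore, le_bot_iff] at h2
      exact (Subgroup.map_eq_bot_iff_of_injective _ N.subtype_injective).mp h2
    have hNS : N ≤ Subgroup.normalizer (SG : Set G) := by
      intro n hn
      apply mem_normalizer_of_map_conj_le
      rintro _ ⟨s, hs, rfl⟩
      rw [hSG] at hs ⊢
      obtain ⟨s', hs', rfl⟩ := hs
      exact ⟨⟨n, hn⟩ * s' * ⟨n, hn⟩⁻¹, hSn.conj_mem _ hs' _, by simp⟩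
    obtain ⟨y, hyS, hy1, hxy⟩ := zps_exists_commuting hx hiso N SG htop hNS hpS
    obtain ⟨S', hS'⟩ : ∃ S', S' = S.map (MulAut.conjNormal x : ↥N ≃* ↥N).toMonoidHom := ⟨_, rfl⟩
    have hS'n : S'.Normal := by
      rw [hS']
      exact Subgroup.Normal.map hSn _ (MulAut.conjNormal x : ↥N ≃* ↥N).surjective
    have hinf : S ⊓ S' = S := by
      apply hSmin _ inferInstance _ inf_le_left
      intro hbot
      apply hy1
      rw [hSG] at hyS
      obtain ⟨y', hy', rfl⟩ := hyS
      have h1 : y' ∈ S ⊓ S' := by
        refine ⟨hy', ?_⟩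
        rw [hS']
        refine ⟨y', hy', ?_⟩
        apply Subtype.ext
        change ((MulAut.conjNormal x : ↥N ≃* ↥N) y' : G) = y'
        rw [MulAut.conjNormal_apply]
        simp only [Subgroup.subtype_apply] at hxy
        rw [hxy]; group
      rw [hbot] at h1
      rw [Subgroup.mem_bot.mp h1]; rfl
    have hxS : x ∈ Subgroup.normalizer (SG : Set G) := by
      have h1 : x⁻¹ ∈ Subgroup.normalizer (SG : Set G) := by
        apply mem_normalizer_of_map_conj_le
        rintro _ ⟨s, hs, rfl⟩
        rw [hSG] at hs ⊢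
        obtain ⟨s0, hs0, rfl⟩ := hs
        have h2 : s0 ∈ S' := (inf_eq_left.mp hinf) hs0
        rw [hS'] at h2
        obtain ⟨s1, hs1, hs10⟩ := h2
        refine ⟨s1, hs1, ?_⟩
        have h3 : ((MulAut.conjNormal x : ↥N ≃* ↥N) s1 : G) = s0 := congrArg Subtype.val hs10
        rw [MulAut.conjNormal_apply] at h3
        change (s1 : G) = x⁻¹ * (s0 : G) * x⁻¹⁻¹
        rw [← h3]; group
      simpa using inv_mem h1
    have hSGn : SG.Normal := by
      rw [← Subgroup.normalizer_eq_top_iff, ← top_le_iff, ← htop]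
      exact sup_le hNS (Subgroup.zpowers_le.mpr hxS)
    have hSGN : SG = N := by
      apply hNmin _ hSGn
      · intro hbot
        rw [hbot, Subgroup.card_bot] at hpS
        exact hp.one_lt.ne' (Nat.dvd_one.mp hpS)
      · rw [hSG]; exact Subgroup.map_subtype_le _
    apply hT2
    rw [← top_le_iff]
    intro n _
    apply hST
    have h1 : (n : G) ∈ SG := hSGN ▸ n.2
    rw [hSG] at h1
    obtain ⟨s, hs, hsn⟩ := h1
    have : s = n := Subtype.ext hsn
    rw [← this]; exact hs
  rw [hcomm]
  exact ⟨hsimple, hNnc, htop⟩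

end Cfsg.Agent.S2972
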