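import Cfsg.Statements.S2975
import Cfsg.Agent.Lib.Helper17.ZpStar
import Cfsg.Agent.Lib.Helper1.CoprimeSylow

set_option autoImplicit false
open Cfsg

namespace Cfsg.Agent.S2975

open Cfsg.Agent.Lib.Helper17

/-- If a Sylow `q`-subgroup of `H` lies in `Q` and `H` normalizes `Q` then every `q`-subgroup of `H`
lies in `Q`. -/
theorem le_of_sylow_le {G : Type*} [Group G] [Finite G] {q : ℕ} [Fact q.Prime] (H Q D : Subgroup G)
    (T : Sylow q ↥H) (hT : (T : Subgroup ↥H).map H.subtype ≤ Q)
    (hHQ : H ≤ Subgroup.normalizer (Q : Set G)) (hD : IsPGroup q ↥D) (hDH : D ≤ H) : D ≤ Q := by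
  obtain ⟨T2, hT2⟩ := (hD.comap_subtype (K := H)).exists_le_sylow
  obtain ⟨h, hh⟩ := MulAction.exists_smul_eq ↥H T T2
  intro d hd
  have h1 : (⟨d, hDH hd⟩ : ↥H) ∈ (T2 : Subgroup ↥H) := hT2 (Subgroup.mem_subgroupOf.mpr hd)
  have h2 : d ∈ Cfsg.Agent.Lib.Helper1.sylImg T2 := ⟨_, h1, rfl⟩
  rw [← hh, Cfsg.Agent.Lib.Helper1.sylImg_smul, Cfsg.Agent.Lib.Helper1.mem_conj_smul] at h2
  have h3 := hT h2
  have h4 := (Subgroup.mem_normalizer_iff.mp (hHQ h.2) _).mp h3
  have h5 : (h : G) * ((h : G)⁻¹ * d * (h : G)) * (h : G)⁻¹ = d := by group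
  rwa [h5] at h4

/-- Let G be a finite group, p a prime and x ∈ G an isolated element of order p (the only conjugate of x commuting with x is x) which is not central modulo the largest normal subgroup of order prime to p, while x is central modulo the largest normal subgroup of order prime to p in every proper subgroup containing x, and the image of x is so in every quotient of G by a nontrivial normal subgroup (a minimal counterexample to the Z*_p statement). Then for every prime q, every q-subgroup of G that is normalized by x and maximal among the q-subgroups normalized by x is either trivial or a Sylow q-subgroup of G; and C_G(x) permutes the x-invariant Sylow q-subgroups of G transitively by conjugation. -/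
theorem result {G : Type*} [Group G] [Finite G] {p : ℕ} [Fact p.Prime] (x : G) (hx : orderOf x = p) (hiso : Cfsg.IsIsolated x) (hnz : ¬ Cfsg.InZStar p x) (hmin : ∀ (H : Subgroup G) (hxH : x ∈ H), H ≠ ⊤ → Cfsg.InZStar p (⟨x, hxH⟩ : ↥H)) (hquot : ∀ (N : Subgroup G) [N.Normal], N ≠ ⊥ → Cfsg.InZStar p (QuotientGroup.mk x : G ⧸ N)) (q : ℕ) [Fact q.Prime] : (∀ Q : Subgroup G, IsPGroup q ↥Q → x ∈ Subgroup.normalizer (Q : Set G) → (∀ R : Subgroup G, IsPGroup q ↥R → x ∈ Subgroup.normalizer (R : Set G) → Q ≤ R → R = Q) → Q = ⊥ ∨ ∃ S : Sylow q G, (S : Subgroup G) = Q) ∧ (∀ S₁ S₂ : Sylow q G, x ∈ Subgroup.normalizer ((S₁ : Subgroup G) : Set G) → x ∈ Subgroup.normalizer ((S₂ : Subgroup G) : Set G) → ∃ c ∈ Subgroup.centralizer ({x} : Set G), (S₁ : Subgroup G).map (MulAut.conj c).toMonoidHom = (S₂ : Subgroup G)) := by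
  have hp : p.Prime := Fact.out
  have hq : q.Prime := Fact.out
  have hcore := zps_core_eq_bot hnz hquot
  have hxk : ∃ k : ℕ, orderOf x = p ^ k := ⟨1, by rw [pow_one]; exact hx⟩
  have hpx : IsPGroup p ↥(Subgroup.zpowers x) := by
    apply isPGroup_zpowers_of_pow_eq_one (e := 1)
    rw [pow_one, ← hx]; exact pow_orderOf_eq_one x
  constructor
  · intro Q hQ hxQ hmax
    by_cases hqp : q = p
    · subst hqp
      right
      have hR : IsPGroup q ↥(Subgroup.zpowers x ⊔ Q) :=
        IsPGroup.to_sup_of_normal_right' hpx hQ (Subgroup.zpowers_le.mpr hxQ)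
      have hxR : x ∈ Subgroup.zpowers x ⊔ Q := Subgroup.mem_sup_left (Subgroup.mem_zpowers x)
      have h1 := hmax _ hR (Subgroup.le_normalizer hxR) le_sup_right
      have hxQ' : x ∈ Q := h1 ▸ hxR
      obtain ⟨P, hP⟩ := hQ.exists_le_sylow
      have hc := isolated_comm_of_pGroup hiso P.2 (hP hxQ')
      have hxP : x ∈ Subgroup.normalizer ((P : Subgroup G) : Set G) := Subgroup.le_normalizer (hP hxQ')
      exact ⟨P, hmax _ P.2 hxP hP⟩
    · by_cases hQ1 : Q = ⊥
      · exact Or.inl hQ1
      right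
      obtain ⟨H, hH⟩ : ∃ H, H = Subgroup.normalizer (Q : Set G) := ⟨_, rfl⟩
      have hxH : x ∈ H := hH ▸ hxQ
      have hQH : Q ≤ H := hH ▸ Subgroup.le_normalizer
      have hHtop : H ≠ ⊤ := by
        intro htop
        apply hQ1
        have hQn : Q.Normal := by
          rw [← Subgroup.normalizer_eq_top_iff, ← hH, htop]
        rw [← le_bot_iff, ← hcore]
        apply le_pPrimeCore hQn
        obtain ⟨k, hk⟩ := IsPGroup.iff_card.mp hQ
        rw [hk]
        exact Nat.Coprime.pow_left k ((Nat.coprime_primes hq hp).mpr hqp)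
      have hz := hmin H hxH hHtop
      obtain ⟨T⟩ : Nonempty (Sylow q ↥H) := inferInstance
      obtain ⟨KG, hKG⟩ : ∃ KG, KG = (Cfsg.pPrimeCore p ↥H).map H.subtype := ⟨_, rfl⟩
      obtain ⟨TG, hTG⟩ : ∃ TG, TG = (T : Subgroup ↥H).map H.subtype := ⟨_, rfl⟩
      obtain ⟨W, hW⟩ : ∃ W, W = TG ⊔ KG := ⟨_, rfl⟩
      have hWH : W ≤ H := by
        rw [hW, hTG, hKG]
        exact sup_le (Subgroup.map_subtype_le _) (Subgroup.map_subtype_le _)
      have hWcop : (Nat.card ↥W).Coprime p := by
        have h1 : W = ((T : Subgroup ↥H) ⊔ Cfsg.pPrimeCore p ↥H).map H.subtype := by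
          rw [hW, hTG, hKG, Subgroup.map_sup]
        rw [h1, Subgroup.card_map_of_injective H.subtype_injective]
        have h2 := card_sup_dvd_of_normal (T : Subgroup ↥H) (Cfsg.pPrimeCore p ↥H)
        apply Nat.Coprime.coprime_dvd_left h2
        apply Nat.Coprime.mul_left _ (pPrimeCore_coprime p)
        obtain ⟨k, hk⟩ := IsPGroup.iff_card.mp T.2
        rw [hk]
        exact Nat.Coprime.pow_left k ((Nat.coprime_primes hq hp).mpr hqp)
      have hxW : x ∈ Subgroup.normalizer (W : Set G) := by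
        apply mem_normalizer_of_map_conj_le
        rw [hW, Subgroup.map_sup]
        apply sup_le
        · rintro _ ⟨t, ht, rfl⟩
          rw [hTG] at ht
          obtain ⟨t', ht', rfl⟩ := ht
          have h1 := hz t'
          have h2 : ((t' : G) * x * (t' : G)⁻¹ * x⁻¹)⁻¹ ∈ KG := by
            apply inv_mem
            rw [hKG]
            exact ⟨_, h1, by simp⟩
          have h3 : (MulAut.conj x).toMonoidHom (H.subtype t') =
              ((t' : G) * x * (t' : G)⁻¹ * x⁻¹)⁻¹ * (t' : G) := by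
            simp only [MulEquiv.coe_toMonoidHom, MulAut.conj_apply, Subgroup.subtype_apply]
            group
          rw [h3]
          exact mul_mem (Subgroup.mem_sup_right h2)
            (Subgroup.mem_sup_left (by rw [hTG]; exact ⟨t', ht', rfl⟩))
        · refine le_trans ?_ le_sup_right
          rintro _ ⟨k, hk, rfl⟩
          rw [hKG] at hk ⊢
          obtain ⟨k', hk', rfl⟩ := hk
          exact ⟨⟨x, hxH⟩ * k' * ⟨x, hxH⟩⁻¹, (Cfsg.pPrimeCore_normal p _).conj_mem _ hk' _, by simp⟩
      have hQT : Q ≤ TG := by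
        have hn : (Q.subgroupOf H).Normal := by
          rw [hH]; exact Subgroup.normal_in_normalizer
        have h1 := (le_pCore hn (hQ.comap_subtype)).trans (pCore_le_sylow T)
        rw [hTG, ← Subgroup.map_subgroupOf_eq_of_le hQH]
        exact Subgroup.map_mono h1
      have hQW : Q ≤ W := hQT.trans (hW ▸ le_sup_left)
      obtain ⟨P, hQP, hxP⟩ := Cfsg.Agent.Lib.Helper1.coprime_invariant_psubgroup_le
        (Subgroup.zpowers x) W (Subgroup.zpowers_le.mpr hxW)
        (by rw [Nat.card_zpowers, hx]; exact hWcop.symm) (Or.inl inferInstance) q Q hQW hQ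
        (Subgroup.zpowers_le.mpr hxQ)
      have hPp : IsPGroup q ↥(Cfsg.Agent.Lib.Helper1.sylImg P) := P.2.map _
      have hPQ := hmax _ hPp (hxP (Subgroup.mem_zpowers x)) hQP
      have hTp : IsPGroup q ↥TG := hTG ▸ T.2.map _
      have hTQ : TG ≤ Q := le_of_sylow_le W Q TG P hPQ.le (hWH.trans hH.le) hTp (hW ▸ le_sup_left)
      obtain ⟨S, hS⟩ := hQ.exists_le_sylow
      refine ⟨S, ?_⟩
      symm
      apply eq_of_inf_normalizer_le S.2 hS
      apply le_of_sylow_le H Q _ T (hTG ▸ hTQ) hH.le (S.2.to_le inf_le_left)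
      rw [hH]; exact inf_le_right
  · intro S₁ S₂ h1 h2
    obtain ⟨g, hg⟩ := sylow_conj S₁ S₂
    have h3 : g⁻¹ * x * g⁻¹⁻¹ ∈ Subgroup.normalizer ((S₁ : Subgroup G) : Set G) := by
      apply mem_normalizer_of_map_conj_le
      rintro _ ⟨s, hs, rfl⟩
      have h4 : g * s * g⁻¹ ∈ (S₂ : Subgroup G) := by
        rw [← hg]; exact conj_mem_map_conj_iff.mpr hs
      have h5 := (Subgroup.mem_normalizer_iff.mp h2 _).mp h4
      rw [← hg, mem_map_conj_iff] at h5
      have h6 : (MulAut.conj (g⁻¹ * x * g⁻¹⁻¹)).toMonoidHom s = g⁻¹ * (x * (g * s * g⁻¹) * x⁻¹) * g := by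
        simp only [MulEquiv.coe_toMonoidHom, MulAut.conj_apply]
        group
      rw [h6]; exact h5
    obtain ⟨h, hh, hhx⟩ := isolated_conj_in_subgroup hxk hiso _ h1 g⁻¹ h3
    refine ⟨g * h⁻¹, ?_, ?_⟩
    · rw [Subgroup.mem_centralizer_singleton_iff]
      have h7 : x = h * g⁻¹ * x * (g * h⁻¹) := by
        conv_lhs => rw [← hhx]
        group
      calc g * h⁻¹ * x = g * h⁻¹ * (h * g⁻¹ * x * (g * h⁻¹)) := by rw [← h7]
        _ = x * (g * h⁻¹) := by group
    · rw [← hg]
      have h8 : (S₁ : Subgroup G).map (MulAut.conj h⁻¹).toMonoidHom = (S₁ : Subgroup G) :=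
        (Subgroup.mem_normalizer_iff_map_conj_eq).mp (inv_mem hh)
      conv_rhs => rw [← h8]
      rw [Subgroup.map_map]
      congr 1
      ext s
      simp [mul_assoc]

end Cfsg.Agent.S2975
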