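import Mathlib
import Cfsg.Agent.S2530
import Cfsg.Statements.S3335

set_option autoImplicit false
open Cfsg

namespace Cfsg.Agent.S3335

open Cfsg.Agent.S2530 (ee ee_zero ee_succ gens Rel comm_of_sq swap_rel)

section abstractPart
variable {W : Type*} [Group W]

structure RelA (σ : ℕ → W) (m : ℕ) : Prop where
  c3 : 0 < m → σ 0 * σ 0 * σ 0 = 1
  inv : ∀ i, 1 ≤ i → i < m → σ i * σ i = 1
  braid : ∀ i, 1 ≤ i → i + 1 < m → σ i * σ (i + 1) * σ i = σ (i + 1) * σ i * σ (i + 1)
  comm : ∀ i j, 1 ≤ i → i + 1 < j → j < m → σ i * σ j = σ j * σ i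
  b0 : 1 < m → σ 1 * σ 0 * σ 1 = (σ 0)⁻¹ * σ 1 * (σ 0)⁻¹
  i0 : ∀ j, 1 < j → j < m → σ j * σ 0 = (σ 0)⁻¹ * σ j

theorem i0' {σ : ℕ → W} {m : ℕ} (h : RelA σ m) (j : ℕ) (h1 : 1 < j) (h2 : j < m) :
    σ j * (σ 0)⁻¹ = σ 0 * σ j := by
  have h3 := h.i0 j h1 h2
  calc σ j * (σ 0)⁻¹ = σ 0 * ((σ 0)⁻¹ * σ j) * (σ 0)⁻¹ := by group
    _ = σ 0 * (σ j * σ 0) * (σ 0)⁻¹ := by rw [h3]
    _ = σ 0 * σ j := by group

theorem lemA {σ : ℕ → W} {m : ℕ} (h : RelA σ (m + 1)) (i : ℕ) (hi : 1 ≤ i) :
    ∀ j, i + j < m → σ i * ee σ m j = ee σ m j * σ i := by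
  intro j
  induction j with
  | zero => intro _; rw [ee_zero, mul_one, one_mul]
  | succ j ih =>
    intro hj
    have h1 := ih (by omega)
    have h2 := h.comm i (m - j) hi (by omega) (by omega)
    rw [ee_succ]
    calc σ i * (ee σ m j * σ (m - j)) = (σ i * ee σ m j) * σ (m - j) := by rw [mul_assoc]
      _ = ee σ m j * (σ i * σ (m - j)) := by rw [h1, mul_assoc]
      _ = ee σ m j * σ (m - j) * σ i := by rw [h2, mul_assoc]

theorem lemA0 {σ : ℕ → W} {m : ℕ} (h : RelA σ (m + 1)) :
    ∀ j, j < m → ∃ ε : W, (ε = σ 0 ∨ ε = (σ 0)⁻¹) ∧ ee σ m j * σ 0 = ε * ee σ m j ∧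
      ee σ m j * (σ 0)⁻¹ = ε⁻¹ * ee σ m j := by
  intro j
  induction j with
  | zero =>
    intro _
    exact ⟨σ 0, Or.inl rfl, by rw [ee_zero, one_mul, mul_one], by rw [ee_zero, one_mul, mul_one]⟩
  | succ j ih =>
    intro hj
    obtain ⟨ε, hε, h1, h2⟩ := ih (by omega)
    have h3 := h.i0 (m - j) (by omega) (by omega)
    have h4 := i0' h (m - j) (by omega) (by omega)
    refine ⟨ε⁻¹, ?_, ?_, ?_⟩
    · rcases hε with rfl | rfl
      · right; rfl
      · left; rw [inv_inv]
    · rw [ee_succ]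
      calc ee σ m j * σ (m - j) * σ 0 = ee σ m j * (σ (m - j) * σ 0) := by rw [mul_assoc]
        _ = (ee σ m j * (σ 0)⁻¹) * σ (m - j) := by rw [h3, mul_assoc]
        _ = ε⁻¹ * (ee σ m j * σ (m - j)) := by rw [h2, mul_assoc]
    · rw [ee_succ, inv_inv]
      calc ee σ m j * σ (m - j) * (σ 0)⁻¹ = ee σ m j * (σ (m - j) * (σ 0)⁻¹) := by rw [mul_assoc]
        _ = (ee σ m j * σ 0) * σ (m - j) := by rw [h4, mul_assoc]
        _ = ε * (ee σ m j * σ (m - j)) := by rw [h1, mul_assoc]

theorem lemB {σ : ℕ → W} {m : ℕ} (h : RelA σ (m + 1)) (u : ℕ) (hu1 : 1 ≤ u) (hu : u + 1 ≤ m) :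
    ∀ j, m - u + 1 ≤ j → j ≤ m → ee σ m j * σ (u + 1) = σ u * ee σ m j := by
  intro j hj
  induction j, hj using Nat.le_induction with
  | base =>
    intro _
    obtain ⟨r, hr⟩ : ∃ r, m - u = r + 1 := ⟨m - u - 1, by omega⟩
    rw [hr]
    have e1 : m - (r + 1) = u := by omega
    have e2 : m - r = u + 1 := by omega
    rw [ee_succ, ee_succ, e1, e2]
    have hA := lemA h u hu1 r (by omega)
    have hb := h.braid u hu1 (by omega)
    calc ee σ m r * σ (u + 1) * σ u * σ (u + 1)
        = ee σ m r * (σ (u + 1) * σ u * σ (u + 1)) := by simp only [mul_assoc]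
      _ = ee σ m r * (σ u * σ (u + 1) * σ u) := by rw [hb]
      _ = (ee σ m r * σ u) * σ (u + 1) * σ u := by simp only [mul_assoc]
      _ = (σ u * ee σ m r) * σ (u + 1) * σ u := by rw [hA]
      _ = σ u * (ee σ m r * σ (u + 1) * σ u) := by simp only [mul_assoc]
  | succ j hj ih =>
    intro hj2
    have h1 := ih (by omega)
    have h2 := h.comm (m - j) (u + 1) (by omega) (by omega) (by omega)
    rw [ee_succ]
    calc ee σ m j * σ (m - j) * σ (u + 1) = ee σ m j * (σ (m - j) * σ (u + 1)) := by rw [mul_assoc]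
      _ = (ee σ m j * σ (u + 1)) * σ (m - j) := by rw [h2, mul_assoc]
      _ = σ u * (ee σ m j * σ (m - j)) := by rw [h1, mul_assoc]

theorem mainA (σ : ℕ → W) : ∀ m, RelA σ m →
    ((Subgroup.closure (gens σ m) : Subgroup W) : Set W).Finite ∧
      2 * ((Subgroup.closure (gens σ m) : Subgroup W) : Set W).ncard ≤ (m + 2).factorial := by
  intro m
  induction m with
  | zero =>
    intro _
    have h0 : gens σ 0 = ∅ := by
      ext x
      simp [gens]
    rw [h0, Subgroup.closure_empty]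
    simp [Nat.factorial]
  | succ m ih =>
    intro h
    have h' : RelA σ m := ⟨fun hi => h.c3 (by omega), fun i h1 hi => h.inv i h1 (by omega),
      fun i h1 hi => h.braid i h1 (by omega), fun i j h1 hij hj => h.comm i j h1 hij (by omega),
      fun hi => h.b0 (by omega), fun j h1 hj => h.i0 j h1 (by omega)⟩
    obtain ⟨hfin, hcard⟩ := ih h'
    set H := Subgroup.closure (gens σ m) with hH
    have hσH : ∀ i, i < m → σ i ∈ H := fun i hi => Subgroup.subset_closure ⟨i, hi, rfl⟩
    let f : W × ℕ → W := fun x => x.1 * ee σ m x.2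
    set U : Set W := f '' ((H : Set W) ×ˢ ((Finset.range (m + 3) : Finset ℕ) : Set ℕ)) with hU
    have hUmem : ∀ x, x ∈ U ↔ ∃ a ∈ H, ∃ j, j ≤ m + 2 ∧ x = a * ee σ m j := by
      intro x
      constructor
      · rintro ⟨⟨a, j⟩, ⟨ha, hj⟩, rfl⟩
        refine ⟨a, ha, j, ?_, rfl⟩
        have : j < m + 3 := by simpa using hj
        omega
      · rintro ⟨a, ha, j, hj, rfl⟩
        refine ⟨(a, j), ⟨ha, ?_⟩, rfl⟩
        have : j < m + 3 := by omega
        simpa using this
    have hc3 := h.c3 (by omega)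
    have s0inv : (σ 0)⁻¹ = σ 0 * σ 0 := by
      apply inv_eq_of_mul_eq_one_right
      rw [← mul_assoc]; exact hc3
    have E1 : ee σ m (m + 1) = ee σ m m * σ 0 := by rw [ee_succ, Nat.sub_self]
    have E2 : ee σ m (m + 2) = ee σ m m * σ 0 * σ 0 := by
      have : m - (m + 1) = 0 := by omega
      rw [show m + 2 = (m + 1) + 1 from rfl, ee_succ, this, E1]
    have E2' : ee σ m (m + 2) = ee σ m m * (σ 0)⁻¹ := by rw [E2, s0inv, mul_assoc]
    have hεH : 0 < m → ∀ ε : W, (ε = σ 0 ∨ ε = (σ 0)⁻¹) → ε ∈ H := by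
      intro hm ε hε
      rcases hε with rfl | rfl
      · exact hσH 0 hm
      · exact H.inv_mem (hσH 0 hm)
    have hstep : ∀ x ∈ U, ∀ t, t < m + 1 → x * σ t ∈ U := by
      intro x hx t ht
      obtain ⟨a, ha, j, hj, rfl⟩ := (hUmem x).mp hx
      rw [hUmem]
      by_cases hjm : j ≤ m
      · by_cases ht0 : t = 0
        · subst ht0
          by_cases hjm2 : j < m
          · obtain ⟨ε, hε, h1, _⟩ := lemA0 h j hjm2
            refine ⟨a * ε, H.mul_mem ha (hεH (by omega) ε hε), j, hj, ?_⟩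
            rw [mul_assoc, h1, mul_assoc]
          · have hjm3 : j = m := by omega
            subst hjm3
            exact ⟨a, ha, j + 1, by omega, by rw [E1, mul_assoc]⟩
        · have ht1 : 1 ≤ t := by omega
          rcases lt_trichotomy (t + j) m with hlt | heq | hgt
          · refine ⟨a * σ t, H.mul_mem ha (hσH t (by omega)), j, hj, ?_⟩
            rw [mul_assoc, ← lemA h t ht1 j hlt, mul_assoc]
          · refine ⟨a, ha, j + 1, by omega, ?_⟩
            have e1 : m - j = t := by omega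
            rw [ee_succ, e1, mul_assoc]
          · rcases Nat.eq_or_lt_of_le (Nat.succ_le_of_lt hgt) with heq | hgt2
            · obtain ⟨r, rfl⟩ : ∃ r, j = r + 1 := ⟨j - 1, by omega⟩
              refine ⟨a, ha, r, by omega, ?_⟩
              have e1 : m - r = t := by omega
              rw [ee_succ, e1, mul_assoc, mul_assoc, h.inv t ht1 ht, mul_one]
            · obtain ⟨u, rfl⟩ : ∃ u, t = u + 1 := ⟨t - 1, by omega⟩
              refine ⟨a * σ u, H.mul_mem ha (hσH u (by omega)), j, hj, ?_⟩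
              rw [mul_assoc, lemB h u (by omega) (by omega) j (by omega) hjm, mul_assoc]
      · have hj2 : j = m + 1 ∨ j = m + 2 := by omega
        by_cases ht0 : t = 0
        · subst ht0
          rcases hj2 with rfl | rfl
          · exact ⟨a, ha, m + 2, le_refl _, by rw [E1, E2]; simp only [mul_assoc]⟩
          · refine ⟨a, ha, m, by omega, ?_⟩
            rw [E2]
            calc a * (ee σ m m * σ 0 * σ 0) * σ 0 = a * ee σ m m * (σ 0 * σ 0 * σ 0) := by
                  simp only [mul_assoc]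
              _ = a * ee σ m m := by rw [hc3, mul_one]
        · by_cases ht1 : t = 1
          · subst ht1
            obtain ⟨r, hr⟩ : ∃ r, m = r + 1 := ⟨m - 1, by omega⟩
            have e1 : m - r = 1 := by omega
            have Em : ee σ m m = ee σ m r * σ 1 := by
              have h9 := ee_succ σ m r
              rw [e1, ← hr] at h9
              exact h9
            obtain ⟨ε, hε, h1, h2⟩ := lemA0 h r (by omega)
            have hb0 := h.b0 (by omega)
            have hs1 := h.inv 1 (le_refl _) (by omega)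
            have hs1i : (σ 1)⁻¹ = σ 1 := inv_eq_of_mul_eq_one_left hs1
            have hb0' : σ 1 * (σ 0)⁻¹ * σ 1 = σ 0 * σ 1 * σ 0 := by
              have h5 := congrArg (fun z => z⁻¹) hb0
              simp only [mul_inv_rev, inv_inv, hs1i] at h5
              simpa only [mul_assoc] using h5
            rcases hj2 with rfl | rfl
            · refine ⟨a * ε⁻¹, H.mul_mem ha (H.inv_mem (hεH (by omega) ε hε)), m + 2, le_refl _, ?_⟩
              rw [E1, E2', Em]
              calc a * (ee σ m r * σ 1 * σ 0) * σ 1 = a * ee σ m r * (σ 1 * σ 0 * σ 1) := by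
                    simp only [mul_assoc]
                _ = a * ee σ m r * ((σ 0)⁻¹ * σ 1 * (σ 0)⁻¹) := by rw [hb0]
                _ = a * (ee σ m r * (σ 0)⁻¹) * σ 1 * (σ 0)⁻¹ := by simp only [mul_assoc]
                _ = a * (ε⁻¹ * ee σ m r) * σ 1 * (σ 0)⁻¹ := by rw [h2]
                _ = a * ε⁻¹ * (ee σ m r * σ 1 * (σ 0)⁻¹) := by simp only [mul_assoc]
            · refine ⟨a * ε, H.mul_mem ha (hεH (by omega) ε hε), m + 1, by omega, ?_⟩
              rw [E1, E2', Em]
              calc a * (ee σ m r * σ 1 * (σ 0)⁻¹) * σ 1 = a * ee σ m r * (σ 1 * (σ 0)⁻¹ * σ 1) := by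
                    simp only [mul_assoc]
                _ = a * ee σ m r * (σ 0 * σ 1 * σ 0) := by rw [hb0']
                _ = a * (ee σ m r * σ 0) * σ 1 * σ 0 := by simp only [mul_assoc]
                _ = a * (ε * ee σ m r) * σ 1 * σ 0 := by rw [h1]
                _ = a * ε * (ee σ m r * σ 1 * σ 0) := by simp only [mul_assoc]
          · obtain ⟨u, rfl⟩ : ∃ u, t = u + 1 := ⟨t - 1, by omega⟩
            have hB := lemB h u (by omega) (by omega) m (by omega) (le_refl _)
            have h3 := h.i0 (u + 1) (by omega) ht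
            have h4 := i0' h (u + 1) (by omega) ht
            rcases hj2 with rfl | rfl
            · refine ⟨a * σ u, H.mul_mem ha (hσH u (by omega)), m + 2, le_refl _, ?_⟩
              rw [E1, E2']
              calc a * (ee σ m m * σ 0) * σ (u + 1) = a * ee σ m m * (σ 0 * σ (u + 1)) := by
                    simp only [mul_assoc]
                _ = a * (ee σ m m * σ (u + 1)) * (σ 0)⁻¹ := by rw [← h4]; simp only [mul_assoc]
                _ = a * (σ u * ee σ m m) * (σ 0)⁻¹ := by rw [hB]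
                _ = a * σ u * (ee σ m m * (σ 0)⁻¹) := by simp only [mul_assoc]
            · refine ⟨a * σ u, H.mul_mem ha (hσH u (by omega)), m + 1, by omega, ?_⟩
              rw [E1, E2']
              calc a * (ee σ m m * (σ 0)⁻¹) * σ (u + 1) = a * ee σ m m * ((σ 0)⁻¹ * σ (u + 1)) := by
                    simp only [mul_assoc]
                _ = a * (ee σ m m * σ (u + 1)) * σ 0 := by rw [← h3]; simp only [mul_assoc]
                _ = a * (σ u * ee σ m m) * σ 0 := by rw [hB]
                _ = a * σ u * (ee σ m m * σ 0) := by simp only [mul_assoc]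
    have hsub : ((Subgroup.closure (gens σ (m + 1)) : Subgroup W) : Set W) ⊆ U := by
      intro x hx
      have hx' : x ∈ Subgroup.closure (gens σ (m + 1)) := hx
      clear hx
      induction hx' using Subgroup.closure_induction_right with
      | one => exact (hUmem 1).mpr ⟨1, H.one_mem, 0, by omega, by rw [ee_zero, mul_one]⟩
      | mul_right x hx y hy ih =>
        obtain ⟨t, ht, rfl⟩ := hy
        exact hstep x ih t ht
      | mul_inv_cancel x hx y hy ih =>
        obtain ⟨t, ht, rfl⟩ := hy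
        by_cases ht0 : t = 0
        · subst ht0
          rw [s0inv, ← mul_assoc]
          exact hstep _ (hstep x ih 0 ht) 0 ht
        · rw [inv_eq_of_mul_eq_one_left (h.inv t (by omega) ht)]
          exact hstep x ih t ht
    have hPfin : ((H : Set W) ×ˢ ((Finset.range (m + 3) : Finset ℕ) : Set ℕ)).Finite :=
      hfin.prod (Finset.finite_toSet _)
    have hUfin : U.Finite := hPfin.image f
    refine ⟨hUfin.subset hsub, ?_⟩
    have hle : ((Subgroup.closure (gens σ (m + 1)) : Subgroup W) : Set W).ncard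
        ≤ (H : Set W).ncard * (m + 3) := by
      calc ((Subgroup.closure (gens σ (m + 1)) : Subgroup W) : Set W).ncard
          ≤ U.ncard := Set.ncard_le_ncard hsub hUfin
        _ ≤ ((H : Set W) ×ˢ ((Finset.range (m + 3) : Finset ℕ) : Set ℕ)).ncard :=
            Set.ncard_image_le hPfin
        _ = (H : Set W).ncard * (m + 3) := by
            rw [Set.ncard_prod, Set.ncard_coe_finset, Finset.card_range]
    calc 2 * ((Subgroup.closure (gens σ (m + 1)) : Subgroup W) : Set W).ncard
        ≤ 2 * ((H : Set W).ncard * (m + 3)) := Nat.mul_le_mul_left _ hle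
      _ = (2 * (H : Set W).ncard) * (m + 3) := by ring
      _ ≤ (m + 2).factorial * (m + 3) := Nat.mul_le_mul_right _ hcard
      _ = (m + 1 + 2).factorial := by
          rw [show m + 1 + 2 = (m + 2) + 1 from rfl, Nat.factorial_succ (m + 2)]; ring

theorem cube_of_braid {x y : W} (hx : x * x = 1) (hy : y * y = 1) (h : x * y * x = y * x * y) :
    (x * y) ^ 3 = 1 := by
  rw [pow_three]
  calc x * y * (x * y * (x * y)) = (x * y * x) * (y * x * y) := by simp only [mul_assoc]
    _ = (y * x * y) * (y * x * y) := by rw [h]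
    _ = y * x * (y * y) * x * y := by simp only [mul_assoc]
    _ = y * (x * x) * y := by rw [hy, mul_one]; simp only [mul_assoc]
    _ = 1 := by rw [hx, mul_one, hy]

theorem sq_of_comm {x y : W} (hx : x * x = 1) (hy : y * y = 1) (h : x * y = y * x) :
    (x * y) ^ 2 = 1 := by
  rw [sq]
  calc x * y * (x * y) = x * (y * x) * y := by simp only [mul_assoc]
    _ = x * (x * y) * y := by rw [h]
    _ = (x * x) * (y * y) := by simp only [mul_assoc]
    _ = 1 := by rw [hx, hy, mul_one]

theorem conj_pow_one {a z : W} (ha : a * a = 1) (k : ℕ) (hz : z ^ k = 1) : (a * z * a) ^ k = 1 := by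
  have hai : a⁻¹ = a := inv_eq_of_mul_eq_one_left ha
  have := conj_pow (a := a) (b := z) (i := k)
  rw [hai, hz, mul_one, ha] at this
  exact this

theorem alt_a {s : ℕ → W} {N : ℕ} (h : Rel s N) (hN : 1 < N) : (s 0 * s 1) ^ 3 = 1 :=
  cube_of_braid (h.inv 0 (by omega)) (h.inv 1 hN) (h.braid 0 hN)

theorem alt_b {s : ℕ → W} {N : ℕ} (h : Rel s N) (i : ℕ) (hi : 1 ≤ i) (hN : i + 1 < N) :
    (s 0 * s (i + 1)) ^ 2 = 1 :=
  sq_of_comm (h.inv 0 (by omega)) (h.inv _ hN) (h.comm 0 (i + 1) (by omega) hN)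

theorem alt_prod {s : ℕ → W} {N : ℕ} (h : Rel s N) (i j : ℕ) (hij : i < j) (hN : j + 1 < N) :
    (s 0 * s (i + 1)) * (s 0 * s (j + 1)) = s 0 * (s (i + 1) * s (j + 1)) * s 0 := by
  have hc := h.comm 0 (j + 1) (by omega) hN
  calc (s 0 * s (i + 1)) * (s 0 * s (j + 1)) = s 0 * s (i + 1) * (s 0 * s (j + 1)) := rfl
    _ = s 0 * s (i + 1) * (s (j + 1) * s 0) := by rw [hc]
    _ = s 0 * (s (i + 1) * s (j + 1)) * s 0 := by simp only [mul_assoc]

theorem alt_c {s : ℕ → W} {N : ℕ} (h : Rel s N) (i : ℕ) (hN : i + 2 < N) :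
    ((s 0 * s (i + 1)) * (s 0 * s (i + 2))) ^ 3 = 1 := by
  rw [alt_prod h i (i + 1) (by omega) hN]
  exact conj_pow_one (h.inv 0 (by omega)) 3
    (cube_of_braid (h.inv _ (by omega)) (h.inv _ hN) (h.braid (i + 1) hN))

theorem alt_d {s : ℕ → W} {N : ℕ} (h : Rel s N) (i j : ℕ) (hij : i + 1 < j) (hN : j + 1 < N) :
    ((s 0 * s (i + 1)) * (s 0 * s (j + 1))) ^ 2 = 1 := by
  rw [alt_prod h i j (by omega) hN]
  exact conj_pow_one (h.inv 0 (by omega)) 2
    (sq_of_comm (h.inv _ (by omega)) (h.inv _ hN) (h.comm (i + 1) (j + 1) (by omega) hN))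

theorem rel_of_liftable {n : ℕ} (f : Fin n → W) (hf : (CoxeterMatrix.A n).IsLiftable f)
    (σ : ℕ → W) (hσ : ∀ j (h : j < n), σ j = f ⟨j, h⟩) : Rel σ n := by
  have hinv : ∀ i : Fin n, f i * f i = 1 := by
    intro i
    have h1 := hf i i
    simpa [CoxeterMatrix.A] using h1
  refine ⟨?_, ?_, ?_⟩
  · intro i hi
    rw [hσ i hi]
    exact hinv _
  · intro i hi
    rw [hσ i (by omega), hσ (i + 1) hi]
    apply Cfsg.Agent.S2530.braid (hinv _) (hinv _)
    have h1 := hf ⟨i, by omega⟩ ⟨i + 1, hi⟩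
    have hM3 : CoxeterMatrix.A n ⟨i, by omega⟩ ⟨i + 1, hi⟩ = 3 := by
      simp [CoxeterMatrix.A]
    rwa [hM3] at h1
  · intro i j hij hj
    rw [hσ i (by omega), hσ j hj]
    apply comm_of_sq (hinv _) (hinv _)
    have h1 := hf ⟨i, by omega⟩ ⟨j, hj⟩
    have hM2 : CoxeterMatrix.A n ⟨i, by omega⟩ ⟨j, hj⟩ = 2 := by
      have a1 : i ≠ j := by omega
      have a2 : ¬ (j + 1 = i ∨ i + 1 = j) := by omega
      simp [CoxeterMatrix.A, a1, a2]
    rwa [hM2] at h1

end abstractPart

theorem key (m k : ℕ) (hk : k = m + 1) (rels : Set (FreeGroup (Fin k)))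
    (hrels : rels = {g : FreeGroup (Fin k) | ∃ i : Fin k, i.val = 0 ∧ g = FreeGroup.of i ^ 3} ∪
       {g | ∃ i : Fin k, 1 ≤ i.val ∧ g = FreeGroup.of i ^ 2} ∪
       {g | ∃ i j : Fin k, j.val = i.val + 1 ∧ g = (FreeGroup.of i * FreeGroup.of j) ^ 3} ∪
       {g | ∃ i j : Fin k, i.val + 1 < j.val ∧ g = (FreeGroup.of i * FreeGroup.of j) ^ 2}) :
    Nonempty (PresentedGroup rels ≃* alternatingGroup (Fin (m + 3))) := by
  classical
  subst hk
  -- relations in the presented group
  have r1 : ∀ i : Fin (m + 1), i.val = 0 → (PresentedGroup.of i : PresentedGroup rels) ^ 3 = 1 := by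
    intro i hi
    have h1 : FreeGroup.of i ^ 3 ∈ rels := by
      rw [hrels]; left; left; left; exact ⟨i, hi, rfl⟩
    have h2 := PresentedGroup.one_of_mem h1
    rw [map_pow] at h2
    exact h2
  have r2 : ∀ i : Fin (m + 1), 1 ≤ i.val → (PresentedGroup.of i : PresentedGroup rels) ^ 2 = 1 := by
    intro i hi
    have h1 : FreeGroup.of i ^ 2 ∈ rels := by
      rw [hrels]; left; left; right; exact ⟨i, hi, rfl⟩
    have h2 := PresentedGroup.one_of_mem h1
    rw [map_pow] at h2
    exact h2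
  have r3 : ∀ i j : Fin (m + 1), j.val = i.val + 1 →
      ((PresentedGroup.of i : PresentedGroup rels) * PresentedGroup.of j) ^ 3 = 1 := by
    intro i j hi
    have h1 : (FreeGroup.of i * FreeGroup.of j) ^ 3 ∈ rels := by
      rw [hrels]; left; right; exact ⟨i, j, hi, rfl⟩
    have h2 := PresentedGroup.one_of_mem h1
    rw [map_pow, map_mul] at h2
    exact h2
  have r4 : ∀ i j : Fin (m + 1), i.val + 1 < j.val →
      ((PresentedGroup.of i : PresentedGroup rels) * PresentedGroup.of j) ^ 2 = 1 := by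
    intro i j hi
    have h1 : (FreeGroup.of i * FreeGroup.of j) ^ 2 ∈ rels := by
      rw [hrels]; right; exact ⟨i, j, hi, rfl⟩
    have h2 := PresentedGroup.one_of_mem h1
    rw [map_pow, map_mul] at h2
    exact h2
  let σ : ℕ → PresentedGroup rels := fun j => if h : j < m + 1 then PresentedGroup.of ⟨j, h⟩ else 1
  have hσ : ∀ j (h : j < m + 1), σ j = PresentedGroup.of ⟨j, h⟩ := fun j h => dif_pos h
  have hinv : ∀ i, 1 ≤ i → i < m + 1 → σ i * σ i = 1 := by
    intro i h1 hi
    rw [hσ i hi, ← sq]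
    exact r2 _ h1
  have hrel : RelA σ (m + 1) := by
    refine ⟨?_, hinv, ?_, ?_, ?_, ?_⟩
    · intro h0
      have h1 := r1 ⟨0, h0⟩ rfl
      rw [hσ 0 h0, mul_assoc, ← pow_three]
      exact h1
    · intro i h1 hi
      apply Cfsg.Agent.S2530.braid (hinv i h1 (by omega)) (hinv (i + 1) (by omega) hi)
      rw [hσ i (by omega), hσ (i + 1) hi]
      exact r3 _ _ rfl
    · intro i j h1 hij hj
      apply comm_of_sq (hinv i h1 (by omega)) (hinv j (by omega) hj)
      rw [hσ i (by omega), hσ j hj]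
      exact r4 _ _ hij
    · intro h1
      have h3 : (σ 0 * σ 1) ^ 3 = 1 := by
        rw [hσ 0 (by omega), hσ 1 h1]
        exact r3 _ _ rfl
      have hs1i : (σ 1)⁻¹ = σ 1 := inv_eq_of_mul_eq_one_left (hinv 1 (le_refl _) h1)
      have h4 : σ 0 * (σ 1 * σ 0 * σ 1) * (σ 0 * σ 1) = 1 := by
        rw [pow_three] at h3
        simpa only [mul_assoc] using h3
      calc σ 1 * σ 0 * σ 1 = (σ 0)⁻¹ * (σ 0 * (σ 1 * σ 0 * σ 1) * (σ 0 * σ 1)) * (σ 0 * σ 1)⁻¹ := by
            group
        _ = (σ 0)⁻¹ * (σ 0 * σ 1)⁻¹ := by rw [h4, mul_one]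
        _ = (σ 0)⁻¹ * σ 1 * (σ 0)⁻¹ := by rw [mul_inv_rev, hs1i, mul_assoc]
    · intro j h1 hj
      have h3 : (σ 0 * σ j) ^ 2 = 1 := by
        rw [hσ 0 (by omega), hσ j hj]
        exact r4 _ _ h1
      have hsji : (σ j)⁻¹ = σ j := inv_eq_of_mul_eq_one_left (hinv j (by omega) hj)
      have h4 : σ 0 * (σ j * σ 0) * σ j = 1 := by
        rw [sq] at h3
        simpa only [mul_assoc] using h3
      calc σ j * σ 0 = (σ 0)⁻¹ * (σ 0 * (σ j * σ 0) * σ j) * (σ j)⁻¹ := by group
        _ = (σ 0)⁻¹ * σ j := by rw [h4, mul_one, hsji]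
  have hgens : Subgroup.closure (gens σ (m + 1)) = ⊤ := by
    rw [eq_top_iff, ← PresentedGroup.closure_range_of rels, Subgroup.closure_le]
    rintro _ ⟨i, rfl⟩
    exact Subgroup.subset_closure ⟨i, i.2, hσ i i.2⟩
  obtain ⟨hfin, hcard⟩ := mainA σ (m + 1) hrel
  rw [hgens] at hfin hcard
  haveI : Finite (PresentedGroup rels) := Set.finite_univ_iff.mp (by simpa using hfin)
  have hcard' : 2 * Nat.card (PresentedGroup rels) ≤ (m + 3).factorial := by
    have h1 : ((⊤ : Subgroup (PresentedGroup rels)) : Set (PresentedGroup rels)) = Set.univ :=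
      Subgroup.coe_top
    rw [h1, Set.ncard_univ] at hcard
    exact hcard
  -- the permutations
  let s : ℕ → Equiv.Perm (Fin (m + 3)) := fun j =>
    if h : j < m + 2 then Equiv.swap (⟨j, h⟩ : Fin (m + 2)).castSucc (⟨j, h⟩ : Fin (m + 2)).succ else 1
  have hs : ∀ j (h : j < m + 2), s j =
      Equiv.swap (⟨j, h⟩ : Fin (m + 2)).castSucc (⟨j, h⟩ : Fin (m + 2)).succ := fun j h => dif_pos h
  have hRs : Rel s (m + 2) := rel_of_liftable _ (swap_rel (m + 2)) s hs
  have hsign : ∀ j, j < m + 2 → Equiv.Perm.sign (s j) = -1 := by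
    intro j hj
    rw [hs j hj]
    apply Equiv.Perm.sign_swap
    intro hh
    have := congrArg Fin.val hh
    simp at this
  have hmem : ∀ i : Fin (m + 1), s 0 * s (i.val + 1) ∈ alternatingGroup (Fin (m + 3)) := by
    intro i
    rw [Equiv.Perm.mem_alternatingGroup, map_mul, hsign 0 (by omega), hsign _ (by omega)]
    simp
  let f : Fin (m + 1) → alternatingGroup (Fin (m + 3)) := fun i => ⟨s 0 * s (i.val + 1), hmem i⟩
  have hf : ∀ r ∈ rels, FreeGroup.lift f r = 1 := by
    intro r hr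
    rw [hrels] at hr
    rcases hr with ((⟨i, hi, rfl⟩ | ⟨i, hi, rfl⟩) | ⟨i, j, hij, rfl⟩) | ⟨i, j, hij, rfl⟩
    · rw [map_pow, FreeGroup.lift_apply_of]
      apply Subtype.ext
      rw [Subgroup.coe_pow, Subgroup.coe_one]
      show (s 0 * s (i.val + 1)) ^ 3 = 1
      rw [hi]
      exact alt_a hRs (by omega)
    · rw [map_pow, FreeGroup.lift_apply_of]
      apply Subtype.ext
      rw [Subgroup.coe_pow, Subgroup.coe_one]
      show (s 0 * s (i.val + 1)) ^ 2 = 1
      exact alt_b hRs i.val hi (by omega)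
    · rw [map_pow, map_mul, FreeGroup.lift_apply_of, FreeGroup.lift_apply_of]
      apply Subtype.ext
      rw [Subgroup.coe_pow, Subgroup.coe_one, Subgroup.coe_mul]
      show ((s 0 * s (i.val + 1)) * (s 0 * s (j.val + 1))) ^ 3 = 1
      rw [hij]
      exact alt_c hRs i.val (by omega)
    · rw [map_pow, map_mul, FreeGroup.lift_apply_of, FreeGroup.lift_apply_of]
      apply Subtype.ext
      rw [Subgroup.coe_pow, Subgroup.coe_one, Subgroup.coe_mul]
      show ((s 0 * s (i.val + 1)) * (s 0 * s (j.val + 1))) ^ 2 = 1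
      exact alt_d hRs i.val j.val hij (by omega)
  let φ : PresentedGroup rels →* alternatingGroup (Fin (m + 3)) := PresentedGroup.toGroup hf
  have hφ : ∀ i, φ (PresentedGroup.of i) = f i := fun i => PresentedGroup.toGroup.of hf
  -- surjectivity
  let K : Subgroup (Equiv.Perm (Fin (m + 3))) := φ.range.map (alternatingGroup (Fin (m + 3))).subtype
  have hyK : ∀ i, i < m + 1 → s 0 * s (i + 1) ∈ K := by
    intro i hi
    exact ⟨f ⟨i, hi⟩, ⟨PresentedGroup.of ⟨i, hi⟩, hφ _⟩, rfl⟩
  have hKalt : ∀ x ∈ K, Equiv.Perm.sign x = 1 := by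
    rintro _ ⟨y, _, rfl⟩
    exact Equiv.Perm.mem_alternatingGroup.mp y.2
  have hs0 : s 0 * s 0 = 1 := hRs.inv 0 (by omega)
  have hall : ∀ g : Equiv.Perm (Fin (m + 3)), g ∈ K ∨ ∃ x ∈ K, g = x * s 0 := by
    intro g
    have hg : g ∈ Submonoid.closure
        (Set.range fun i : Fin (m + 2) ↦ Equiv.swap i.castSucc i.succ) := by
      rw [Equiv.Perm.mclosure_swap_castSucc_succ]; exact Submonoid.mem_top g
    induction hg using Submonoid.closure_induction_right with
    | one => left; exact K.one_mem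
    | mul_right x hx y hy ih =>
      obtain ⟨⟨t, ht⟩, rfl⟩ := hy
      have hst : Equiv.swap (⟨t, ht⟩ : Fin (m + 2)).castSucc (⟨t, ht⟩ : Fin (m + 2)).succ = s t :=
        (hs t ht).symm
      simp only [hst]
      by_cases ht0 : t = 0
      · subst ht0
        rcases ih with h1 | ⟨z, hz, rfl⟩
        · right; exact ⟨x, h1, rfl⟩
        · left; rw [mul_assoc, hs0, mul_one]; exact hz
      · obtain ⟨u, rfl⟩ : ∃ u, t = u + 1 := ⟨t - 1, by omega⟩
        have hu := hyK u (by omega)
        have hsu : s (u + 1) * s (u + 1) = 1 := hRs.inv _ ht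
        rcases ih with h1 | ⟨z, hz, rfl⟩
        · right
          refine ⟨x * (s 0 * s (u + 1))⁻¹, K.mul_mem h1 (K.inv_mem hu), ?_⟩
          rw [mul_inv_rev, inv_eq_of_mul_eq_one_left hs0, inv_eq_of_mul_eq_one_left hsu]
          calc x * s (u + 1) = x * s (u + 1) * (s 0 * s 0) := by rw [hs0, mul_one]
            _ = x * (s (u + 1) * s 0) * s 0 := by simp only [mul_assoc]
        · left
          rw [mul_assoc]
          exact K.mul_mem hz hu
  have hsurj : Function.Surjective φ := by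
    intro g
    rcases hall g.1 with h1 | ⟨x, hx, hgx⟩
    · obtain ⟨y, ⟨w, hw⟩, hy⟩ := h1
      refine ⟨w, ?_⟩
      rw [hw]
      exact Subtype.ext hy
    · exfalso
      have h1 : Equiv.Perm.sign g.1 = 1 := Equiv.Perm.mem_alternatingGroup.mp g.2
      rw [hgx, map_mul, hKalt x hx, hsign 0 (by omega)] at h1
      simp at h1
  have hAcard : 2 * Nat.card (alternatingGroup (Fin (m + 3))) = (m + 3).factorial := by
    rw [two_mul_nat_card_alternatingGroup, Nat.card_perm, Nat.card_fin]
  have hbij : Function.Bijective φ := hsurj.bijective_of_nat_card_le (by omega)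
  exact ⟨MulEquiv.ofBijective φ hbij⟩

/-- A presentation of the alternating group of degree n ≥ 3 on generators x_1, …, x_{n−2} (indexed here by 0, …, n−3): the first generator cubes to 1, every other generator squares to 1, the product of two consecutive generators has order dividing 3, and the product of two generators at distance at least 2 has order dividing 2. The group so presented is isomorphic to the alternating group of degree n. -/
theorem result (n : ℕ) (hn : 3 ≤ n) :
    Nonempty (PresentedGroup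
      ({g : FreeGroup (Fin (n - 2)) | ∃ i : Fin (n - 2), i.val = 0 ∧ g = FreeGroup.of i ^ 3} ∪
       {g | ∃ i : Fin (n - 2), 1 ≤ i.val ∧ g = FreeGroup.of i ^ 2} ∪
       {g | ∃ i j : Fin (n - 2), j.val = i.val + 1 ∧ g = (FreeGroup.of i * FreeGroup.of j) ^ 3} ∪
       {g | ∃ i j : Fin (n - 2), i.val + 1 < j.val ∧ g = (FreeGroup.of i * FreeGroup.of j) ^ 2})
      ≃* alternatingGroup (Fin n)) := by
  obtain ⟨m, rfl⟩ : ∃ m, n = m + 3 := ⟨n - 3, by omega⟩
  exact key m (m + 3 - 2) (by omega) _ rfl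

end Cfsg.Agent.S3335
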