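import Mathlib
import Cfsg.Statements.S3374
import Cfsg.Agent.Lib.Helper22.Frob

set_option autoImplicit false
open Cfsg

namespace Cfsg.Agent.S3374

open Matrix Cfsg.Agent.Lib.Helper22

/-- table of an embedding `SL(2,5) → SL(2,11)`; the matrix `(a b; c d)` is looked up at `(a,b,c)`
when `a ≠ 0` and at `(0,b,d)` otherwise. -/
def tab : Fin 5 → Fin 5 → Fin 5 → (ZMod 11 × ZMod 11 × ZMod 11 × ZMod 11) :=
  ![![![(0, 0, 0, 0), (0, 0, 0, 0), (0, 0, 0, 0), (0, 0, 0, 0), (0, 0, 0, 0)],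
    ![(0, 1, 10, 0), (0, 3, 7, 1), (0, 9, 6, 7), (0, 5, 2, 4), (0, 4, 8, 10)],
    ![(4, 7, 7, 7), (9, 2, 2, 3), (1, 10, 10, 2), (5, 6, 6, 3), (3, 8, 8, 7)],
    ![(7, 4, 4, 4), (8, 3, 3, 4), (6, 5, 5, 8), (10, 1, 1, 9), (2, 9, 9, 8)],
    ![(0, 10, 1, 0), (0, 7, 3, 1), (0, 6, 9, 7), (0, 2, 5, 4), (0, 8, 4, 10)]],
  ![![(1, 0, 0, 1), (3, 0, 1, 4), (9, 0, 7, 5), (5, 0, 4, 9), (4, 0, 10, 3)],
    ![(3, 1, 0, 4), (9, 3, 3, 6), (5, 9, 10, 5), (4, 5, 1, 7), (1, 4, 8, 0)],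
    ![(9, 7, 0, 5), (5, 10, 9, 5), (4, 8, 8, 8), (1, 2, 3, 7), (3, 6, 2, 8)],
    ![(5, 4, 0, 9), (4, 1, 5, 7), (1, 3, 2, 7), (3, 9, 9, 9), (9, 5, 6, 1)],
    ![(4, 10, 0, 3), (1, 8, 4, 0), (3, 2, 6, 8), (9, 6, 5, 1), (5, 7, 7, 10)]],
  ![![(7, 7, 7, 4), (2, 2, 3, 9), (10, 10, 2, 1), (6, 6, 3, 5), (8, 8, 7, 3)],
    ![(2, 3, 2, 9), (10, 4, 4, 5), (6, 9, 10, 6), (8, 1, 4, 2), (7, 5, 2, 0)],
    ![(10, 2, 10, 1), (6, 10, 9, 6), (8, 6, 6, 6), (7, 8, 9, 1), (2, 7, 10, 8)],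
    ![(6, 3, 6, 5), (8, 4, 1, 2), (7, 9, 8, 1), (2, 1, 1, 1), (10, 5, 6, 2)],
    ![(8, 7, 8, 3), (7, 2, 5, 0), (2, 10, 7, 8), (10, 6, 5, 2), (6, 8, 8, 9)]],
  ![![(4, 4, 4, 7), (3, 3, 4, 8), (5, 5, 8, 6), (1, 1, 9, 10), (9, 9, 8, 2)],
    ![(3, 4, 3, 8), (5, 3, 3, 2), (1, 5, 6, 9), (9, 1, 4, 3), (4, 9, 6, 0)],
    ![(5, 8, 5, 6), (1, 6, 5, 9), (9, 10, 10, 10), (4, 2, 3, 10), (3, 7, 10, 9)],
    ![(1, 9, 1, 10), (9, 4, 1, 3), (4, 3, 2, 10), (3, 5, 5, 5), (5, 1, 2, 5)],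
    ![(9, 8, 9, 2), (4, 6, 9, 0), (3, 10, 7, 9), (5, 2, 1, 5), (1, 7, 7, 6)]],
  ![![(10, 0, 0, 10), (7, 0, 1, 8), (6, 0, 7, 2), (2, 0, 4, 6), (8, 0, 10, 7)],
    ![(7, 1, 0, 8), (6, 4, 4, 1), (2, 5, 6, 10), (8, 9, 5, 3), (10, 3, 7, 0)],
    ![(6, 7, 0, 2), (2, 6, 5, 10), (8, 2, 2, 2), (10, 8, 9, 4), (7, 10, 6, 4)],
    ![(2, 4, 0, 6), (8, 5, 9, 3), (10, 9, 8, 4), (7, 3, 3, 3), (6, 1, 2, 6)],
    ![(8, 10, 0, 7), (10, 7, 3, 0), (7, 6, 10, 4), (6, 2, 1, 6), (2, 8, 8, 5)]]]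

def gM (M : Matrix (Fin 2) (Fin 2) (ZMod 5)) : Matrix (Fin 2) (Fin 2) (ZMod 11) :=
  let t := if M 0 0 = 0 then tab 0 (M 0 1) (M 1 1) else tab (M 0 0) (M 0 1) (M 1 0)
  !![t.1, t.2.1; t.2.2.1, t.2.2.2]

set_option maxRecDepth 1000000 in
theorem gM_mul : ∀ x y : SpecialLinearGroup (Fin 2) (ZMod 5), gM (x * y).1 = gM x.1 * gM y.1 := by
  decide +kernel

theorem gM_one : gM (1 : SpecialLinearGroup (Fin 2) (ZMod 5)).1 = 1 := by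
  decide +kernel

set_option maxRecDepth 1000000 in
theorem gM_fpf : ∀ x : SpecialLinearGroup (Fin 2) (ZMod 5), x ≠ 1 → ∀ v : Fin 2 → ZMod 11,
    (gM x.1).mulVec v = v → v = 0 := by
  decide +kernel

/-- the action of `SL(2,5)` on `𝔽₁₁²` -/
@[instance_reducible] def act : DistribMulAction (SpecialLinearGroup (Fin 2) (ZMod 5)) (Fin 2 → ZMod 11) where
  smul x v := (gM x.1).mulVec v
  one_smul v := by
    change (gM (1 : SpecialLinearGroup (Fin 2) (ZMod 5)).1).mulVec v = v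
    rw [gM_one, Matrix.one_mulVec]
  mul_smul x y v := by
    change (gM (x * y).1).mulVec v = (gM x.1).mulVec ((gM y.1).mulVec v)
    rw [gM_mul, Matrix.mulVec_mulVec]
  smul_zero x := Matrix.mulVec_zero _
  smul_add x v w := Matrix.mulVec_add _ _ _

/-- SL(2,5) occurs as a Frobenius complement: there is a finite group L with a subgroup H isomorphic to SL(2,5) which is a non-trivial proper subgroup meeting each conjugate gHg⁻¹ with g outside H trivially. -/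
theorem result :
    ∃ (L : Type) (_ : Group L) (_ : Finite L) (H : Subgroup L),
      Cfsg.IsFrobeniusComplement H ∧ Nonempty (H ≃* Matrix.SpecialLinearGroup (Fin 2) (ZMod 5)) := by
  have hnt : Nontrivial (SpecialLinearGroup (Fin 2) (ZMod 5)) := ⟨1, -1, by decide +kernel⟩
  have hnt' : Nontrivial (Fin 2 → ZMod 11) := ⟨0, 1, by decide⟩
  obtain ⟨L, i1, i2, H, hH, ⟨e⟩⟩ := @exists_frobenius_of_fpf_add
    (SpecialLinearGroup (Fin 2) (ZMod 5)) (Fin 2 → ZMod 11) _ _ hnt _ _ hnt' act gM_fpf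
  exact ⟨L, i1, i2, H, hH, ⟨e.symm⟩⟩

end Cfsg.Agent.S3374
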