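import Cfsg.Statements.S3495
import Cfsg.Agent.Lib.Helper19.Manning

set_option autoImplicit false
open Cfsg

namespace Cfsg.Agent.S3495

/-- Let a finite group G act faithfully and primitively on a finite set Ω with non-trivial point stabilizers, each acting primitively on every one of its orbits (an extremely primitive group), and suppose G has an elementary abelian normal p-subgroup N acting regularly on Ω (affine type). Then every non-trivial subgroup M of a point stabilizer G_α that is normal in G_α has the same orbits on Ω as G_α, and normalizes no subgroup of N other than 1 and N. -/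
theorem result {G : Type*} [Group G] [Finite G] {Ω : Type*} [Fintype Ω] [MulAction G Ω] [FaithfulSMul G Ω] (hprim : MulAction.IsPreprimitive G Ω) (hH : ∀ α : Ω, MulAction.stabilizer G α ≠ ⊥) (hep : ∀ (α : Ω) (ω : Ω), MulAction.IsPreprimitive (MulAction.stabilizer G α) (MulAction.orbit (MulAction.stabilizer G α) ω))
    (N : Subgroup G) [N.Normal] (hNc : IsMulCommutative N) (p : ℕ) (hp : p.Prime) (hNp : ∀ n ∈ N, n ^ p = 1)
    (hNtr : MulAction.IsPretransitive N Ω) (hNreg : ∀ ω : Ω, MulAction.stabilizer N ω = ⊥) (α : Ω) (M : Subgroup G) (hM : M ≠ ⊥) (hMle : M ≤ MulAction.stabilizer G α)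
    (hMn : MulAction.stabilizer G α ≤ Subgroup.normalizer (M : Set G)) :
    (∀ ω : Ω, MulAction.orbit M ω = MulAction.orbit (MulAction.stabilizer G α) ω) ∧
    (∀ L : Subgroup G, L ≤ N → M ≤ Subgroup.normalizer (L : Set G) → L = ⊥ ∨ L = N) := by
  set_option linter.style.haveILetI false in
  classical
  have hreg : ∀ n ∈ N, ∀ n' ∈ N, n • α = n' • α → n = n' := by
    intro n hn n' hn' h
    have h1 : (⟨n'⁻¹ * n, N.mul_mem (N.inv_mem hn') hn⟩ : N) ∈ MulAction.stabilizer N α := by
      rw [MulAction.mem_stabilizer_iff]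
      show (n'⁻¹ * n) • α = α
      rw [mul_smul, h, inv_smul_smul]
    rw [hNreg α, Subgroup.mem_bot] at h1
    have h2 : n'⁻¹ * n = 1 := congrArg Subtype.val h1
    exact (inv_mul_eq_one.mp h2).symm
  have horb : ∀ ω : Ω, MulAction.orbit M ω = MulAction.orbit (MulAction.stabilizer G α) ω := by
    intro ω
    apply Set.Subset.antisymm
    · rintro _ ⟨k, rfl⟩
      exact ⟨⟨k.1, hMle k.2⟩, rfl⟩
    · rcases Cfsg.Agent.Lib.Helper19.Manning.dichotomy hep α M hMle hMn ω with d | d
      · by_cases hω : ω = α
        · rintro _ ⟨a, rfl⟩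
          rw [hω]
          have : a • α = α := a.2
          show a • α ∈ _
          rw [this]
          exact MulAction.mem_orbit_self α
        · exfalso
          apply hM
          rw [Subgroup.eq_bot_iff_forall]
          intro k hk
          exact Cfsg.Agent.Lib.Helper19.Manning.manning hprim hH hep α ω hω k (hMle hk)
            (fun x hx => d x hx k hk)
      · intro w hw
        obtain ⟨k, hk, rfl⟩ := d w hw
        exact ⟨⟨k, hk⟩, rfl⟩
  refine ⟨horb, ?_⟩
  intro L hLN hML
  by_cases hL : L = ⊥
  · exact Or.inl hL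
  right
  have hSL : ∀ a ∈ MulAction.stabilizer G α, ∀ l ∈ L, a * l * a⁻¹ ∈ L := by
    intro a ha l hl
    have haα : a • α = α := ha
    have h1 : a • (l • α) ∈ MulAction.orbit M (l • α) := by
      rw [horb]
      exact ⟨⟨a, ha⟩, rfl⟩
    obtain ⟨k, hk⟩ := h1
    have hkα : (k : G) • α = α := hMle k.2
    have hk' : (k : G) • (l • α) = a • (l • α) := hk
    have h2 : ((k : G) * l * (k : G)⁻¹) • α = (a * l * a⁻¹) • α := by
      rw [mul_smul, mul_smul, mul_smul, mul_smul, inv_smul_eq_iff.mpr hkα.symm,
        inv_smul_eq_iff.mpr haα.symm, hk']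
    have h3 : (k : G) * l * (k : G)⁻¹ = a * l * a⁻¹ :=
      hreg _ (‹N.Normal›.conj_mem l (hLN hl) k) _ (‹N.Normal›.conj_mem l (hLN hl) a) h2
    rw [← h3]
    exact (Subgroup.mem_normalizer_iff.mp (hML k.2) l).mp hl
  haveI hLnorm : L.Normal := by
    constructor
    intro l hl g
    obtain ⟨n, hn⟩ := MulAction.exists_smul_eq N α (g • α)
    have hn' : (n : G) • α = g • α := hn
    have ha : (n : G)⁻¹ * g ∈ MulAction.stabilizer G α := by
      rw [MulAction.mem_stabilizer_iff, mul_smul, ← hn', inv_smul_smul]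
    have h1 := hSL _ ha l hl
    have h2 : g * l * g⁻¹ = (n : G) * (((n : G)⁻¹ * g) * l * ((n : G)⁻¹ * g)⁻¹) * (n : G)⁻¹ := by
      group
    have h3 : ∀ x ∈ L, (n : G) * x * (n : G)⁻¹ = x := by
      intro x hx
      have hc : (n : G) * x = x * (n : G) := by
        have := hNc.is_comm.comm n ⟨x, hLN hx⟩
        exact congrArg Subtype.val this
      rw [hc, mul_inv_cancel_right]
    rw [h2, h3 _ h1]
    exact h1
  haveI := hprim
  have hfp : MulAction.fixedPoints L Ω ≠ Set.univ := by
    intro h
    apply hL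
    rw [Subgroup.eq_bot_iff_forall]
    intro l hl
    apply FaithfulSMul.eq_of_smul_eq_smul (α := Ω)
    intro w
    rw [one_smul]
    have : w ∈ MulAction.fixedPoints L Ω := by rw [h]; trivial
    exact this ⟨l, hl⟩
  haveI : MulAction.IsPretransitive L Ω :=
    MulAction.IsQuasiPreprimitive.isPretransitive_of_normal (G := G) (X := Ω) hfp
  apply le_antisymm hLN
  intro n hn
  obtain ⟨l, hl⟩ := MulAction.exists_smul_eq L α (n • α)
  have hl' : (l : G) • α = n • α := hl
  rw [← hreg _ (hLN l.2) _ hn hl']
  exact l.2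

end Cfsg.Agent.S3495
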