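import Cfsg.Statements.S3554

set_option autoImplicit false
open Cfsg

namespace Cfsg.Agent.S3554

/-- Let G act faithfully and transitively on a finite set and suppose G has a non-trivial cyclic normal subgroup. Then some element of G of prime order fixes no point. -/
theorem result {G Ω : Type*} [Group G] [Finite G] [MulAction G Ω] [FaithfulSMul G Ω] [Finite Ω]
    (htrans : MulAction.IsPretransitive G Ω) (C : Subgroup G) (hC : C.Normal) (hC1 : C ≠ ⊥) (hcyc : IsCyclic ↥C) :
    ∃ g : G, (orderOf g).Prime ∧ ∀ ω : Ω, g • ω ≠ ω := by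
  obtain ⟨⟨c, hc⟩, hgen⟩ := hcyc.exists_generator
  have hgen' : ∀ y ∈ C, ∃ j : ℤ, c ^ j = y := by
    intro y hy
    obtain ⟨j, hj⟩ := Subgroup.mem_zpowers_iff.mp (hgen ⟨y, hy⟩)
    exact ⟨j, by simpa using congrArg Subtype.val hj⟩
  have hc1 : c ≠ 1 := by
    intro h1
    apply hC1
    rw [Subgroup.eq_bot_iff_forall]
    intro y hy
    obtain ⟨j, hj⟩ := hgen' y hy
    rw [← hj, h1, one_zpow]
  have hoc : orderOf c ≠ 1 := by rwa [Ne, orderOf_eq_one_iff]
  obtain ⟨p, hp, hpd⟩ := Nat.exists_prime_and_dvd hoc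
  have hg : orderOf (c ^ (orderOf c / p)) = p :=
    orderOf_pow_orderOf_div (orderOf_pos c).ne' hpd
  refine ⟨c ^ (orderOf c / p), by rw [hg]; exact hp, ?_⟩
  intro ω hω
  -- every conjugate of g is a power of g
  have hconj : ∀ x : G, ∃ l : ℤ, x⁻¹ * c ^ (orderOf c / p) * x = (c ^ (orderOf c / p)) ^ l := by
    intro x
    have hmem : x⁻¹ * c ^ (orderOf c / p) * x ∈ C := by
      have := hC.conj_mem _ (C.pow_mem hc (orderOf c / p)) x⁻¹
      simpa using this
    obtain ⟨j, hj⟩ := hgen' _ hmem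
    have hpow : (x⁻¹ * c ^ (orderOf c / p) * x) ^ p = 1 := by
      have h1 : (x⁻¹ * c ^ (orderOf c / p) * x) ^ p = x⁻¹ * (c ^ (orderOf c / p)) ^ p * x := by
        have := conj_pow (a := x⁻¹) (b := c ^ (orderOf c / p)) (i := p)
        simpa using this
      rw [h1]
      have := pow_orderOf_eq_one (c ^ (orderOf c / p))
      rw [hg] at this
      rw [this]; simp
    have hdiv : (orderOf c : ℤ) ∣ j * p := by
      rw [orderOf_dvd_iff_zpow_eq_one, zpow_mul, hj, zpow_natCast, hpow]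
    obtain ⟨k, hk⟩ := hpd
    have hkdiv : orderOf c / p = k := by
      rw [hk]; exact Nat.mul_div_cancel_left k hp.pos
    have hkj : (k : ℤ) ∣ j := by
      rw [hk] at hdiv
      push_cast at hdiv
      rw [mul_comm (p : ℤ) k] at hdiv
      exact Int.dvd_of_mul_dvd_mul_right (by exact_mod_cast hp.ne_zero) hdiv
    obtain ⟨l, rfl⟩ := hkj
    refine ⟨l, ?_⟩
    rw [← hj, hkdiv, zpow_mul, zpow_natCast]
  have hfixall : ∀ ω' : Ω, c ^ (orderOf c / p) • ω' = ω' := by
    intro ω'
    obtain ⟨x, rfl⟩ := MulAction.exists_smul_eq G ω ω'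
    obtain ⟨l, hl⟩ := hconj x
    have h1 : (c ^ (orderOf c / p)) ^ l • ω = ω := by
      have : c ^ (orderOf c / p) ∈ MulAction.stabilizer G ω := hω
      exact Subgroup.zpow_mem _ this l
    rw [← hl] at h1
    have h2 : x • ((x⁻¹ * c ^ (orderOf c / p) * x) • ω) = x • ω := by rw [h1]
    rw [smul_smul] at h2
    rw [smul_smul]
    convert h2 using 2
    group
  have h1 : c ^ (orderOf c / p) = 1 := by
    apply FaithfulSMul.eq_of_smul_eq_smul (α := Ω)
    intro a
    rw [hfixall a, one_smul]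
  rw [h1, orderOf_one] at hg
  exact hp.one_lt.ne hg

end Cfsg.Agent.S3554
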