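import Cfsg.Statements.S3634
import Cfsg.Agent.Lib.Helper19.ThreePrimes

set_option autoImplicit false
open Cfsg

namespace Cfsg.Agent.S3634

/-- Let G be a finite group with normal subgroups K ≤ M, and let p, q, r be distinct primes with p dividing the order of K, q dividing the order of M/K and r dividing the order of G/M. Then p, q, r are not pairwise non-adjacent in the prime graph of G: G has an element of order pq, pr or qr. -/
theorem result {G : Type*} [Group G] [Finite G] (K M : Subgroup G) [K.Normal] [M.Normal] (hKM : K ≤ M)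
    (p q r : ℕ) (hp : p.Prime) (hq : q.Prime) (hr : r.Prime) (hpq : p ≠ q) (hpr : p ≠ r) (hqr : q ≠ r)
    (hpK : p ∣ Nat.card ↥K) (hqM : q ∣ Nat.card ↥M / Nat.card ↥K) (hrG : r ∣ Nat.card G / Nat.card ↥M) :
    (∃ x : G, orderOf x = p * q) ∨ (∃ x : G, orderOf x = p * r) ∨ (∃ x : G, orderOf x = q * r) := by
  rw [Cfsg.Agent.Lib.Helper19.card_div_card_eq_relIndex K M hKM] at hqM
  rw [Cfsg.Agent.Lib.Helper19.card_div_card_eq_index M] at hrG
  exact Cfsg.Agent.Lib.Helper19.three_primes_chain K M hKM p q r hp hq hr hpq hpr hqr hpK hqM hrG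

end Cfsg.Agent.S3634
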