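import Cfsg.Statements.S3807
import Cfsg.Agent.Lib.Helper17.AbIndexP

set_option autoImplicit false
open Cfsg

namespace Cfsg.Agent.S3807

open Cfsg.Agent.Lib.Helper17 Cfsg.Agent.Lib.Helper4
open scoped commutatorElement

theorem zp_comm {P : Type*} [Group P] (x : P) : IsMulCommutative ↥(Subgroup.zpowers x) := by
  rw [Cfsg.Agent.Lib.Helper4.isMulCommutative_iff]
  intro a ha b hb
  obtain ⟨i, rfl⟩ := Subgroup.mem_zpowers_iff.mp ha
  obtain ⟨j, rfl⟩ := Subgroup.mem_zpowers_iff.mp hb
  exact zpow_mul_comm x i j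

theorem count {S : Type*} [Group S] [Finite S] (p : ℕ) [hp : Fact p.Prime] (hna : ¬ IsMulCommutative S)
    (hZ : (Subgroup.center S).index = p ^ 2) :
    Nat.card {B : Subgroup S // IsMulCommutative ↥B ∧ B.index = p} = p + 1 := by
  classical
  have hpp := hp.out
  haveI : Fintype S := Fintype.ofFinite S
  haveI : Fintype (Subgroup S) := Fintype.ofFinite _
  obtain ⟨Z, hZdef⟩ : ∃ Z, Z = Subgroup.center S := ⟨_, rfl⟩
  rw [← hZdef] at hZ
  have hcardS : Nat.card S = Nat.card Z * p ^ 2 := by
    rw [← hZ]; exact (Subgroup.card_mul_index Z).symm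
  have hcardB : ∀ B : Subgroup S, B.index = p → Nat.card B = p * Nat.card Z := by
    intro B hB
    have h1 := Subgroup.card_mul_index B
    rw [hB, hcardS] at h1
    have h2 : Nat.card B * p = (p * Nat.card Z) * p := by rw [h1]; ring
    exact Nat.eq_of_mul_eq_mul_right hpp.pos h2
  have hZc : IsMulCommutative ↥Z := by
    rw [Cfsg.Agent.Lib.Helper4.isMulCommutative_iff]
    intro a _ b hb
    rw [hZdef] at hb
    exact Subgroup.mem_center_iff.mp hb a
  have hmem : ∀ x, x ∉ Z →
      IsMulCommutative ↥(Z ⊔ Subgroup.zpowers x) ∧ (Z ⊔ Subgroup.zpowers x).index = p := by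
    intro x hx
    have hc : IsMulCommutative ↥(Z ⊔ Subgroup.zpowers x) := by
      apply isMulCommutative_sup hZc (zp_comm x)
      intro a ha b _
      rw [hZdef] at ha
      exact (Subgroup.mem_center_iff.mp ha b).symm
    refine ⟨hc, ?_⟩
    have h1 : (Z ⊔ Subgroup.zpowers x).index ∣ p ^ 2 := hZ ▸ Subgroup.index_dvd_of_le le_sup_left
    obtain ⟨i, hi, hic⟩ := (Nat.dvd_prime_pow hpp).mp h1
    have hi0 : i ≠ 0 := by
      rintro rfl
      rw [pow_zero, Subgroup.index_eq_one] at hic
      apply hna
      rw [hic, Cfsg.Agent.Lib.Helper4.isMulCommutative_iff] at hc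
      exact ⟨⟨fun a b => hc a (Subgroup.mem_top a) b (Subgroup.mem_top b)⟩⟩
    have hi2 : i ≠ 2 := by
      rintro rfl
      apply hx
      have h2 := Subgroup.card_mul_index (Z ⊔ Subgroup.zpowers x)
      rw [hic, hcardS] at h2
      have h3 := Nat.eq_of_mul_eq_mul_right (pow_pos hpp.pos 2) h2
      have h4 : Z = Z ⊔ Subgroup.zpowers x := Subgroup.eq_of_le_of_card_ge le_sup_left h3.le
      rw [h4]
      exact (le_sup_right : Subgroup.zpowers x ≤ _) (Subgroup.mem_zpowers x)
    have hi1 : i = 1 := by omega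
    rw [hic, hi1, pow_one]
  have hf : ∀ B : Subgroup S, IsMulCommutative ↥B → B.index = p → ∀ x, x ∉ Z →
      (Z ⊔ Subgroup.zpowers x = B ↔ x ∈ B) := by
    intro B hBc hBi x hx
    constructor
    · rintro rfl
      exact (le_sup_right : Subgroup.zpowers x ≤ _) (Subgroup.mem_zpowers x)
    · intro hxB
      have hZB : Z ≤ B := hZdef ▸ center_le_of_index_p hna B hBc hBi
      apply Subgroup.eq_of_le_of_card_ge (sup_le hZB (Subgroup.zpowers_le.mpr hxB))
      rw [hcardB B hBi, hcardB _ (hmem x hx).2]
  have ht : Nat.card {B : Subgroup S // IsMulCommutative ↥B ∧ B.index = p}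
      = (Finset.univ.filter (fun B : Subgroup S => IsMulCommutative ↥B ∧ B.index = p)).card := by
    rw [Nat.card_eq_fintype_card, Fintype.card_subtype]
  have hcz : ∀ H : Subgroup S, (Finset.univ.filter (fun x => x ∈ H)).card = Nat.card H := by
    intro H; rw [Nat.card_eq_fintype_card, Fintype.card_subtype]
  have hs : (Finset.univ.filter (fun x => ¬ x ∈ Z)).card + Nat.card Z = Nat.card S := by
    have h1 := Finset.card_filter_add_card_filter_not (s := (Finset.univ : Finset S))
      (fun x => x ∈ Z)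
    rw [hcz, Finset.card_univ, ← Nat.card_eq_fintype_card] at h1
    omega
  have hsum := Finset.card_eq_sum_card_fiberwise (f := fun x => Z ⊔ Subgroup.zpowers x)
    (s := Finset.univ.filter (fun x => ¬ x ∈ Z))
    (t := Finset.univ.filter (fun B : Subgroup S => IsMulCommutative ↥B ∧ B.index = p)) (by
      intro x hx
      have hx' : ¬ x ∈ Z := (Finset.mem_filter.mp hx).2
      exact Finset.mem_coe.mpr (Finset.mem_filter.mpr ⟨Finset.mem_univ _, hmem x hx'⟩))
  have hfib : ∀ B ∈ Finset.univ.filter (fun B : Subgroup S => IsMulCommutative ↥B ∧ B.index = p),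
      ((Finset.univ.filter (fun x => ¬ x ∈ Z)).filter (fun x => Z ⊔ Subgroup.zpowers x = B)).card
        = p * Nat.card Z - Nat.card Z := by
    intro B hB
    obtain ⟨hBc, hBi⟩ := (Finset.mem_filter.mp hB).2
    have hZB : Z ≤ B := hZdef ▸ center_le_of_index_p hna B hBc hBi
    have h1 : (Finset.univ.filter (fun x => ¬ x ∈ Z)).filter (fun x => Z ⊔ Subgroup.zpowers x = B)
        = (Finset.univ.filter (fun x => x ∈ B)).filter (fun x => ¬ x ∈ Z) := by
      ext x
      simp only [Finset.mem_filter, Finset.mem_univ, true_and]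
      constructor
      · rintro ⟨hx, hxB⟩; exact ⟨(hf B hBc hBi x hx).mp hxB, hx⟩
      · rintro ⟨hxB, hx⟩; exact ⟨hx, (hf B hBc hBi x hx).mpr hxB⟩
    have h2 : (Finset.univ.filter (fun x => x ∈ B)).filter (fun x => x ∈ Z)
        = Finset.univ.filter (fun x => x ∈ Z) := by
      ext x
      simp only [Finset.mem_filter, Finset.mem_univ, true_and]
      exact ⟨fun h => h.2, fun h => ⟨hZB h, h⟩⟩
    have h3 := Finset.card_filter_add_card_filter_not
      (s := Finset.univ.filter (fun x => x ∈ B)) (fun x => x ∈ Z)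
    rw [h2, hcz, hcz, hcardB B hBi] at h3
    rw [h1]; omega
  rw [Finset.sum_const_nat hfib] at hsum
  rw [ht]
  obtain ⟨n, hn⟩ : ∃ n, n = (Finset.univ.filter
    (fun B : Subgroup S => IsMulCommutative ↥B ∧ B.index = p)).card := ⟨_, rfl⟩
  obtain ⟨z, hz⟩ : ∃ z, z = Nat.card Z := ⟨_, rfl⟩
  obtain ⟨c, hc0⟩ : ∃ c, c = p * z - z := ⟨_, rfl⟩
  have hzpos : 0 < z := hz ▸ Nat.card_pos
  rw [← hn, ← hz, ← hc0] at hsum
  rw [hsum, hcardS, ← hz] at hs
  rw [← hn]
  have hle : z ≤ p * z := Nat.le_mul_of_pos_left z hpp.pos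
  have hc : c + z = p * z := by omega
  have h2 : (p + 1) * c + z = z * p ^ 2 := by
    calc (p + 1) * c + z = p * c + (c + z) := by ring
      _ = p * c + p * z := by rw [hc]
      _ = p * (c + z) := by ring
      _ = p * (p * z) := by rw [hc]
      _ = z * p ^ 2 := by ring
  have h3 : n * c = (p + 1) * c := by omega
  have hcpos : 0 < c := by
    have : 2 * z ≤ p * z := Nat.mul_le_mul_right z hpp.two_le
    omega
  exact Nat.eq_of_mul_eq_mul_right hcpos h3

/-- Let S be a non-abelian finite p-group with an abelian subgroup A of index p. Then [S : Z(S)] = p·#[S,S], and either [S,S] has order p, S/Z(S) is elementary abelian of order p², and S has exactly p + 1 abelian subgroups of index p; or [S,S] has order at least p² and A is the only abelian subgroup of index p in S. -/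
theorem result {S : Type*} [Group S] [Finite S] (p : ℕ) [Fact p.Prime] (hS : IsPGroup p S) (hna : ¬ IsMulCommutative S)
    (A : Subgroup S) (hA : IsMulCommutative ↥A) (hAi : A.index = p) :
    (Subgroup.center S).index = p * Nat.card (commutator S) ∧
      ((Nat.card (commutator S) = p ∧ Cfsg.IsElementaryAbelian p (⊤ : Subgroup (S ⧸ Subgroup.center S)) ∧
          Nat.card (S ⧸ Subgroup.center S) = p ^ 2 ∧
          Nat.card {B : Subgroup S // IsMulCommutative ↥B ∧ B.index = p} = p + 1) ∨
        (p ^ 2 ≤ Nat.card (commutator S) ∧ ∀ B : Subgroup S, IsMulCommutative ↥B → B.index = p → B = A)) := by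
  have hpp : p.Prime := Fact.out
  have hkl := index_center_eq p hS hna A hA hAi
  refine ⟨hkl, ?_⟩
  have hD1 : commutator S ≠ ⊥ := by
    intro h
    apply hna
    refine ⟨⟨fun a b => ?_⟩⟩
    have h1 : ⁅a, b⁆ ∈ commutator S :=
      Subgroup.commutator_mem_commutator (Subgroup.mem_top a) (Subgroup.mem_top b)
    rw [h, Subgroup.mem_bot, commutatorElement_eq_one_iff_mul_comm] at h1
    exact h1
  obtain ⟨i, hi⟩ := IsPGroup.iff_card.mp (hS.to_subgroup (commutator S))
  have hi0 : i ≠ 0 := by
    rintro rfl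
    rw [pow_zero, Subgroup.card_eq_one] at hi
    exact hD1 hi
  by_cases hi1 : i = 1
  · left
    rw [hi1, pow_one] at hi
    have hZ : (Subgroup.center S).index = p ^ 2 := by rw [hkl, hi]; ring
    have hq : Nat.card (S ⧸ Subgroup.center S) = p ^ 2 := by
      rw [← Subgroup.index_eq_card]; exact hZ
    refine ⟨hi, ⟨?_, ?_⟩, hq, count p hna hZ⟩
    · have h1 : IsMulCommutative (S ⧸ Subgroup.center S) :=
        IsPGroup.isMulCommutative_of_card_eq_prime_sq hq
      rw [Cfsg.Agent.Lib.Helper4.isMulCommutative_iff]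
      intro a _ b _
      exact h1.is_comm.comm a b
    · intro a _
      have h1 : orderOf a ∣ p ^ 2 := hq ▸ orderOf_dvd_natCard a
      obtain ⟨j, hj, hjc⟩ := (Nat.dvd_prime_pow hpp).mp h1
      have hj2 : j ≠ 2 := by
        rintro rfl
        apply hna
        haveI : IsCyclic (S ⧸ Subgroup.center S) :=
          isCyclic_of_orderOf_eq_card a (by rw [hjc, hq])
        exact isMulCommutative_of_isCyclic_quotient_center_self S
      have h2 : orderOf a ∣ p := by
        rw [hjc]
        have : j = 0 ∨ j = 1 := by omega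
        rcases this with rfl | rfl
        · simp
        · simp
      exact orderOf_dvd_iff_pow_eq_one.mp h2
  · right
    have hi2 : 2 ≤ i := by omega
    refine ⟨by rw [hi]; exact Nat.pow_le_pow_right hpp.pos hi2, ?_⟩
    intro B hBc hBi
    by_contra hne
    have hAc := (Cfsg.Agent.Lib.Helper4.isMulCommutative_iff A).mp hA
    have hBc' := (Cfsg.Agent.Lib.Helper4.isMulCommutative_iff B).mp hBc
    have hcardAB : Nat.card A = Nat.card B := by
      have h1 := Subgroup.card_mul_index A
      have h2 := Subgroup.card_mul_index B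
      rw [hAi] at h1
      rw [hBi, ← h1] at h2
      exact (Nat.eq_of_mul_eq_mul_right hpp.pos h2).symm
    have hBA : ¬ B ≤ A := fun h => hne (Subgroup.eq_of_le_of_card_ge h hcardAB.le)
    obtain ⟨b, hbB, hbA⟩ := SetLike.not_le_iff_exists.mp hBA
    have hsup : A ⊔ B = ⊤ := by
      rw [eq_top_iff, ← sup_zpowers_eq_top A hAi hbA]
      exact sup_le_sup_left (Subgroup.zpowers_le.mpr hbB) _
    have hle : A ⊓ B ≤ Subgroup.center S := by
      intro z hz
      obtain ⟨hzA, hzB⟩ := Subgroup.mem_inf.mp hz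
      have h1 : Subgroup.centralizer ({z} : Set S) = ⊤ := by
        rw [eq_top_iff, ← hsup]
        apply sup_le
        · intro a ha
          rw [Subgroup.mem_centralizer_singleton_iff]; exact hAc a ha z hzA
        · intro a ha
          rw [Subgroup.mem_centralizer_singleton_iff]; exact hBc' a ha z hzB
      rw [Subgroup.mem_center_iff]
      intro y
      have h2 : y ∈ Subgroup.centralizer ({z} : Set S) := by rw [h1]; trivial
      exact Subgroup.mem_centralizer_singleton_iff.mp h2
    have h1 : (Subgroup.center S).index ≤ (A ⊓ B).index :=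
      Nat.le_of_dvd (Nat.pos_of_ne_zero Subgroup.index_ne_zero_of_finite)
        (Subgroup.index_dvd_of_le hle)
    have h2 : (A ⊓ B).index ≤ A.index * B.index := Subgroup.index_inf_le
    rw [hAi, hBi] at h2
    rw [hkl, hi] at h1
    have h3 : p * p ^ i ≤ p * p := h1.trans h2
    have h4 : p ^ i ≤ p ^ 1 := by rw [pow_one]; exact Nat.le_of_mul_le_mul_left h3 hpp.pos
    have h5 := (Nat.pow_le_pow_iff_right hpp.one_lt).mp h4
    omega

end Cfsg.Agent.S3807
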