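import Cfsg.Statements.S3808
import Cfsg.Agent.Lib.Helper20.Extraspecial

set_option autoImplicit false
open Cfsg Cfsg.Agent.Lib.Helper20

namespace Cfsg.Agent.S3808




/-- Let S be a finite p-group with an extraspecial subgroup Q of index p. Then either Z(S) = Z(Q), or S = Q·Z(S) and Z(S) has order p². -/
theorem result {S : Type*} [Group S] [Finite S] (p : ℕ) [Fact p.Prime] (hS : IsPGroup p S) (Q : Subgroup S) (hQ : Cfsg.IsExtraspecial p ↥Q) (hQi : Q.index = p) :
    Subgroup.center S = (Subgroup.center ↥Q).map Q.subtype ∨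
      (Q ⊔ Subgroup.center S = ⊤ ∧ Nat.card (Subgroup.center S) = p ^ 2) := by
  classical
  have hp : p.Prime := Fact.out
  haveI hQn : Q.Normal := normal_of_index_eq_p hS Q hQi
  haveI hZn : (zOf Q).Normal := zOf_normal Q
  have hZc : Nat.card (zOf Q) = p := by rw [card_zOf]; exact hQ.2
  have hZle : zOf Q ≤ Subgroup.center S := le_center_of_normal_of_card_eq_p hS _ hZn hZc
  have hinf : Subgroup.center S ⊓ Q = zOf Q :=
    le_antisymm (center_inf_le_zOf Q) (le_inf hZle (zOf_le Q))
  by_cases hle : Subgroup.center S ≤ Q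
  · left
    change _ = zOf Q
    rw [← hinf]
    exact (inf_eq_left.2 hle).symm
  · right
    have htop : Q ⊔ Subgroup.center S = ⊤ := by
      apply eq_top_of_lt_of_index_prime hp hQi
      refine lt_of_le_of_ne le_sup_left ?_
      intro h
      apply hle
      rw [h]
      exact le_sup_right
    refine ⟨htop, ?_⟩
    have h1 : Q.relIndex (Subgroup.center S) = p := by
      rw [← Subgroup.relIndex_sup_left, htop, Subgroup.relIndex_top_right, hQi]
    have h2 := card_mul_relIndex_of_le (inf_le_left : Subgroup.center S ⊓ Q ≤ Subgroup.center S)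
    rw [Subgroup.inf_relIndex_left, h1, hinf, hZc] at h2
    rw [← h2, sq]

end Cfsg.Agent.S3808
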