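import Cfsg.Statements.S3809
import Mathlib
import Cfsg.Agent.Lib.Helper20.Extraspecial2

set_option autoImplicit false
open Cfsg Cfsg.Agent.Lib.Helper20 commutatorElement

namespace Cfsg.Agent.S3809




/-- Let S be a finite p-group with an extraspecial subgroup of index p. Then S has order p^(2+2n) for some n ≥ 1, derived length at most 3, and exponent dividing p³. -/
theorem result {S : Type*} [Group S] [Finite S] (p : ℕ) [Fact p.Prime] (hS : IsPGroup p S) (Q : Subgroup S) (hQ : Cfsg.IsExtraspecial p ↥Q) (hQi : Q.index = p) :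
    (∃ n : ℕ, 1 ≤ n ∧ Nat.card S = p ^ (2 + 2 * n)) ∧ derivedSeries S 3 = ⊥ ∧ ∀ x : S, x ^ (p ^ 3) = 1 := by
  classical
  have hp : p.Prime := Fact.out
  haveI hQn : Q.Normal := normal_of_index_eq_p hS Q hQi
  obtain ⟨n, hn1, hn, -, -⟩ := extraspecial_card hQ
  refine ⟨⟨n, hn1, ?_⟩, ?_, ?_⟩
  · rw [← Subgroup.card_mul_index Q, hn, hQi, ← pow_succ]
    congr 1; omega
  · have h1 : derivedSeries S 1 ≤ Q := by
      rw [derivedSeries_succ, derivedSeries_zero]
      exact Cfsg.Agent.Lib.Helper1.commutator_le_of_index_prime (hQi ▸ hp)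
    have h2 : derivedSeries S 2 ≤ zOf Q := by
      rw [derivedSeries_succ]
      refine (Subgroup.commutator_mono h1 h1).trans ?_
      rw [Subgroup.commutator_le]
      intro a ha b hb
      have h3 : ⁅(⟨a, ha⟩ : Q), ⟨b, hb⟩⁆ ∈ commutator Q :=
        Subgroup.commutator_mem_commutator (Subgroup.mem_top _) (Subgroup.mem_top _)
      rw [hQ.1.2.2] at h3
      exact ⟨_, h3, rfl⟩
    rw [derivedSeries_succ, eq_bot_iff]
    refine (Subgroup.commutator_mono h2 h2).trans ?_
    rw [Subgroup.commutator_le]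
    intro a ha b hb
    rw [Subgroup.mem_bot, commutatorElement_eq_one_iff_mul_comm]
    exact (mem_zOf.1 hb).2 a (zOf_le Q ha)
  · intro x
    have h1 : x ^ p ∈ Q := hQi ▸ Q.pow_index_mem x
    have h2 := extraspecial_pow_sq hQ ⟨x ^ p, h1⟩
    have h3 := congrArg Subtype.val h2
    have h4 : p ^ 3 = p * p ^ 2 := by ring
    rw [h4, pow_mul]
    exact h3

end Cfsg.Agent.S3809
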