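import Cfsg.Statements.S3810
import Mathlib
import Cfsg.Agent.Lib.Helper20.Extraspecial2
import Cfsg.Agent.Lib.Helper20.ConjClass

set_option autoImplicit false
open Cfsg Cfsg.Agent.Lib.Helper20 commutatorElement

namespace Cfsg.Agent.S3810


theorem isMulCommutative_of_index_center_dvd {C : Type*} [Group C] {p : ℕ} [Fact p.Prime]
    (h : (Subgroup.center C).index ∣ p) : IsMulCommutative C := by
  haveI : IsCyclic (C ⧸ Subgroup.center C) := isCyclic_of_card_dvd_prime (p := p) (by
    rw [← Subgroup.index_eq_card]; exact h)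
  exact MonoidHom.isMulCommutative_of_isCyclic_of_ker_le_center (QuotientGroup.mk' (Subgroup.center C))
    (by rw [QuotientGroup.ker_mk'])



/-- Let S be a finite p-group with an extraspecial subgroup of index p. Then S has an abelian subgroup of index p if and only if S has order p⁴. -/
theorem result {S : Type*} [Group S] [Finite S] (p : ℕ) [Fact p.Prime] (hS : IsPGroup p S) (Q : Subgroup S) (hQ : Cfsg.IsExtraspecial p ↥Q) (hQi : Q.index = p) :
    (∃ A : Subgroup S, IsMulCommutative ↥A ∧ A.index = p) ↔ Nat.card S = p ^ 4 := by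
  classical
  have hp : p.Prime := Fact.out
  haveI hQn : Q.Normal := normal_of_index_eq_p hS Q hQi
  obtain ⟨n, hn1, hn, hab, -⟩ := extraspecial_card hQ
  have hScard : Nat.card S = p ^ (2 + 2 * n) := by
    rw [← Subgroup.card_mul_index Q, hn, hQi, ← pow_succ]
    congr 1; omega
  constructor
  · rintro ⟨A, hAc, hAi⟩
    haveI hAn : A.Normal := normal_of_index_eq_p hS A hAi
    have hBc : IsMulCommutative ((A ⊓ Q).subgroupOf Q) := by
      refine ⟨⟨?_⟩⟩
      rintro ⟨a, ha⟩ ⟨b, hb⟩
      apply Subtype.ext
      apply Subtype.ext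
      rw [Subgroup.mem_subgroupOf] at ha hb
      have := congrArg Subtype.val (hAc.is_comm.comm ⟨a, ha.1⟩ ⟨b, hb.1⟩)
      exact this
    have h1 := hab _ hBc
    rw [Nat.card_congr (Subgroup.subgroupOfEquivOfLe (inf_le_right : A ⊓ Q ≤ Q)).toEquiv] at h1
    have h2 := card_mul_relIndex_of_le (inf_le_right : A ⊓ Q ≤ Q)
    rw [Subgroup.inf_relIndex_right] at h2
    have h3 : A.relIndex Q ≤ p := Nat.le_of_dvd hp.pos (hAi ▸ Subgroup.relIndex_dvd_index_of_normal A Q)
    have h4 : p ^ (1 + 2 * n) ≤ p ^ (1 + n) * p := by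
      rw [← hn, ← h2]
      exact Nat.mul_le_mul h1 h3
    rw [← pow_succ] at h4
    have h5 := (Nat.pow_le_pow_iff_right hp.one_lt).1 h4
    have h6 : n = 1 := by omega
    rw [hScard, h6]
  · intro hS4
    have hn1' : n = 1 := by
      rw [hScard] at hS4
      have := Nat.pow_right_injective hp.two_le hS4
      omega
    subst hn1'
    haveI hnil : Group.IsNilpotent S := hS.isNilpotent
    haveI hZn : (zOf Q).Normal := zOf_normal Q
    have hZc : Nat.card (zOf Q) = p := by rw [card_zOf]; exact hQ.2
    have hZle : zOf Q ≤ Subgroup.center S := le_center_of_normal_of_card_eq_p hS _ hZn hZc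
    have hDn : (Q.map (QuotientGroup.mk' (zOf Q))).Normal :=
      Subgroup.Normal.map inferInstance _ (QuotientGroup.mk'_surjective _)
    have hDne : Q.map (QuotientGroup.mk' (zOf Q)) ≠ ⊥ := by
      intro h
      rw [Subgroup.map_eq_bot_iff, QuotientGroup.ker_mk'] at h
      have h1 := Subgroup.card_le_of_le h
      rw [hn, hZc] at h1
      have h2 : p ^ 1 < p ^ (1 + 2 * 1) := Nat.pow_lt_pow_right hp.one_lt (by omega)
      rw [pow_one] at h2
      omega
    obtain ⟨xb, ⟨x, hxQ, rfl⟩, hxc, hx1⟩ := normal_inf_center_ne_bot _ hDne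
    have hxZ : x ∉ zOf Q := by
      intro h
      apply hx1
      rw [QuotientGroup.mk'_apply, QuotientGroup.eq_one_iff]; exact h
    have hcomm : ∀ g : S, g * x * g⁻¹ * x⁻¹ ∈ zOf Q := by
      intro g
      have h1 := Subgroup.mem_center_iff.1 hxc (QuotientGroup.mk' (zOf Q) g)
      rw [← QuotientGroup.eq_one_iff, ← QuotientGroup.mk'_apply, map_mul, map_mul, map_mul, map_inv, map_inv, h1]
      group
    set C := Subgroup.centralizer ({x} : Set S) with hC
    have hidx_le : C.index ≤ p := by
      rw [hC, ← card_conjClass_eq_index, ← hZc]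
      let f : {y : S | IsConj x y} → zOf Q := fun y => ⟨y * x⁻¹, by
        obtain ⟨c, hc⟩ := isConj_iff.1 y.2
        rw [← hc]; exact hcomm c⟩
      apply Nat.card_le_card_of_injective f
      intro y1 y2 h
      have h1 : (y1 : S) * x⁻¹ = y2 * x⁻¹ := congrArg Subtype.val h
      exact Subtype.ext (mul_right_cancel h1)
    have hidx_ne : C.index ≠ 1 := by
      intro h
      rw [Subgroup.index_eq_one] at h
      apply hxZ
      apply center_inf_le_zOf Q
      refine ⟨?_, hxQ⟩
      change x ∈ Subgroup.center S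
      rw [Subgroup.mem_center_iff]
      intro g
      have : g ∈ C := h ▸ Subgroup.mem_top g
      exact (Subgroup.mem_centralizer_singleton_iff.1 this)
    have hidx : C.index = p := by
      have h1 : C.index ∣ p ^ 4 := hS4 ▸ Subgroup.index_dvd_card _
      obtain ⟨j, _, hj⟩ := (Nat.dvd_prime_pow hp).1 h1
      rw [hj] at hidx_le hidx_ne ⊢
      rcases j with _ | _ | j
      · simp at hidx_ne
      · simp
      · exfalso
        have h2 : p ^ 1 < p ^ (j + 1 + 1) := Nat.pow_lt_pow_right hp.one_lt (by omega)
        rw [pow_one] at h2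
        omega
    refine ⟨C, ?_, hidx⟩
    have hCcard : Nat.card C = p ^ 3 := by
      have h1 := Subgroup.card_mul_index C
      rw [hidx, hS4] at h1
      have h2 : p ^ 4 = p ^ 3 * p := by ring
      rw [h2] at h1
      exact Nat.eq_of_mul_eq_mul_right hp.pos h1
    -- the centre of C contains Z and x
    have hxC : x ∈ C := Subgroup.mem_centralizer_singleton_iff.2 rfl
    have hZC : zOf Q ≤ C := by
      intro z hz
      exact Subgroup.mem_centralizer_singleton_iff.2 ((Subgroup.mem_center_iff.1 (hZle hz) x).symm)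
    have hW : (zOf Q).subgroupOf C < Subgroup.center C := by
      refine lt_of_le_of_ne ?_ ?_
      · rintro ⟨z, hzC⟩ hz
        rw [Subgroup.mem_subgroupOf] at hz
        rw [Subgroup.mem_center_iff]
        rintro ⟨g, hg⟩
        exact Subtype.ext (Subgroup.mem_center_iff.1 (hZle hz) g)
      · intro h
        have h1 : (⟨x, hxC⟩ : C) ∈ Subgroup.center C := by
          rw [Subgroup.mem_center_iff]
          rintro ⟨g, hg⟩
          exact Subtype.ext (Subgroup.mem_centralizer_singleton_iff.1 hg)
        rw [← h, Subgroup.mem_subgroupOf] at h1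
        exact hxZ h1
    have hWc : p < Nat.card (Subgroup.center C) := by
      have h1 := Set.Finite.card_lt_card (s := ((zOf Q).subgroupOf C : Set C)) (t := (Subgroup.center C : Set C))
        (Set.toFinite _) hW
      have h2 : Nat.card ((zOf Q).subgroupOf C) = p := by
        rw [Nat.card_congr (Subgroup.subgroupOfEquivOfLe hZC).toEquiv, hZc]
      have h3 : Nat.card ((zOf Q).subgroupOf C) < Nat.card (Subgroup.center C) := h1
      omega
    apply isMulCommutative_of_index_center_dvd (p := p)
    have h1 := Subgroup.card_mul_index (Subgroup.center C)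
    rw [hCcard] at h1
    have h2 : Nat.card (Subgroup.center C) ∣ p ^ 3 := Dvd.intro _ h1
    obtain ⟨j, hj3, hj⟩ := (Nat.dvd_prime_pow hp).1 h2
    rw [hj] at hWc h1
    have hj2 : 1 < j := by
      have : p ^ 1 < p ^ j := by rwa [pow_one]
      exact (Nat.pow_lt_pow_iff_right hp.one_lt).1 this
    have h3 : p ^ 3 = p ^ j * p ^ (3 - j) := by rw [← pow_add]; congr 1; omega
    rw [h3] at h1
    have h4 := Nat.eq_of_mul_eq_mul_left (pow_pos hp.pos j) h1
    rw [h4]
    calc p ^ (3 - j) ∣ p ^ 1 := pow_dvd_pow p (by omega)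
      _ = p := pow_one p

end Cfsg.Agent.S3810
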