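import Cfsg.Statements.S3824
import Cfsg.Agent.S0143
import Cfsg.Agent.Lib.Lead.Basic
import Cfsg.Agent.Lib.Helper23.Basic

set_option autoImplicit false
open Cfsg

namespace Cfsg.Agent.S3824

open Cfsg.Agent.Lib.Lead

universe u

theorem main (n : ℕ) : ∀ (G : Type u) [Group G] [Finite G], Nat.card G = n →
    ∀ (A : Subgroup G), IsMulCommutative A → (∃ k : ℕ, A.index = 2 ^ k) → Group.IsSolvable G := by
  induction n using Nat.strong_induction_on with
  | _ n ih =>
  intro G _ _ hn A hA hidx
  obtain ⟨k, hk⟩ := hidx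
  by_cases hAb : A = ⊥
  · haveI : Fact (Nat.Prime 2) := ⟨Nat.prime_two⟩
    apply isSolvable_of_isPGroup (p := 2)
    apply IsPGroup.of_card (n := k)
    rw [← hk, hAb, Subgroup.index_bot]
  obtain ⟨a, ha1'⟩ := (Subgroup.ne_bot_iff_exists_ne_one).mp hAb
  have ha1 : (a : G) ≠ 1 := fun h' => ha1' (Subtype.ext h')
  have hnt : Nontrivial G := ⟨⟨(a : G), 1, ha1⟩⟩
  by_cases hs : IsSimpleGroup G
  · have hAC : A ≤ Subgroup.centralizer ({(a : G)} : Set G) := by
      intro x hx
      rw [Subgroup.mem_centralizer_singleton_iff]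
      have := mul_comm' (⟨x, hx⟩ : A) a
      exact congrArg Subtype.val this
    have hd : (Subgroup.centralizer ({(a : G)} : Set G)).index ∣ 2 ^ k := hk ▸ Subgroup.index_dvd_of_le hAC
    obtain ⟨j, -, hj⟩ := (Nat.dvd_prime_pow Nat.prime_two).mp hd
    have hp := Cfsg.Agent.S0143.result 2 j Nat.prime_two (a : G) ha1 hj
    haveI : Fact (Nat.card G).Prime := ⟨hp⟩
    haveI := isCyclic_of_prime_card (α := G) rfl
    letI := IsCyclic.commGroup (α := G)
    infer_instance
  · have : ∃ N : Subgroup G, N.Normal ∧ N ≠ ⊥ ∧ N ≠ ⊤ := by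
      by_contra hcon
      push Not at hcon
      exact hs ⟨fun N hN => by
        by_cases h : N = ⊥
        · exact Or.inl h
        · exact Or.inr (hcon N hN h)⟩
    obtain ⟨N, hNn, hNb, hNt⟩ := this
    have h1 : Group.IsSolvable N := by
      apply ih _ (hn ▸ card_lt_of_ne_top N hNt) N rfl (A.subgroupOf N)
      · exact ⟨⟨fun x y => by
          have := mul_comm' (⟨x.1.1, x.2⟩ : A) ⟨y.1.1, y.2⟩
          apply Subtype.ext; apply Subtype.ext
          exact congrArg (fun z : A => (z : G)) this⟩⟩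
      · have hd : (A.subgroupOf N).index ∣ 2 ^ k := hk ▸ Cfsg.Agent.Lib.Helper23.relIndex_dvd_index_of_normal' A N
        obtain ⟨j, -, hj⟩ := (Nat.dvd_prime_pow Nat.prime_two).mp hd
        exact ⟨j, hj⟩
    have h2 : Group.IsSolvable (G ⧸ N) := by
      apply ih _ (hn ▸ card_quotient_lt_of_ne_bot N hNb) (G ⧸ N) rfl (A.map (QuotientGroup.mk' N))
      · refine ⟨⟨fun x y => ?_⟩⟩
        obtain ⟨x, x', hx', rfl⟩ := x
        obtain ⟨y, y', hy', rfl⟩ := y
        apply Subtype.ext
        have := mul_comm' (⟨x', hx'⟩ : A) ⟨y', hy'⟩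
        have h3 : x' * y' = y' * x' := congrArg Subtype.val this
        show QuotientGroup.mk' N x' * QuotientGroup.mk' N y' = QuotientGroup.mk' N y' * QuotientGroup.mk' N x'
        rw [← map_mul, ← map_mul, h3]
      · have hd : (A.map (QuotientGroup.mk' N)).index ∣ 2 ^ k :=
          hk ▸ Subgroup.index_map_dvd A (QuotientGroup.mk'_surjective N)
        obtain ⟨j, -, hj⟩ := (Nat.dvd_prime_pow Nat.prime_two).mp hd
        exact ⟨j, hj⟩
    exact isSolvable_of_normal N h1 h2

/-- Every finite group having an abelian subgroup whose index is a power of 2 is solvable. -/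
theorem result {G : Type*} [Group G] [Finite G]
    (A : Subgroup G) (hA : IsMulCommutative A) (hidx : ∃ k : ℕ, A.index = 2 ^ k) : Group.IsSolvable G := by
  exact main _ G rfl A hA hidx

end Cfsg.Agent.S3824
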