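import Cfsg.Statements.S4602
import Cfsg.Agent.Lib.Helper29.PSolvable2
import Cfsg.Agent.Lib.Helper1.CoprimeSylow

set_option autoImplicit false
open Cfsg

namespace Cfsg.Agent.S4602

open Cfsg.Agent.Lib.Helper29 Cfsg.Agent.Lib.Helper8

theorem inf_eq_bot_of_pq {X : Type*} [Group X] {p q : ℕ} [hp : Fact p.Prime] [hq : Fact q.Prime] (hpq : p ≠ q)
    {V W : Subgroup X} (hV : IsPGroup p V) (hW : IsPGroup q W) {x : X} (h1 : x ∈ V) (h2 : x ∈ W) : x = 1 := by
  obtain ⟨k, hk⟩ := hV ⟨x, h1⟩
  obtain ⟨l, hl⟩ := hW ⟨x, h2⟩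
  have hk' : x ^ p ^ k = 1 := by simpa using congrArg Subtype.val hk
  have hl' : x ^ q ^ l = 1 := by simpa using congrArg Subtype.val hl
  have hcop : Nat.Coprime (p ^ k) (q ^ l) :=
    Nat.Coprime.pow k l ((Nat.coprime_primes hp.out hq.out).mpr hpq)
  exact orderOf_eq_one_iff.mp (Nat.eq_one_of_dvd_coprimes hcop (orderOf_dvd_of_pow_eq_one hk')
    (orderOf_dvd_of_pow_eq_one hl'))

theorem result {G : Type*} [Group G] [Finite G] (p q : ℕ) [Fact p.Prime] [Fact q.Prime] (hpq : p ≠ q) (hsolv : Cfsg.IsPSolvable p G) :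
    (∃ (P : Sylow p G) (Q : Sylow q G), (P : Subgroup G) ≤ Subgroup.normalizer ((Q : Subgroup G) : Set G)) ↔ ¬ q ∣ (Cfsg.pPrimeCore p G).index := by
  set K := Cfsg.pPrimeCore p G with hK
  constructor
  · rintro ⟨P, Q, hPQ⟩
    let π := QuotientGroup.mk' K
    have hπ : Function.Surjective π := QuotientGroup.mk'_surjective K
    set V := pCore p (G ⧸ K) with hV
    have hVp : IsPGroup p V := isPGroup_pCore p
    have hVn : V.Normal := inferInstance
    have hVP : V ≤ (P : Subgroup G).map π := by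
      have := hVp.le_sylow_of_normal (P.mapSurjective hπ)
      rwa [Sylow.coe_mapSurjective] at this
    have hQp : IsPGroup q ((Q : Subgroup G).map π) := Q.isPGroup'.map π
    have hnorm : (P : Subgroup G).map π ≤ Subgroup.normalizer (((Q : Subgroup G).map π : Subgroup (G ⧸ K)) : Set (G ⧸ K)) :=
      (Subgroup.map_mono hPQ).trans (Subgroup.le_normalizer_map π)
    have hcent : (Q : Subgroup G).map π ≤ Subgroup.centralizer (V : Set (G ⧸ K)) := by
      intro y hy
      rw [Subgroup.mem_centralizer_iff]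
      intro v hv
      have h1 : v * y * v⁻¹ * y⁻¹ ∈ (Q : Subgroup G).map π :=
        Subgroup.mul_mem _ ((Subgroup.mem_normalizer_iff.mp (hnorm (hVP hv)) y).mp hy) (Subgroup.inv_mem _ hy)
      have h2 : v * y * v⁻¹ * y⁻¹ ∈ V := by
        have := V.mul_mem hv (hVn.conj_mem v⁻¹ (V.inv_mem hv) y)
        simpa [mul_assoc] using this
      have h3 := inf_eq_bot_of_pq hpq hVp hQp h2 h1
      calc v * y = (v * y * v⁻¹ * y⁻¹) * (y * v) := by group
        _ = y * v := by rw [h3, one_mul]
    have hQV : (Q : Subgroup G).map π ≤ V := hcent.trans (centralizer_pCore_quotient_le hsolv)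
    have hQK : (Q : Subgroup G) ≤ K := by
      intro x hx
      have h1 : π x ∈ (Q : Subgroup G).map π := ⟨x, hx, rfl⟩
      have h2 := inf_eq_bot_of_pq hpq hVp hQp (hQV h1) h1
      exact (QuotientGroup.eq_one_iff x).mp h2
    intro hd
    exact Q.not_dvd_index (hd.trans (Subgroup.index_dvd_of_le hQK))
  · intro hq
    obtain ⟨P⟩ : Nonempty (Sylow p G) := inferInstance
    have hcop : (Nat.card (P : Subgroup G)).Coprime (Nat.card K) := by
      obtain ⟨k, hk⟩ := IsPGroup.iff_card.mp P.isPGroup'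
      rw [hk]
      exact (Nat.Coprime.pow_right k (coprime_card_pPrimeCore p)).symm
    have hsolvP : Group.IsSolvable (P : Subgroup G) := by
      have := P.isPGroup'.isNilpotent
      infer_instance
    obtain ⟨Q0, hQ0⟩ := Cfsg.Agent.Lib.Helper1.coprime_exists_invariant_sylow (P : Subgroup G) K
      (by rw [Subgroup.normalizer_eq_top]; exact le_top) hcop (Or.inl hsolvP) q
    have hidx : ¬ q ∣ ((Q0 : Subgroup K).map K.subtype).index := by
      rw [Subgroup.index_map_subtype]
      intro hd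
      rcases (Nat.Prime.dvd_mul (Fact.out : q.Prime)).mp hd with h | h
      · exact Q0.not_dvd_index h
      · exact hq h
    exact ⟨P, (Q0.isPGroup'.map K.subtype).toSylow hidx, hQ0⟩

end Cfsg.Agent.S4602
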