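import Cfsg.Statements.S4601
import Cfsg.Agent.S4602
import Cfsg.Agent.Lib.Helper16.Syl
import Cfsg.Agent.Lib.Helper23.Basic

set_option autoImplicit false
open Cfsg

namespace Cfsg.Agent.S4601

open Cfsg.Agent.Lib.Helper29 Cfsg.Agent.Lib.Helper8 Cfsg.Agent.Lib.Helper16 Cfsg.Agent.Lib.Helper23
open Cfsg.Agent.Lib.Helper1 (sylImg coprime_exists_invariant_sylow coprime_invariant_sylow_conj sylImg_conj_smul)

/-- a `q`-element of a quotient lifts to a `q`-element -/
theorem lift_q {G H : Type*} [Group G] [Finite G] [Group H] (q : ℕ) [hq : Fact q.Prime] (f : G →* H)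
    (hf : Function.Surjective f) (z : H) (hz : ∃ k : ℕ, orderOf z = q ^ k) :
    ∃ y : G, f y = z ∧ ∃ k : ℕ, orderOf y = q ^ k := by
  obtain ⟨k, hk⟩ := hz
  obtain ⟨x, rfl⟩ := hf z
  obtain ⟨a, m, hm, hx⟩ := Nat.exists_eq_pow_mul_and_not_dvd (orderOf_pos x).ne' q hq.out.ne_one
  have hcop : Nat.Coprime m (orderOf (f x)) := by
    rw [hk]
    exact Nat.Coprime.pow_right k ((Nat.Prime.coprime_iff_not_dvd hq.out).mpr hm).symm
  obtain ⟨n, hn⟩ := exists_pow_eq_self_of_coprime hcop
  refine ⟨(x ^ m) ^ n, by rw [map_pow, map_pow, hn], ?_⟩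
  have h1 : ((x ^ m) ^ n) ^ q ^ a = 1 := by
    rw [← pow_mul, ← pow_mul, show m * (n * q ^ a) = (q ^ a * m) * n by ring, ← hx, pow_mul,
      pow_orderOf_eq_one, one_pow]
  obtain ⟨j, -, hj⟩ := (Nat.dvd_prime_pow hq.out).mp (orderOf_dvd_of_pow_eq_one h1)
  exact ⟨j, hj⟩

/-- the class-size hypothesis -/
def Hyp (p q : ℕ) (G : Type*) [Group G] : Prop :=
  ∀ y : G, (∃ k : ℕ, orderOf y = q ^ k) → ¬ p ∣ (Subgroup.centralizer ({y} : Set G)).index

theorem Hyp.quot {G H : Type*} [Group G] [Finite G] [Group H] {p q : ℕ} [hq : Fact q.Prime]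
    (h : Hyp p q G) (f : G →* H) (hf : Function.Surjective f) : Hyp p q H := by
  intro z hz hd
  obtain ⟨y, rfl, hy⟩ := lift_q q f hf z hz
  apply h y hy
  have h1 : (Subgroup.centralizer ({y} : Set G)).map f ≤ Subgroup.centralizer ({f y} : Set H) := by
    rintro _ ⟨c, hc, rfl⟩
    replace hc : c ∈ Subgroup.centralizer ({y} : Set G) := hc
    rw [Subgroup.mem_centralizer_singleton_iff] at hc ⊢
    rw [← map_mul, ← map_mul, hc]
  exact (hd.trans (Subgroup.index_dvd_of_le h1)).trans (Subgroup.index_map_dvd _ hf)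

theorem case_p {G : Type*} [Group G] [Finite G] (p q : ℕ) [Fact p.Prime] [hq : Fact q.Prime] (hpq : p ≠ q)
    (hsolv : Cfsg.IsPSolvable p G) (h : Hyp p q G) :
    ∃ (P : Sylow p G) (Q : Sylow q G), (P : Subgroup G) ≤ Subgroup.normalizer ((Q : Subgroup G) : Set G) := by
  rw [Cfsg.Agent.S4602.result p q hpq hsolv]
  intro hd
  set K := Cfsg.pPrimeCore p G with hK
  let π := QuotientGroup.mk' K
  have hπ : Function.Surjective π := QuotientGroup.mk'_surjective K
  have hd' : q ∣ Nat.card (G ⧸ K) := hd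
  obtain ⟨z, hz⟩ := exists_prime_orderOf_dvd_card' q hd'
  obtain ⟨y, hyz, hy⟩ := lift_q q π hπ z ⟨1, by rw [hz, pow_one]⟩
  obtain ⟨R, hR⟩ := exists_sylow_le_of_not_dvd_index p _ (h y hy)
  set V := pCore p (G ⧸ K) with hV
  have hVp : IsPGroup p V := isPGroup_pCore p
  have hVR : V ≤ (R : Subgroup G).map π := by
    have := hVp.le_sylow_of_normal (R.mapSurjective hπ)
    rwa [Sylow.coe_mapSurjective] at this
  have hzc : z ∈ Subgroup.centralizer (V : Set (G ⧸ K)) := by
    rw [Subgroup.mem_centralizer_iff]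
    intro v hv
    obtain ⟨r, hr, rfl⟩ := hVR hv
    have := Subgroup.mem_centralizer_singleton_iff.mp (hR hr)
    rw [← hyz, ← map_mul, ← map_mul, this]
  have hzV : z ∈ V := centralizer_pCore_quotient_le hsolv hzc
  have hzq : IsPGroup q (Subgroup.zpowers z) := isPGroup_zpowers q z ⟨1, by rw [hz, pow_one]⟩
  have := Cfsg.Agent.S4602.inf_eq_bot_of_pq hpq hVp hzq hzV (Subgroup.mem_zpowers z)
  rw [this, orderOf_one] at hz
  exact hq.out.one_lt.ne hz

/-- every element of `Q` centralizes a `Q`-invariant Sylow `p`-subgroup of `M` -/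
theorem cent_step {G : Type*} [Group G] [Finite G] (p q : ℕ) [Fact p.Prime] [hq : Fact q.Prime]
    (h : Hyp p q G) (M : Subgroup G) [hM : M.Normal] (hMq : (Nat.card M).Coprime q)
    (R0 : Sylow p M) (y : G) (hy : ∃ k : ℕ, orderOf y = q ^ k)
    (hyR : y ∈ Subgroup.normalizer (sylImg R0 : Set G)) :
    ∀ r ∈ sylImg R0, r * y = y * r := by
  obtain ⟨S, hS⟩ := exists_sylow_le_of_not_dvd_index p _ (h y hy)
  have h1 : SylIn p ((S : Subgroup G) ⊓ M) M :=
    (sylIn_top S).inf_normal le_top (by rw [Subgroup.normalizer_eq_top])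
  obtain ⟨R1, hR1⟩ := h1.exists_sylow_map
  have hcop : (Nat.card (Subgroup.zpowers y)).Coprime (Nat.card M) := by
    obtain ⟨k, hk⟩ := hy
    rw [Nat.card_zpowers, hk]
    exact (Nat.Coprime.pow_right k hMq).symm
  have hc1 : ∀ r ∈ sylImg R1, r * y = y * r := by
    intro r hr
    rw [show sylImg R1 = (S : Subgroup G) ⊓ M from hR1] at hr
    exact Subgroup.mem_centralizer_singleton_iff.mp (hS (Subgroup.mem_inf.mp hr).1)
  obtain ⟨c, hc, hcR⟩ := coprime_invariant_sylow_conj (Subgroup.zpowers y) M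
    (by rw [Subgroup.normalizer_eq_top]; exact le_top) hcop (Or.inl inferInstance) p R1 R0
    (by
      rw [Subgroup.zpowers_le, Subgroup.mem_normalizer_iff]
      intro r
      constructor
      · intro hr
        rw [← hc1 r hr]; simpa using hr
      · intro hr
        have := hc1 _ hr
        have h2 : y * r = r * y := by
          have h3 : y * r * y⁻¹ * y = y * (y * r * y⁻¹) := this
          have h4 : y * r = y * (y * r * y⁻¹) := by simpa using h3
          have h5 : r = y * r * y⁻¹ := mul_left_cancel h4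
          calc y * r = (y * r * y⁻¹) * y := by group
            _ = r * y := by rw [← h5]
        rw [h2] at hr
        simpa using hr)
    (by rw [Subgroup.zpowers_le]; exact hyR)
  have hcy : (c : G) * y = y * c := by
    have := Subgroup.mem_centralizer_iff.mp hc y (Subgroup.mem_zpowers y)
    exact this.symm
  intro r hr
  rw [← hcR, sylImg_conj_smul, Cfsg.Agent.Lib.Helper23.mem_conj_smul] at hr
  have h2 := hc1 _ hr
  have hcy' : (c : G)⁻¹ * y = y * (c : G)⁻¹ := by
    calc (c : G)⁻¹ * y = (c : G)⁻¹ * (y * c) * (c : G)⁻¹ := by group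
      _ = y * (c : G)⁻¹ := by rw [← hcy]; group
  calc r * y = c * ((c : G)⁻¹ * r * c * y) * (c : G)⁻¹ * ((c : G) * y⁻¹ * (c : G)⁻¹ * y) := by group
    _ = c * (y * ((c : G)⁻¹ * r * c)) * (c : G)⁻¹ * ((c : G) * y⁻¹ * (c : G)⁻¹ * y) := by rw [h2]
    _ = c * (y * ((c : G)⁻¹ * r * c)) * (c : G)⁻¹ * ((c : G) * y⁻¹ * ((c : G)⁻¹ * y)) := by group
    _ = c * (y * ((c : G)⁻¹ * r * c)) * (c : G)⁻¹ * ((c : G) * y⁻¹ * (y * (c : G)⁻¹)) := by rw [hcy']
    _ = (c * y) * (c : G)⁻¹ * r := by group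
    _ = y * r := by rw [hcy]; group

theorem case_b {G : Type*} [Group G] [Finite G] (p q : ℕ) [Fact p.Prime] [hq : Fact q.Prime]
    (h : Hyp p q G) (M : Subgroup G) [hM : M.Normal] (hMq : (Nat.card M).Coprime q)
    (P : Sylow p G) (Q : Sylow q G)
    (hPQ : (P : Subgroup G) ≤ Subgroup.normalizer (((Q : Subgroup G) ⊔ M : Subgroup G) : Set G)) :
    ∃ (P : Sylow p G) (Q : Sylow q G), (P : Subgroup G) ≤ Subgroup.normalizer ((Q : Subgroup G) : Set G) := by
  have hcop : (Nat.card (Q : Subgroup G)).Coprime (Nat.card M) := by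
    obtain ⟨k, hk⟩ := IsPGroup.iff_card.mp Q.isPGroup'
    rw [hk]
    exact (Nat.Coprime.pow_right k hMq).symm
  have hsolvQ : Group.IsSolvable (Q : Subgroup G) := by
    have := Q.isPGroup'.isNilpotent
    infer_instance
  obtain ⟨R0, hR0⟩ := coprime_exists_invariant_sylow (Q : Subgroup G) M
    (by rw [Subgroup.normalizer_eq_top]; exact le_top) hcop (Or.inl hsolvQ) p
  have hcent : ∀ y ∈ (Q : Subgroup G), ∀ r ∈ sylImg R0, r * y = y * r := fun y hy =>
    cent_step p q h M hMq R0 y (orderOf_eq_pow_of_mem_sylow q Q y hy) (hR0 hy)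
  set X : Subgroup G := (Q : Subgroup G) ⊔ M with hX
  set Z : Subgroup G := Subgroup.normalizer (X : Set G) with hZ
  set NZ : Subgroup G := Z ⊓ Subgroup.normalizer ((Q : Subgroup G) : Set G) with hNZ
  have hQX : SylIn q (Q : Subgroup G) X := (sylIn_top Q).mono le_sup_left le_top
  have hXZ : X ≤ Z := Subgroup.le_normalizer
  have hQNZ : (Q : Subgroup G) ≤ NZ := le_inf (le_sup_left.trans hXZ) Subgroup.le_normalizer
  have hZeq : NZ ⊔ M = Z := by
    apply le_antisymm
    · exact sup_le inf_le_left (le_sup_right.trans hXZ)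
    · intro l hl
      obtain ⟨n, hn, m, hm, rfl⟩ := hQX.frattini' hXZ le_rfl hl
      refine Subgroup.mul_mem _ ?_ (Subgroup.mem_sup_left hm)
      exact (sup_le (hQNZ.trans le_sup_left) le_sup_right : X ≤ NZ ⊔ M) hn
  have hRNZ : sylImg R0 ≤ NZ := by
    intro r hr
    refine Subgroup.mem_inf.mpr ⟨hXZ (Subgroup.mem_sup_right (Cfsg.Agent.Lib.Helper1.sylImg_le R0 hr)), ?_⟩
    rw [Subgroup.mem_normalizer_iff]
    intro y
    constructor
    · intro hy
      rw [hcent y hy r hr]; simpa using hy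
    · intro hy
      have := hcent _ hy r hr
      have h4 : r * (r * y * r⁻¹) = r * y := by simpa using this
      have h5 : r * y * r⁻¹ = y := mul_left_cancel h4
      rwa [h5] at hy
  have h1 : NZ.relIndex Z = NZ.relIndex M := by
    rw [← hZeq]; exact relIndex_sup_of_normal NZ M
  have h2 : NZ.relIndex M ∣ (sylImg R0).relIndex M := Subgroup.relIndex_dvd_of_le_left M hRNZ
  have h3 : ¬ p ∣ (sylImg R0).relIndex M := (sylIn_of_sylow R0).2.2
  have h4 : ¬ p ∣ Z.index := not_dvd_index_of_sylow_le p Z P hPQ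
  have h5 : ¬ p ∣ NZ.index := by
    rw [← Subgroup.relIndex_mul_index (inf_le_left : NZ ≤ Z), h1]
    exact Nat.Prime.not_dvd_mul Fact.out (fun hd => h3 (hd.trans h2)) h4
  obtain ⟨P', hP'⟩ := exists_sylow_le_of_not_dvd_index p NZ h5
  exact ⟨P', Q, hP'.trans inf_le_right⟩

universe u

theorem case_q (p q : ℕ) [Fact p.Prime] [hq : Fact q.Prime] (n : ℕ) :
    ∀ (G : Type u) [Group G] [Finite G], Nat.card G = n → Cfsg.IsPSolvable q G → Hyp p q G →
    ∃ (P : Sylow p G) (Q : Sylow q G), (P : Subgroup G) ≤ Subgroup.normalizer ((Q : Subgroup G) : Set G) := by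
  induction n using Nat.strong_induction_on with
  | _ n ih =>
  intro G _ _ hn hsolv h
  by_cases hnt : Nontrivial G
  swap
  · rw [not_nontrivial_iff_subsingleton] at hnt
    obtain ⟨P⟩ : Nonempty (Sylow p G) := inferInstance
    obtain ⟨Q⟩ : Nonempty (Sylow q G) := inferInstance
    refine ⟨P, Q, fun x _ => ?_⟩
    rw [Subsingleton.elim x 1]; exact Subgroup.one_mem _
  obtain ⟨M, hMn, hMne, hMPP⟩ := psol_exists_normal hsolv
  let π := QuotientGroup.mk' M
  have hπ : Function.Surjective π := QuotientGroup.mk'_surjective M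
  have hlt : Nat.card (G ⧸ M) < n := by
    rw [← hn, Subgroup.card_eq_card_quotient_mul_card_subgroup M]
    have h1 : 1 < Nat.card M := by
      rw [Finite.one_lt_card_iff_nontrivial]
      exact (Subgroup.nontrivial_iff_ne_bot M).mpr hMne
    have h2 : 0 < Nat.card (G ⧸ M) := Nat.card_pos
    nlinarith
  obtain ⟨Pb, Qb, hPQb⟩ := ih _ hlt (G ⧸ M) rfl (psol_quotient hsolv M) (h.quot π hπ)
  obtain ⟨P, rfl⟩ := Sylow.mapSurjective_surjective hπ p Pb
  obtain ⟨Q, rfl⟩ := Sylow.mapSurjective_surjective hπ q Qb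
  rw [Sylow.coe_mapSurjective, Sylow.coe_mapSurjective] at hPQb
  have hPX : (P : Subgroup G) ≤ Subgroup.normalizer (((Q : Subgroup G) ⊔ M : Subgroup G) : Set G) := by
    have hcomap : ((Q : Subgroup G).map π).comap π = (Q : Subgroup G) ⊔ M := by
      rw [Subgroup.comap_map_eq, QuotientGroup.ker_mk']
    intro x hx
    have h1 : π x ∈ Subgroup.normalizer (((Q : Subgroup G).map π : Subgroup (G ⧸ M)) : Set (G ⧸ M)) :=
      hPQb ⟨x, hx, rfl⟩
    rw [Subgroup.mem_normalizer_iff] at h1 ⊢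
    intro y
    rw [← hcomap, Subgroup.mem_comap, Subgroup.mem_comap, h1 (π y)]
    simp
  rcases hMPP with ⟨m, hm⟩ | hcop
  · have hMQ : M ≤ (Q : Subgroup G) := (IsPGroup.of_card hm).le_sylow_of_normal Q
    rw [sup_eq_left.mpr hMQ] at hPX
    exact ⟨P, Q, hPX⟩
  · exact case_b p q h M hcop P Q hPX

/-- Let p and q be primes and G a finite group that is p-solvable or q-solvable, in which no q-element has conjugacy class size divisible by p. Then some Sylow p-subgroup of G normalizes some Sylow q-subgroup of G. -/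
theorem result {G : Type*} [Group G] [Finite G] (p q : ℕ) [Fact p.Prime] [Fact q.Prime] (hsolv : Cfsg.IsPSolvable p G ∨ Cfsg.IsPSolvable q G)
    (h : ∀ y : G, (∃ k : ℕ, orderOf y = q ^ k) → ¬ p ∣ (Subgroup.centralizer ({y} : Set G)).index) :
    ∃ (P : Sylow p G) (Q : Sylow q G), (P : Subgroup G) ≤ Subgroup.normalizer ((Q : Subgroup G) : Set G) := by
  by_cases hpq : p = q
  · subst hpq
    obtain ⟨P⟩ : Nonempty (Sylow p G) := inferInstance
    exact ⟨P, P, Subgroup.le_normalizer⟩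
  rcases hsolv with hs | hs
  · exact case_p p q hpq hs h
  · exact case_q p q _ G rfl hs h

end Cfsg.Agent.S4601
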