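import Cfsg.Statements.S3861
import Cfsg.Agent.S4601
import Cfsg.Agent.S0199

set_option autoImplicit false
open Cfsg

namespace Cfsg.Agent.S3861

open Cfsg.Agent.Lib.Helper29 Cfsg.Agent.Lib.Helper8 Cfsg.Agent.Lib.Helper16 Cfsg.Agent.Lib.Helper23

def Hyp (G : Type*) [Group G] : Prop := ∀ x : G, x ≠ 1 → Odd (orderOf x) → ¬ IsConj x x⁻¹

theorem conj_pow_inv {G : Type*} [Group G] {g x : G} (h : g * x * g⁻¹ = x⁻¹) (k : ℕ) :
    g * x ^ k * g⁻¹ = (x ^ k)⁻¹ := by
  rw [← conj_pow, h, inv_pow]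

/-- an involution lies in `O_2` -/
theorem inv_mem {G : Type*} [Group G] [Finite G] (h : Hyp G) (t : G) (ht : t * t = 1) :
    t ∈ pCore 2 G := by
  haveI : Fact (Nat.Prime 2) := ⟨Nat.prime_two⟩
  have htinv : t⁻¹ = t := inv_eq_of_mul_eq_one_left ht
  have hX : IsPGroup 2 (Subgroup.zpowers t) := by
    apply isPGroup_zpowers
    have : orderOf t ∣ 2 ^ 1 := orderOf_dvd_of_pow_eq_one (by rw [pow_one, pow_two, ht])
    obtain ⟨j, -, hj⟩ := (Nat.dvd_prime_pow Nat.prime_two).mp this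
    exact ⟨j, hj⟩
  obtain ⟨N, hN1, hN2, hN3⟩ := Cfsg.Agent.S0199.result (p := 2) (Subgroup.zpowers t) hX (by
    intro g
    set s := g * t * g⁻¹ with hs
    have hss : s * s = 1 := by
      rw [hs]
      calc g * t * g⁻¹ * (g * t * g⁻¹) = g * (t * t) * g⁻¹ := by group
        _ = 1 := by rw [ht]; group
    have hsinv : s⁻¹ = s := inv_eq_of_mul_eq_one_left hss
    set y := t * s with hy
    have hty : t * y * t⁻¹ = y⁻¹ := by
      rw [hy, mul_inv_rev, hsinv, htinv]
      calc t * (t * s) * t = (t * t) * s * t := by group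
        _ = s * t := by rw [ht, one_mul]
    obtain ⟨a, m, hm, hord⟩ := Nat.exists_eq_pow_mul_and_not_dvd (orderOf_pos y).ne' 2 (by norm_num)
    have hy' : y ^ 2 ^ a = 1 := by
      by_contra hne
      apply h (y ^ 2 ^ a) hne
      · rw [orderOf_pow, hord, Nat.gcd_eq_right (Dvd.intro _ rfl), Nat.mul_div_cancel_left _ (by positivity)]
        exact Nat.odd_iff.mpr (by omega)
      · exact isConj_iff.mpr ⟨t, conj_pow_inv hty _⟩
    have hY : IsPGroup 2 (Subgroup.zpowers y) := by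
      apply isPGroup_zpowers
      obtain ⟨j, -, hj⟩ := (Nat.dvd_prime_pow Nat.prime_two).mp (orderOf_dvd_of_pow_eq_one hy')
      exact ⟨j, hj⟩
    have hnorm : Subgroup.zpowers t ≤ Subgroup.normalizer (Subgroup.zpowers y : Set G) := by
      rw [Subgroup.zpowers_le]
      apply Cfsg.Agent.Lib.Helper1.mem_normalizer_of_conj_mem
      intro u hu
      obtain ⟨k, rfl⟩ := Subgroup.mem_zpowers_iff.mp hu
      have : t * y ^ k * t⁻¹ = (y⁻¹) ^ k := by rw [← conj_zpow, hty]
      rw [this]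
      exact Subgroup.zpow_mem _ (Subgroup.inv_mem _ (Subgroup.mem_zpowers y)) k
    refine (IsPGroup.to_sup_of_normal_right' hX hY hnorm).to_le ?_
    refine sup_le le_sup_left ?_
    rw [MonoidHom.map_zpowers, Subgroup.zpowers_le]
    show g * t * g⁻¹ ∈ _
    have : g * t * g⁻¹ = t * y := by
      rw [hy, ← mul_assoc, ht, one_mul]
    rw [this]
    exact Subgroup.mul_mem _ (Subgroup.mem_sup_left (Subgroup.mem_zpowers t))
      (Subgroup.mem_sup_right (Subgroup.mem_zpowers y)))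
  exact le_pCore_of_normal hN1 hN2 (hN3 (Subgroup.mem_zpowers t))

theorem Hyp.quot {G : Type*} [Group G] [Finite G] (h : Hyp G) (T : Subgroup G) [hTn : T.Normal]
    (hT : IsPGroup 2 T) : Hyp (G ⧸ T) := by
  haveI : Fact (Nat.Prime 2) := ⟨Nat.prime_two⟩
  intro z hz hodd hconj
  obtain ⟨c, hc⟩ := isConj_iff.mp hconj
  let π := QuotientGroup.mk' T
  have hπ : Function.Surjective π := QuotientGroup.mk'_surjective T
  have hne1 : orderOf z ≠ 1 := fun h1 => hz (orderOf_eq_one_iff.mp h1)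
  obtain ⟨r, hr, hrd⟩ := Nat.exists_prime_and_dvd hne1
  haveI : Fact r.Prime := ⟨hr⟩
  have hr2 : r ≠ 2 := by
    rintro rfl
    exact (Nat.not_even_iff_odd.mpr hodd) (even_iff_two_dvd.mpr hrd)
  set z' := z ^ (orderOf z / r) with hz'
  have hz'ord : orderOf z' = r := orderOf_pow_orderOf_div (orderOf_pos z).ne' hrd
  have hcz' : c * z' * c⁻¹ = z'⁻¹ := conj_pow_inv hc _
  obtain ⟨x, hxz, hx⟩ := Cfsg.Agent.S4601.lift_q r π hπ z' ⟨1, by rw [hz'ord, pow_one]⟩
  obtain ⟨g, rfl⟩ := hπ c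
  have hx1 : x ≠ 1 := by
    rintro rfl
    rw [map_one] at hxz
    rw [← hxz, orderOf_one] at hz'ord
    exact hr.one_lt.ne hz'ord
  have hXp : IsPGroup r (Subgroup.zpowers x) := isPGroup_zpowers r x hx
  set H : Subgroup G := Subgroup.zpowers x ⊔ T with hH
  have hsyl : SylIn r (Subgroup.zpowers x) H := by
    refine ⟨le_sup_left, hXp, ?_⟩
    rw [hH, relIndex_sup_of_normal]
    intro hd
    obtain ⟨j, hj⟩ := IsPGroup.iff_card.mp hT
    have h1 : r ∣ 2 ^ j := hj ▸ hd.trans (Subgroup.relIndex_dvd_card _ _)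
    exact hr2 ((Nat.prime_dvd_prime_iff_eq hr Nat.prime_two).mp (hr.dvd_of_dvd_pow h1))
  have hmemT : ∀ u : G, π u = 1 → u ∈ T := fun u hu => (QuotientGroup.eq_one_iff u).mp hu
  have hgx : g * x * g⁻¹ ∈ H := by
    have h1 : x * (g * x * g⁻¹) ∈ T := by
      apply hmemT
      rw [map_mul, map_mul, map_mul, map_inv, hxz, hcz', mul_inv_cancel]
    have h2 : g * x * g⁻¹ = x⁻¹ * (x * (g * x * g⁻¹)) := by group
    rw [h2]
    exact Subgroup.mul_mem _ (Subgroup.mem_sup_left (Subgroup.inv_mem _ (Subgroup.mem_zpowers x)))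
      (Subgroup.mem_sup_right h1)
  have hQp : IsPGroup r (Subgroup.zpowers (g * x * g⁻¹)) := by
    apply isPGroup_zpowers
    have : orderOf (g * x * g⁻¹) = orderOf x := by
      have := (MulAut.conj g).orderOf_eq x
      simpa using this
    rw [this]; exact hx
  obtain ⟨l, hl, hle⟩ := hsyl.exists_conj_le hQp (by rw [Subgroup.zpowers_le]; exact hgx)
  have hw : l * (g * x * g⁻¹) * l⁻¹ ∈ Subgroup.zpowers x :=
    hle ⟨g * x * g⁻¹, Subgroup.mem_zpowers _, rfl⟩
  have hπl : π l * z'⁻¹ * (π l)⁻¹ = z'⁻¹ := by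
    rw [hH] at hl
    obtain ⟨y, hy, t, ht, rfl⟩ := Subgroup.mem_sup_of_normal_right.mp hl
    obtain ⟨k, rfl⟩ := Subgroup.mem_zpowers_iff.mp hy
    have ht1 : π t = 1 := (QuotientGroup.eq_one_iff t).mpr ht
    rw [map_mul, ht1, mul_one, map_zpow, hxz]
    have : Commute (z' ^ k) z'⁻¹ := ((Commute.refl z').zpow_left k).inv_right
    rw [this.eq, mul_assoc, mul_inv_cancel, mul_one]
  have hwx : l * (g * x * g⁻¹) * l⁻¹ * x = 1 := by
    apply Cfsg.Agent.S4602.inf_eq_bot_of_pq hr2 hXp hT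
    · exact Subgroup.mul_mem _ hw (Subgroup.mem_zpowers x)
    · apply hmemT
      rw [map_mul, map_mul, map_mul, map_mul, map_mul, map_inv, map_inv, hxz, hcz', hπl, inv_mul_cancel]
  apply h x hx1
  · obtain ⟨k, hk⟩ := hx
    rw [hk]
    exact Odd.pow (hr.odd_of_ne_two hr2)
  · refine isConj_iff.mpr ⟨l * g, ?_⟩
    rw [eq_inv_iff_mul_eq_one, ← hwx]
    group

/-- A finite group G has no non-identity element of odd order that is conjugate to its inverse if and only if the Sylow 2-subgroups of G are normal. -/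
theorem result {G : Type*} [Group G] [Finite G] (P : Sylow 2 G) : (∀ x : G, x ≠ 1 → Odd (orderOf x) → ¬ IsConj x x⁻¹) ↔ (P : Subgroup G).Normal := by
  haveI : Fact (Nat.Prime 2) := ⟨Nat.prime_two⟩
  constructor
  · intro h
    set T := pCore 2 G with hT
    have hTp : IsPGroup 2 T := isPGroup_pCore 2
    have hq : Hyp (G ⧸ T) := Hyp.quot h T hTp
    have hbot : pCore 2 (G ⧸ T) = ⊥ := by
      apply pCore_quotient_eq_bot
      intro W hW hTW ⟨m, hm⟩
      apply le_pCore_of_normal hW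
      obtain ⟨j, hj⟩ := IsPGroup.iff_card.mp hTp
      apply IsPGroup.of_card (n := j + m)
      have h1 := Subgroup.relIndex_mul_relIndex ⊥ T W bot_le hTW
      rw [Subgroup.relIndex_bot_left, Subgroup.relIndex_bot_left, hj, hm] at h1
      rw [← h1, pow_add]
    have hidx : ¬ 2 ∣ T.index := by
      intro hd
      obtain ⟨z, hz⟩ := exists_prime_orderOf_dvd_card' (G := G ⧸ T) 2 hd
      have h1 : z * z = 1 := by
        have := pow_orderOf_eq_one z
        rw [hz, pow_two] at this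
        exact this
      have h2 := inv_mem hq z h1
      rw [hbot, Subgroup.mem_bot] at h2
      rw [h2, orderOf_one] at hz
      omega
    have hTP : T ≤ (P : Subgroup G) := hTp.le_sylow_of_normal P
    have : (P : Subgroup G) = T := ((hTp.toSylow hidx).is_maximal' P.isPGroup' hTP)
    rw [this]
    infer_instance
  · intro hP x hx hodd hconj
    obtain ⟨g, hg⟩ := isConj_iff.mp hconj
    obtain ⟨a, m, hm, hord⟩ := Nat.exists_eq_pow_mul_and_not_dvd (orderOf_pos g).ne' 2 (by norm_num)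
    obtain ⟨j, rfl⟩ : Odd m := Nat.odd_iff.mpr (by omega)
    have hg2 : Commute (g ^ 2) x := by
      show g ^ 2 * x = x * g ^ 2
      have h1 : g * x = x⁻¹ * g := by rw [← hg]; group
      have h2 : g * x⁻¹ = x * g := by
        have : g * x⁻¹ * g⁻¹ = x := by
          have := congrArg (·⁻¹) hg
          simpa [mul_assoc] using this
        calc g * x⁻¹ = (g * x⁻¹ * g⁻¹) * g := by group
          _ = x * g := by rw [this]
      calc g ^ 2 * x = g * (g * x) := by rw [pow_two, mul_assoc]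
        _ = g * x⁻¹ * g := by rw [h1, mul_assoc]
        _ = x * g ^ 2 := by rw [h2, pow_two, mul_assoc]
    set g' := g ^ (2 * j + 1) with hg'
    have hg'x : g' * x * g'⁻¹ = x⁻¹ := by
      have h1 : Commute (g ^ (2 * j)) x := by rw [pow_mul]; exact hg2.pow_left j
      rw [hg', pow_succ']
      calc g * g ^ (2 * j) * x * (g * g ^ (2 * j))⁻¹ = g * (g ^ (2 * j) * x) * (g ^ (2 * j))⁻¹ * g⁻¹ := by group
        _ = g * (x * g ^ (2 * j)) * (g ^ (2 * j))⁻¹ * g⁻¹ := by rw [h1.eq]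
        _ = g * x * g⁻¹ := by group
        _ = x⁻¹ := hg
    have hg'P : g' ∈ (P : Subgroup G) := by
      have h1 : IsPGroup 2 (Subgroup.zpowers g') := by
        apply isPGroup_zpowers
        have : g' ^ 2 ^ a = 1 := by
          rw [hg', ← pow_mul, mul_comm, ← hord, pow_orderOf_eq_one]
        obtain ⟨i, -, hi⟩ := (Nat.dvd_prime_pow Nat.prime_two).mp (orderOf_dvd_of_pow_eq_one this)
        exact ⟨i, hi⟩
      obtain ⟨Q, hQ⟩ := h1.exists_le_sylow
      haveI := Sylow.unique_of_normal P hP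
      rw [Subsingleton.elim Q P] at hQ
      exact hQ (Subgroup.mem_zpowers g')
    have hx2 : x⁻¹ * x⁻¹ ∈ (P : Subgroup G) := by
      have h1 : g' * (x * g'⁻¹ * x⁻¹) ∈ (P : Subgroup G) :=
        Subgroup.mul_mem _ hg'P (hP.conj_mem _ (Subgroup.inv_mem _ hg'P) x)
      have h2 : g' * (x * g'⁻¹ * x⁻¹) = (g' * x * g'⁻¹) * x⁻¹ := by group
      rwa [h2, hg'x] at h1
    obtain ⟨i, hi⟩ := orderOf_eq_pow_of_mem_sylow 2 P _ hx2
    have h3 : (x⁻¹ * x⁻¹) ^ orderOf x = 1 := by
      rw [← pow_two, ← pow_mul, mul_comm, pow_mul, inv_pow, pow_orderOf_eq_one, inv_one, one_pow]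
    have h4 : 2 ^ i ∣ orderOf x := hi ▸ orderOf_dvd_of_pow_eq_one h3
    have hi0 : i = 0 := by
      by_contra hne
      have : 2 ∣ orderOf x := (dvd_pow_self 2 hne).trans h4
      exact (Nat.not_even_iff_odd.mpr hodd) (even_iff_two_dvd.mpr this)
    rw [hi0, pow_zero, orderOf_eq_one_iff] at hi
    have h5 : x ^ 2 = 1 := by
      have := congrArg (·⁻¹) hi
      simpa [pow_two] using this
    have h6 : orderOf x ∣ 2 := orderOf_dvd_of_pow_eq_one h5
    rcases (Nat.dvd_prime Nat.prime_two).mp h6 with h7 | h7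
    · exact hx (orderOf_eq_one_iff.mp h7)
    · rw [h7] at hodd
      exact absurd hodd (by decide)

end Cfsg.Agent.S3861
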