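import Mathlib
import Cfsg.Statements.S3870
import Cfsg.Agent.Lib.Helper20.SylowExtra

set_option autoImplicit false
open Cfsg

namespace Cfsg.Agent.S3870

open Cfsg.Agent.Lib.Helper20

theorem result {G : Type*} [Group G] [Finite G] [IsSimpleGroup G] {p : ℕ} [Fact p.Prime]
    (hnc : ¬ Cfsg.IsPClosed p G) (hsub : ∀ H : Subgroup G, H ≠ ⊤ → Cfsg.IsPClosed p ↥H) :
    (∀ P Q : Sylow p G, P ≠ Q → (P : Subgroup G) ⊓ (Q : Subgroup G) = ⊥) ∧
      ∀ (P : Sylow p G) (R : Subgroup G), R ≤ P → R ≠ ⊥ →
        Subgroup.normalizer (R : Set G) ≤ Subgroup.normalizer ((P : Subgroup G) : Set G) := by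
  classical
  -- no Sylow subgroup is normal
  have hnn : ∀ P : Sylow p G, ¬ (P : Subgroup G).Normal := by
    intro P hP
    apply hnc
    intro Q
    obtain ⟨g, rfl⟩ := MulAction.exists_smul_eq G P Q
    rw [Sylow.smul_eq_of_normal]; exact hP
  -- normalizers of nontrivial p-subgroups are proper
  have hprop : ∀ D : Subgroup G, IsPGroup p D → D ≠ ⊥ → Subgroup.normalizer (D : Set G) ≠ ⊤ := by
    intro D hD hne htop
    have hDn : D.Normal := Subgroup.normalizer_eq_top_iff.1 htop
    rcases hDn.eq_bot_or_eq_top with h | h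
    · exact hne h
    · obtain ⟨P, hP⟩ := hD.exists_le_sylow
      apply hnn P
      have : (P : Subgroup G) = ⊤ := top_le_iff.1 (h ▸ hP)
      rw [this]; infer_instance
  -- key: in a proper subgroup H, any two p-subgroups generate a p-group contained in a Sylow of G
  have key : ∀ H : Subgroup G, H ≠ ⊤ → ∀ A B : Subgroup G, A ≤ H → B ≤ H → IsPGroup p A → IsPGroup p B →
      ∃ P : Sylow p G, A ≤ P ∧ B ≤ P := by
    intro H hH A B hA hB hpA hpB
    have hcl := hsub H hH
    let S : Sylow p H := default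
    have hSn : (S : Subgroup H).Normal := hcl S
    have h1 : ∀ C : Subgroup G, C ≤ H → IsPGroup p C → C ≤ (S : Subgroup H).map H.subtype := by
      intro C hC hpC
      have hpC' : IsPGroup p (C.subgroupOf H) := hpC.comap_of_injective _ Subtype.coe_injective
      obtain ⟨S', hS'⟩ := hpC'.exists_le_sylow
      have : S' = S := by
        obtain ⟨g, hg⟩ := MulAction.exists_smul_eq H S S'
        rw [← hg, Sylow.smul_eq_of_normal]
      rw [this] at hS'
      intro c hc
      exact ⟨⟨c, hC hc⟩, hS' (by simpa [Subgroup.mem_subgroupOf] using hc), rfl⟩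
    obtain ⟨P, hP⟩ := (S.isPGroup'.map H.subtype).exists_le_sylow
    exact ⟨P, (h1 A hA hpA).trans hP, (h1 B hB hpB).trans hP⟩
  have hTI : ∀ P Q : Sylow p G, P ≠ Q → (P : Subgroup G) ⊓ (Q : Subgroup G) = ⊥ := by
    -- strong induction on the codimension: choose a counterexample with maximal intersection
    by_contra hcon
    push Not at hcon
    have hfin : Set.Finite {n : ℕ | ∃ P Q : Sylow p G, P ≠ Q ∧ (P : Subgroup G) ⊓ (Q : Subgroup G) ≠ ⊥ ∧
        n = Nat.card ((P : Subgroup G) ⊓ (Q : Subgroup G) : Subgroup G)} := by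
      apply Set.Finite.subset (Set.finite_Iic (Nat.card G))
      rintro n ⟨P, Q, -, -, rfl⟩
      exact Subgroup.card_le_card_group _
    obtain ⟨P0, Q0, hne0, hD0⟩ := hcon
    obtain ⟨n, ⟨P, Q, hne, hD, rfl⟩, hmax⟩ := hfin.exists_maximal ⟨_, P0, Q0, hne0, hD0, rfl⟩
    set D := (P : Subgroup G) ⊓ (Q : Subgroup G) with hDdef
    have hDp : IsPGroup p D := P.isPGroup'.to_le inf_le_left
    have hN := hprop D hDp hD
    -- N_P(D) > D
    have hgrow : ∀ R : Sylow p G, D ≤ R → D ≠ (R : Subgroup G) →
        D < (R : Subgroup G) ⊓ Subgroup.normalizer (D : Set G) := by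
      intro R hDR hDne
      have hnil : Group.IsNilpotent (R : Subgroup G) := R.isPGroup'.isNilpotent
      have hcond := Group.normalizerCondition_of_isNilpotent (G := (R : Subgroup G))
      have hlt : D.subgroupOf R < ⊤ := by
        rw [lt_top_iff_ne_top, Ne, Subgroup.subgroupOf_eq_top]
        intro h
        exact hDne (le_antisymm hDR h)
      have h2 := hcond _ hlt
      rw [← Subgroup.subgroupOf_normalizer_eq hDR] at h2
      refine lt_of_le_of_ne (le_inf hDR Subgroup.le_normalizer) ?_
      intro heq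
      apply h2.ne
      ext x
      simp only [Subgroup.mem_subgroupOf]
      constructor
      · intro hx; exact Subgroup.le_normalizer hx
      · intro hx
        rw [heq]; exact ⟨x.2, hx⟩
    have hDP : D ≠ (P : Subgroup G) := by
      intro h
      apply hne
      have h1 : (P : Subgroup G) ≤ Q := h ▸ inf_le_right
      exact Sylow.ext (P.3 Q.isPGroup' h1).symm
    have hDQ : D ≠ (Q : Subgroup G) := by
      intro h
      apply hne
      have h1 : (Q : Subgroup G) ≤ P := h ▸ inf_le_left
      exact Sylow.ext (Q.3 P.isPGroup' h1)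
    have hA := hgrow P inf_le_left hDP
    have hB := hgrow Q inf_le_right hDQ
    obtain ⟨P1, hAP1, hBP1⟩ := key _ hN _ _ (inf_le_right : (P : Subgroup G) ⊓ Subgroup.normalizer (D : Set G) ≤ _)
      (inf_le_right : (Q : Subgroup G) ⊓ Subgroup.normalizer (D : Set G) ≤ _)
      (P.isPGroup'.to_le inf_le_left) (Q.isPGroup'.to_le inf_le_left)
    have hstep : ∀ R : Sylow p G, D < (R : Subgroup G) ⊓ Subgroup.normalizer (D : Set G) →
        (R : Subgroup G) ⊓ Subgroup.normalizer (D : Set G) ≤ P1 → R = P1 := by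
      intro R hlt hle
      by_contra hRP1
      have h1 : (R : Subgroup G) ⊓ Subgroup.normalizer (D : Set G) ≤ (R : Subgroup G) ⊓ (P1 : Subgroup G) :=
        le_inf inf_le_left hle
      have h2 : D < (R : Subgroup G) ⊓ (P1 : Subgroup G) := lt_of_lt_of_le hlt h1
      have h3 : (R : Subgroup G) ⊓ (P1 : Subgroup G) ≠ ⊥ := by
        intro h
        rw [h] at h2
        exact not_lt_bot h2
      have h4 := hmax ⟨R, P1, hRP1, h3, rfl⟩ (Subgroup.card_le_of_le h2.le)
      have h5 : Nat.card D < Nat.card ((R : Subgroup G) ⊓ (P1 : Subgroup G) : Subgroup G) :=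
        Set.Finite.card_lt_card (Set.toFinite _) (SetLike.coe_ssubset_coe.2 h2)
      omega
    exact hne ((hstep P hA hAP1).trans (hstep Q hB hBP1).symm)
  refine ⟨hTI, ?_⟩
  intro P R hRP hRne g hg
  apply (Sylow.smul_eq_iff_mem_normalizer (g := g) (P := P)).1
  by_contra hne
  have h1 := hTI (g • P) P hne
  apply hRne
  rw [eq_bot_iff, ← h1]
  refine le_inf ?_ hRP
  rw [sylow_smul_coe]
  have : cj g R = R := cj_eq_of_mem_normalizer hg
  rw [← this]; exact cj_mono hRP

end Cfsg.Agent.S3870
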