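import Mathlib
import Cfsg.Statements.S3889

set_option autoImplicit false
open Cfsg

namespace Cfsg.Agent.S3889

theorem result {G : Type*} [CommGroup G] [Finite G] (𝓑 : Set (Subgroup G)) (hprop : ∀ B ∈ 𝓑, B ≠ ⊤)
    (hcov : ∀ g : G, ∃ B ∈ 𝓑, g ∈ B) (hdisj : ∀ B ∈ 𝓑, ∀ C ∈ 𝓑, B ≠ C → B ⊓ C = ⊥) :
    (Monoid.exponent G).Prime := by
  classical
  have hout : ∀ B ∈ 𝓑, ∃ y, y ∉ B := by
    intro B hB
    by_contra h
    push Not at h
    exact hprop B hB (eq_top_iff.2 (fun g _ => h g))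
  have key : ∀ B ∈ 𝓑, ∀ x ∈ B, ∀ y, y ∉ B → x ^ orderOf y = 1 := by
    intro B hB x hx y hy
    by_contra hne
    obtain ⟨C, hC, hxy⟩ := hcov (x * y)
    have h1 : (x * y) ^ orderOf y = x ^ orderOf y := by
      rw [mul_pow, pow_orderOf_eq_one, mul_one]
    have h2 : x ^ orderOf y ∈ B ⊓ C := ⟨B.pow_mem hx _, h1 ▸ C.pow_mem hxy _⟩
    have hBC : B = C := by
      by_contra hBC
      rw [hdisj B hB C hC hBC, Subgroup.mem_bot] at h2
      exact hne h2
    apply hy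
    rw [← hBC] at hxy
    have := B.mul_mem (B.inv_mem hx) hxy
    simpa using this
  have key2 : ∀ B ∈ 𝓑, ∀ x ∈ B, x ≠ 1 → ∀ y, y ∉ B → orderOf x = orderOf y := by
    intro B hB x hx hx1 y hy
    obtain ⟨C, hC, hyC⟩ := hcov y
    have hBC : B ≠ C := fun h => hy (h ▸ hyC)
    have hxC : x ∉ C := by
      intro h
      have : x ∈ B ⊓ C := ⟨hx, h⟩
      rw [hdisj B hB C hC hBC, Subgroup.mem_bot] at this
      exact hx1 this
    exact Nat.dvd_antisymm (orderOf_dvd_of_pow_eq_one (key B hB x hx y hy))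
      (orderOf_dvd_of_pow_eq_one (key C hC y hyC x hxC))
  have hall : ∀ x y : G, x ≠ 1 → y ≠ 1 → orderOf x = orderOf y := by
    intro x y hx hy
    obtain ⟨B, hB, hxB⟩ := hcov x
    by_cases hyB : y ∈ B
    · obtain ⟨z, hz⟩ := hout B hB
      rw [key2 B hB x hxB hx z hz, key2 B hB y hyB hy z hz]
    · exact key2 B hB x hxB hx y hyB
  obtain ⟨B0, hB0, -⟩ := hcov 1
  obtain ⟨y0, hy0⟩ := hout B0 hB0
  have hy01 : y0 ≠ 1 := fun h => hy0 (h ▸ B0.one_mem)
  haveI : Nontrivial G := ⟨⟨y0, 1, hy01⟩⟩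
  set n := orderOf y0 with hn
  have hn1 : n ≠ 1 := fun h => hy01 (orderOf_eq_one_iff.1 h)
  obtain ⟨p, hp, hpn⟩ := Nat.exists_prime_and_dvd hn1
  have hnp : n = p := by
    obtain ⟨k, hk⟩ := hpn
    have hkpos : k ≠ 0 := by
      rintro rfl
      have : 0 < n := orderOf_pos y0
      omega
    have h1 : orderOf (y0 ^ k) = p := by
      rw [orderOf_pow_of_dvd hkpos ⟨p, by rw [← hn, hk, mul_comm]⟩, ← hn, hk]
      exact Nat.mul_div_cancel _ (Nat.pos_of_ne_zero hkpos)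
    have h2 : y0 ^ k ≠ 1 := by
      intro h
      rw [h, orderOf_one] at h1
      exact hp.one_lt.ne h1
    rw [hn, ← hall (y0 ^ k) y0 h2 hy01, h1]
  have : Monoid.exponent G = p := by
    rw [Monoid.exponent_eq_prime_iff hp]
    intro g hg
    rw [hall g y0 hg hy01, ← hn, hnp]
  rw [this]; exact hp

end Cfsg.Agent.S3889
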