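import Cfsg.Statements.S3890
import Mathlib
import Cfsg.Agent.Lib.Helper9.NilCover

set_option autoImplicit false
open Cfsg

namespace Cfsg.Agent.S3890

open Cfsg.Agent.Lib.Helper9.NilCover

theorem mem_of_normalizes {G : Type*} [Group G] [Finite G] {p : ℕ} [Fact p.Prime] (Q : Sylow p G)
    (b : G) (k : ℕ) (hb : b ^ p ^ k = 1)
    (hc : b ∈ Subgroup.normalizer ((Q : Subgroup G) : Set G)) : b ∈ Q := by
  have h0 : Subgroup.zpowers b ≤ Subgroup.normalizer ((Q : Subgroup G) : Set G) := by
    rw [Subgroup.zpowers_le]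
    exact hc
  have h1 : IsPGroup p (Subgroup.zpowers b ⊔ (Q : Subgroup G) : Subgroup G) :=
    (zp b k hb).to_sup_of_normal_right' Q.2 h0
  have h2 := Q.is_maximal' h1 le_sup_right
  have h3 : b ∈ (Subgroup.zpowers b ⊔ (Q : Subgroup G) : Subgroup G) :=
    (le_sup_left : Subgroup.zpowers b ≤ _) (Subgroup.mem_zpowers b)
  rw [h2] at h3
  exact h3


/-- A cover of a group is a finite set of proper subgroups whose union is the whole group; it is minimal when no cover has fewer members, and nilpotent when all its members are nilpotent. Let G be a finite group with trivial center admitting a nilpotent minimal cover 𝓐, and let P be an abelian Sylow p-subgroup of G that is not normal. Then either P is elementary abelian of order greater than p, or P is a Sylow p-subgroup of some member A of 𝓐, the normalizer N of P is a maximal subgroup of G, N meets each of its conjugates by elements outside N in a subgroup of order prime to p, and the centralizer of P equals A. -/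
theorem result {G : Type*} [Group G] [Finite G] (hZ : Subgroup.center G = ⊥) (𝓐 : Finset (Subgroup G))
    (h𝓐 : ((∀ A ∈ 𝓐, A ≠ ⊤) ∧ (∀ g : G, ∃ A ∈ 𝓐, g ∈ A)) ∧ (∀ 𝓑 : Finset (Subgroup G), (∀ A ∈ 𝓑, A ≠ ⊤) ∧ (∀ g : G, ∃ A ∈ 𝓑, g ∈ A) → 𝓐.card ≤ 𝓑.card) ∧ (∀ A ∈ 𝓐, Group.IsNilpotent ↥A)) {p : ℕ} [Fact p.Prime] (P : Sylow p G) (hab : IsMulCommutative ↥(P : Subgroup G))
    (hnn : ¬ (P : Subgroup G).Normal) :
    (Cfsg.IsElementaryAbelian p (P : Subgroup G) ∧ p < Nat.card ↥(P : Subgroup G)) ∨
    (∃ A ∈ 𝓐, (P : Subgroup G) ≤ A ∧ ¬ p ∣ ((P : Subgroup G).subgroupOf A).index ∧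
      IsCoatom (Subgroup.normalizer ((P : Subgroup G) : Set G)) ∧
      (∀ g : G, g ∉ Subgroup.normalizer ((P : Subgroup G) : Set G) →
        ¬ p ∣ Nat.card ↥(Subgroup.normalizer ((P : Subgroup G) : Set G) ⊓
          (Subgroup.normalizer ((P : Subgroup G) : Set G)).map (MulAut.conj g).toMonoidHom)) ∧
      Subgroup.centralizer ((P : Subgroup G) : Set G) = A) := by

  have h : IsNMC 𝓐 := h𝓐
  have hp : p.Prime := Fact.out
  have hP1 := exists_ne_one P hnn
  have hab' : ∀ x ∈ P, ∀ y ∈ P, x * y = y * x := by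
    intro x hx y hy
    exact congrArg Subtype.val (hab.is_comm.comm ⟨x, hx⟩ ⟨y, hy⟩)
  have hpc := pcomm P hab'
  by_cases hE : Cfsg.IsElementaryAbelian p (P : Subgroup G) ∧ p < Nat.card ↥(P : Subgroup G)
  · exact Or.inl hE
  right
  have hP' : (∃ x ∈ P, ∀ y ∈ P, y ∈ Subgroup.zpowers x) ∨ (∃ x ∈ P, x ^ p ≠ 1) := by
    by_cases hel : Cfsg.IsElementaryAbelian p (P : Subgroup G)
    · left
      have hle : Nat.card ↥(P : Subgroup G) ≤ p := by
        by_contra hlt
        exact hE ⟨hel, not_le.mp hlt⟩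
      obtain ⟨n, hn⟩ := IsPGroup.iff_card.mp P.2
      have hn0 : n ≠ 0 := by
        rintro rfl
        rw [pow_zero] at hn
        obtain ⟨u, hu, hu1⟩ := hP1
        have := (Subgroup.card_eq_one.mp hn)
        have hu' : u ∈ (P : Subgroup G) := hu
        rw [this] at hu'
        exact hu1 (Subgroup.mem_bot.mp hu')
      have hn1 : n ≤ 1 := by
        by_contra hlt
        have h2 : p ^ 2 ≤ p ^ n := Nat.pow_le_pow_right hp.pos (by omega)
        have h3 : p < p ^ 2 := by nlinarith [hp.two_le]
        have hle' : p ^ n ≤ p := hn ▸ hle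
        omega
      have hn' : n = 1 := by omega
      rw [hn', pow_one] at hn
      exact cyclic_gen P (isCyclic_of_prime_card hn)
    · right
      by_contra hcon
      push Not at hcon
      exact hel ⟨hab, hcon⟩
  obtain ⟨A, hA, hAeq⟩ := key hZ h hpc P hP1 hP'
  have hPA : (P : Subgroup G) ≤ A := by
    rw [hAeq]
    intro x hx
    rw [Subgroup.mem_centralizer_iff]
    intro y hy
    exact hab' y hy x hx
  refine ⟨A, hA, hPA, ?_, coatom_normalizer hZ h hpc P hP1 hP' hnn, ?_, hAeq.symm⟩
  · intro hdvd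
    have h1 : (P : Subgroup G).relIndex A * A.index = (P : Subgroup G).index :=
      Subgroup.relIndex_mul_index hPA
    exact P.not_dvd_index (h1 ▸ Dvd.dvd.mul_right hdvd _)
  · intro g hg hdvd
    obtain ⟨y, hy⟩ := exists_prime_orderOf_dvd_card' p hdvd
    have hy1 : (y : G) ≠ 1 := by
      intro h1
      have : y = 1 := Subtype.ext h1
      rw [this, orderOf_one] at hy
      exact hp.one_lt.ne hy
    have hyp : (y : G) ^ p ^ 1 = 1 := by
      have := pow_orderOf_eq_one y
      rw [hy] at this
      have h6 : ((y ^ p : _) : G) = 1 := congrArg Subtype.val this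
      rw [pow_one]
      exact h6
    have hyP : (y : G) ∈ P := mem_of_normalizes P _ 1 hyp (Subgroup.mem_inf.mp y.2).1
    have hyP' : (y : G) ∈ (g • P : Sylow p G) := by
      obtain ⟨n, hn, hny⟩ := Subgroup.mem_map.mp (Subgroup.mem_inf.mp y.2).2
      have hny' : g * n * g⁻¹ = (y : G) := by simpa using hny
      rw [mem_smul_iff, ← hny']
      have hnp : n ^ p ^ 1 = 1 := by
        have h5 : (g * n * g⁻¹) ^ p ^ 1 = 1 := by rw [hny']; exact hyp
        rw [conj_pow] at h5
        have := congrArg (fun z => g⁻¹ * z * g) h5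
        simpa [mul_assoc] using this
      have := mem_of_normalizes P n 1 hnp hn
      simpa [mul_assoc] using this
    apply hg
    apply conj_mem_normalizer hZ h hpc P hP1 hP' (Subgroup.centralizer ({(y : G)} : Set G))
      (centralizer_ne_top hZ _ hy1) g
    · exact Subgroup.centralizer_le (by simpa using hyP)
    · exact Subgroup.centralizer_le (by simpa using hyP')

end Cfsg.Agent.S3890
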