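import Cfsg.Statements.S3891
import Mathlib
import Cfsg.Agent.Lib.Helper9.NilCover

set_option autoImplicit false
open Cfsg

namespace Cfsg.Agent.S3891

open Cfsg.Agent.Lib.Helper9.NilCover


/-- A cover of a group is a finite set of proper subgroups whose union is the whole group; it is minimal when no cover has fewer members, and nilpotent when all its members are nilpotent. Let G be a finite group with trivial center admitting a nilpotent minimal cover, and let P be a non-normal Sylow p-subgroup of G that is cyclic, or abelian but not elementary abelian. Then the centralizer of P is nilpotent and the normalizer of P is the unique maximal subgroup of G containing the centralizer of P. -/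
theorem result {G : Type*} [Group G] [Finite G] (hZ : Subgroup.center G = ⊥) (𝓐 : Finset (Subgroup G))
    (h𝓐 : ((∀ A ∈ 𝓐, A ≠ ⊤) ∧ (∀ g : G, ∃ A ∈ 𝓐, g ∈ A)) ∧ (∀ 𝓑 : Finset (Subgroup G), (∀ A ∈ 𝓑, A ≠ ⊤) ∧ (∀ g : G, ∃ A ∈ 𝓑, g ∈ A) → 𝓐.card ≤ 𝓑.card) ∧ (∀ A ∈ 𝓐, Group.IsNilpotent ↥A)) {p : ℕ} [Fact p.Prime] (P : Sylow p G)
    (hP : IsCyclic ↥(P : Subgroup G) ∨ (IsMulCommutative ↥(P : Subgroup G) ∧ ¬ Cfsg.IsElementaryAbelian p (P : Subgroup G)))
    (hnn : ¬ (P : Subgroup G).Normal) :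
    Group.IsNilpotent ↥(Subgroup.centralizer ((P : Subgroup G) : Set G)) ∧
      IsCoatom (Subgroup.normalizer ((P : Subgroup G) : Set G)) ∧
      ∀ M : Subgroup G, IsCoatom M → Subgroup.centralizer ((P : Subgroup G) : Set G) ≤ M →
        M = Subgroup.normalizer ((P : Subgroup G) : Set G) := by

  have h : IsNMC 𝓐 := h𝓐
  have hP1 := exists_ne_one P hnn
  have hP' : (∃ x ∈ P, ∀ y ∈ P, y ∈ Subgroup.zpowers x) ∨ (∃ x ∈ P, x ^ p ≠ 1) := by
    rcases hP with hc | ⟨hab, hne⟩
    · exact Or.inl (cyclic_gen P hc)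
    · right
      by_contra hcon
      push Not at hcon
      exact hne ⟨hab, hcon⟩
  have hab : ∀ x ∈ P, ∀ y ∈ P, x * y = y * x := by
    rcases hP with hc | ⟨hab, hne⟩
    · exact comm_of_gen P (cyclic_gen P hc)
    · intro x hx y hy
      exact congrArg Subtype.val (hab.is_comm.comm ⟨x, hx⟩ ⟨y, hy⟩)
  have hpc := pcomm P hab
  refine ⟨?_, coatom_normalizer hZ h hpc P hP1 hP' hnn, ?_⟩
  · obtain ⟨A, hA, hAeq⟩ := key hZ h hpc P hP1 hP'
    rw [← hAeq]
    exact h.2.2 A hA
  · intro M hM hCM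
    exact coatom_eq hZ h hpc P hP1 hP' hnn M hM hCM

end Cfsg.Agent.S3891
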