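import Cfsg.Statements.S3892
import Mathlib

set_option autoImplicit false
open Cfsg

namespace Cfsg.Agent.S3892

open Equiv Equiv.Perm Pointwise

theorem no_cover {G : Type*} [Group G] (B : Subgroup G) (hB : B ≠ ⊤) (t d : G)
    (ht : ∀ A : Subgroup G, Group.IsNilpotent A → t ∈ A → A ≤ B)
    (hd : ∀ A : Subgroup G, Group.IsNilpotent A → d ∈ A → A ≤ B)
    (htd : ∀ A : Subgroup G, Group.IsNilpotent A → t ∈ A → d ∈ A → False) :
    ¬ ∃ 𝓐 : Finset (Subgroup G), ((∀ A ∈ 𝓐, A ≠ ⊤) ∧ (∀ g : G, ∃ A ∈ 𝓐, g ∈ A)) ∧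
      (∀ 𝓑 : Finset (Subgroup G), (∀ A ∈ 𝓑, A ≠ ⊤) ∧ (∀ g : G, ∃ A ∈ 𝓑, g ∈ A) →
        𝓐.card ≤ 𝓑.card) ∧ (∀ A ∈ 𝓐, Group.IsNilpotent ↥A) := by
  classical
  rintro ⟨𝓐, ⟨hpr, hcov⟩, hmin, hnil⟩
  obtain ⟨A₁, hA₁, ht₁⟩ := hcov t
  obtain ⟨A₂, hA₂, hd₂⟩ := hcov d
  have hne : A₂ ≠ A₁ := by
    rintro rfl
    exact htd _ (hnil _ hA₁) ht₁ hd₂
  have h := hmin (insert B ((𝓐.erase A₁).erase A₂)) ⟨?_, ?_⟩
  · have h1 : ((𝓐.erase A₁).erase A₂).card = 𝓐.card - 1 - 1 := by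
      rw [Finset.card_erase_of_mem (Finset.mem_erase.mpr ⟨hne, hA₂⟩),
        Finset.card_erase_of_mem hA₁]
    have h2 := Finset.card_insert_le B ((𝓐.erase A₁).erase A₂)
    have h3 : 2 ≤ 𝓐.card := by
      have : ({A₁, A₂} : Finset (Subgroup G)) ⊆ 𝓐 := by
        intro x hx
        simp only [Finset.mem_insert, Finset.mem_singleton] at hx
        rcases hx with rfl | rfl <;> assumption
      have h4 := Finset.card_le_card this
      rwa [Finset.card_pair hne.symm] at h4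
    omega
  · intro A hA
    rw [Finset.mem_insert] at hA
    rcases hA with rfl | hA
    · exact hB
    · exact hpr A (Finset.mem_of_mem_erase (Finset.mem_of_mem_erase hA))
  · intro g
    obtain ⟨A, hA, hg⟩ := hcov g
    by_cases h1 : A = A₁
    · subst h1
      exact ⟨B, Finset.mem_insert_self _ _, ht _ (hnil _ hA) ht₁ hg⟩
    by_cases h2 : A = A₂
    · subst h2
      exact ⟨B, Finset.mem_insert_self _ _, hd _ (hnil _ hA) hd₂ hg⟩
    exact ⟨A, Finset.mem_insert_of_mem (Finset.mem_erase.mpr ⟨h2, Finset.mem_erase.mpr ⟨h1, hA⟩⟩), hg⟩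

theorem stab_of_unique {Γ α : Type*} [Group Γ] [MulAction Γ α] (A : Subgroup Γ)
    (hA : Group.IsNilpotent A) (g : Γ) (hg : g ∈ A) (Δ : Set α) (hgΔ : g • Δ = Δ)
    (huniq : ∀ S : Set α, S.ncard = Δ.ncard → g • S = S → S = Δ) : ∀ a ∈ A, a • Δ = Δ := by
  obtain ⟨n, hn⟩ := hA.nilpotent'
  have key : ∀ i : ℕ, ∀ z : A, z ∈ Subgroup.upperCentralSeries A i → (z : Γ) • Δ = Δ := by
    intro i
    induction i with
    | zero =>
      intro z hz
      rw [Subgroup.upperCentralSeries_zero, Subgroup.mem_bot] at hz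
      subst hz
      simp
    | succ i ih =>
      intro z hz
      have h1 := (Subgroup.mem_upperCentralSeries_succ_iff.mp (inv_mem hz)) (⟨g, hg⟩ : A)⁻¹
      rw [commutatorElement_def] at h1
      have h2 := ih _ (inv_mem h1)
      apply huniq
      · exact Set.ncard_smul_set _ _
      · have h3' : (⟨g, hg⟩ : ↥A) * z = z * ⟨g, hg⟩ *
            (z⁻¹ * (⟨g, hg⟩ : ↥A)⁻¹ * z⁻¹⁻¹ * (⟨g, hg⟩ : ↥A)⁻¹⁻¹)⁻¹ := by
          group
        have h3 : g * (z : Γ) = (z : Γ) * g *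
            (((z⁻¹ * (⟨g, hg⟩ : ↥A)⁻¹ * z⁻¹⁻¹ * (⟨g, hg⟩ : ↥A)⁻¹⁻¹)⁻¹ : ↥A) : Γ) :=
          congrArg Subtype.val h3'
        rw [← mul_smul, h3, mul_smul, h2, mul_smul, hgΔ]
  intro a ha
  exact key n ⟨a, ha⟩ (by rw [hn]; trivial)

theorem exists_central {Γ : Type*} [Group Γ] (A : Subgroup Γ) (hA : Group.IsNilpotent A) (t : Γ)
    (ht : t ∈ A) (ht1 : t ≠ 1) : ∃ z ∈ A, z ≠ 1 ∧ ∀ a ∈ A, z * a = a * z := by
  haveI : Nontrivial A := ⟨⟨⟨t, ht⟩, 1, by simpa [Subtype.ext_iff] using ht1⟩⟩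
  have h := Group.IsNilpotent.center_ne_bot A
  obtain ⟨z, hz1⟩ := Subgroup.ne_bot_iff_exists_ne_one.mp h
  refine ⟨z.1.1, z.1.2, ?_, ?_⟩
  · intro h
    apply hz1
    ext
    simpa using h
  · intro a ha
    have := Subgroup.mem_center_iff.mp z.2 ⟨a, ha⟩
    have h2 := congrArg Subtype.val this
    simpa using h2.symm

theorem main_abs {Γ α : Type*} [Group Γ] [MulAction Γ α] (F : Set α) (t d : Γ) (ht1 : t ≠ 1)
    (htF : t • F = F) (hdF : d • F = F)
    (htu : ∀ S : Set α, S.ncard = F.ncard → t • S = S → S = F)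
    (hdu : ∀ S : Set α, S.ncard = F.ncard → d • S = S → S = F)
    (hC : ∀ z : Γ, z * t = t * z → z * d = d * z → z = 1)
    (hB : ∃ g : Γ, g • F ≠ F) :
    ¬ ∃ 𝓐 : Finset (Subgroup Γ), ((∀ A ∈ 𝓐, A ≠ ⊤) ∧ (∀ g : Γ, ∃ A ∈ 𝓐, g ∈ A)) ∧
      (∀ 𝓑 : Finset (Subgroup Γ), (∀ A ∈ 𝓑, A ≠ ⊤) ∧ (∀ g : Γ, ∃ A ∈ 𝓑, g ∈ A) →
        𝓐.card ≤ 𝓑.card) ∧ (∀ A ∈ 𝓐, Group.IsNilpotent ↥A) := by
  apply no_cover (MulAction.stabilizer Γ F) _ t d
  · intro A hA ht a ha
    exact MulAction.mem_stabilizer_iff.mpr (stab_of_unique A hA t ht F htF htu a ha)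
  · intro A hA hd a ha
    exact MulAction.mem_stabilizer_iff.mpr (stab_of_unique A hA d hd F hdF hdu a ha)
  · intro A hA ht hd
    obtain ⟨z, hz, hz1, hzc⟩ := exists_central A hA t ht ht1
    exact hz1 (hC z (hzc t ht) (hzc d hd))
  · intro h
    obtain ⟨g, hg⟩ := hB
    exact hg (MulAction.mem_stabilizer_iff.mp (h ▸ Subgroup.mem_top g))

theorem main_Z {Γ : Type*} [Group Γ] (B : Subgroup Γ) (hB : B ≠ ⊤) (t d : Γ) (ht1 : t ≠ 1)
    (hd1 : d ≠ 1)
    (ht : ∀ z a : Γ, z ≠ 1 → z * t = t * z → z * a = a * z → a ∈ B)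
    (hd : ∀ z a : Γ, z ≠ 1 → z * d = d * z → z * a = a * z → a ∈ B)
    (hC : ∀ z : Γ, z * t = t * z → z * d = d * z → z = 1) :
    ¬ ∃ 𝓐 : Finset (Subgroup Γ), ((∀ A ∈ 𝓐, A ≠ ⊤) ∧ (∀ g : Γ, ∃ A ∈ 𝓐, g ∈ A)) ∧
      (∀ 𝓑 : Finset (Subgroup Γ), (∀ A ∈ 𝓑, A ≠ ⊤) ∧ (∀ g : Γ, ∃ A ∈ 𝓑, g ∈ A) →
        𝓐.card ≤ 𝓑.card) ∧ (∀ A ∈ 𝓐, Group.IsNilpotent ↥A) := by
  apply no_cover B hB t d
  · intro A hA htA a ha
    obtain ⟨z, hz, hz1, hzc⟩ := exists_central A hA t htA ht1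
    exact ht z a hz1 (hzc t htA) (hzc a ha)
  · intro A hA hdA a ha
    obtain ⟨z, hz, hz1, hzc⟩ := exists_central A hA d hdA hd1
    exact hd z a hz1 (hzc d hdA) (hzc a ha)
  · intro A hA htA hdA
    obtain ⟨z, hz, hz1, hzc⟩ := exists_central A hA t htA ht1
    exact hz1 (hC z (hzc t htA) (hzc d hdA))


theorem core {α : Type*} [Fintype α] [DecidableEq α] (R : Finset α) (t : Perm α)
    (htc : t.IsCycleOn R) (hm : 4 ≤ R.card) (a0 : α) (ha0 : a0 ∈ R) (z : Perm α)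
    (hzt : z * t = t * z)
    (hzd : z * (swap a0 (t a0) * t * swap a0 (t a0)) =
      (swap a0 (t a0) * t * swap a0 (t a0)) * z) :
    ∀ v ∈ R, z v = v := by
  have hzt' : ∀ y, z (t y) = t (z y) := fun y => by
    have := congrArg (fun f : Perm α => f y) hzt
    simpa using this
  have hzd' : ∀ y, z (swap a0 (t a0) (t (swap a0 (t a0) y))) =
      swap a0 (t a0) (t (swap a0 (t a0) (z y))) := fun y => by
    have := congrArg (fun f : Perm α => f y) hzd
    simpa using this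
  have hpow : ∀ k : ℕ, 0 < k → k < 4 → (t ^ k) a0 ≠ a0 := by
    intro k hk hk4 h
    have h1 := (htc.pow_apply_eq ha0).mp h
    have h2 := Nat.le_of_dvd hk h1
    omega
  have h10 : t a0 ≠ a0 := by simpa using hpow 1 (by norm_num) (by norm_num)
  have h20 : t (t a0) ≠ a0 := by
    simpa [pow_succ] using hpow 2 (by norm_num) (by norm_num)
  have h30 : t (t (t a0)) ≠ a0 := by
    simpa [pow_succ] using hpow 3 (by norm_num) (by norm_num)
  have h21 : t (t a0) ≠ t a0 := fun h => h10 (t.injective h)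
  have hb : t (z a0) ≠ z a0 := by
    rw [← hzt']
    exact fun h => h10 (z.injective h)
  have E1 : t (t (z a0)) = swap a0 (t a0) (t (swap a0 (t a0) (z a0))) := by
    have := hzd' a0
    rw [swap_apply_left, swap_apply_of_ne_of_ne h20 h21, hzt', hzt'] at this
    exact this
  have E2 : z a0 = swap a0 (t a0) (t (swap a0 (t a0) (t (z a0)))) := by
    have := hzd' (t a0)
    rw [swap_apply_right, swap_apply_right, hzt'] at this
    exact this
  have hz0 : z a0 = a0 := by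
    by_contra hb0
    by_cases hb1 : z a0 = t a0
    · rw [hb1, swap_apply_right, swap_apply_right] at E1
      exact h30 E1
    · rw [swap_apply_of_ne_of_ne hb0 hb1] at E1
      by_cases hc0 : t (z a0) = a0
      · rw [hc0, swap_apply_left, swap_apply_of_ne_of_ne h20 h21] at E2
        rw [E2] at hc0
        exact h30 hc0
      · by_cases hc1 : t (z a0) = t a0
        · exact hb0 (t.injective hc1)
        · rw [swap_apply_of_ne_of_ne hc0 hc1] at E1
          exact hb (t.injective E1)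
  intro v hv
  obtain ⟨k, _, rfl⟩ := htc.exists_pow_eq ha0 hv
  have hc : Commute z (t ^ k) := Commute.pow_right hzt k
  have := congrArg (fun f : Perm α => f a0) hc.eq
  simp only [Perm.mul_apply] at this
  rw [this, hz0]

theorem smul_fix {α : Type*} (g : Perm α) (F : Set α) (h : ∀ y ∈ F, g y = y) : g • F = F := by
  ext y
  constructor
  · rintro ⟨u, hu, rfl⟩
    show g u ∈ F
    rw [h u hu]; exact hu
  · intro hy
    exact ⟨y, hy, h y hy⟩

theorem tuple {α : Type*} [Fintype α] [DecidableEq α] (F : Finset α) (hm : 4 ≤ Fᶜ.card)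
    (hF : F.card < Fᶜ.card) :
    ∃ (t d : Perm α) (a0 : α), a0 ∉ F ∧ t a0 ∉ F ∧ t a0 ≠ a0 ∧ sign t = -(-1) ^ (Fᶜ.card) ∧
      sign d = sign t ∧ t • (F : Set α) = F ∧ d • (F : Set α) = F ∧
      (∀ S : Set α, S.ncard = (F : Set α).ncard → t • S = S → S = F) ∧
      (∀ S : Set α, S.ncard = (F : Set α).ncard → d • S = S → S = F) ∧
      (∀ z : Perm α, z * t = t * z → z * d = d * z → ∀ v, v ∉ F → z v = v) := by
  obtain ⟨t, htc, hts⟩ := Finset.exists_cycleOn Fᶜ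
  obtain ⟨a0, ha0⟩ : Fᶜ.Nonempty := Finset.card_pos.mp (by omega)
  have hnt : (↑(Fᶜ) : Set α).Nontrivial := by
    have : Fᶜ.Nontrivial := Finset.one_lt_card_iff_nontrivial.mp (by omega)
    exact this
  have hfix : ∀ y ∈ F, t y = y := by
    intro y hy
    by_contra h
    have := hts (Perm.mem_support.mpr h)
    exact (Finset.mem_compl.mp this) hy
  have ha1 : t a0 ∈ Fᶜ := htc.1.mapsTo ha0
  have h10 : t a0 ≠ a0 := htc.apply_ne hnt ha0
  have hσfix : ∀ y ∈ F, swap a0 (t a0) y = y := by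
    intro y hy
    apply swap_apply_of_ne_of_ne
    · rintro rfl; exact (Finset.mem_compl.mp ha0) hy
    · rintro rfl; exact (Finset.mem_compl.mp ha1) hy
  have htu : ∀ S : Set α, S.ncard = (F : Set α).ncard → t • S = S → S = F := by
    intro S hS htS
    have hsub : S ⊆ F := by
      intro u hu
      by_contra huF
      have huR : u ∈ Fᶜ := Finset.mem_compl.mpr huF
      have hall : (↑(Fᶜ) : Set α) ⊆ S := by
        intro v hv
        obtain ⟨k, _, rfl⟩ := htc.exists_pow_eq huR hv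
        have h1 : t ∈ MulAction.stabilizer (Perm α) S := MulAction.mem_stabilizer_iff.mpr htS
        have h2 : (t ^ k) • S = S := MulAction.mem_stabilizer_iff.mp (Subgroup.pow_mem _ h1 k)
        rw [← h2]
        exact Set.smul_mem_smul_set hu
      have := Set.ncard_le_ncard hall (Set.toFinite S)
      rw [Set.ncard_coe_finset, hS, Set.ncard_coe_finset] at this
      omega
    exact Set.eq_of_subset_of_ncard_le hsub (by rw [hS]) (Set.toFinite _)
  have hcyc : t.IsCycle :=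
    isCycle_iff_exists_isCycleOn.mpr ⟨_, hnt, htc, fun x hx => hts (Perm.mem_support.mpr hx)⟩
  have hsupp : t.support = Fᶜ := by
    apply Finset.Subset.antisymm hts
    intro y hy
    exact Perm.mem_support.mpr (htc.apply_ne hnt hy)
  refine ⟨t, swap a0 (t a0) * t * swap a0 (t a0), a0, Finset.mem_compl.mp ha0,
    Finset.mem_compl.mp ha1, h10, ?_, ?_, smul_fix _ _ hfix, ?_, htu, ?_, ?_⟩
  · rw [hcyc.sign, hsupp]
  · rw [Perm.sign_mul, Perm.sign_mul, mul_comm, ← mul_assoc, Int.units_mul_self, one_mul]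
  · apply smul_fix
    intro y hy
    simp only [Perm.mul_apply]
    rw [hσfix y hy, hfix y hy, hσfix y hy]
  · intro S hS hdS
    have e : t * swap a0 (t a0) = swap a0 (t a0) * (swap a0 (t a0) * t * swap a0 (t a0)) := by
      simp [← mul_assoc]
    have h1 : t • (swap a0 (t a0) • S) = swap a0 (t a0) • S := by
      rw [← mul_smul, e, mul_smul, hdS]
    have h2 := htu _ ((Set.ncard_smul_set _ _).trans hS) h1
    have h3 : swap a0 (t a0) • (swap a0 (t a0) • S) = S := by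
      rw [← mul_smul, swap_mul_self, one_smul]
    rw [← h3, h2]
    exact smul_fix _ _ hσfix
  · intro z hzt hzd v hv
    exact core Fᶜ t htc hm a0 ha0 z hzt hzd v (Finset.mem_compl.mpr hv)


theorem support_subset {α : Type*} [Fintype α] [DecidableEq α] (F : Finset α) (z : Perm α)
    (h : ∀ v, v ∉ F → z v = v) : z.support ⊆ F := by
  intro v hv
  by_contra hvF
  exact (Perm.mem_support.mp hv) (h v hvF)

theorem sym_case {α : Type*} [Fintype α] [DecidableEq α] (x : α) (hm : 4 ≤ ({x} : Finset α)ᶜ.card) :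
    ¬ ∃ 𝓐 : Finset (Subgroup (Perm α)), ((∀ A ∈ 𝓐, A ≠ ⊤) ∧ (∀ g : Perm α, ∃ A ∈ 𝓐, g ∈ A)) ∧
      (∀ 𝓑 : Finset (Subgroup (Perm α)), (∀ A ∈ 𝓑, A ≠ ⊤) ∧ (∀ g : Perm α, ∃ A ∈ 𝓑, g ∈ A) →
        𝓐.card ≤ 𝓑.card) ∧ (∀ A ∈ 𝓐, Group.IsNilpotent ↥A) := by
  obtain ⟨t, d, a0, ha0, ha1, h10, hst, hsd, htF, hdF, htu, hdu, hC⟩ :=
    tuple ({x} : Finset α) hm (by rw [Finset.card_singleton]; omega)
  apply main_abs (α := α) (({x} : Finset α) : Set α) t d _ htF hdF htu hdu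
  · intro z hzt hzd
    have h1 := Finset.card_le_card (support_subset _ z (hC z hzt hzd))
    rw [Finset.card_singleton] at h1
    have h2 := Perm.card_support_ne_one z
    have h3 : z.support.card = 0 := by omega
    exact Perm.card_support_eq_zero.mp h3
  · refine ⟨swap x a0, fun h => ?_⟩
    have h1 : a0 ∈ swap x a0 • (({x} : Finset α) : Set α) := ⟨x, by simp, by simp⟩
    rw [h] at h1
    exact ha0 (by simpa using h1)
  · rintro rfl
    exact h10 rfl

theorem alt_case {α : Type*} [Fintype α] [DecidableEq α] (F : Finset α) (hF2 : F.card ≤ 2)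
    (hFne : F.Nonempty) (hodd : Odd Fᶜ.card) (hm : 4 ≤ Fᶜ.card) :
    ¬ ∃ 𝓐 : Finset (Subgroup ↥(alternatingGroup α)), ((∀ A ∈ 𝓐, A ≠ ⊤) ∧
      (∀ g : ↥(alternatingGroup α), ∃ A ∈ 𝓐, g ∈ A)) ∧
      (∀ 𝓑 : Finset (Subgroup ↥(alternatingGroup α)), (∀ A ∈ 𝓑, A ≠ ⊤) ∧
        (∀ g : ↥(alternatingGroup α), ∃ A ∈ 𝓑, g ∈ A) →
        𝓐.card ≤ 𝓑.card) ∧ (∀ A ∈ 𝓐, Group.IsNilpotent ↥A) := by
  obtain ⟨t, d, a0, ha0, ha1, h10, hst, hsd, htF, hdF, htu, hdu, hC⟩ :=
    tuple F hm (by omega)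
  have hst1 : sign t = 1 := by rw [hst, hodd.neg_one_pow]; simp
  have hsd1 : sign d = 1 := by rw [hsd, hst1]
  obtain ⟨x, hx⟩ := hFne
  apply main_abs (α := α) (F : Set α) (⟨t, Perm.mem_alternatingGroup.mpr hst1⟩ : ↥(alternatingGroup α))
    (⟨d, Perm.mem_alternatingGroup.mpr hsd1⟩ : ↥(alternatingGroup α)) _ htF hdF htu hdu
  · intro z hzt hzd
    have h1 := Finset.card_le_card (support_subset _ z.1 (hC z.1 (congrArg Subtype.val hzt)
      (congrArg Subtype.val hzd)))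
    have h2 := Perm.card_support_ne_one z.1
    have h4 : z.1.support.card ≠ 2 := by
      intro h
      have h5 := (Perm.card_support_eq_two.mp h).sign_eq
      have h6 := Perm.mem_alternatingGroup.mp z.2
      rw [h5] at h6
      exact absurd h6 (by decide)
    have h3 : z.1.support.card = 0 := by omega
    exact Subtype.ext (Perm.card_support_eq_zero.mp h3)
  · have hxa : x ≠ a0 := by rintro rfl; exact ha0 hx
    refine ⟨⟨swap x a0 * swap a0 (t a0), ?_⟩, fun h => ?_⟩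
    · rw [Perm.mem_alternatingGroup, Perm.sign_mul, Perm.sign_swap hxa, Perm.sign_swap h10.symm]
      simp
    · have h1 : a0 ∈ (swap x a0 * swap a0 (t a0)) • (F : Set α) := by
        refine ⟨x, hx, ?_⟩
        show (swap x a0 * swap a0 (t a0)) x = a0
        rw [Perm.mul_apply, swap_apply_of_ne_of_ne hxa (by rintro rfl; exact ha1 hx),
          swap_apply_left]
      have h2 : a0 ∈ (F : Set α) := by
        rw [← h]; exact h1
      exact ha0 (by simpa using h2)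
  · intro h
    have := congrArg Subtype.val h
    simp only [Subgroup.coe_one] at this
    subst this
    exact h10 rfl


theorem P1 : ∀ z : Perm (Fin 5), sign z = 1 → z * c[0,1,2] = c[0,1,2] * z → z = 1 ∨ z = c[0,1,2] ∨ z = c[0,1,2] * c[0,1,2] := by decide +kernel
theorem P2 : ∀ a : Perm (Fin 5), sign a = 1 → c[0,1,2] * a = a * c[0,1,2] → a 4 = 4 := by decide +kernel
theorem P3 : ∀ a : Perm (Fin 5), sign a = 1 → (c[0,1,2] * c[0,1,2]) * a = a * (c[0,1,2] * c[0,1,2]) → a 4 = 4 := by decide +kernel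
theorem Q1 : ∀ z : Perm (Fin 5), sign z = 1 → z * c[0,1,3] = c[0,1,3] * z → z = 1 ∨ z = c[0,1,3] ∨ z = c[0,1,3] * c[0,1,3] := by decide +kernel
theorem Q2 : ∀ a : Perm (Fin 5), sign a = 1 → c[0,1,3] * a = a * c[0,1,3] → a 4 = 4 := by decide +kernel
theorem Q3 : ∀ a : Perm (Fin 5), sign a = 1 → (c[0,1,3] * c[0,1,3]) * a = a * (c[0,1,3] * c[0,1,3]) → a 4 = 4 := by decide +kernel
theorem PQ : ∀ z : Perm (Fin 5), z * c[0,1,2] = c[0,1,2] * z → z * c[0,1,3] = c[0,1,3] * z → z = 1 := by decide +kernel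
theorem R1 : ∀ z a : Perm (Fin 4), z ≠ 1 → z * c[0,1,2] = c[0,1,2] * z → z * a = a * z → sign a = 1 := by decide +kernel
theorem R2 : ∀ z a : Perm (Fin 4), z ≠ 1 → z * c[0,1,3] = c[0,1,3] * z → z * a = a * z → sign a = 1 := by decide +kernel
theorem R3 : ∀ z : Perm (Fin 4), z * c[0,1,2] = c[0,1,2] * z → z * c[0,1,3] = c[0,1,3] * z → z = 1 := by decide +kernel

theorem sym_four :
    ¬ ∃ 𝓐 : Finset (Subgroup (Perm (Fin 4))), ((∀ A ∈ 𝓐, A ≠ ⊤) ∧ (∀ g : Perm (Fin 4), ∃ A ∈ 𝓐, g ∈ A)) ∧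
      (∀ 𝓑 : Finset (Subgroup (Perm (Fin 4))), (∀ A ∈ 𝓑, A ≠ ⊤) ∧ (∀ g : Perm (Fin 4), ∃ A ∈ 𝓑, g ∈ A) →
        𝓐.card ≤ 𝓑.card) ∧ (∀ A ∈ 𝓐, Group.IsNilpotent ↥A) := by
  apply main_Z (alternatingGroup (Fin 4)) _ (c[0,1,2]) (c[0,1,3]) (by decide) (by decide)
  · intro z a h1 h2 h3
    exact Perm.mem_alternatingGroup.mpr (R1 z a h1 h2 h3)
  · intro z a h1 h2 h3
    exact Perm.mem_alternatingGroup.mpr (R2 z a h1 h2 h3)
  · exact R3
  · intro h
    have h1 : swap (0 : Fin 4) 1 ∈ alternatingGroup (Fin 4) := h ▸ Subgroup.mem_top _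
    rw [Perm.mem_alternatingGroup] at h1
    exact absurd h1 (by decide)

theorem alt_five :
    ¬ ∃ 𝓐 : Finset (Subgroup ↥(alternatingGroup (Fin 5))), ((∀ A ∈ 𝓐, A ≠ ⊤) ∧
      (∀ g : ↥(alternatingGroup (Fin 5)), ∃ A ∈ 𝓐, g ∈ A)) ∧
      (∀ 𝓑 : Finset (Subgroup ↥(alternatingGroup (Fin 5))), (∀ A ∈ 𝓑, A ≠ ⊤) ∧
        (∀ g : ↥(alternatingGroup (Fin 5)), ∃ A ∈ 𝓑, g ∈ A) →
        𝓐.card ≤ 𝓑.card) ∧ (∀ A ∈ 𝓐, Group.IsNilpotent ↥A) := by
  apply main_Z (MulAction.stabilizer ↥(alternatingGroup (Fin 5)) (4 : Fin 5)) _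
    (⟨c[0,1,2], Perm.mem_alternatingGroup.mpr (by decide)⟩ : ↥(alternatingGroup (Fin 5)))
    (⟨c[0,1,3], Perm.mem_alternatingGroup.mpr (by decide)⟩ : ↥(alternatingGroup (Fin 5)))
  · intro h
    exact absurd (congrArg Subtype.val h) (by decide)
  · intro h
    exact absurd (congrArg Subtype.val h) (by decide)
  · intro z a h1 h2 h3
    rw [MulAction.mem_stabilizer_iff]
    show a.1 4 = 4
    have h2' : z.1 * c[0,1,2] = c[0,1,2] * z.1 := congrArg Subtype.val h2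
    have h3' : z.1 * a.1 = a.1 * z.1 := congrArg Subtype.val h3
    rcases P1 z.1 (Perm.mem_alternatingGroup.mp z.2) h2' with h | h | h
    · exact absurd (Subtype.ext h) h1
    · rw [h] at h3'
      exact P2 a.1 (Perm.mem_alternatingGroup.mp a.2) h3'
    · rw [h] at h3'
      exact P3 a.1 (Perm.mem_alternatingGroup.mp a.2) h3'
  · intro z a h1 h2 h3
    rw [MulAction.mem_stabilizer_iff]
    show a.1 4 = 4
    have h2' : z.1 * c[0,1,3] = c[0,1,3] * z.1 := congrArg Subtype.val h2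
    have h3' : z.1 * a.1 = a.1 * z.1 := congrArg Subtype.val h3
    rcases Q1 z.1 (Perm.mem_alternatingGroup.mp z.2) h2' with h | h | h
    · exact absurd (Subtype.ext h) h1
    · rw [h] at h3'
      exact Q2 a.1 (Perm.mem_alternatingGroup.mp a.2) h3'
    · rw [h] at h3'
      exact Q3 a.1 (Perm.mem_alternatingGroup.mp a.2) h3'
  · intro z h2 h3
    exact Subtype.ext (PQ z.1 (congrArg Subtype.val h2) (congrArg Subtype.val h3))
  · intro h
    have h1 : (⟨c[0,1,4], Perm.mem_alternatingGroup.mpr (by decide)⟩ : ↥(alternatingGroup (Fin 5))) ∈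
        MulAction.stabilizer ↥(alternatingGroup (Fin 5)) (4 : Fin 5) := h ▸ Subgroup.mem_top _
    rw [MulAction.mem_stabilizer_iff] at h1
    have h2 : (c[0,1,4] : Perm (Fin 5)) 4 = 4 := h1
    exact absurd h2 (by decide)


/-- A cover of a group is a finite set of proper subgroups whose union is the whole group; it is minimal when no cover has fewer members, and nilpotent when all its members are nilpotent. The alternating groups of degree at least 5 and the symmetric groups of degree at least 4 have no nilpotent minimal cover. -/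
theorem result (n : ℕ) :
    (5 ≤ n → ¬ ∃ 𝓐 : Finset (Subgroup ↥(alternatingGroup (Fin n))), ((∀ A ∈ 𝓐, A ≠ ⊤) ∧ (∀ g : ↥(alternatingGroup (Fin n)), ∃ A ∈ 𝓐, g ∈ A)) ∧ (∀ 𝓑 : Finset (Subgroup ↥(alternatingGroup (Fin n))), (∀ A ∈ 𝓑, A ≠ ⊤) ∧ (∀ g : ↥(alternatingGroup (Fin n)), ∃ A ∈ 𝓑, g ∈ A) → 𝓐.card ≤ 𝓑.card) ∧ (∀ A ∈ 𝓐, Group.IsNilpotent ↥A)) ∧
    (4 ≤ n → ¬ ∃ 𝓐 : Finset (Subgroup (Equiv.Perm (Fin n))), ((∀ A ∈ 𝓐, A ≠ ⊤) ∧ (∀ g : (Equiv.Perm (Fin n)), ∃ A ∈ 𝓐, g ∈ A)) ∧ (∀ 𝓑 : Finset (Subgroup (Equiv.Perm (Fin n))), (∀ A ∈ 𝓑, A ≠ ⊤) ∧ (∀ g : (Equiv.Perm (Fin n)), ∃ A ∈ 𝓑, g ∈ A) → 𝓐.card ≤ 𝓑.card) ∧ (∀ A ∈ 𝓐, Group.IsNilpotent ↥A)) := by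
  constructor
  · intro hn
    rcases Nat.lt_or_ge 5 n with h6 | h5
    · rcases Nat.even_or_odd n with he | ho
      · apply alt_case ({⟨0, by omega⟩} : Finset (Fin n))
        · simp
        · simp
        · rw [Finset.card_compl, Fintype.card_fin, Finset.card_singleton]
          obtain ⟨k, hk⟩ := he
          exact ⟨k - 1, by omega⟩
        · rw [Finset.card_compl, Fintype.card_fin, Finset.card_singleton]
          omega
      · have hc : ({⟨0, by omega⟩, ⟨1, by omega⟩} : Finset (Fin n)).card = 2 := by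
          apply Finset.card_pair
          simp [Fin.ext_iff]
        apply alt_case ({⟨0, by omega⟩, ⟨1, by omega⟩} : Finset (Fin n))
        · rw [hc]
        · simp
        · rw [Finset.card_compl, Fintype.card_fin, hc]
          obtain ⟨k, hk⟩ := ho
          exact ⟨k - 1, by omega⟩
        · rw [Finset.card_compl, Fintype.card_fin, hc]
          obtain ⟨k, hk⟩ := ho
          omega
    · obtain rfl : n = 5 := by omega
      exact alt_five
  · intro hn
    rcases Nat.lt_or_ge 4 n with h5 | h4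
    · apply sym_case (⟨0, by omega⟩ : Fin n)
      rw [Finset.card_compl, Fintype.card_fin, Finset.card_singleton]
      omega
    · obtain rfl : n = 4 := by omega
      exact sym_four

end Cfsg.Agent.S3892
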