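import Cfsg.Statements.S3893
import Cfsg.Agent.Lib.Helper19.SuzN
import Cfsg.Agent.Lib.Helper19.SuzL

set_option autoImplicit false
open Cfsg

namespace Cfsg.Agent.S3893

open Cfsg.Agent.Lib.Helper19.Suz in
theorem no_cover {G : Type*} [Group G] (B : Subgroup G) (hB : B ≠ ⊤) (t d : G)
    (ht : ∀ A : Subgroup G, Group.IsNilpotent A → t ∈ A → A ≤ B)
    (hd : ∀ A : Subgroup G, Group.IsNilpotent A → d ∈ A → A ≤ B)
    (htd : ∀ A : Subgroup G, Group.IsNilpotent A → t ∈ A → d ∈ A → False) :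
    ¬ ∃ 𝓐 : Finset (Subgroup G), ((∀ A ∈ 𝓐, A ≠ ⊤) ∧ (∀ g : G, ∃ A ∈ 𝓐, g ∈ A)) ∧
      (∀ 𝓑 : Finset (Subgroup G), (∀ A ∈ 𝓑, A ≠ ⊤) ∧ (∀ g : G, ∃ A ∈ 𝓑, g ∈ A) →
        𝓐.card ≤ 𝓑.card) ∧ (∀ A ∈ 𝓐, Group.IsNilpotent ↥A) := by
  classical
  rintro ⟨𝓐, ⟨hpr, hcov⟩, hmin, hnil⟩
  obtain ⟨A₁, hA₁, ht₁⟩ := hcov t
  obtain ⟨A₂, hA₂, hd₂⟩ := hcov d
  have hne : A₂ ≠ A₁ := by
    rintro rfl
    exact htd _ (hnil _ hA₁) ht₁ hd₂
  have h := hmin (insert B ((𝓐.erase A₁).erase A₂)) ⟨?_, ?_⟩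
  · have h1 : ((𝓐.erase A₁).erase A₂).card = 𝓐.card - 1 - 1 := by
      rw [Finset.card_erase_of_mem (Finset.mem_erase.mpr ⟨hne, hA₂⟩),
        Finset.card_erase_of_mem hA₁]
    have h2 := Finset.card_insert_le B ((𝓐.erase A₁).erase A₂)
    have h3 : 2 ≤ 𝓐.card := by
      have : ({A₁, A₂} : Finset (Subgroup G)) ⊆ 𝓐 := by
        intro x hx
        simp only [Finset.mem_insert, Finset.mem_singleton] at hx
        rcases hx with rfl | rfl <;> assumption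
      have h4 := Finset.card_le_card this
      rwa [Finset.card_pair hne.symm] at h4
    omega
  · intro A hA
    rw [Finset.mem_insert] at hA
    rcases hA with rfl | hA
    · exact hB
    · exact hpr A (Finset.mem_of_mem_erase (Finset.mem_of_mem_erase hA))
  · intro g
    obtain ⟨A, hA, hg⟩ := hcov g
    by_cases h1 : A = A₁
    · subst h1
      exact ⟨B, Finset.mem_insert_self _ _, ht _ (hnil _ hA) ht₁ hg⟩
    by_cases h2 : A = A₂
    · subst h2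
      exact ⟨B, Finset.mem_insert_self _ _, hd _ (hnil _ hA) hd₂ hg⟩
    exact ⟨A, Finset.mem_insert_of_mem (Finset.mem_erase.mpr ⟨h2, Finset.mem_erase.mpr ⟨h1, hA⟩⟩), hg⟩

theorem comap_nilp {G H : Type*} [Group G] [Group H] (e : G ≃* H) (A : Subgroup H)
    (hA : Group.IsNilpotent A) : Group.IsNilpotent (A.comap e.toMonoidHom) := by
  have : (A.comap e.toMonoidHom) ≃* A := by
    have h1 := e.subgroupMap (A.comap e.toMonoidHom)
    have h2 : (A.comap e.toMonoidHom).map e.toMonoidHom = A :=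
      Subgroup.map_comap_eq_self_of_surjective e.surjective A
    exact h1.trans (MulEquiv.subgroupCongr h2)
  exact Group.nilpotent_of_mulEquiv this.symm

/-- A cover of a group is a finite set of proper subgroups whose union is the whole group; it is minimal when no cover has fewer members, and nilpotent when all its members are nilpotent. The Suzuki groups Sz(q), q = 2^(2m+1) with m ≥ 1, have no nilpotent minimal cover. -/
theorem result {F : Type*} [Field F] [Fintype F] (m : ℕ) (hm : 1 ≤ m) (hF : Fintype.card F = 2 ^ (2 * m + 1)) :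
    ¬ ∃ 𝓐 : Finset (Subgroup ↥(Cfsg.Lie.Sz F (2 ^ (m + 1)))), ((∀ A ∈ 𝓐, A ≠ ⊤) ∧ (∀ g : ↥(Cfsg.Lie.Sz F (2 ^ (m + 1))), ∃ A ∈ 𝓐, g ∈ A)) ∧ (∀ 𝓑 : Finset (Subgroup ↥(Cfsg.Lie.Sz F (2 ^ (m + 1)))), (∀ A ∈ 𝓑, A ≠ ⊤) ∧ (∀ g : ↥(Cfsg.Lie.Sz F (2 ^ (m + 1))), ∃ A ∈ 𝓑, g ∈ A) → 𝓐.card ≤ 𝓑.card) ∧ (∀ A ∈ 𝓐, Group.IsNilpotent ↥A) := by
  haveI : Cfsg.Agent.Lib.Helper19.Suz.Hyp F m := ⟨hm, hF⟩
  haveI : CharP F 2 := Cfsg.Agent.Lib.Helper19.Suz.Hyp.charP (m := m)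
  open Cfsg.Agent.Lib.Helper19.Suz in
  obtain ⟨u, hu⟩ := exists_unit_ne_one (F := F) m
  let e := lieEquiv (F := F) m
  apply no_cover ((Bor (F := F) m).map e.toMonoidHom) _ (e (tG m 1 0)) (e (dG m u))
  · intro A hA ht g hg
    obtain ⟨c, d, hcd⟩ := nilp_t m _ (comap_nilp e A hA) (tG_one_ne m) ht (e.symm g)
      (by simpa using hg)
    refine ⟨e.symm g, ?_, by simp⟩
    rw [hcd]
    exact tG_smul_Pinf m c d
  · intro A hA ht g hg
    obtain ⟨c, hcd⟩ := nilp_d m _ (comap_nilp e A hA) hu ht (e.symm g)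
      (by simpa using hg)
    refine ⟨e.symm g, ?_, by simp⟩
    rw [hcd]
    exact dG_smul_Pinf m c
  · intro A hA ht hd
    obtain ⟨c, d, hcd⟩ := nilp_t m _ (comap_nilp e A hA) (tG_one_ne m) ht (dG m u) hd
    have h1 : tG m 0 0 * dG m u = tG m c d * dG m 1 := by
      rw [tG_zero, one_mul, dG_one, mul_one, hcd]
    exact hu (td_inj m h1).2.2
  · intro h
    apply Bor_ne_top (F := F) m
    rw [eq_top_iff] at h ⊢
    intro g _
    obtain ⟨g', hg', h2⟩ := h (Subgroup.mem_top (e g))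
    have : g' = g := e.injective h2
    rwa [← this]

end Cfsg.Agent.S3893
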