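import Cfsg.Statements.S4152
-- import your own Cfsg.Agent.* helpers here

set_option autoImplicit false
open Cfsg

namespace Cfsg.Agent.S4152

/-- `π`-elements. -/
def IsPi (π : Set ℕ) {G : Type*} [Group G] (x : G) : Prop :=
  ∀ q : ℕ, q.Prime → q ∣ orderOf x → q ∈ π

theorem exists_split (π : Set ℕ) (n : ℕ) : n ≠ 0 → ∃ a b : ℕ, n = a * b ∧
    (∀ q : ℕ, q.Prime → q ∣ a → q ∈ π) ∧ (∀ q : ℕ, q.Prime → q ∣ b → q ∉ π) := by
  induction n using Nat.recOnMul with
  | zero => intro h; exact absurd rfl h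
  | one =>
    intro _
    exact ⟨1, 1, rfl, fun q hq h => absurd (Nat.dvd_one.mp h) hq.ne_one,
      fun q hq h => absurd (Nat.dvd_one.mp h) hq.ne_one⟩
  | prime p hp =>
    intro _
    by_cases hpp : p ∈ π
    · exact ⟨p, 1, (mul_one p).symm,
        fun q hq h => by rw [(Nat.prime_dvd_prime_iff_eq hq hp).mp h]; exact hpp,
        fun q hq h => absurd (Nat.dvd_one.mp h) hq.ne_one⟩
    · exact ⟨1, p, (one_mul p).symm,
        fun q hq h => absurd (Nat.dvd_one.mp h) hq.ne_one,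
        fun q hq h => by rw [(Nat.prime_dvd_prime_iff_eq hq hp).mp h]; exact hpp⟩
  | mul a b iha ihb =>
    intro h
    obtain ⟨a1, b1, h1, h2, h3⟩ := iha (left_ne_zero_of_mul h)
    obtain ⟨a2, b2, h4, h5, h6⟩ := ihb (right_ne_zero_of_mul h)
    refine ⟨a1 * a2, b1 * b2, by rw [h1, h4]; ring, fun q hq hd => ?_, fun q hq hd => ?_⟩
    · exact (hq.dvd_mul.mp hd).elim (h2 q hq) (h5 q hq)
    · exact (hq.dvd_mul.mp hd).elim (h3 q hq) (h6 q hq)

theorem exists_exponents (π : Set ℕ) (G : Type*) [Group G] [Finite G] :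
    ∃ r s : ℕ, (∀ g : G, g ^ r * g ^ s = g) ∧ (∀ g : G, IsPi π (g ^ r)) ∧
      (∀ g : G, IsPi π g → g ^ s = 1) ∧ (∀ g : G, (g ^ s) ^ r = 1) := by
  obtain ⟨a, b, hab, ha, hb⟩ := exists_split π (Nat.card G) Nat.card_pos.ne'
  have co : a.Coprime b := Nat.coprime_of_dvd fun k hk h1 h2 => hb k hk h2 (ha k hk h1)
  obtain ⟨r, hr1, hr2⟩ := Nat.chineseRemainder co 1 0
  obtain ⟨s, hs1, hs2⟩ := Nat.chineseRemainder co 0 1
  have hbr : b ∣ r := (Nat.modEq_zero_iff_dvd).mp hr2
  have has : a ∣ s := (Nat.modEq_zero_iff_dvd).mp hs1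
  have hpow : ∀ (g : G) (k : ℕ), a * b ∣ k → g ^ k = 1 := by
    intro g k hk
    obtain ⟨c, rfl⟩ := hk
    rw [pow_mul, ← hab, pow_card_eq_one', one_pow]
  refine ⟨r, s, fun g => ?_, fun g => ?_, fun g hg => ?_, fun g => ?_⟩
  · rw [← pow_add]
    have h1 : r + s ≡ 1 [MOD a * b] := by
      rw [← Nat.modEq_and_modEq_iff_modEq_mul co]
      exact ⟨by simpa using hr1.add hs1, by simpa using hr2.add hs2⟩
    have h2 : r + s ≡ 1 [MOD orderOf g] :=
      h1.of_dvd (by rw [← hab]; exact orderOf_dvd_natCard g)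
    rw [pow_eq_pow_iff_modEq.mpr h2, pow_one]
  · intro q hq hd
    apply ha q hq
    apply hd.trans
    apply orderOf_dvd_of_pow_eq_one
    rw [← pow_mul]
    apply hpow
    rw [mul_comm r a]
    exact Nat.mul_dvd_mul_left a hbr
  · have h1 : (orderOf g).Coprime b :=
      Nat.coprime_of_dvd fun k hk h1 h2 => hb k hk h2 (hg k hk h1)
    have h2 : orderOf g ∣ a * b := by rw [← hab]; exact orderOf_dvd_natCard g
    have h3 : orderOf g ∣ a := h1.dvd_of_dvd_mul_right h2
    exact orderOf_dvd_iff_pow_eq_one.mp (h3.trans has)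
  · rw [← pow_mul]
    exact hpow g _ (Nat.mul_dvd_mul has hbr)

theorem card_pairs_le {α β γ : Type*} [Finite α] [Finite β] [Finite γ] (R : α → β → Prop)
    (S : α → γ → Prop) (h : ∀ a, Nat.card {b // R a b} ≤ Nat.card {c // S a c}) :
    Nat.card {p : α × β // R p.1 p.2} ≤ Nat.card {p : α × γ // S p.1 p.2} := by
  classical
  haveI := Fintype.ofFinite α
  rw [Nat.card_congr (Equiv.subtypeProdEquivSigmaSubtype R),
    Nat.card_congr (Equiv.subtypeProdEquivSigmaSubtype S), Nat.card_sigma, Nat.card_sigma]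
  exact Finset.sum_le_sum fun a _ => h a

theorem card_le_mul_of_fib {α β : Type*} [Finite α] [Finite β] (f : α → β) (M : ℕ)
    (h : ∀ b, Nat.card {a // f a = b} ≤ M) : Nat.card α ≤ Nat.card β * M := by
  classical
  haveI := Fintype.ofFinite β
  rw [Nat.card_congr (Equiv.sigmaFiberEquiv f).symm, Nat.card_sigma]
  calc ∑ b : β, Nat.card {a // f a = b} ≤ ∑ _b : β, M := Finset.sum_le_sum fun b _ => h b
    _ = Nat.card β * M := by simp [Nat.card_eq_fintype_card]

theorem isPi_conj (π : Set ℕ) {G : Type*} [Group G] (g x : G) (hx : IsPi π x) :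
    IsPi π (g * x * g⁻¹) := by
  intro q hq hd
  have h1 : orderOf (g * x * g⁻¹) = orderOf x := (MulAut.conj g).orderOf_eq x
  rw [h1] at hd
  exact hx q hq hd

theorem card_pairs_eq (π : Set ℕ) (G : Type*) [Group G] [Finite G] :
    Nat.card {p : G × G // IsPi π p.1 ∧ Commute p.1 p.2} =
      Nat.card {C : ConjClasses G // ∀ q : ℕ, q.Prime →
        (∃ g : G, ConjClasses.mk g = C ∧ q ∣ orderOf g) → q ∈ π} * Nat.card G := by
  classical
  haveI := Fintype.ofFinite G
  letI act : MulAction G {x : G // IsPi π x} :=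
    { smul := fun g x => ⟨g * x.1 * g⁻¹, isPi_conj π g x.1 x.2⟩
      one_smul := fun x => Subtype.ext (by
        show 1 * x.1 * 1⁻¹ = x.1
        simp)
      mul_smul := fun g h x => Subtype.ext (by
        show (g * h) * x.1 * (g * h)⁻¹ = g * (h * x.1 * h⁻¹) * g⁻¹
        simp [mul_assoc]) }
  have hsm : ∀ (g : G) (x : {x : G // IsPi π x}), ((g • x : {x : G // IsPi π x}) : G)
      = g * x.1 * g⁻¹ := fun g x => rfl
  haveI : Fintype (Quotient (MulAction.orbitRel G {x : G // IsPi π x})) := Fintype.ofFinite _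
  have hB := MulAction.sum_card_fixedBy_eq_card_orbits_mul_card_group G {x : G // IsPi π x}
  let e : {p : G × G // IsPi π p.1 ∧ Commute p.1 p.2} ≃
      Σ a : G, MulAction.fixedBy {x : G // IsPi π x} a :=
    { toFun := fun p => ⟨p.1.2, ⟨⟨p.1.1, p.2.1⟩, by
        rw [MulAction.mem_fixedBy]
        apply Subtype.ext
        rw [hsm]
        show p.1.2 * p.1.1 * p.1.2⁻¹ = p.1.1
        rw [← p.2.2.eq, mul_inv_cancel_right]⟩⟩
      invFun := fun q => ⟨(q.2.1.1, q.1), q.2.1.2, by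
        have h1 := q.2.2
        rw [MulAction.mem_fixedBy] at h1
        have h2 := congrArg Subtype.val h1
        rw [hsm] at h2
        show q.2.1.1 * q.1 = q.1 * q.2.1.1
        rw [mul_inv_eq_iff_eq_mul] at h2
        exact h2.symm⟩
      left_inv := fun p => rfl
      right_inv := fun q => rfl }
  rw [Nat.card_congr e, Nat.card_sigma]
  simp only [Nat.card_eq_fintype_card]
  rw [hB]
  congr 1
  rw [← Nat.card_eq_fintype_card, ← Nat.card_eq_fintype_card]
  let f : {x : G // IsPi π x} → {C : ConjClasses G // ∀ q : ℕ, q.Prime →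
        (∃ g : G, ConjClasses.mk g = C ∧ q ∣ orderOf g) → q ∈ π} :=
    fun x => ⟨ConjClasses.mk x.1, fun q hq ⟨g, hg, hd⟩ => by
      rw [ConjClasses.mk_eq_mk_iff_isConj, isConj_iff] at hg
      obtain ⟨c, hc⟩ := hg
      have h1 : orderOf (c * g * c⁻¹) = orderOf g := (MulAut.conj c).orderOf_eq g
      rw [hc] at h1
      exact x.2 q hq (h1 ▸ hd)⟩
  have hf : Function.Surjective f := by
    rintro ⟨C, hC⟩
    obtain ⟨x, rfl⟩ := ConjClasses.mk_surjective C
    exact ⟨⟨x, fun q hq hd => hC q hq ⟨x, rfl, hd⟩⟩, rfl⟩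
  have hker : MulAction.orbitRel G {x : G // IsPi π x} = Setoid.ker f := by
    apply Setoid.ext
    intro x y
    rw [MulAction.orbitRel_apply, Setoid.ker_def, MulAction.mem_orbit_iff]
    constructor
    · rintro ⟨g, hg⟩
      apply Subtype.ext
      show ConjClasses.mk x.1 = ConjClasses.mk y.1
      rw [ConjClasses.mk_eq_mk_iff_isConj, ← hg, hsm]
      exact (isConj_iff.mpr ⟨g, rfl⟩).symm
    · intro h
      have h1 : ConjClasses.mk x.1 = ConjClasses.mk y.1 := congrArg Subtype.val h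
      rw [ConjClasses.mk_eq_mk_iff_isConj] at h1
      obtain ⟨g, hg⟩ := isConj_iff.mp h1.symm
      exact ⟨g, Subtype.ext (by rw [hsm]; exact hg)⟩
  rw [hker]
  exact Nat.card_congr (Setoid.quotientKerEquivOfSurjective f hf)

theorem card_coset_comm_le {G : Type*} [Group G] [Finite G] (N : Subgroup G) [N.Normal] (x : G)
    (c : G ⧸ N) :
    Nat.card {d : G // (d : G ⧸ N) = c ∧ Commute x d} ≤ Nat.card {n : N // Commute x (n : G)} := by
  by_cases h : Nonempty {d : G // (d : G ⧸ N) = c ∧ Commute x d}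
  · obtain ⟨⟨d0, h0, h0'⟩⟩ := h
    refine Nat.card_le_card_of_injective
      (fun d => ⟨⟨d0⁻¹ * d.1, by rw [← QuotientGroup.eq, h0, d.2.1]⟩,
        h0'.inv_right.mul_right d.2.2⟩) ?_
    intro d d' hdd
    have h1 : d0⁻¹ * d.1 = d0⁻¹ * d'.1 := congrArg (fun z => ((z.1 : N) : G)) hdd
    exact Subtype.ext (mul_left_cancel h1)
  · rw [not_nonempty_iff] at h
    rw [Nat.card_of_isEmpty]
    exact Nat.zero_le _

theorem isPi_coe (π : Set ℕ) {G : Type*} [Group G] (N : Subgroup G) (y : N) :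
    IsPi π y ↔ IsPi π (y : G) := by
  unfold IsPi
  rw [Subgroup.orderOf_coe]

theorem card_swap_le (π : Set ℕ) {G : Type*} [Group G] [Finite G] (N : Subgroup G) [N.Normal]
    (c : G ⧸ N) :
    Nat.card {p : G × N // ((p.1 : G ⧸ N) = c ∧ IsPi π p.1) ∧ Commute p.1 (p.2 : G)} ≤
      Nat.card {p : N × G // IsPi π p.1 ∧ (p.2 : G ⧸ N) = c ∧ Commute (p.1 : G) p.2} := by
  obtain ⟨r, s, h1, h2, h3, h4⟩ := exists_exponents π G
  refine Nat.card_le_card_of_injective
    (fun p => ⟨(p.1.2 ^ r, p.1.1 * (p.1.2 : G) ^ s), ?_, ?_, ?_⟩) ?_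
  · rw [isPi_coe]
    exact h2 _
  · refine Eq.trans ?_ p.2.1.1
    show ((p.1.1 * (p.1.2 : G) ^ s : G) : G ⧸ N) = (p.1.1 : G ⧸ N)
    rw [eq_comm, QuotientGroup.eq]
    simp only [inv_mul_cancel_left]
    exact N.pow_mem p.1.2.2 s
  · show Commute (((p.1.2 ^ r : N)) : G) (p.1.1 * (p.1.2 : G) ^ s)
    rw [Subgroup.coe_pow]
    exact (p.2.2.symm.pow_left r).mul_right ((Commute.refl _).pow_pow r s)
  · intro p p' hpp
    have e1 : ((p.1.2 : G)) ^ r = (p'.1.2 : G) ^ r := by
      have := congrArg (fun z => ((z.1.1 : N) : G)) hpp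
      simpa using this
    have e2 : p.1.1 * (p.1.2 : G) ^ s = p'.1.1 * (p'.1.2 : G) ^ s :=
      congrArg (fun z => z.1.2) hpp
    have key : ∀ p : {p : G × N // ((p.1 : G ⧸ N) = c ∧ IsPi π p.1) ∧ Commute p.1 (p.2 : G)},
        (p.1.1 * (p.1.2 : G) ^ s) ^ r = p.1.1 ∧ (p.1.1 * (p.1.2 : G) ^ s) ^ s = (p.1.2 : G) ^ s := by
      intro p
      have hc : Commute p.1.1 ((p.1.2 : G) ^ s) := p.2.2.pow_right s
      have hx : p.1.1 ^ s = 1 := h3 _ p.2.1.2
      have hx' : p.1.1 ^ r = p.1.1 := by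
        have := h1 p.1.1
        rwa [hx, mul_one] at this
      have hn : ((p.1.2 : G) ^ s) ^ s = (p.1.2 : G) ^ s := by
        have := h1 ((p.1.2 : G) ^ s)
        rwa [h4, one_mul] at this
      constructor
      · rw [hc.mul_pow, hx', h4, mul_one]
      · rw [hc.mul_pow, hx, hn, one_mul]
    have e3 : p.1.1 = p'.1.1 := by
      rw [← (key p).1, ← (key p').1, e2]
    have e4 : (p.1.2 : G) ^ s = (p'.1.2 : G) ^ s := by
      rw [← (key p).2, ← (key p').2, e2]
    have e5 : (p.1.2 : G) = (p'.1.2 : G) := by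
      rw [← h1 (p.1.2 : G), ← h1 (p'.1.2 : G), e1, e4]
    exact Subtype.ext (Prod.ext e3 (Subtype.ext e5))

theorem isPi_mk (π : Set ℕ) {G : Type*} [Group G] (N : Subgroup G) [N.Normal] (x : G)
    (hx : IsPi π x) : IsPi π (x : G ⧸ N) := by
  intro q hq hd
  exact hx q hq (hd.trans (orderOf_map_dvd (QuotientGroup.mk' N) x))

theorem card_pairs_submul (π : Set ℕ) {G : Type*} [Group G] [Finite G] (N : Subgroup G)
    [N.Normal] :
    Nat.card {p : G × G // IsPi π p.1 ∧ Commute p.1 p.2} ≤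
      Nat.card {p : (G ⧸ N) × (G ⧸ N) // IsPi π p.1 ∧ Commute p.1 p.2} *
        Nat.card {p : N × N // IsPi π p.1 ∧ Commute p.1 p.2} := by
  apply card_le_mul_of_fib (fun p => (⟨((p.1.1 : G ⧸ N), (p.1.2 : G ⧸ N)),
    isPi_mk π N _ p.2.1, p.2.2.map (QuotientGroup.mk' N)⟩ :
      {p : (G ⧸ N) × (G ⧸ N) // IsPi π p.1 ∧ Commute p.1 p.2}))
  rintro ⟨⟨x, c⟩, hb1, hb2⟩
  calc Nat.card {a : {p : G × G // IsPi π p.1 ∧ Commute p.1 p.2} //
        (⟨((a.1.1 : G ⧸ N), (a.1.2 : G ⧸ N)), isPi_mk π N _ a.2.1,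
          a.2.2.map (QuotientGroup.mk' N)⟩ :
          {p : (G ⧸ N) × (G ⧸ N) // IsPi π p.1 ∧ Commute p.1 p.2}) = ⟨(x, c), hb1, hb2⟩}
      ≤ Nat.card {p : G × G // ((p.1 : G ⧸ N) = x ∧ IsPi π p.1) ∧
          ((p.2 : G ⧸ N) = c ∧ Commute p.1 p.2)} := by
        refine Nat.card_le_card_of_injective (fun a => ⟨a.1.1, ?_⟩) ?_
        · have h1 := congrArg Subtype.val a.2
          exact ⟨⟨congrArg Prod.fst h1, a.1.2.1⟩, congrArg Prod.snd h1, a.1.2.2⟩
        · intro a a' haa
          have h1 : a.1.1 = a'.1.1 := by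
            simpa using haa
          exact Subtype.ext (Subtype.ext h1)
    _ ≤ Nat.card {p : G × N // ((p.1 : G ⧸ N) = x ∧ IsPi π p.1) ∧ Commute p.1 (p.2 : G)} := by
        apply card_pairs_le (fun (a b : G) => ((a : G ⧸ N) = x ∧ IsPi π a) ∧
          ((b : G ⧸ N) = c ∧ Commute a b)) (fun (a : G) (n : N) =>
            ((a : G ⧸ N) = x ∧ IsPi π a) ∧ Commute a (n : G))
        intro a
        by_cases ha : (a : G ⧸ N) = x ∧ IsPi π a
        · simp only [ha, true_and, and_self]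
          exact card_coset_comm_le N a c
        · haveI : IsEmpty {b : G // ((a : G ⧸ N) = x ∧ IsPi π a) ∧
              ((b : G ⧸ N) = c ∧ Commute a b)} := ⟨fun b => ha b.2.1⟩
          rw [Nat.card_of_isEmpty]
          exact Nat.zero_le _
    _ ≤ Nat.card {p : N × G // IsPi π p.1 ∧ (p.2 : G ⧸ N) = x ∧ Commute (p.1 : G) p.2} :=
        card_swap_le π N x
    _ ≤ Nat.card {p : N × N // IsPi π p.1 ∧ Commute p.1 p.2} := by
        apply card_pairs_le (fun (y : N) (b : G) => IsPi π y ∧ (b : G ⧸ N) = x ∧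
          Commute (y : G) b) (fun (y n : N) => IsPi π y ∧ Commute y n)
        intro y
        by_cases hy : IsPi π y
        · simp only [hy, true_and]
          refine (card_coset_comm_le N (y : G) x).trans (le_of_eq ?_)
          apply Nat.card_congr
          apply Equiv.subtypeEquivRight
          intro n
          constructor
          · intro h
            exact Subtype.ext h
          · intro h
            exact congrArg Subtype.val h
        · haveI : IsEmpty {b : G // IsPi π y ∧ (b : G ⧸ N) = x ∧ Commute (y : G) b} :=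
            ⟨fun b => hy b.2.1⟩
          rw [Nat.card_of_isEmpty]
          exact Nat.zero_le _

/-- Let G be a finite group, N a normal subgroup and π a set of primes. Then the number of conjugacy classes of π-elements of G (elements whose order is divisible only by primes in π) is at most the number of conjugacy classes of π-elements of N (under conjugation by N) times the number of conjugacy classes of π-elements of G/N. -/
theorem result {G : Type*} [Group G] [Finite G] (N : Subgroup G) [N.Normal] (π : Set ℕ) :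
    Nat.card {C : ConjClasses G // ∀ q : ℕ, q.Prime → (∃ g : G, ConjClasses.mk g = C ∧ q ∣ orderOf g) → q ∈ π} ≤ Nat.card {C : ConjClasses N // ∀ q : ℕ, q.Prime → (∃ g : N, ConjClasses.mk g = C ∧ q ∣ orderOf g) → q ∈ π} * Nat.card {C : ConjClasses (G ⧸ N) // ∀ q : ℕ, q.Prime → (∃ g : (G ⧸ N), ConjClasses.mk g = C ∧ q ∣ orderOf g) → q ∈ π} := by
  have h1 := card_pairs_submul π N
  rw [card_pairs_eq π G, card_pairs_eq π (G ⧸ N), card_pairs_eq π N] at h1
  have h2 : Nat.card G = Nat.card (G ⧸ N) * Nat.card N := Subgroup.card_eq_card_quotient_mul_card_subgroup N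
  have h3 : 0 < Nat.card G := Nat.card_pos
  refine Nat.le_of_mul_le_mul_right (h1.trans (le_of_eq ?_)) h3
  rw [h2]
  ring

end Cfsg.Agent.S4152
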