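import Cfsg.Statements.S4022
import Mathlib
import Cfsg.Agent.S0004
import Cfsg.Agent.S0005

set_option autoImplicit false
open Cfsg

namespace Cfsg.Agent.S4022

universe u

/-- conjugate of a subgroup -/
abbrev cj {G : Type*} [Group G] (g : G) (H : Subgroup G) : Subgroup G :=
  H.map (MulAut.conj g).toMonoidHom

theorem cj_cj {G : Type*} [Group G] (g h : G) (H : Subgroup G) : cj g (cj h H) = cj (g * h) H := by
  unfold cj
  rw [Subgroup.map_map]
  congr 1
  ext x
  simp [mul_assoc]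

theorem mem_cj {G : Type*} [Group G] (g : G) (H : Subgroup G) (x : G) :
    x ∈ cj g H ↔ g⁻¹ * x * g ∈ H := by
  unfold cj
  constructor
  · rintro ⟨y, hy, rfl⟩
    have : g⁻¹ * (MulAut.conj g).toMonoidHom y * g = y := by simp [mul_assoc]
    rw [this]; exact hy
  · intro h
    exact ⟨_, h, by simp [mul_assoc]⟩

theorem card_cj {G : Type*} [Group G] (g : G) (H : Subgroup G) : Nat.card ↥(cj g H) = Nat.card ↥H :=
  Subgroup.card_map_of_injective (MulAut.conj g).injective

theorem cj_sup {G : Type*} [Group G] (g : G) (H K : Subgroup G) : cj g (H ⊔ K) = cj g H ⊔ cj g K :=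
  Subgroup.map_sup _ _ _

theorem cj_le_normal {G : Type*} [Group G] (g : G) (H N : Subgroup G) [hN : N.Normal] (h : H ≤ N) :
    cj g H ≤ N := by
  intro x hx
  rw [mem_cj] at hx
  have := hN.conj_mem _ (h hx) g
  simpa [mul_assoc] using this

theorem cj_mono {G : Type*} [Group G] (g : G) {H K : Subgroup G} (h : H ≤ K) : cj g H ≤ cj g K :=
  Subgroup.map_mono h

theorem cj_eq_self {G : Type*} [Group G] [Finite G] (g : G) (H : Subgroup G)
    (hg : g ∈ Subgroup.normalizer (H : Set G)) : cj g H = H := by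
  ext x
  rw [mem_cj]
  have := (Subgroup.mem_normalizer_iff.mp (inv_mem hg)) x
  rw [this]; simp

/-- Hall conjugacy inside a subgroup `L`. -/
theorem hall_conj {G : Type*} [Group G] [Finite G] [Group.IsSolvable G] (H K L : Subgroup G)
    (hH : H ≤ L) (hK : K ≤ L) (hc : Nat.card ↥H = Nat.card ↥K) (n : ℕ)
    (hL : Nat.card ↥L = Nat.card ↥H * n) (hcop : (Nat.card ↥H).Coprime n) :
    ∃ g ∈ L, K = cj g H := by
  have h1 : Nat.card ↥(H.subgroupOf L) = Nat.card ↥H := Nat.card_congr (Subgroup.subgroupOfEquivOfLe hH).toEquiv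
  have h2 : Nat.card ↥(K.subgroupOf L) = Nat.card ↥H := by
    rw [hc]; exact Nat.card_congr (Subgroup.subgroupOfEquivOfLe hK).toEquiv
  obtain ⟨g, hg⟩ := Cfsg.Agent.S0004.result (G := ↥L) (Nat.card ↥H) n hL hcop (H.subgroupOf L) (K.subgroupOf L) h1 h2
  refine ⟨g, g.2, ?_⟩
  ext x
  rw [mem_cj]
  constructor
  · intro hx
    have hxL : x ∈ L := hK hx
    have h3 : (⟨x, hxL⟩ : ↥L) ∈ K.subgroupOf L := Subgroup.mem_subgroupOf.mpr hx
    rw [← hg, Subgroup.mem_pointwise_smul_iff_inv_smul_mem] at h3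
    rw [MulAut.smul_def, MulAut.conj_inv_apply, Subgroup.mem_subgroupOf] at h3
    simpa using h3
  · intro hx
    have hxL : x ∈ L := by
      have h4 : g⁻¹.1 * x * g.1 ∈ L := hH (by simpa using hx)
      have : x = g.1 * (g⁻¹.1 * x * g.1) * g⁻¹.1 := by simp [mul_assoc]
      rw [this]
      exact mul_mem (mul_mem g.2 h4) (g⁻¹).2
    have h3 : (⟨x, hxL⟩ : ↥L) ∈ K.subgroupOf L := by
      rw [← hg, Subgroup.mem_pointwise_smul_iff_inv_smul_mem, MulAut.smul_def, MulAut.conj_inv_apply,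
        Subgroup.mem_subgroupOf]
      simpa using hx
    exact Subgroup.mem_subgroupOf.mp h3

theorem cyc_unique {C : Type*} [Group C] [Finite C] [IsCyclic C] (X Y : Subgroup C)
    (h : Nat.card ↥X = Nat.card ↥Y) : X = Y := by
  classical
  haveI := Fintype.ofFinite C
  have key : ∀ Z : Subgroup C, (Z : Set C) = {a | a ^ Nat.card ↥Z = 1} := by
    intro Z
    apply Set.eq_of_subset_of_ncard_le
    · intro a ha
      have := pow_card_eq_one' (x := (⟨a, ha⟩ : ↥Z))
      exact congrArg Subtype.val this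
    · have h1 := IsCyclic.card_pow_eq_one_le (α := C) (n := Nat.card ↥Z) Nat.card_pos
      have h2 : ({a | a ^ Nat.card ↥Z = 1} : Set C).ncard = (Finset.univ.filter (fun a : C => a ^ Nat.card ↥Z = 1)).card := by
        rw [← Set.ncard_coe_finset]; congr 1; ext; simp
      rw [h2]
      have h3 : (Z : Set C).ncard = Nat.card ↥Z := rfl
      rw [h3]; exact h1
    · exact Set.toFinite _
  apply SetLike.coe_injective
  rw [key X, key Y, h]

def DProp (G : Type*) [Group G] : Prop :=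
  ∀ p : ℕ, p.Prime → ∀ H K : Subgroup G, IsPGroup p H → IsPGroup p K → Nat.card H = Nat.card K →
      ∃ g : G, K = H.map (MulAut.conj g).toMonoidHom

def CycProp (r : ℕ) (G : Type*) [Group G] : Prop :=
  ∀ p : ℕ, p.Prime → p ≠ r → ∀ P : Sylow p G, IsCyclic P

def ConjAll (G : Type*) [Group G] : Prop :=
  ∀ H K : Subgroup G, Nat.card H = Nat.card K → ∃ g : G, K = H.map (MulAut.conj g).toMonoidHom

theorem d_of_cyc {Γ : Type*} [Group Γ] [Finite Γ] (q : ℕ) [Fact q.Prime] (hc : ∀ P : Sylow q Γ, IsCyclic P)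
    (X Y : Subgroup Γ) (hX : IsPGroup q X) (hY : IsPGroup q Y) (h : Nat.card X = Nat.card Y) :
    ∃ g : Γ, Y = cj g X := by
  obtain ⟨P, hP⟩ := hX.exists_le_sylow
  obtain ⟨P', hP'⟩ := hY.exists_le_sylow
  obtain ⟨g, hg⟩ := MulAction.exists_smul_eq Γ P P'
  refine ⟨g, ?_⟩
  have h1 : cj g X ≤ (P' : Subgroup Γ) := by
    rw [← hg, Sylow.coe_subgroup_smul]
    exact cj_mono g hP
  haveI : IsCyclic ↥(P' : Subgroup Γ) := hc P'
  have h2 := cyc_unique ((cj g X).subgroupOf (P' : Subgroup Γ)) (Y.subgroupOf (P' : Subgroup Γ)) (by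
    rw [Nat.card_congr (Subgroup.subgroupOfEquivOfLe h1).toEquiv,
      Nat.card_congr (Subgroup.subgroupOfEquivOfLe hP').toEquiv, card_cj, h])
  have h3 := congrArg (Subgroup.map (P' : Subgroup Γ).subtype) h2
  rw [Subgroup.map_subgroupOf_eq_of_le h1, Subgroup.map_subgroupOf_eq_of_le hP'] at h3
  exact h3.symm

theorem cyc_quot {G : Type*} [Group G] [Finite G] (r : ℕ) (h : CycProp r G) (N : Subgroup G) [N.Normal] :
    CycProp r (G ⧸ N) := by
  intro q hq hqr P
  haveI : Fact q.Prime := ⟨hq⟩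
  obtain ⟨Q, rfl⟩ := Sylow.mapSurjective_surjective (QuotientGroup.mk'_surjective N) q P
  haveI : IsCyclic ↥(Q : Subgroup G) := h q hq hqr Q
  change IsCyclic ↥((Q.mapSurjective (QuotientGroup.mk'_surjective N) : Sylow q (G ⧸ N)) : Subgroup (G ⧸ N))
  rw [Sylow.coe_mapSurjective]
  exact isCyclic_of_surjective ((QuotientGroup.mk' N).subgroupMap (Q : Subgroup G))
    ((QuotientGroup.mk' N).subgroupMap_surjective (Q : Subgroup G))

theorem d_quot {G : Type*} [Group G] [Finite G] (h : DProp G) (N : Subgroup G) [N.Normal] :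
    DProp (G ⧸ N) := by
  intro q hq X Y hX hY hc
  haveI : Fact q.Prime := ⟨hq⟩
  have lift : ∀ Z : Subgroup (G ⧸ N), IsPGroup q Z → ∃ Q : Subgroup G, IsPGroup q Q ∧
      Q.map (QuotientGroup.mk' N) = Z ∧
      Nat.card Q = q ^ (Nat.card (Z.comap (QuotientGroup.mk' N))).factorization q := by
    intro Z hZ
    let f : ↥(Z.comap (QuotientGroup.mk' N)) →* ↥Z := (QuotientGroup.mk' N).subgroupComap Z
    have hf : Function.Surjective f :=
      (QuotientGroup.mk' N).subgroupComap_surjective_of_surjective Z (QuotientGroup.mk'_surjective N)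
    let T : Sylow q ↥Z := ⟨⊤, fun x => by
      obtain ⟨k, hk⟩ := hZ x.1
      exact ⟨k, Subtype.ext hk⟩, fun _ h => top_le_iff.mp h⟩
    obtain ⟨Q, hQ⟩ := Sylow.mapSurjective_surjective hf q T
    refine ⟨(Q : Subgroup _).map (Z.comap (QuotientGroup.mk' N)).subtype, Q.2.map _, ?_, ?_⟩
    · have h1 : (Q : Subgroup _).map f = ⊤ := by
        rw [← Sylow.coe_mapSurjective hf, hQ]
      ext z
      constructor
      · rintro ⟨x, ⟨y, hy, rfl⟩, rfl⟩
        exact y.2
      · intro hz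
        have h2 : (⟨z, hz⟩ : ↥Z) ∈ (Q : Subgroup _).map f := h1 ▸ Subgroup.mem_top _
        obtain ⟨y, hy, hyz⟩ := h2
        exact ⟨y.1, ⟨y, hy, rfl⟩, congrArg Subtype.val hyz⟩
    · rw [Subgroup.card_map_of_injective (Subgroup.subtype_injective _), Q.card_eq_multiplicity]
  obtain ⟨Q1, hp1, hm1, hc1⟩ := lift X hX
  obtain ⟨Q2, hp2, hm2, hc2⟩ := lift Y hY
  have hW : Nat.card (X.comap (QuotientGroup.mk' N)) = Nat.card (Y.comap (QuotientGroup.mk' N)) := by
    have i1 := Subgroup.index_comap_of_surjective X (QuotientGroup.mk'_surjective N)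
    have i2 := Subgroup.index_comap_of_surjective Y (QuotientGroup.mk'_surjective N)
    have e1 := X.card_mul_index
    have e2 := Y.card_mul_index
    have hidx : X.index = Y.index := by
      rw [hc] at e1
      exact Nat.eq_of_mul_eq_mul_left Nat.card_pos (e1.trans e2.symm)
    have e3 := (X.comap (QuotientGroup.mk' N)).card_mul_index
    have e4 := (Y.comap (QuotientGroup.mk' N)).card_mul_index
    rw [i1] at e3
    rw [i2, ← hidx] at e4
    have hpos : 0 < X.index := Nat.pos_of_ne_zero Subgroup.index_ne_zero_of_finite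
    exact Nat.eq_of_mul_eq_mul_right hpos (e3.trans e4.symm)
  obtain ⟨g, hg⟩ := h q hq Q1 Q2 hp1 hp2 (by rw [hc1, hc2, hW])
  refine ⟨QuotientGroup.mk' N g, ?_⟩
  rw [← hm2, ← hm1, hg, Subgroup.map_map, Subgroup.map_map]
  congr 1

theorem conj_sub {G : Type*} [Group G] (L : Subgroup G) (X Y : Subgroup G) (hX : X ≤ L) (hY : Y ≤ L) (g : ↥L)
    (h : Y.subgroupOf L = (X.subgroupOf L).map (MulAut.conj g).toMonoidHom) : Y = cj g.1 X := by
  have h3 := congrArg (Subgroup.map L.subtype) h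
  rw [Subgroup.map_subgroupOf_eq_of_le hY, Subgroup.map_map] at h3
  rw [h3]
  have h4 : L.subtype.comp (MulAut.conj g).toMonoidHom = (MulAut.conj g.1).toMonoidHom.comp L.subtype := by
    ext; simp
  rw [h4, ← Subgroup.map_map, Subgroup.map_subgroupOf_eq_of_le hX]

theorem card_sup_normal {G : Type*} [Group G] [Finite G] (H N : Subgroup G) [N.Normal]
    (hcop : (Nat.card ↥H).Coprime (Nat.card ↥N)) : Nat.card ↥(H ⊔ N) = Nat.card ↥H * Nat.card ↥N := by
  have hinf : N ⊓ H = ⊥ := Subgroup.inf_eq_bot_of_coprime hcop.symm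
  have h1 : N.relIndex (N ⊔ H) = N.relIndex H := Subgroup.relIndex_sup_left H N
  have h2 : N.relIndex H = Nat.card ↥H := by
    rw [← Subgroup.inf_relIndex_right, hinf, Subgroup.relIndex_bot_left]
  have h3 := (N.subgroupOf (N ⊔ H)).card_mul_index
  have h4 : Nat.card ↥(N.subgroupOf (N ⊔ H)) = Nat.card ↥N :=
    Nat.card_congr (Subgroup.subgroupOfEquivOfLe le_sup_left).toEquiv
  rw [h4] at h3
  change Nat.card ↥N * N.relIndex (N ⊔ H) = _ at h3
  rw [h1, h2] at h3
  rw [sup_comm, ← h3, mul_comm]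

theorem caseB {G : Type*} [Group G] [Finite G] (N : Subgroup G) [N.Normal] (hQ : ConjAll (G ⧸ N))
    (H K : Subgroup G) (hH : N ≤ H) (hK : N ≤ K) (hc : Nat.card ↥H = Nat.card ↥K) :
    ∃ g : G, K = cj g H := by
  have hker : (QuotientGroup.mk' N).ker = N := QuotientGroup.ker_mk' N
  have cH : (H.map (QuotientGroup.mk' N)).comap (QuotientGroup.mk' N) = H :=
    Subgroup.comap_map_eq_self (by rw [hker]; exact hH)
  have cK : (K.map (QuotientGroup.mk' N)).comap (QuotientGroup.mk' N) = K :=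
    Subgroup.comap_map_eq_self (by rw [hker]; exact hK)
  have i1 := Subgroup.index_comap_of_surjective (H.map (QuotientGroup.mk' N)) (QuotientGroup.mk'_surjective N)
  have i2 := Subgroup.index_comap_of_surjective (K.map (QuotientGroup.mk' N)) (QuotientGroup.mk'_surjective N)
  rw [cH] at i1
  rw [cK] at i2
  have hidx : H.index = K.index := by
    have e1 := H.card_mul_index
    have e2 := K.card_mul_index
    rw [hc] at e1
    exact Nat.eq_of_mul_eq_mul_left Nat.card_pos (e1.trans e2.symm)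
  have hcard : Nat.card ↥(H.map (QuotientGroup.mk' N)) = Nat.card ↥(K.map (QuotientGroup.mk' N)) := by
    have e3 := (H.map (QuotientGroup.mk' N)).card_mul_index
    have e4 := (K.map (QuotientGroup.mk' N)).card_mul_index
    rw [← i1] at e3
    rw [← i2, ← hidx] at e4
    have hpos : 0 < H.index := Nat.pos_of_ne_zero Subgroup.index_ne_zero_of_finite
    exact Nat.eq_of_mul_eq_mul_right hpos (e3.trans e4.symm)
  obtain ⟨gbar, hg⟩ := hQ _ _ hcard
  obtain ⟨g, rfl⟩ := QuotientGroup.mk'_surjective N gbar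
  refine ⟨g, ?_⟩
  ext x
  rw [mem_cj]
  have hx1 : x ∈ K ↔ QuotientGroup.mk' N x ∈ K.map (QuotientGroup.mk' N) := by
    conv_lhs => rw [← cK]
    rfl
  have hx2 : g⁻¹ * x * g ∈ H ↔ QuotientGroup.mk' N (g⁻¹ * x * g) ∈ H.map (QuotientGroup.mk' N) := by
    conv_lhs => rw [← cH]
    rfl
  rw [hx1, hx2, hg]
  have := mem_cj (QuotientGroup.mk' N g) (H.map (QuotientGroup.mk' N)) (QuotientGroup.mk' N x)
  rw [this]
  simp only [map_mul, map_inv]

theorem caseA {G : Type*} [Group G] [Finite G] [Group.IsSolvable G] (N : Subgroup G) [N.Normal]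
    (hQ : ConjAll (G ⧸ N))
    (H K : Subgroup G) (hcop : (Nat.card ↥H).Coprime (Nat.card ↥N)) (hc : Nat.card ↥H = Nat.card ↥K) :
    ∃ g : G, K = cj g H := by
  have c1 := card_sup_normal H N hcop
  have c2 := card_sup_normal K N (hc ▸ hcop)
  obtain ⟨g, hg⟩ := caseB N hQ (H ⊔ N) (K ⊔ N) le_sup_right le_sup_right (by rw [c1, c2, hc])
  have h1 : cj g H ≤ K ⊔ N := by rw [hg]; exact cj_mono g le_sup_left
  obtain ⟨x, _, hx⟩ := hall_conj (cj g H) K (K ⊔ N) h1 le_sup_left (by rw [card_cj, hc]) (Nat.card ↥N)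
    (by rw [card_cj, c2, hc]) (by rw [card_cj]; exact hcop)
  exact ⟨x * g, by rw [hx, cj_cj]⟩

open scoped commutatorElement in
theorem exists_abelian_normal {G : Type*} [Group G] [Nontrivial G] [hs : Group.IsSolvable G] :
    ∃ A : Subgroup G, A.Normal ∧ A ≠ ⊥ ∧ ∀ x ∈ A, ∀ y ∈ A, x * y = y * x := by
  classical
  have hex : ∃ n, derivedSeries G n = ⊥ := hs.solvable
  have hm : derivedSeries G (Nat.find hex) = ⊥ := Nat.find_spec hex
  have hm0 : Nat.find hex ≠ 0 := by
    intro h0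
    rw [h0, derivedSeries_zero] at hm
    exact top_ne_bot hm
  obtain ⟨k, hk⟩ := Nat.exists_eq_succ_of_ne_zero hm0
  refine ⟨derivedSeries G k, inferInstance, ?_, ?_⟩
  · intro h
    exact Nat.find_min hex (by omega : k < Nat.find hex) h
  · intro x hx y hy
    have h1 : ⁅x, y⁆ ∈ derivedSeries G (k + 1) := Subgroup.commutator_mem_commutator hx hy
    rw [← Nat.succ_eq_add_one, ← hk, hm, Subgroup.mem_bot] at h1
    exact commutatorElement_eq_one_iff_mul_comm.mp h1

theorem exists_N {G : Type*} [Group G] [Finite G] [Nontrivial G] [Group.IsSolvable G] (hD : DProp G) :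
    ∃ (p : ℕ) (N : Subgroup G), p.Prime ∧ N.Normal ∧ N ≠ ⊥ ∧ (∀ x, x ∈ N ↔ x ^ p = 1) ∧
      (∀ x ∈ N, ∀ y ∈ N, x * y = y * x) := by
  obtain ⟨A, hAn, hA1, hAc⟩ := exists_abelian_normal (G := G)
  have hcardA : Nat.card ↥A ≠ 1 := by
    intro h
    exact hA1 (Subgroup.card_eq_one.mp h)
  obtain ⟨p, hp, hpA⟩ := Nat.exists_prime_and_dvd hcardA
  haveI : Fact p.Prime := ⟨hp⟩
  obtain ⟨a, ha⟩ := exists_prime_orderOf_dvd_card' p hpA
  have ha' : orderOf (a : G) = p := by rw [Subgroup.orderOf_coe]; exact ha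
  let N : Subgroup G :=
    { carrier := {x | x ∈ A ∧ x ^ p = 1}
      mul_mem' := by
        rintro x y ⟨hx, hx1⟩ ⟨hy, hy1⟩
        refine ⟨mul_mem hx hy, ?_⟩
        have hcomm : Commute x y := hAc x hx y hy
        rw [hcomm.mul_pow, hx1, hy1, one_mul]
      one_mem' := ⟨A.one_mem, one_pow _⟩
      inv_mem' := by
        rintro x ⟨hx, hx1⟩
        exact ⟨inv_mem hx, by rw [inv_pow, hx1, inv_one]⟩ }
  have hNn : N.Normal := by
    constructor
    rintro x ⟨hx, hx1⟩ g
    refine ⟨hAn.conj_mem x hx g, ?_⟩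
    rw [conj_pow, hx1]; simp
  have haN : (a : G) ∈ N := ⟨a.2, by rw [← ha']; exact pow_orderOf_eq_one _⟩
  refine ⟨p, N, hp, hNn, ?_, ?_, ?_⟩
  · intro h
    have h1 : (a : G) = 1 := by
      have := haN
      rw [h, Subgroup.mem_bot] at this
      exact this
    rw [h1, orderOf_one] at ha'
    exact hp.one_lt.ne ha'
  · intro x
    constructor
    · intro h; exact h.2
    · intro hx
      by_cases hx1 : x = 1
      · rw [hx1]; exact N.one_mem
      · have hox : orderOf x = p := orderOf_eq_prime hx hx1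
        have c1 : Nat.card ↥(Subgroup.zpowers (a : G)) = p := by rw [Nat.card_zpowers, ha']
        have c2 : Nat.card ↥(Subgroup.zpowers x) = p := by rw [Nat.card_zpowers, hox]
        obtain ⟨g, hg⟩ := hD p hp (Subgroup.zpowers (a : G)) (Subgroup.zpowers x)
          (IsPGroup.of_card (n := 1) (by rw [c1, pow_one])) (IsPGroup.of_card (n := 1) (by rw [c2, pow_one]))
          (by rw [c1, c2])
        have h2 : Subgroup.zpowers x ≤ N := by
          rw [hg]
          exact cj_le_normal g _ N (by rw [Subgroup.zpowers_le]; exact haN)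
        exact h2 (Subgroup.mem_zpowers x)
  · intro x hx y hy
    exact hAc x hx.1 y hy.1

theorem mem_normalizer_of_cj_eq {G : Type*} [Group G] (y : G) (B : Subgroup G) (h : cj y B = B) :
    y ∈ Subgroup.normalizer (B : Set G) := by
  rw [Subgroup.mem_normalizer_iff]
  intro x
  constructor
  · intro hx
    rw [← h, mem_cj]; simpa [mul_assoc] using hx
  · intro hx
    rw [← h, mem_cj] at hx; simpa [mul_assoc] using hx

theorem cj_abelian {G : Type*} [Group G] (N X : Subgroup G) (hNab : ∀ x ∈ N, ∀ y ∈ N, x * y = y * x)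
    (hX : X ≤ N) (n : G) (hn : n ∈ N) : cj n X = X := by
  ext x
  rw [mem_cj]
  constructor
  · intro h
    have h1 : n⁻¹ * x * n ∈ N := hX h
    have hxN : x ∈ N := by
      have : x = n * (n⁻¹ * x * n) * n⁻¹ := by group
      rw [this]; exact mul_mem (mul_mem hn h1) (inv_mem hn)
    have : n⁻¹ * x * n = x := by rw [mul_assoc, hNab x hxN n hn, ← mul_assoc, inv_mul_cancel, one_mul]
    rwa [this] at h
  · intro h
    have hxN := hX h
    have : n⁻¹ * x * n = x := by rw [mul_assoc, hNab x hxN n hn, ← mul_assoc, inv_mul_cancel, one_mul]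
    rwa [this]

theorem sylow_cyc_sub {G : Type*} [Group G] [Finite G] (r : ℕ) (hC : CycProp r G) (C₁ : Subgroup G)
    (hr : ¬ r ∣ Nat.card ↥C₁) (q : ℕ) [hq : Fact q.Prime] (P : Sylow q ↥C₁) : IsCyclic P := by
  by_cases hqr : q = r
  · have h1 := P.card_eq_multiplicity
    have h2 : (Nat.card ↥C₁).factorization q = 0 := Nat.factorization_eq_zero_of_not_dvd (hqr ▸ hr)
    rw [h2, pow_zero] at h1
    haveI : Subsingleton ↥(P : Subgroup ↥C₁) := (Nat.card_eq_one_iff_unique.mp h1).1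
    exact isCyclic_of_subsingleton
  · have hPp : IsPGroup q ↥((P : Subgroup ↥C₁).map C₁.subtype) := P.2.map _
    obtain ⟨Q, hQ⟩ := hPp.exists_le_sylow
    haveI : IsCyclic ↥(Q : Subgroup G) := hC q hq.out hqr Q
    haveI : IsCyclic ↥((P : Subgroup ↥C₁).map C₁.subtype) :=
      isCyclic_of_injective (Subgroup.inclusion hQ) (Subgroup.inclusion_injective hQ)
    exact isCyclic_of_injective
      ((P : Subgroup ↥C₁).equivMapOfInjective C₁.subtype C₁.subtype_injective).toMonoidHom (MulEquiv.injective _)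

theorem c2 {G : Type u} [Group G] [Finite G] [Group.IsSolvable G] (p : ℕ) (hp : p.Prime)
    (hD : DProp G) (hC : CycProp p G)
    (IH : ∀ (Γ : Type u) [Group Γ] [Finite Γ], Nat.card Γ < Nat.card G → Group.IsSolvable Γ → DProp Γ →
      CycProp p Γ → ConjAll Γ)
    (N : Subgroup G) [N.Normal] (hN1 : N ≠ ⊥) (hNp : IsPGroup p N)
    (hNab : ∀ x ∈ N, ∀ y ∈ N, x * y = y * x) (hNidx : ¬ p ∣ N.index)
    (A B D : Subgroup G) (hA : A ≤ N) (hB : B ≤ N) (hAB : Nat.card ↥A = Nat.card ↥B)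
    (hDA : D ≤ Subgroup.normalizer (A : Set G)) (hDB : D ≤ Subgroup.normalizer (B : Set G))
    (hDp : ¬ p ∣ Nat.card ↥D) :
    ∃ g : G, B ⊔ D = cj g (A ⊔ D) := by
  haveI : Fact p.Prime := ⟨hp⟩
  obtain ⟨g₀, hg₀⟩ := hD p hp A B (hNp.to_le hA) (hNp.to_le hB) hAB
  obtain ⟨k, hk⟩ := IsPGroup.iff_card.mp hNp
  have hGc : Nat.card G = N.index * Nat.card ↥N := by rw [mul_comm]; exact N.card_mul_index.symm
  have hcop : (N.index).Coprime (Nat.card ↥N) := by
    rw [hk]
    exact Nat.Coprime.pow_right k ((Nat.Prime.coprime_iff_not_dvd hp).2 hNidx).symm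
  have hDcop : (Nat.card ↥D).Coprime (Nat.card ↥N) := by
    rw [hk]
    exact Nat.Coprime.pow_right k ((Nat.Prime.coprime_iff_not_dvd hp).2 hDp).symm
  obtain ⟨C, hCc, hDC⟩ := Cfsg.Agent.S0005.result N.index (Nat.card ↥N) hGc hcop D hDcop
  have hNC : Subgroup.IsComplement' N C :=
    Subgroup.isComplement'_of_coprime (by rw [hCc, mul_comm]; exact hGc.symm) (by rw [hCc]; exact hcop.symm)
  have hg₀mem : g₀ ∈ N ⊔ C := by rw [hNC.sup_eq_top]; trivial
  rw [← SetLike.mem_coe, Subgroup.normal_mul, Set.mem_mul] at hg₀mem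
  obtain ⟨n₀, hn₀, c, hc, hnc⟩ := hg₀mem
  have hBc : B = cj c A := by
    have h1 : B = cj g₀ A := hg₀
    rw [h1, ← hnc, ← cj_cj]
    exact cj_abelian N _ hNab (cj_le_normal c A N hA) n₀ hn₀
  set C₁ : Subgroup G := C ⊓ Subgroup.normalizer (B : Set G) with hC₁
  have hD1 : D ≤ C₁ := le_inf hDC hDB
  have hD2 : cj c D ≤ C₁ := by
    intro y hy
    rw [mem_cj] at hy
    have hyc : y = c * (c⁻¹ * y * c) * c⁻¹ := by group
    refine Subgroup.mem_inf.mpr ⟨?_, ?_⟩
    · rw [hyc]
      exact mul_mem (mul_mem hc (hDC hy)) (inv_mem hc)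
    · apply mem_normalizer_of_cj_eq
      rw [hBc, cj_cj]
      have h2 : y * c = c * (c⁻¹ * y * c) := by group
      rw [h2, ← cj_cj, cj_eq_self _ A (hDA hy)]
  have hC₁le : Nat.card ↥C₁ ∣ N.index := by
    rw [← hCc]; exact Subgroup.card_dvd_of_le inf_le_left
  have hpC₁ : ¬ p ∣ Nat.card ↥C₁ := fun h => hNidx (dvd_trans h hC₁le)
  have hlt : Nat.card ↥C₁ < Nat.card G := by
    have h1 : Nat.card ↥C₁ ≤ N.index := Nat.le_of_dvd (Nat.pos_of_ne_zero Subgroup.index_ne_zero_of_finite) hC₁le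
    have h2 : 1 < Nat.card ↥N := by
      rcases Nat.lt_or_ge 1 (Nat.card ↥N) with h | h
      · exact h
      · exfalso
        apply hN1
        apply Subgroup.card_eq_one.mp
        have : 0 < Nat.card ↥N := Nat.card_pos
        omega
    have h3 : 0 < N.index := Nat.pos_of_ne_zero Subgroup.index_ne_zero_of_finite
    rw [hGc]
    nlinarith
  have hZ : ∀ (q : ℕ) [Fact q.Prime] (P : Sylow q ↥C₁), IsCyclic P := fun q _ P =>
    sylow_cyc_sub p hC C₁ hpC₁ q P
  have hconj : ConjAll ↥C₁ := by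
    apply IH ↥C₁ hlt inferInstance
    · intro q hq X Y hX hY hXY
      haveI : Fact q.Prime := ⟨hq⟩
      exact d_of_cyc q (hZ q) X Y hX hY hXY
    · intro q hq _ P
      haveI : Fact q.Prime := ⟨hq⟩
      exact hZ q P
  obtain ⟨x, hx⟩ := hconj ((cj c D).subgroupOf C₁) (D.subgroupOf C₁) (by
    rw [Nat.card_congr (Subgroup.subgroupOfEquivOfLe hD2).toEquiv,
      Nat.card_congr (Subgroup.subgroupOfEquivOfLe hD1).toEquiv, card_cj])
  have hx' : D = cj x.1 (cj c D) := conj_sub C₁ _ _ hD2 hD1 x hx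
  refine ⟨x.1 * c, ?_⟩
  rw [← cj_cj, cj_sup, cj_sup, ← hBc, ← hx', cj_eq_self _ B x.2.2]

theorem inf_normal_normalizer {G : Type*} [Group G] (L N : Subgroup G) [hN : N.Normal] (d : G) (hd : d ∈ L) :
    d ∈ Subgroup.normalizer ((L ⊓ N : Subgroup G) : Set G) := by
  rw [Subgroup.mem_normalizer_iff]
  intro x
  rw [Subgroup.mem_inf, Subgroup.mem_inf]
  constructor
  · rintro ⟨h1, h2⟩
    exact ⟨mul_mem (mul_mem hd h1) (inv_mem hd), hN.conj_mem x h2 d⟩
  · rintro ⟨h1, h2⟩
    refine ⟨?_, ?_⟩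
    · have : x = d⁻¹ * (d * x * d⁻¹) * d := by group
      rw [this]; exact mul_mem (mul_mem (inv_mem hd) h1) hd
    · have := hN.conj_mem _ h2 d⁻¹
      simpa [mul_assoc] using this

theorem decomp {G : Type*} [Group G] [Finite G] (p : ℕ) [Fact p.Prime] (N : Subgroup G) [hNn : N.Normal]
    (hNp : IsPGroup p N) (hall : ∀ x : G, (∃ j, orderOf x = p ^ j) → x ∈ N) (H : Subgroup G) :
    ∃ D : Subgroup G, D ≤ H ∧ (H ⊓ N) ⊔ D = H ∧ ¬ p ∣ Nat.card ↥D ∧
      Nat.card ↥(H ⊓ N : Subgroup G) = p ^ (Nat.card ↥H).factorization p ∧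
      Nat.card ↥(H ⊓ N : Subgroup G) * Nat.card ↥D = Nat.card ↥H := by
  obtain ⟨P⟩ := (inferInstance : Nonempty (Sylow p ↥H))
  have hPN : (P : Subgroup ↥H) ≤ N.subgroupOf H := by
    intro x hx
    rw [Subgroup.mem_subgroupOf]
    obtain ⟨j, hj⟩ := IsPGroup.iff_orderOf.mp P.2 ⟨x, hx⟩
    apply hall
    refine ⟨j, ?_⟩
    rw [Subgroup.orderOf_coe, ← hj, Subgroup.orderOf_mk x hx]
  have hNHp : IsPGroup p ↥(N.subgroupOf H) := hNp.comap_subtype
  have hEq : N.subgroupOf H = (P : Subgroup ↥H) := P.3 hNHp hPN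
  haveI : (P : Subgroup ↥H).Normal := hEq ▸ (inferInstance : (N.subgroupOf H).Normal)
  obtain ⟨D₀, hD₀⟩ := Subgroup.exists_right_complement'_of_coprime P.card_coprime_index
  have hcardA : Nat.card ↥(H ⊓ N : Subgroup G) = Nat.card ↥(P : Subgroup ↥H) := by
    rw [← hEq, inf_comm, ← Subgroup.subgroupOf_map_subtype, Subgroup.card_map_of_injective H.subtype_injective]
  refine ⟨D₀.map H.subtype, Subgroup.map_subtype_le _, ?_, ?_, ?_, ?_⟩
  · have h1 : (P : Subgroup ↥H) ⊔ D₀ = ⊤ := hD₀.sup_eq_top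
    have h2 := congrArg (Subgroup.map H.subtype) h1
    rw [Subgroup.map_sup, ← hEq, Subgroup.subgroupOf_map_subtype, ← MonoidHom.range_eq_map,
      Subgroup.range_subtype] at h2
    rw [inf_comm]; exact h2
  · rw [Subgroup.card_map_of_injective H.subtype_injective, ← hD₀.symm.index_eq_card]
    exact P.not_dvd_index
  · rw [hcardA, P.card_eq_multiplicity]
  · rw [hcardA, Subgroup.card_map_of_injective H.subtype_injective]
    exact hD₀.card_mul_card

theorem main (r : ℕ) : ∀ (n : ℕ) (G : Type u) [Group G] [Finite G], Nat.card G = n → Group.IsSolvable G →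
    DProp G → CycProp r G → ConjAll G := by
  intro n
  induction n using Nat.strong_induction_on with
  | _ n ih =>
  intro G _ _ hn hs hD hC H K hHK
  haveI := hs
  rcases subsingleton_or_nontrivial G with hsub | hnt
  · refine ⟨1, ?_⟩
    ext x
    rw [mem_cj]
    have hx : x = 1 := Subsingleton.elim _ _
    subst hx
    simp [one_mem]
  obtain ⟨p, N, hp, hNn, hN1, hNmem, hNab⟩ := exists_N hD
  haveI := hNn
  haveI : Fact p.Prime := ⟨hp⟩
  have hNp : IsPGroup p N := fun x => ⟨1, by rw [pow_one]; exact Subtype.ext ((hNmem x.1).1 x.2)⟩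
  have hNcard1 : 1 < Nat.card ↥N := by
    rcases Nat.lt_or_ge 1 (Nat.card ↥N) with h | h
    · exact h
    · exfalso
      apply hN1
      apply Subgroup.card_eq_one.mp
      have : 0 < Nat.card ↥N := Nat.card_pos
      omega
  have hlt : Nat.card (G ⧸ N) < n := by
    have h1 := N.card_mul_index
    have h3 : 0 < N.index := Nat.pos_of_ne_zero Subgroup.index_ne_zero_of_finite
    change N.index < n
    rw [← hn, ← h1]
    nlinarith
  have hQ : ConjAll (G ⧸ N) := ih _ hlt (G ⧸ N) rfl inferInstance (d_quot hD N) (cyc_quot r hC N)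
  obtain ⟨k, hk⟩ := IsPGroup.iff_card.mp hNp
  have hcopN : ∀ L : Subgroup G, ¬ p ∣ Nat.card ↥L → (Nat.card ↥L).Coprime (Nat.card ↥N) := by
    intro L hL
    rw [hk]
    exact Nat.Coprime.pow_right k ((Nat.Prime.coprime_iff_not_dvd hp).2 hL).symm
  by_cases hpH : p ∣ Nat.card ↥H
  swap
  · exact caseA N hQ H K (hcopN H hpH) hHK
  by_cases hNcp : Nat.card ↥N = p
  · have hle : ∀ L : Subgroup G, p ∣ Nat.card ↥L → N ≤ L := by
      intro L hL
      obtain ⟨x, hx⟩ := exists_prime_orderOf_dvd_card' p hL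
      have hx' : orderOf (x : G) = p := by rw [Subgroup.orderOf_coe]; exact hx
      have hxN : (x : G) ∈ N := (hNmem _).2 (by rw [← hx']; exact pow_orderOf_eq_one _)
      have hz : Subgroup.zpowers (x : G) = N := by
        apply Subgroup.eq_of_le_of_card_ge (by rw [Subgroup.zpowers_le]; exact hxN)
        rw [Nat.card_zpowers, hx', hNcp]
      rw [← hz, Subgroup.zpowers_le]; exact x.2
    exact caseB N hQ H K (hle H hpH) (hle K (hHK ▸ hpH)) hHK
  · have hk2 : 2 ≤ k := by
      by_contra hlt2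
      have hk01 : k = 0 ∨ k = 1 := by omega
      rcases hk01 with h0 | h1
      · rw [h0, pow_zero] at hk; omega
      · rw [h1, pow_one] at hk; exact hNcp hk
    have hno : ∀ x : G, orderOf x ≠ p ^ 2 := by
      intro x hx
      have hdvd : p ^ 2 ∣ Nat.card ↥N := by rw [hk]; exact pow_dvd_pow p hk2
      obtain ⟨E', hE'⟩ := Sylow.exists_subgroup_card_pow_prime p hdvd
      have cE : Nat.card ↥(E'.map N.subtype) = p ^ 2 := by
        rw [Subgroup.card_map_of_injective N.subtype_injective, hE']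
      have cx : Nat.card ↥(Subgroup.zpowers x) = p ^ 2 := by rw [Nat.card_zpowers, hx]
      obtain ⟨g, hg⟩ := hD p hp (E'.map N.subtype) (Subgroup.zpowers x) (IsPGroup.of_card cE)
        (IsPGroup.of_card cx) (by rw [cE, cx])
      have hzN : Subgroup.zpowers x ≤ N := by
        rw [hg]; exact cj_le_normal g _ N (Subgroup.map_subtype_le _)
      have hxN := hzN (Subgroup.mem_zpowers x)
      have hxp := (hNmem x).1 hxN
      have h1 := orderOf_dvd_of_pow_eq_one hxp
      rw [hx] at h1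
      have h2 := Nat.le_of_dvd hp.pos h1
      nlinarith [hp.two_le]
    have hall : ∀ x : G, (∃ j, orderOf x = p ^ j) → x ∈ N := by
      rintro x ⟨j, hj⟩
      rw [hNmem]
      by_cases hj2 : 2 ≤ j
      · exfalso
        apply hno (x ^ (p ^ (j - 2)))
        rw [orderOf_pow_of_dvd (pow_ne_zero _ hp.pos.ne') (by rw [hj]; exact pow_dvd_pow _ (Nat.sub_le _ _)),
          hj, Nat.pow_div (Nat.sub_le _ _) hp.pos]
        congr 1; omega
      · have h1 : orderOf x ∣ p := by
          rw [hj]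
          calc p ^ j ∣ p ^ 1 := pow_dvd_pow p (by omega)
            _ = p := pow_one p
        exact orderOf_dvd_iff_pow_eq_one.mp h1
    have hpr : p = r := by
      by_contra hne
      obtain ⟨P, hP⟩ := hNp.exists_le_sylow
      haveI : IsCyclic ↥(P : Subgroup G) := hC p hp hne P
      haveI : IsCyclic ↥N := isCyclic_of_injective (Subgroup.inclusion hP) (Subgroup.inclusion_injective hP)
      obtain ⟨y, hy⟩ := IsCyclic.exists_ofOrder_eq_natCard (α := ↥N)
      have h1 : (y : G) ^ p = 1 := (hNmem _).1 y.2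
      have h2 : orderOf y ∣ p := by rw [← Subgroup.orderOf_coe]; exact orderOf_dvd_of_pow_eq_one h1
      rw [hy] at h2
      rcases (Nat.dvd_prime hp).1 h2 with h3 | h3
      · omega
      · exact hNcp h3
    subst hpr
    have hNidx : ¬ p ∣ N.index := by
      obtain ⟨P, hP⟩ := hNp.exists_le_sylow
      have hPN : (P : Subgroup G) ≤ N := by
        intro x hx
        obtain ⟨j, hj⟩ := IsPGroup.iff_orderOf.mp P.2 ⟨x, hx⟩
        exact hall x ⟨j, by rw [← hj, Subgroup.orderOf_mk x hx]⟩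
      have hEq : N = (P : Subgroup G) := le_antisymm hP hPN
      rw [hEq]; exact P.not_dvd_index
    obtain ⟨D₁, hD₁H, hs₁, hp₁, hc₁, hm₁⟩ := decomp p N hNp hall H
    obtain ⟨D₂, hD₂K, hs₂, hp₂, hc₂, hm₂⟩ := decomp p N hNp hall K
    have hAB : Nat.card ↥(H ⊓ N : Subgroup G) = Nat.card ↥(K ⊓ N : Subgroup G) := by rw [hc₁, hc₂, hHK]
    have hDD : Nat.card ↥D₁ = Nat.card ↥D₂ := by
      rw [hAB, hHK] at hm₁
      exact Nat.eq_of_mul_eq_mul_left Nat.card_pos (hm₁.trans hm₂.symm)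
    obtain ⟨g₁, hg₁⟩ := caseA N hQ D₁ D₂ (hcopN D₁ hp₁) hDD
    have hDA' : D₂ ≤ Subgroup.normalizer ((cj g₁ (H ⊓ N) : Subgroup G) : Set G) := by
      intro y hy
      rw [hg₁, mem_cj] at hy
      apply mem_normalizer_of_cj_eq
      rw [cj_cj]
      have h2 : y * g₁ = g₁ * (g₁⁻¹ * y * g₁) := by group
      rw [h2, ← cj_cj, cj_eq_self _ (H ⊓ N) (inf_normal_normalizer H N _ (hD₁H hy))]
    obtain ⟨g₂, hg₂⟩ := c2 p hp hD hC
      (fun Γ _ _ hlt' hs' hD' hC' => ih _ (hn ▸ hlt') Γ rfl hs' hD' hC')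
      N hN1 hNp hNab hNidx (cj g₁ (H ⊓ N)) (K ⊓ N) D₂ (cj_le_normal g₁ _ N inf_le_right) inf_le_right
      (by rw [card_cj, hAB]) hDA' (fun d hd => inf_normal_normalizer K N d (hD₂K hd)) hp₂
    refine ⟨g₂ * g₁, ?_⟩
    have h5 : cj g₁ (H ⊓ N) ⊔ D₂ = cj g₁ H := by
      conv_rhs => rw [← hs₁]
      rw [cj_sup, ← hg₁]
    have h6 : K = cj g₂ (cj g₁ H) := by
      rw [← h5, ← hg₂, hs₂]
    rw [h6, cj_cj]

/-- Let G be a finite solvable group in which, for every prime p, any two p-subgroups of the same order are conjugate, and suppose the Sylow p-subgroups of G are cyclic for all primes p with at most one exception. Then any two subgroups of G of the same order are conjugate. -/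
theorem result {G : Type*} [Group G] [Finite G]
    [Group.IsSolvable G] (hD : ∀ p : ℕ, p.Prime → ∀ H K : Subgroup G, IsPGroup p H → IsPGroup p K → Nat.card H = Nat.card K →
      ∃ g : G, K = H.map (MulAut.conj g).toMonoidHom)
    (r : ℕ) (hcyc : ∀ p : ℕ, p.Prime → p ≠ r → ∀ P : Sylow p G, IsCyclic P) :
    ∀ H K : Subgroup G, Nat.card H = Nat.card K → ∃ g : G, K = H.map (MulAut.conj g).toMonoidHom := by
  intro H K h
  exact main r _ G rfl inferInstance hD hcyc H K h

end Cfsg.Agent.S4022
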