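import Cfsg.Statements.S3912
import Mathlib
import Cfsg.Agent.S3908
import Cfsg.Agent.S3909
import Cfsg.Agent.S3911
import Cfsg.Agent.S4022

set_option autoImplicit false
open Cfsg

namespace Cfsg.Agent.S3912

open Cfsg.Agent.S4022 (cj cj_cj mem_cj card_cj cj_sup cj_le_normal cj_mono cj_eq_self hall_conj exists_abelian_normal card_sup_normal mem_normalizer_of_cj_eq)

theorem key_cyc' {G : Type*} [Group G] [Finite G] (hB : ∀ A B : Subgroup G, IsMulCommutative ↥A → IsMulCommutative ↥B → Nat.card ↥A = Nat.card ↥B → ∃ g : G, B = A.map (MulAut.conj g).toMonoidHom) (M : Subgroup G) [M.Normal]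
    (q : ℕ) [hqf : Fact q.Prime] (hS8q : ∀ P : Sylow q G, IsCyclic ↥(P : Subgroup G) ∨ ∀ x ∈ (P : Subgroup G), x ^ q = 1) (hq : q ∣ Nat.card ↥M) (x : G) (u : ℕ) (hx : orderOf x = q ^ u) (hxM : x ∉ M) :
    (∀ P : Sylow q G, IsCyclic ↥(P : Subgroup G)) ∧
      ∃ z ∈ Subgroup.zpowers x, z ∈ M ∧ orderOf z = q ^ (Nat.card ↥M).factorization q := by
  have hS9 := (Cfsg.Agent.S3909.result hB M).1
  obtain ⟨m, hm⟩ := exists_prime_orderOf_dvd_card' q hq
  have hm' : orderOf (m : G) = q := by rw [Subgroup.orderOf_coe]; exact hm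
  have hxq : x ^ q ≠ 1 := by
    intro h
    have h1 : orderOf x ∣ q := orderOf_dvd_of_pow_eq_one h
    rcases (Nat.dvd_prime hqf.out).1 h1 with h2 | h2
    · rw [orderOf_eq_one_iff] at h2
      exact hxM (h2 ▸ M.one_mem)
    · exact hxM (hS9 x ⟨m, m.2, by rw [hm', h2]⟩)
  have hpz : IsPGroup q ↥(Subgroup.zpowers x) := IsPGroup.of_card (n := u) (by rw [Nat.card_zpowers, hx])
  obtain ⟨P₀, hP₀⟩ := hpz.exists_le_sylow
  have hcyc : ∀ P : Sylow q G, IsCyclic ↥(P : Subgroup G) := by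
    intro P
    rcases hS8q P with h | h
    · exact h
    · exfalso
      obtain ⟨g, hg⟩ := MulAction.exists_smul_eq G P P₀
      have h1 : x ∈ ((g • P : Sylow q G) : Subgroup G) := by
        rw [hg]; exact hP₀ (Subgroup.mem_zpowers x)
      rw [Sylow.coe_subgroup_smul, Subgroup.mem_pointwise_smul_iff_inv_smul_mem] at h1
      have h2 := h _ h1
      rw [MulAut.smul_def, MulAut.conj_inv_apply] at h2
      have h3 : (g⁻¹ * x * g) ^ q = g⁻¹ * x ^ q * g := by
        have := conj_pow (a := g⁻¹) (b := x) (i := q)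
        simpa using this
      rw [h3] at h2
      apply hxq
      have : x ^ q = g * (g⁻¹ * x ^ q * g) * g⁻¹ := by group
      rw [this, h2]; group
  refine ⟨hcyc, ?_⟩
  set v := (Nat.card ↥M).factorization q with hv
  obtain ⟨Q₀⟩ := (inferInstance : Nonempty (Sylow q ↥M))
  set K : Subgroup G := (Q₀ : Subgroup ↥M).map M.subtype with hK
  have hKcard : Nat.card ↥K = q ^ v := by
    rw [hK, Subgroup.card_map_of_injective M.subtype_injective, Q₀.card_eq_multiplicity]
  have hKp : IsPGroup q ↥K := IsPGroup.of_card hKcard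
  obtain ⟨P', hP'⟩ := hKp.exists_le_sylow
  haveI := hcyc P'
  haveI : IsCyclic ↥K := isCyclic_of_injective (Subgroup.inclusion hP') (Subgroup.inclusion_injective hP')
  obtain ⟨y, hy⟩ := IsCyclic.exists_ofOrder_eq_natCard (α := ↥K)
  have hyM : (y : G) ∈ M := (Subgroup.map_subtype_le _) y.2
  have hy' : orderOf (y : G) = q ^ v := by rw [Subgroup.orderOf_coe, hy, hKcard]
  have hqpos : 0 < q := hqf.out.pos
  by_cases huv : u ≤ v
  · exfalso
    apply hxM
    refine hS9 x ⟨(y : G) ^ (q ^ (v - u)), M.pow_mem hyM _, ?_⟩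
    rw [orderOf_pow_of_dvd (pow_ne_zero _ hqpos.ne') (by rw [hy']; exact pow_dvd_pow _ (Nat.sub_le _ _)), hy', hx,
      Nat.pow_div (Nat.sub_le _ _) hqpos]
    congr 1; omega
  · push Not at huv
    have hz : orderOf (x ^ (q ^ (u - v))) = q ^ v := by
      rw [orderOf_pow_of_dvd (pow_ne_zero _ hqpos.ne') (by rw [hx]; exact pow_dvd_pow _ (Nat.sub_le _ _)), hx,
        Nat.pow_div (Nat.sub_le _ _) hqpos]
      congr 1; omega
    exact ⟨x ^ (q ^ (u - v)), Subgroup.pow_mem _ (Subgroup.mem_zpowers x) _, hS9 _ ⟨y, hyM, by rw [hy', hz]⟩, hz⟩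

theorem exists_lift' {G : Type*} [Group G] [Finite G] (M : Subgroup G) [M.Normal]
    (A : Subgroup (G ⧸ M)) (hA : IsMulCommutative ↥A)
    (hKey : ∀ (q : ℕ) [Fact q.Prime], q ∣ Nat.card ↥M → ∀ (x : G) (u : ℕ), orderOf x = q ^ u → x ∉ M →
      ∃ z ∈ Subgroup.zpowers x, z ∈ M ∧ orderOf z = q ^ (Nat.card ↥M).factorization q)
    (hC : ∀ (q : ℕ) [Fact q.Prime] (Q : Subgroup G), IsPGroup q ↥Q → q ∣ Nat.card ↥M →
      Q.map (QuotientGroup.mk' M) ≤ A → (∃ w ∈ Q, w ∉ M) → ∀ x ∈ Q, ∀ y ∈ Q, x * y = y * x) :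
    ∃ N : Subgroup G, IsMulCommutative ↥N ∧ N.map (QuotientGroup.mk' M) = A ∧
      ∀ q : ℕ, q.Prime → (Nat.card ↥N).factorization q =
        if q ∣ Nat.card ↥A then (Nat.card ↥A).factorization q + (Nat.card ↥M).factorization q else 0 := by
  classical
  obtain ⟨N, hN⟩ := (Set.toFinite {N : Subgroup G | N.map (QuotientGroup.mk' M) = A}).exists_minimal
    ⟨A.comap (QuotientGroup.mk' M), Subgroup.map_comap_eq_self_of_surjective (QuotientGroup.mk'_surjective M) A⟩
  have hNA : N.map (QuotientGroup.mk' M) = A := hN.1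
  have hNmin : ∀ L : Subgroup G, L ≤ N → L.map (QuotientGroup.mk' M) = A → L = N :=
    fun L hL hLA => le_antisymm hL (hN.2 hLA hL)
  set φ : ↥N →* G ⧸ M := (QuotientGroup.mk' M).comp N.subtype with hφ
  have hrange : φ.range = A := by
    rw [hφ, ← MonoidHom.map_range, Subgroup.range_subtype, hNA]
  have hφA : ∀ x : ↥N, φ x ∈ A := fun x => hrange ▸ ⟨x, rfl⟩
  have hcomm : ∀ x y : ↥N, φ x * φ y = φ y * φ x := by
    intro x y
    have := hA.is_comm.comm (⟨φ x, hφA x⟩ : ↥A) ⟨φ y, hφA y⟩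
    exact congrArg Subtype.val this
  have hmin : ∀ L : Subgroup ↥N, L.map φ = φ.range → L = ⊤ := by
    intro L hL
    have h1 : (L.map N.subtype).map (QuotientGroup.mk' M) = A := by
      rw [Subgroup.map_map, ← hrange, ← hL]
    have h2 := hNmin _ (Subgroup.map_subtype_le L) h1
    rw [eq_top_iff]
    intro x _
    have hx : (x : G) ∈ L.map N.subtype := by rw [h2]; exact x.2
    obtain ⟨y, hy, hyx⟩ := hx
    have : y = x := Subtype.ext hyx
    exact this ▸ hy
  have hker : ∀ x : ↥N, x ∈ φ.ker ↔ (x : G) ∈ M := by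
    intro x
    rw [MonoidHom.mem_ker, hφ]
    simp [QuotientGroup.eq_one_iff]
  have hnorm : ∀ {p : ℕ} [Fact p.Prime] (P : Sylow p ↥N), (↑P : Subgroup ↥N).Normal :=
    fun {p} _ P => Cfsg.Agent.S3911.sylow_normal φ hcomm hmin p P
  have hord : ∀ (p : ℕ) [Fact p.Prime] (P : Sylow p ↥N), ∀ w ∈ (P : Subgroup ↥N), ∃ k, orderOf (w : G) = p ^ k := by
    intro p _ P w hw
    obtain ⟨k, hk⟩ := IsPGroup.iff_orderOf.mp P.2 ⟨w, hw⟩
    refine ⟨k, ?_⟩
    rw [Subgroup.orderOf_coe, ← hk, Subgroup.orderOf_mk w hw]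
  have hNcomm : ∀ x y : ↥N, x * y = y * x := by
    apply Cfsg.Agent.S3911.comm_of_sylow hnorm
    intro p _ P x hx y hy
    by_cases hpM : p ∣ Nat.card ↥M
    · by_cases hPk : (P : Subgroup ↥N) ≤ φ.ker
      · have hbot := Cfsg.Agent.S3911.sylow_bot_of_le_ker φ hcomm hmin p P hPk
        rw [hbot, Subgroup.mem_bot] at hx hy
        rw [hx, hy]
      · obtain ⟨w, hw, hwk⟩ := SetLike.not_le_iff_exists.mp hPk
        have hPp : IsPGroup p ↥((P : Subgroup ↥N).map N.subtype) := P.2.map _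
        have hle : ((P : Subgroup ↥N).map N.subtype).map (QuotientGroup.mk' M) ≤ A := by
          rintro _ ⟨_, ⟨t, _, rfl⟩, rfl⟩
          exact hφA t
        have h3 : (x : G) * y = y * x := hC p _ hPp hpM hle ⟨w, ⟨w, hw, rfl⟩, fun h => hwk ((hker w).2 h)⟩
          x ⟨x, hx, rfl⟩ y ⟨y, hy, rfl⟩
        exact Subtype.ext h3
    · have hz : x * y * x⁻¹ * y⁻¹ ∈ (P : Subgroup ↥N) :=
        mul_mem (mul_mem (mul_mem hx hy) (inv_mem hx)) (inv_mem hy)
      have hzk : x * y * x⁻¹ * y⁻¹ ∈ φ.ker := by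
        rw [MonoidHom.mem_ker]
        simp only [map_mul, map_inv]
        rw [hcomm x y]; group
      obtain ⟨k, hk⟩ := hord p P _ hz
      have hzM := (hker _).1 hzk
      have hdvd : orderOf ((x * y * x⁻¹ * y⁻¹ : ↥N) : G) ∣ Nat.card ↥M := by
        have := orderOf_dvd_natCard (⟨_, hzM⟩ : ↥M)
        rwa [← Subgroup.orderOf_coe] at this
      have hk0 : k = 0 := by
        by_contra hk0
        apply hpM
        refine dvd_trans ?_ hdvd
        rw [hk]; exact dvd_pow_self p hk0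
      rw [hk0, pow_zero, orderOf_eq_one_iff] at hk
      have h1 : x * y * x⁻¹ * y⁻¹ = 1 := Subtype.ext hk
      have : x * y = (x * y * x⁻¹ * y⁻¹) * (y * x) := by group
      rw [this, h1, one_mul]
  refine ⟨N, ⟨⟨hNcomm⟩⟩, hNA, ?_⟩
  intro q hq
  haveI : Fact q.Prime := ⟨hq⟩
  have hcard : Nat.card ↥φ.ker * Nat.card ↥A = Nat.card ↥N := by
    rw [← hrange, ← Subgroup.index_ker, Subgroup.card_mul_index]
  obtain ⟨Q⟩ := (inferInstance : Nonempty (Sylow q ↥N))
  have hQbot : (Q : Subgroup ↥N) = ⊥ → (Nat.card ↥N).factorization q = 0 := by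
    intro h
    have h1 := Q.card_eq_multiplicity
    rw [h, Subgroup.card_bot] at h1
    by_contra h0
    have := Nat.one_lt_pow h0 hq.one_lt
    omega
  have hkpos : Nat.card ↥φ.ker ≠ 0 := Nat.card_pos.ne'
  have hApos : Nat.card ↥A ≠ 0 := Nat.card_pos.ne'
  have hMpos : Nat.card ↥M ≠ 0 := Nat.card_pos.ne'
  by_cases hqA : q ∣ Nat.card ↥A
  · rw [if_pos hqA, ← hcard, Nat.factorization_mul hkpos hApos, Finsupp.add_apply, add_comm]
    congr 1
    apply le_antisymm
    · have hdvd : Nat.card ↥φ.ker ∣ Nat.card ↥M := by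
        let f : ↥φ.ker →* ↥M :=
          { toFun := fun x => ⟨((x : ↥N) : G), (hker _).1 x.2⟩
            map_one' := rfl
            map_mul' := fun _ _ => rfl }
        apply Subgroup.card_dvd_of_injective f
        intro a b hab
        have : ((a : ↥N) : G) = ((b : ↥N) : G) := congrArg (fun t : ↥M => (t : G)) hab
        exact Subtype.ext (Subtype.ext this)
      exact (Nat.factorization_le_iff_dvd hkpos hMpos).2 hdvd q
    · by_cases hqM : q ∣ Nat.card ↥M
      · have hPk : ¬ (Q : Subgroup ↥N) ≤ φ.ker := by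
          intro hPk
          have h0 := hQbot (Cfsg.Agent.S3911.sylow_bot_of_le_ker φ hcomm hmin q Q hPk)
          have h1 : q ∣ Nat.card ↥N := by rw [← hcard]; exact Dvd.dvd.mul_left hqA _
          have h2 := (hq.dvd_iff_one_le_factorization Nat.card_pos.ne').1 h1
          omega
        obtain ⟨w, hw, hwk⟩ := SetLike.not_le_iff_exists.mp hPk
        obtain ⟨k, hk⟩ := hord q Q w hw
        obtain ⟨z, hzw, hzM, hzo⟩ := hKey q hqM (w : G) k hk (fun h => hwk ((hker w).2 h))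
        have hzN : z ∈ N := by
          have : Subgroup.zpowers (w : G) ≤ N := by
            rw [Subgroup.zpowers_le]; exact w.2
          exact this hzw
        have hzk : (⟨z, hzN⟩ : ↥N) ∈ φ.ker := (hker _).2 hzM
        have h1 := orderOf_dvd_natCard (⟨⟨z, hzN⟩, hzk⟩ : ↥φ.ker)
        rw [← Subgroup.orderOf_coe, ← Subgroup.orderOf_coe] at h1
        change orderOf z ∣ _ at h1
        rw [hzo] at h1
        exact (hq.pow_dvd_iff_le_factorization hkpos).1 h1
      · rw [Nat.factorization_eq_zero_of_not_dvd hqM]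
        exact Nat.zero_le _
  · rw [if_neg hqA]
    apply hQbot
    apply Cfsg.Agent.S3911.sylow_bot_of_le_ker φ hcomm hmin q Q
    intro w hw
    rw [MonoidHom.mem_ker]
    obtain ⟨k, hk⟩ := IsPGroup.iff_orderOf.mp Q.2 ⟨w, hw⟩
    have hk' : orderOf w = q ^ k := by rw [← hk, Subgroup.orderOf_mk w hw]
    have h1 : orderOf (φ w) ∣ q ^ k := hk' ▸ orderOf_map_dvd φ w
    obtain ⟨j, _, hj⟩ := (Nat.dvd_prime_pow hq).1 h1
    have h2 : orderOf (φ w) ∣ Nat.card ↥A := by
      have := orderOf_dvd_natCard (⟨φ w, hφA w⟩ : ↥A)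
      rwa [← Subgroup.orderOf_coe] at this
    have hj0 : j = 0 := by
      by_contra hj0
      apply hqA
      refine dvd_trans ?_ h2
      rw [hj]; exact dvd_pow_self q hj0
    rw [hj0, pow_zero, orderOf_eq_one_iff] at hj
    exact hj

theorem conj_of_lifts {G : Type*} [Group G] [Finite G] (hB : ∀ A B : Subgroup G, IsMulCommutative ↥A → IsMulCommutative ↥B → Nat.card ↥A = Nat.card ↥B → ∃ g : G, B = A.map (MulAut.conj g).toMonoidHom) (M : Subgroup G) [M.Normal]
    (A B : Subgroup (G ⧸ M)) (hcard : Nat.card ↥A = Nat.card ↥B)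
    (h1 : ∃ N : Subgroup G, IsMulCommutative ↥N ∧ N.map (QuotientGroup.mk' M) = A ∧
      ∀ q : ℕ, q.Prime → (Nat.card ↥N).factorization q =
        if q ∣ Nat.card ↥A then (Nat.card ↥A).factorization q + (Nat.card ↥M).factorization q else 0)
    (h2 : ∃ N : Subgroup G, IsMulCommutative ↥N ∧ N.map (QuotientGroup.mk' M) = B ∧
      ∀ q : ℕ, q.Prime → (Nat.card ↥N).factorization q =
        if q ∣ Nat.card ↥B then (Nat.card ↥B).factorization q + (Nat.card ↥M).factorization q else 0) :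
    ∃ g : G ⧸ M, B = A.map (MulAut.conj g).toMonoidHom := by
  obtain ⟨N₁, hc₁, hm₁, hf₁⟩ := h1
  obtain ⟨N₂, hc₂, hm₂, hf₂⟩ := h2
  have hNN : Nat.card ↥N₁ = Nat.card ↥N₂ := by
    apply Nat.eq_of_factorization_eq Nat.card_pos.ne' Nat.card_pos.ne'
    intro q
    by_cases hq : q.Prime
    · rw [hf₁ q hq, hf₂ q hq, hcard]
    · rw [Nat.factorization_eq_zero_of_not_prime _ hq, Nat.factorization_eq_zero_of_not_prime _ hq]
  obtain ⟨g, hg⟩ := hB N₁ N₂ hc₁ hc₂ hNN
  refine ⟨QuotientGroup.mk' M g, ?_⟩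
  rw [← hm₂, ← hm₁, hg, Subgroup.map_map, Subgroup.map_map]
  congr 1

theorem comm_in {Γ : Type*} [Group Γ] (A : Subgroup Γ) (hA : IsMulCommutative ↥A) (x y : Γ) (hx : x ∈ A)
    (hy : y ∈ A) : x * y = y * x :=
  congrArg Subtype.val (hA.is_comm.comm (⟨x, hx⟩ : ↥A) ⟨y, hy⟩)

theorem comm_le {Γ : Type*} [Group Γ] (X Y : Subgroup Γ) (hY : IsMulCommutative ↥Y) (h : X ≤ Y) :
    IsMulCommutative ↥X :=
  ⟨⟨fun a b => Subtype.ext (comm_in Y hY a b (h a.2) (h b.2))⟩⟩

theorem ab_decomp {Γ : Type*} [Group Γ] [Finite Γ] (A : Subgroup Γ) (hA : IsMulCommutative ↥A)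
    (h4 : (Nat.card ↥A).factorization 2 = 2) :
    ∃ (V A' A₁ : Subgroup Γ) (m : ℕ), ¬ 2 ∣ m ∧ Nat.card ↥V = 4 ∧ Nat.card ↥A' = m ∧ Nat.card ↥A₁ = 2 * m ∧
      Nat.card ↥A = 4 * m ∧ V ⊔ A' = A ∧ A' ≤ A₁ ∧ A₁ ≤ A ∧ V ≤ A ∧ A' ≤ A := by
  haveI : Fact (Nat.Prime 2) := ⟨Nat.prime_two⟩
  have hcomm : ∀ x y : ↥A, x * y = y * x := hA.is_comm.comm
  have hnorm : ∀ X : Subgroup ↥A, X.Normal := fun X =>
    ⟨fun n hn g => by rw [hcomm g n, mul_assoc, mul_inv_cancel, mul_one]; exact hn⟩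
  obtain ⟨S⟩ := (inferInstance : Nonempty (Sylow 2 ↥A))
  haveI := hnorm (S : Subgroup ↥A)
  obtain ⟨D₀, hD₀⟩ := Subgroup.exists_right_complement'_of_coprime S.card_coprime_index
  have hS4 : Nat.card ↥(S : Subgroup ↥A) = 4 := by rw [S.card_eq_multiplicity, h4]; norm_num
  have h2A : 2 ^ 1 ∣ Nat.card ↥A := by
    have := (Nat.prime_two.pow_dvd_iff_le_factorization (Nat.card_pos (α := ↥A)).ne').2 (by rw [h4]; norm_num : 1 ≤ _)
    exact this
  obtain ⟨S₁, hS₁⟩ := Sylow.exists_subgroup_card_pow_prime 2 h2A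
  have hodd : ¬ 2 ∣ Nat.card ↥D₀ := by
    rw [← hD₀.symm.index_eq_card]; exact S.not_dvd_index
  haveI := hnorm D₀
  have hc1 : Nat.card ↥(S₁ ⊔ D₀) = 2 * Nat.card ↥D₀ := by
    rw [card_sup_normal S₁ D₀ (by rw [hS₁, pow_one]; exact (Nat.Prime.coprime_iff_not_dvd Nat.prime_two).2 hodd),
      hS₁, pow_one]
  refine ⟨(S : Subgroup ↥A).map A.subtype, D₀.map A.subtype, (S₁ ⊔ D₀).map A.subtype, Nat.card ↥D₀, hodd,
    ?_, ?_, ?_, ?_, ?_, Subgroup.map_mono le_sup_right, Subgroup.map_subtype_le _, Subgroup.map_subtype_le _,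
    Subgroup.map_subtype_le _⟩
  · rw [Subgroup.card_map_of_injective A.subtype_injective, hS4]
  · rw [Subgroup.card_map_of_injective A.subtype_injective]
  · rw [Subgroup.card_map_of_injective A.subtype_injective, hc1]
  · rw [← hD₀.card_mul_card, hS4]
  · rw [← Subgroup.map_sup, hD₀.sup_eq_top, ← MonoidHom.range_eq_map, Subgroup.range_subtype]

theorem lemmaS {Γ : Type*} [Group Γ] [Finite Γ] [Group.IsSolvable Γ] (h2 : (Nat.card Γ).factorization 2 = 2)
    (h : ∀ A B : Subgroup Γ, IsMulCommutative ↥A → IsMulCommutative ↥B → Nat.card ↥A = Nat.card ↥B →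
      ¬ 4 ∣ Nat.card ↥A → ∃ g : Γ, B = A.map (MulAut.conj g).toMonoidHom)
    (A B : Subgroup Γ) (hA : IsMulCommutative ↥A) (hB : IsMulCommutative ↥B)
    (hAB : Nat.card ↥A = Nat.card ↥B) : ∃ g : Γ, B = A.map (MulAut.conj g).toMonoidHom := by
  by_cases h4 : 4 ∣ Nat.card ↥A
  swap
  · exact h A B hA hB hAB h4
  have hfac : ∀ X : Subgroup Γ, 4 ∣ Nat.card ↥X → (Nat.card ↥X).factorization 2 = 2 := by
    intro X hX
    apply le_antisymm
    · have h0 := (Nat.factorization_le_iff_dvd Nat.card_pos.ne' Nat.card_pos.ne').2 (Subgroup.card_subgroup_dvd_card X) 2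
      rw [h2] at h0
      exact h0
    · exact (Nat.prime_two.pow_dvd_iff_le_factorization Nat.card_pos.ne').1 (by norm_num; exact hX)
  obtain ⟨V, A', A₁, m, hm, hV, hA', hA₁, hAm, hsupA, hA'A₁, hA₁A, hVA, hA'A⟩ := ab_decomp A hA (hfac A h4)
  obtain ⟨W, B', B₁, m', hm', hW, hB', hB₁, hBm, hsupB, hB'B₁, hB₁B, hWB, hB'B⟩ :=
    ab_decomp B hB (hfac B (hAB ▸ h4))
  have hmm : m = m' := by omega
  subst hmm
  obtain ⟨g, hg⟩ := h A₁ B₁ (comm_le _ _ hA hA₁A) (comm_le _ _ hB hB₁B) (by rw [hA₁, hB₁])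
    (by rw [hA₁]; intro h; apply hm; omega)
  have hcopm : Nat.Coprime m 2 := ((Nat.Prime.coprime_iff_not_dvd Nat.prime_two).2 hm).symm
  obtain ⟨x, _, hx⟩ := hall_conj (cj g A') B' B₁ (by rw [hg]; exact cj_mono g hA'A₁) hB'B₁
    (by rw [card_cj, hA', hB']) 2 (by rw [card_cj, hA', hB₁, mul_comm]) (by rw [card_cj, hA']; exact hcopm)
  have hB'g : B' = cj (x * g) A' := by rw [hx, cj_cj]
  have hWL : W ≤ Subgroup.centralizer (B' : Set Γ) := by
    intro w hw
    rw [Subgroup.mem_centralizer_iff]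
    intro b hb
    exact comm_in B hB b w (hB'B hb) (hWB hw)
  have hVL : cj (x * g) V ≤ Subgroup.centralizer (B' : Set Γ) := by
    intro y hy
    rw [mem_cj] at hy
    rw [Subgroup.mem_centralizer_iff]
    intro b hb
    have hb' : b ∈ cj (x * g) A' := hB'g ▸ hb
    rw [mem_cj] at hb'
    have h5 := comm_in A hA _ _ (hA'A hb') (hVA hy)
    have h6 : b * y = (x * g) * (((x * g)⁻¹ * b * (x * g)) * ((x * g)⁻¹ * y * (x * g))) * (x * g)⁻¹ := by group
    have h7 : y * b = (x * g) * (((x * g)⁻¹ * y * (x * g)) * ((x * g)⁻¹ * b * (x * g))) * (x * g)⁻¹ := by group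
    rw [h6, h7, h5]
  have h4L : 4 ∣ Nat.card ↥(Subgroup.centralizer (B' : Set Γ)) := hW ▸ Subgroup.card_dvd_of_le hWL
  obtain ⟨n, hn⟩ := h4L
  have hnodd : ¬ 2 ∣ n := by
    intro h2n
    have h8 : 2 ^ 3 ∣ Nat.card ↥(Subgroup.centralizer (B' : Set Γ)) := by
      rw [hn]; obtain ⟨t, rfl⟩ := h2n; exact ⟨t, by ring⟩
    have h9 := (Nat.prime_two.pow_dvd_iff_le_factorization Nat.card_pos.ne').1 h8
    rw [hfac _ ⟨n, hn⟩] at h9
    omega
  have hcop4 : Nat.Coprime 4 n := by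
    have : Nat.Coprime (2 ^ 2) n := Nat.Coprime.pow_left 2 ((Nat.Prime.coprime_iff_not_dvd Nat.prime_two).2 hnodd)
    simpa using this
  obtain ⟨c, hcL, hc⟩ := hall_conj (cj (x * g) V) W _ hVL hWL (by rw [card_cj, hV, hW]) n
    (by rw [card_cj, hV]; exact hn) (by rw [card_cj, hV]; exact hcop4)
  refine ⟨c * (x * g), ?_⟩
  have hcB' : cj c B' = B' := cj_eq_self c B' (Subgroup.centralizer_le_normalizer _ hcL)
  change B = cj (c * (x * g)) A
  rw [← hsupA, ← cj_cj, cj_sup, cj_sup, ← hB'g, hcB', ← hc, hsupB]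

theorem quat_le {G : Type*} [Group G] (P : Subgroup G) (n : ℕ) [NeZero n]
    (e : ↥P ≃* QuaternionGroup n) (T : Subgroup G) (hT : ∀ x : G, orderOf x = 4 → x ∈ T) : P ≤ T := by
  have hxa : ∀ i, ((e.symm (QuaternionGroup.xa i) : ↥P) : G) ∈ T := by
    intro i
    apply hT
    rw [Subgroup.orderOf_coe, MulEquiv.orderOf_eq, QuaternionGroup.orderOf_xa]
  intro x hx
  rcases h : e ⟨x, hx⟩ with i | i
  · have h1 : (QuaternionGroup.a i : QuaternionGroup n) = QuaternionGroup.xa 0 * QuaternionGroup.xa (i - (n : ZMod (2 * n))) := by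
      rw [QuaternionGroup.xa_mul_xa]; congr 1; ring
    have h2 : (⟨x, hx⟩ : ↥P) = e.symm (QuaternionGroup.xa 0) * e.symm (QuaternionGroup.xa (i - (n : ZMod (2 * n)))) := by
      rw [← map_mul, ← h1, ← h, MulEquiv.symm_apply_apply]
    have h3 : x = ((e.symm (QuaternionGroup.xa 0) : ↥P) : G) * ((e.symm (QuaternionGroup.xa (i - (n : ZMod (2 * n)))) : ↥P) : G) :=
      congrArg Subtype.val h2
    rw [h3]; exact mul_mem (hxa _) (hxa _)
  · have h2 : (⟨x, hx⟩ : ↥P) = e.symm (QuaternionGroup.xa i) := by rw [← h, MulEquiv.symm_apply_apply]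
    have h3 : x = ((e.symm (QuaternionGroup.xa i) : ↥P) : G) := congrArg Subtype.val h2
    rw [h3]; exact hxa i

theorem quat_small {G : Type*} [Group G] [Finite G] [Group.IsSolvable G] (hB : ∀ A B : Subgroup G, IsMulCommutative ↥A → IsMulCommutative ↥B → Nat.card ↥A = Nat.card ↥B → ∃ g : G, B = A.map (MulAut.conj g).toMonoidHom)
    (P : Subgroup G) (k : ℕ) (e : ↥P ≃* QuaternionGroup (2 ^ k)) : k ≤ 1 := by
  by_contra hk
  push Not at hk
  haveI : NeZero (2 ^ k) := ⟨by positivity⟩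
  set U : ↥P := e.symm (QuaternionGroup.a 1) with hU
  set V : ↥P := e.symm (QuaternionGroup.xa 0) with hV
  have hoU : orderOf (U : G) = 2 ^ (k + 1) := by
    rw [Subgroup.orderOf_coe, hU, MulEquiv.orderOf_eq, QuaternionGroup.orderOf_a_one]; ring
  have hPne : ¬ P ≤ ⊥ := by
    intro h
    have h1 : (U : G) = 1 := by simpa using h U.2
    rw [h1, orderOf_one] at hoU
    have : 1 < 2 ^ (k + 1) := Nat.one_lt_pow (by omega) (by norm_num)
    omega
  obtain ⟨T, hT⟩ := (Set.toFinite {T : Subgroup G | T.Normal ∧ ¬ P ≤ T}).exists_maximal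
    ⟨⊥, inferInstance, hPne⟩
  obtain ⟨hTn, hPT⟩ := hT.1
  haveI := hTn
  have hTtop : T ≠ ⊤ := fun h => hPT (h ▸ le_top)
  haveI : Nontrivial (G ⧸ T) := by
    rw [← Finite.one_lt_card_iff_nontrivial]
    change 1 < T.index
    have h0 : T.index ≠ 0 := Subgroup.index_ne_zero_of_finite
    have h1 : T.index ≠ 1 := fun h => hTtop (Subgroup.index_eq_one.mp h)
    omega
  obtain ⟨Abar, hAn, hA1, hAc⟩ := exists_abelian_normal (G := G ⧸ T)
  haveI := hAn
  have hLn : (Abar.comap (QuotientGroup.mk' T)).Normal := inferInstance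
  have hTL : T ≤ Abar.comap (QuotientGroup.mk' T) := by
    intro t ht
    rw [Subgroup.mem_comap]
    have : QuotientGroup.mk' T t = 1 := (QuotientGroup.eq_one_iff t).2 ht
    rw [this]; exact one_mem _
  have hPL : P ≤ Abar.comap (QuotientGroup.mk' T) := by
    by_contra hPL
    have hle := hT.2 (show Abar.comap (QuotientGroup.mk' T) ∈ {T : Subgroup G | T.Normal ∧ ¬ P ≤ T} from ⟨hLn, hPL⟩) hTL
    apply hA1
    rw [eq_bot_iff]
    intro y hy
    obtain ⟨x, rfl⟩ := QuotientGroup.mk'_surjective T y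
    have hx : x ∈ T := hle hy
    rw [Subgroup.mem_bot]
    exact (QuotientGroup.eq_one_iff x).2 hx
  have hUV : U * V = U ^ 2 * (V * U) := by
    apply e.injective
    simp only [map_mul, map_pow, hU, hV, MulEquiv.apply_symm_apply]
    rw [QuaternionGroup.a_one_pow, QuaternionGroup.a_mul_xa, QuaternionGroup.xa_mul_a, QuaternionGroup.a_mul_xa]
    congr 1; push_cast; ring
  have hU2 : (U : G) ^ 2 ∈ T := by
    have h1 := hAc _ (hPL U.2) _ (hPL V.2)
    have h2 : (U : G) * V = (U : G) ^ 2 * ((V : G) * U) := congrArg Subtype.val hUV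
    have h3 : (U : G) ^ 2 = ((U : G) * V) * ((V : G) * U)⁻¹ := by rw [h2]; group
    rw [h3, ← QuotientGroup.eq_one_iff]
    have h4 : ((((U : G) * V) * ((V : G) * U)⁻¹ : G) : G ⧸ T) =
        (QuotientGroup.mk' T U * QuotientGroup.mk' T V) * (QuotientGroup.mk' T V * QuotientGroup.mk' T U)⁻¹ := rfl
    rw [h4, h1, mul_inv_cancel]
  have ht : orderOf (((U : G) ^ 2) ^ (2 ^ (k - 2))) = 4 := by
    have h5 : 2 * 2 ^ (k - 2) = 2 ^ (k - 1) := by
      obtain ⟨j, rfl⟩ : ∃ j, k = j + 2 := ⟨k - 2, by omega⟩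
      simp [pow_succ]; ring
    rw [← pow_mul, h5, orderOf_pow_of_dvd (by positivity) (by rw [hoU]; exact pow_dvd_pow _ (by omega)), hoU,
      Nat.pow_div (by omega) (by norm_num)]
    have : k + 1 - (k - 1) = 2 := by omega
    rw [this]
  have hall4 : ∀ x : G, orderOf x = 4 → x ∈ T := fun x hx =>
    (Cfsg.Agent.S3909.result hB T).1 x ⟨_, T.pow_mem hU2 _, by rw [ht, hx]⟩
  exact hPT (quat_le P (2 ^ k) e T hall4)

theorem qd1 : ∀ x : QuaternionGroup 2, x ^ 4 = 1 := by decide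

theorem qd2 : ∀ x y : QuaternionGroup 2, x ^ 2 = 1 → y ^ 2 = 1 → x ≠ 1 → y ≠ 1 → x = y := by decide

theorem comm_of_good {G : Type*} [Group G] [Finite G] (hB : ∀ A B : Subgroup G, IsMulCommutative ↥A → IsMulCommutative ↥B → Nat.card ↥A = Nat.card ↥B → ∃ g : G, B = A.map (MulAut.conj g).toMonoidHom) (M : Subgroup G) [M.Normal]
    (q : ℕ) [Fact q.Prime] (hS8q : ∀ P : Sylow q G, IsCyclic ↥(P : Subgroup G) ∨ ∀ x ∈ (P : Subgroup G), x ^ q = 1)
    (hq : q ∣ Nat.card ↥M) (Q : Subgroup G) (hQ : IsPGroup q ↥Q) (hw : ∃ w ∈ Q, w ∉ M) :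
    ∀ x ∈ Q, ∀ y ∈ Q, x * y = y * x := by
  obtain ⟨w, hwQ, hwM⟩ := hw
  obtain ⟨u, hu⟩ := IsPGroup.iff_orderOf.mp hQ ⟨w, hwQ⟩
  have hu' : orderOf w = q ^ u := by rw [← hu, Subgroup.orderOf_mk w hwQ]
  have hcyc := (key_cyc' hB M q hS8q hq w u hu' hwM).1
  obtain ⟨P', hP'⟩ := hQ.exists_le_sylow
  haveI := hcyc P'
  letI := IsCyclic.commGroup (α := ↥(P' : Subgroup G))
  intro x hx y hy
  have := mul_comm (⟨x, hP' hx⟩ : ↥(P' : Subgroup G)) ⟨y, hP' hy⟩
  exact congrArg Subtype.val this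

theorem comm_of_card_le_four {X : Type*} [Group X] [Finite X] (j : ℕ) (hj : j ≤ 2) (hX : Nat.card X = 2 ^ j) :
    ∀ a b : X, a * b = b * a := by
  haveI : Fact (Nat.Prime 2) := ⟨Nat.prime_two⟩
  have h012 : j = 0 ∨ j = 1 ∨ j = 2 := by omega
  rcases h012 with rfl | rfl | rfl
  · haveI : Subsingleton X := (Nat.card_eq_one_iff_unique.mp (by simpa using hX)).1
    intro a b; exact Subsingleton.elim _ _
  · haveI : IsCyclic X := isCyclic_of_prime_card (p := 2) (by simpa using hX)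
    letI := IsCyclic.commGroup (α := X)
    intro a b; exact mul_comm a b
  · exact (IsPGroup.isMulCommutative_of_card_eq_prime_sq (p := 2) hX).is_comm.comm

theorem comm_small {G : Type*} [Group G] [Finite G] (M : Subgroup G) [M.Normal]
    (hM1 : (Nat.card ↥M).factorization 2 = 1) (A : Subgroup (G ⧸ M)) (h4 : ¬ 4 ∣ Nat.card ↥A)
    (Q : Subgroup G) (hQ : IsPGroup 2 ↥Q) (hle : Q.map (QuotientGroup.mk' M) ≤ A) :
    ∀ x ∈ Q, ∀ y ∈ Q, x * y = y * x := by
  haveI : Fact (Nat.Prime 2) := ⟨Nat.prime_two⟩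
  obtain ⟨j, hj⟩ := IsPGroup.iff_card.mp hQ
  set φ : ↥Q →* G ⧸ M := (QuotientGroup.mk' M).comp Q.subtype with hφ
  have hrange : φ.range = Q.map (QuotientGroup.mk' M) := by
    rw [hφ, ← MonoidHom.map_range, Subgroup.range_subtype]
  have hcard : Nat.card ↥φ.ker * Nat.card ↥φ.range = Nat.card ↥Q := by
    rw [← Subgroup.index_ker, Subgroup.card_mul_index]
  have hker : ∀ x : ↥Q, x ∈ φ.ker → (x : G) ∈ M := by
    intro x hx
    rw [MonoidHom.mem_ker, hφ] at hx
    simpa [QuotientGroup.eq_one_iff] using hx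
  have hdvd1 : Nat.card ↥φ.ker ∣ Nat.card ↥M := by
    let f : ↥φ.ker →* ↥M :=
      { toFun := fun x => ⟨((x : ↥Q) : G), hker _ x.2⟩
        map_one' := rfl
        map_mul' := fun _ _ => rfl }
    apply Subgroup.card_dvd_of_injective f
    intro a b hab
    have : ((a : ↥Q) : G) = ((b : ↥Q) : G) := congrArg (fun t : ↥M => (t : G)) hab
    exact Subtype.ext (Subtype.ext this)
  have hdvd2 : Nat.card ↥φ.range ∣ Nat.card ↥A := by
    rw [hrange]; exact Subgroup.card_dvd_of_le hle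
  have f1 : (Nat.card ↥φ.ker).factorization 2 ≤ 1 := by
    have := (Nat.factorization_le_iff_dvd Nat.card_pos.ne' Nat.card_pos.ne').2 hdvd1 2
    rwa [hM1] at this
  have f2 : (Nat.card ↥φ.range).factorization 2 ≤ 1 := by
    have h1 := (Nat.factorization_le_iff_dvd Nat.card_pos.ne' Nat.card_pos.ne').2 hdvd2 2
    have h2 : (Nat.card ↥A).factorization 2 < 2 := by
      by_contra hge
      push Not at hge
      apply h4
      have := (Nat.prime_two.pow_dvd_iff_le_factorization (Nat.card_pos (α := ↥A)).ne').2 hge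
      simpa using this
    omega
  have f3 : (Nat.card ↥Q).factorization 2 = j := by
    rw [hj, Nat.Prime.factorization_pow Nat.prime_two]; simp
  have f4 : j ≤ 2 := by
    rw [← f3, ← hcard, Nat.factorization_mul Nat.card_pos.ne' Nat.card_pos.ne', Finsupp.add_apply]
    omega
  intro x hx y hy
  exact congrArg Subtype.val (comm_of_card_le_four j f4 hj (⟨x, hx⟩ : ↥Q) ⟨y, hy⟩)

theorem caseII {G : Type*} [Group G] [Finite G] (hB : ∀ A B : Subgroup G, IsMulCommutative ↥A → IsMulCommutative ↥B → Nat.card ↥A = Nat.card ↥B → ∃ g : G, B = A.map (MulAut.conj g).toMonoidHom) (M : Subgroup G) [M.Normal]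
    [hf2 : Fact (Nat.Prime 2)]
    (P₀ : Sylow 2 G) (e : ↥(P₀ : Subgroup G) ≃* QuaternionGroup 2) (h2M : 2 ∣ Nat.card ↥M)
    (x₀ : G) (u₀ : ℕ) (hx₀ : orderOf x₀ = 2 ^ u₀) (hx₀M : x₀ ∉ M) :
    (Nat.card ↥M).factorization 2 = 1 ∧ (Nat.card (G ⧸ M)).factorization 2 = 2 := by
  have hS9 := (Cfsg.Agent.S3909.result hB M).1
  have E1 : ∀ x ∈ (P₀ : Subgroup G), x ^ 4 = 1 := by
    intro x hx
    have h1 := qd1 (e ⟨x, hx⟩)
    rw [← map_pow] at h1
    have h2 := e.injective (h1.trans (map_one e).symm)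
    exact congrArg Subtype.val h2
  have E2 : ∀ x ∈ (P₀ : Subgroup G), ∀ y ∈ (P₀ : Subgroup G), x ^ 2 = 1 → y ^ 2 = 1 → x ≠ 1 → y ≠ 1 → x = y := by
    intro x hx y hy hx2 hy2 hx1 hy1
    have h1 := qd2 (e ⟨x, hx⟩) (e ⟨y, hy⟩)
      (by rw [← map_pow]
          have : (⟨x, hx⟩ : ↥(P₀ : Subgroup G)) ^ 2 = 1 := Subtype.ext hx2
          rw [this, map_one])
      (by rw [← map_pow]
          have : (⟨y, hy⟩ : ↥(P₀ : Subgroup G)) ^ 2 = 1 := Subtype.ext hy2
          rw [this, map_one])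
      (fun h => hx1 (congrArg Subtype.val (e.injective (h.trans (map_one e).symm))))
      (fun h => hy1 (congrArg Subtype.val (e.injective (h.trans (map_one e).symm))))
    exact congrArg Subtype.val (e.injective h1)
  have intoP : ∀ S : Subgroup G, IsPGroup 2 ↥S → ∃ g : G, cj g S ≤ (P₀ : Subgroup G) := by
    intro S hS
    obtain ⟨P', hP'⟩ := hS.exists_le_sylow
    obtain ⟨g, hg⟩ := MulAction.exists_smul_eq G P' P₀
    refine ⟨g, ?_⟩
    rw [← hg, Sylow.coe_subgroup_smul]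
    exact cj_mono g hP'
  have E1' : ∀ x : G, (∃ u, orderOf x = 2 ^ u) → x ^ 4 = 1 := by
    rintro x ⟨u, hu⟩
    obtain ⟨g, hg⟩ := intoP (Subgroup.zpowers x) (IsPGroup.of_card (n := u) (by rw [Nat.card_zpowers, hu]))
    have h1 : g * x * g⁻¹ ∈ cj g (Subgroup.zpowers x) := by
      rw [mem_cj]
      have : g⁻¹ * (g * x * g⁻¹) * g = x := by group
      rw [this]; exact Subgroup.mem_zpowers x
    have h2 := E1 _ (hg h1)
    rw [conj_pow] at h2
    have : x ^ 4 = g⁻¹ * (g * x ^ 4 * g⁻¹) * g := by group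
    rw [this, h2]; group
  obtain ⟨m, hm⟩ := exists_prime_orderOf_dvd_card' 2 h2M
  have hm' : orderOf (m : G) = 2 := by rw [Subgroup.orderOf_coe]; exact hm
  have hinvM : ∀ x : G, orderOf x = 2 → x ∈ M := fun x hx => hS9 x ⟨m, m.2, by rw [hm', hx]⟩
  have ord124 : ∀ x : G, x ^ 4 = 1 → orderOf x = 1 ∨ orderOf x = 2 ∨ orderOf x = 4 := by
    intro x hx
    have h1 : orderOf x ∣ 2 ^ 2 := by
      have := orderOf_dvd_of_pow_eq_one hx
      simpa using this
    obtain ⟨j, hj, hj'⟩ := (Nat.dvd_prime_pow Nat.prime_two).1 h1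
    have : j = 0 ∨ j = 1 ∨ j = 2 := by omega
    rcases this with rfl | rfl | rfl
    · left; simpa using hj'
    · right; left; simpa using hj'
    · right; right; simpa using hj'
  have no4 : ∀ x ∈ M, orderOf x ≠ 4 := by
    intro x hx hx4
    apply hx₀M
    rcases ord124 x₀ (E1' x₀ ⟨u₀, hx₀⟩) with h | h | h
    · rw [orderOf_eq_one_iff] at h; rw [h]; exact M.one_mem
    · exact hinvM x₀ h
    · exact hS9 x₀ ⟨x, hx, by rw [hx4, h]⟩
  have hM1 : (Nat.card ↥M).factorization 2 = 1 := by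
    apply le_antisymm
    · obtain ⟨S₀⟩ := (inferInstance : Nonempty (Sylow 2 ↥M))
      have hScard : Nat.card ↥((S₀ : Subgroup ↥M).map M.subtype) = 2 ^ (Nat.card ↥M).factorization 2 := by
        rw [Subgroup.card_map_of_injective M.subtype_injective, S₀.card_eq_multiplicity]
      obtain ⟨g, hg⟩ := intoP _ (IsPGroup.of_card hScard)
      set S' := cj g ((S₀ : Subgroup ↥M).map M.subtype) with hS'
      have hS'M : S' ≤ M := cj_le_normal g _ M (Subgroup.map_subtype_le _)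
      have hS'card : Nat.card ↥S' = 2 ^ (Nat.card ↥M).factorization 2 := by rw [hS', card_cj, hScard]
      have hsq : ∀ s ∈ S', s ^ 2 = 1 := by
        intro s hs
        rcases ord124 s (E1 s (hg hs)) with h | h | h
        · rw [orderOf_eq_one_iff] at h; rw [h, one_pow]
        · rw [← h]; exact pow_orderOf_eq_one s
        · exact absurd h (no4 s (hS'M hs))
      by_contra hlt
      push Not at hlt
      have hS'ne : S' ≠ ⊥ := by
        intro h
        rw [h, Subgroup.card_bot] at hS'card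
        have : 1 < 2 ^ (Nat.card ↥M).factorization 2 := Nat.one_lt_pow (by omega) (by norm_num)
        omega
      obtain ⟨t, ht, ht1⟩ := (Subgroup.ne_bot_iff_exists_ne_one.mp hS'ne : ∃ a : ↥S', a ≠ 1) |>.elim
        (fun a ha => (⟨a.1, a.2, fun h => ha (Subtype.ext h)⟩ : ∃ t, t ∈ S' ∧ t ≠ 1))
      have hle : S' ≤ Subgroup.zpowers t := by
        intro s hs
        by_cases hs1 : s = 1
        · rw [hs1]; exact one_mem _
        · rw [E2 s (hg hs) t (hg ht) (hsq s hs) (hsq t ht) hs1 ht1]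
          exact Subgroup.mem_zpowers t
      have h3 := Subgroup.card_dvd_of_le hle
      rw [hS'card, Nat.card_zpowers, orderOf_eq_prime (hsq t ht) ht1] at h3
      have h4 := Nat.le_of_dvd (by norm_num) h3
      have h5 : 2 ^ 2 ≤ 2 ^ (Nat.card ↥M).factorization 2 := Nat.pow_le_pow_right (by norm_num) hlt
      omega
    · exact (Nat.prime_two.dvd_iff_one_le_factorization Nat.card_pos.ne').1 h2M
  refine ⟨hM1, ?_⟩
  have hP8 : Nat.card ↥(P₀ : Subgroup G) = 8 := by
    rw [Nat.card_congr e.toEquiv, Nat.card_eq_fintype_card, QuaternionGroup.card]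
  have hG3 : (Nat.card G).factorization 2 = 3 := by
    have h1 := P₀.card_eq_multiplicity
    rw [hP8] at h1
    have h2 : (2 : ℕ) ^ 3 = 2 ^ (Nat.card G).factorization 2 := by rw [← h1]; norm_num
    exact (Nat.pow_right_injective (le_refl 2) h2).symm
  have h6 := M.card_mul_index
  have h7 : (Nat.card ↥M * M.index).factorization 2 = 3 := by rw [h6, hG3]
  rw [Nat.factorization_mul Nat.card_pos.ne' Subgroup.index_ne_zero_of_finite, Finsupp.add_apply, hM1] at h7
  change M.index.factorization 2 = 2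
  omega

/-- Let G be a finite solvable group in which any two abelian subgroups of the same order are conjugate. Then every quotient of G has the same property: any two abelian subgroups of the quotient of the same order are conjugate. -/
theorem result {G : Type*} [Group G] [Finite G] (hB : ∀ A B : Subgroup G, IsMulCommutative ↥A → IsMulCommutative ↥B → Nat.card ↥A = Nat.card ↥B → ∃ g : G, B = A.map (MulAut.conj g).toMonoidHom) (hsol : Group.IsSolvable G) (M : Subgroup G) [M.Normal] :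
    ∀ A B : Subgroup (G ⧸ M), IsMulCommutative ↥A → IsMulCommutative ↥B → Nat.card ↥A = Nat.card ↥B →
      ∃ g : G ⧸ M, B = A.map (MulAut.conj g).toMonoidHom := by
  haveI := hsol
  haveI hf2 : Fact (Nat.Prime 2) := ⟨Nat.prime_two⟩
  have hS9 := (Cfsg.Agent.S3909.result hB M).1
  have hS8 := Cfsg.Agent.S3908.result hB
  by_cases hgood2 : (∀ P : Sylow 2 G, IsCyclic ↥(P : Subgroup G) ∨ ∀ x ∈ (P : Subgroup G), x ^ 2 = 1) ∨
      ¬ 2 ∣ Nat.card ↥M ∨ (∀ x : G, (∃ u, orderOf x = 2 ^ u) → x ∈ M)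
  · have hKey : ∀ (q : ℕ) [Fact q.Prime], q ∣ Nat.card ↥M → ∀ (x : G) (u : ℕ), orderOf x = q ^ u → x ∉ M →
        ∃ z ∈ Subgroup.zpowers x, z ∈ M ∧ orderOf z = q ^ (Nat.card ↥M).factorization q := by
      intro q _ hq x u hx hxM
      by_cases hq2 : q = 2
      · subst hq2
        rcases hgood2 with h | h | h
        · exact (key_cyc' hB M 2 h hq x u hx hxM).2
        · exact absurd hq h
        · exact absurd (h x ⟨u, hx⟩) hxM
      · exact (key_cyc' hB M q (hS8.2 q hq2) hq x u hx hxM).2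
    have hC : ∀ (A : Subgroup (G ⧸ M)) (q : ℕ) [Fact q.Prime] (Q : Subgroup G), IsPGroup q ↥Q → q ∣ Nat.card ↥M →
        Q.map (QuotientGroup.mk' M) ≤ A → (∃ w ∈ Q, w ∉ M) → ∀ x ∈ Q, ∀ y ∈ Q, x * y = y * x := by
      intro A q _ Q hQ hq _ hw
      by_cases hq2 : q = 2
      · subst hq2
        rcases hgood2 with h | h | h
        · exact comm_of_good hB M 2 h hq Q hQ hw
        · exact absurd hq h
        · obtain ⟨w, hwQ, hwM⟩ := hw
          obtain ⟨u, hu⟩ := IsPGroup.iff_orderOf.mp hQ ⟨w, hwQ⟩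
          exact absurd (h w ⟨u, by rw [← hu, Subgroup.orderOf_mk w hwQ]⟩) hwM
      · exact comm_of_good hB M q (hS8.2 q hq2) hq Q hQ hw
    intro A B hA hB' hAB
    exact conj_of_lifts hB M A B hAB (exists_lift' M A hA hKey (hC A)) (exists_lift' M B hB' hKey (hC B))
  · push Not at hgood2
    obtain ⟨⟨P₀, hncyc, x₁, hx₁P, hx₁⟩, h2M, x₀, ⟨u₀, hx₀⟩, hx₀M⟩ := hgood2
    rcases hS8.1 P₀ with h | h | ⟨k, ⟨e⟩⟩
    · exact absurd h hncyc
    · exact absurd (h.2 x₁ hx₁P) hx₁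
    have hk1 : k ≤ 1 := quat_small hB (P₀ : Subgroup G) k e
    have hk0 : k ≠ 0 := by
      rintro rfl
      apply hncyc
      haveI : IsCyclic (QuaternionGroup (2 ^ 0)) := QuaternionGroup.quaternionGroup_one_isCyclic
      exact isCyclic_of_surjective e.symm e.symm.surjective
    obtain rfl : k = 1 := by omega
    obtain ⟨hM1, hΓ2⟩ := caseII hB M P₀ e h2M x₀ u₀ hx₀ hx₀M
    obtain ⟨m, hm⟩ := exists_prime_orderOf_dvd_card' 2 h2M
    have hm' : orderOf (m : G) = 2 := by rw [Subgroup.orderOf_coe]; exact hm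
    have hKey : ∀ (q : ℕ) [Fact q.Prime], q ∣ Nat.card ↥M → ∀ (x : G) (u : ℕ), orderOf x = q ^ u → x ∉ M →
        ∃ z ∈ Subgroup.zpowers x, z ∈ M ∧ orderOf z = q ^ (Nat.card ↥M).factorization q := by
      intro q _ hq x u hx hxM
      by_cases hq2 : q = 2
      · subst hq2
        have hu0 : u ≠ 0 := by
          rintro rfl
          rw [pow_zero, orderOf_eq_one_iff] at hx
          exact hxM (hx ▸ M.one_mem)
        have hz : orderOf (x ^ (2 ^ (u - 1))) = 2 := by
          rw [orderOf_pow_of_dvd (by positivity) (by rw [hx]; exact pow_dvd_pow _ (Nat.sub_le _ _)), hx,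
            Nat.pow_div (Nat.sub_le _ _) (by norm_num)]
          have : u - (u - 1) = 1 := by omega
          rw [this, pow_one]
        exact ⟨_, Subgroup.pow_mem _ (Subgroup.mem_zpowers x) _, hS9 _ ⟨m, m.2, by rw [hm', hz]⟩,
          by rw [hz, hM1, pow_one]⟩
      · exact (key_cyc' hB M q (hS8.2 q hq2) hq x u hx hxM).2
    have hC : ∀ (A : Subgroup (G ⧸ M)), ¬ 4 ∣ Nat.card ↥A → ∀ (q : ℕ) [Fact q.Prime] (Q : Subgroup G),
        IsPGroup q ↥Q → q ∣ Nat.card ↥M →
        Q.map (QuotientGroup.mk' M) ≤ A → (∃ w ∈ Q, w ∉ M) → ∀ x ∈ Q, ∀ y ∈ Q, x * y = y * x := by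
      intro A h4 q _ Q hQ hq hle hw
      by_cases hq2 : q = 2
      · subst hq2
        exact comm_small M hM1 A h4 Q hQ hle
      · exact comm_of_good hB M q (hS8.2 q hq2) hq Q hQ hw
    exact lemmaS hΓ2 (fun A B hA hB' hAB h4 =>
      conj_of_lifts hB M A B hAB (exists_lift' M A hA hKey (hC A h4))
        (exists_lift' M B hB' hKey (hC B (hAB ▸ h4))))

end Cfsg.Agent.S3912
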