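import Cfsg.Statements.S4035
import Cfsg.Agent.Lib.Helper21.Basic

set_option autoImplicit false
open Cfsg
open Pointwise
open Cfsg.Agent.Lib.Helper21

namespace Cfsg.Agent.S4035

/-- Let G be a finite group and p a prime such that p divides the size of no conjugacy class of p-regular elements (elements of order prime to p). Then G is the internal direct product of a Sylow p-subgroup P and a normal subgroup H of order prime to p: P is normal, P ⊓ H = 1 and PH = G. -/
theorem result {G : Type*} [Group G] [Finite G] {p : ℕ} [Fact p.Prime]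
    (h : ∀ x : G, (orderOf x).Coprime p → ¬ p ∣ (ConjClasses.mk x).carrier.ncard) (P : Sylow p G) :
    (P : Subgroup G).Normal ∧ ∃ H : Subgroup G, H.Normal ∧ ¬ p ∣ Nat.card H ∧
      (P : Subgroup G) ⊓ H = ⊥ ∧ (P : Subgroup G) ⊔ H = ⊤ := by
  classical
  have hidx : ∀ x : G, (orderOf x).Coprime p → ¬ p ∣ (Subgroup.centralizer ({x} : Set G)).index := by
    intro x hx
    rw [index_centralizer_eq_ncard_carrier]
    exact h x hx
  set M : Subgroup G := (P : Subgroup G) ⊔ Subgroup.centralizer (P : Set G) with hM
  have hMtop : M = ⊤ := by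
    by_contra hne
    obtain ⟨g, hg⟩ := exists_not_mem_conj M hne
    obtain ⟨x, hxg, y, hyg, hgxy, hx, k, hy⟩ := exists_p_decomp p g (isOfFinOrder_of_finite g)
    have hcomm : y * x = x * y := by
      obtain ⟨i, rfl⟩ := hxg
      obtain ⟨j, rfl⟩ := hyg
      exact (Commute.zpow_zpow_self g j i)
    have hyC : y ∈ Subgroup.centralizer ({x} : Set G) := by
      rw [Subgroup.mem_centralizer_singleton_iff]; exact hcomm
    obtain ⟨Q, hQC, hyQ⟩ := exists_sylow_le_of_not_dvd_index _ (hidx x hx) y hyC k hy
    obtain ⟨t, ht⟩ := MulAction.exists_smul_eq G P Q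
    apply hg t
    rw [mem_conj_smul]
    have hQ' : (Q : Subgroup G) = MulAut.conj t • (P : Subgroup G) := by
      rw [← ht]; rfl
    have h1 : t⁻¹ * y * t ∈ (P : Subgroup G) := by
      rw [← mem_conj_smul, ← hQ']; exact hyQ
    have h2 : t⁻¹ * x * t ∈ Subgroup.centralizer (P : Set G) := by
      rw [Subgroup.mem_centralizer_iff]
      intro z hz
      have hz' : t * z * t⁻¹ ∈ (Q : Subgroup G) := by
        rw [hQ', mem_conj_smul]
        have hz2 : z ∈ (P : Subgroup G) := hz
        simpa [mul_assoc] using hz2
      have h3 := hQC hz'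
      rw [Subgroup.mem_centralizer_singleton_iff] at h3
      have := congrArg (fun w => t⁻¹ * w * t) h3
      simpa [mul_assoc] using this
    have : t⁻¹ * g * t = (t⁻¹ * y * t) * (t⁻¹ * x * t) := by
      rw [hgxy]; group
    rw [this]
    exact M.mul_mem (Subgroup.mem_sup_left h1) (Subgroup.mem_sup_right h2)
  have hPn : (P : Subgroup G).Normal := by
    rw [← Subgroup.normalizer_eq_top_iff, eq_top_iff, ← hMtop, hM]
    refine sup_le Subgroup.le_normalizer ?_
    exact Subgroup.centralizer_le_normalizer _
  refine ⟨hPn, ?_⟩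
  have hcop : (Nat.card (P : Subgroup G)).Coprime (P : Subgroup G).index := P.card_coprime_index
  obtain ⟨H, hH⟩ := Subgroup.exists_right_complement'_of_coprime hcop
  have hHcard : Nat.card H = (P : Subgroup G).index := hH.symm.index_eq_card.symm
  have hpH : ¬ p ∣ Nat.card H := by
    rw [hHcard]; exact P.not_dvd_index
  have hHc : H ≤ Subgroup.centralizer (P : Set G) := by
    intro z hz
    have hz1 : (orderOf z).Coprime p := by
      have h1 : orderOf z ∣ Nat.card H := by
        have := orderOf_dvd_natCard (⟨z, hz⟩ : H)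
        rwa [Subgroup.orderOf_mk] at this
      exact Nat.Coprime.coprime_dvd_left h1
        ((Nat.Prime.coprime_iff_not_dvd (Fact.out : p.Prime)).mpr hpH).symm
    obtain ⟨Q, hQC, -⟩ := exists_sylow_le_of_not_dvd_index _ (hidx z hz1) 1 (Subgroup.one_mem _) 0 (by simp)
    have hQP : Q = P := by
      obtain ⟨t, ht⟩ := MulAction.exists_smul_eq G P Q
      rw [← ht]
      exact Sylow.smul_eq_of_normal
    rw [hQP] at hQC
    rw [Subgroup.mem_centralizer_iff]
    intro w hw
    have := hQC hw
    rw [Subgroup.mem_centralizer_singleton_iff] at this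
    exact this
  refine ⟨H, ?_, hpH, hH.disjoint.eq_bot, hH.sup_eq_top⟩
  rw [← Subgroup.normalizer_eq_top_iff, eq_top_iff, ← hH.sup_eq_top]
  refine sup_le ?_ Subgroup.le_normalizer
  have : (P : Subgroup G) ≤ Subgroup.centralizer (H : Set G) := Subgroup.le_centralizer_iff.mp hHc
  exact this.trans (Subgroup.centralizer_le_normalizer _)

end Cfsg.Agent.S4035
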