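import Cfsg.Statements.S3986
import Cfsg.Agent.S4035

set_option autoImplicit false
open Cfsg
open Cfsg.Agent.Lib.Helper21

namespace Cfsg.Agent.S3986

theorem forward {G : Type*} [Group G] [Finite G] (p : ℕ) [hp : Fact p.Prime] (P : Sylow p G)
    (K : Subgroup G) (hPn : (P : Subgroup G).Normal) (hKn : K.Normal)
    (hPK : (P : Subgroup G) ⊓ K = ⊥) (hsup : (P : Subgroup G) ⊔ K = ⊤) (x y : G)
    (hx : ∃ a : ℕ, orderOf x = p ^ a) (hy : ∃ q b : ℕ, q.Prime ∧ q ≠ p ∧ orderOf y = q ^ b) :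
    x ∈ (P : Subgroup G) ∧ y ∈ K ∧ x * y = y * x := by
  have hdisj : Disjoint (P : Subgroup G) K := disjoint_iff.mpr hPK
  have hcomm : ∀ a ∈ (P : Subgroup G), ∀ b ∈ K, a * b = b * a := fun a ha b hb =>
    Subgroup.commute_of_normal_of_disjoint _ _ hPn hKn hdisj a b ha hb
  have hxP : x ∈ (P : Subgroup G) := by
    obtain ⟨a, ha⟩ := hx
    obtain ⟨Q, -, hxQ⟩ := exists_sylow_le_of_not_dvd_index (⊤ : Subgroup G)
      (by rw [Subgroup.index_top]; exact hp.out.one_lt.ne' ∘ Nat.dvd_one.mp) x (Subgroup.mem_top x)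
      a (by rw [← ha, pow_orderOf_eq_one])
    have hQP : Q = P := by
      obtain ⟨t, ht⟩ := MulAction.exists_smul_eq G P Q
      rw [← ht]
      exact Sylow.smul_eq_of_normal
    rw [← hQP]; exact hxQ
  have hyK : y ∈ K := by
    obtain ⟨q, b, hq, hqp, hb⟩ := hy
    have hy' : y ∈ (P : Subgroup G) ⊔ K := hsup ▸ Subgroup.mem_top y
    rw [Subgroup.mem_sup_of_normal_right] at hy'
    obtain ⟨a, ha, c, hc, rfl⟩ := hy'
    have hac : Commute a c := hcomm a ha c hc
    have h1 : a ^ q ^ b * c ^ q ^ b = 1 := by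
      rw [← hac.mul_pow, ← hb, pow_orderOf_eq_one]
    have h2 : a ^ q ^ b ∈ (P : Subgroup G) ⊓ K := by
      refine ⟨(P : Subgroup G).pow_mem ha _, ?_⟩
      rw [eq_inv_of_mul_eq_one_left h1]
      exact K.inv_mem (K.pow_mem hc _)
    rw [hPK, Subgroup.mem_bot] at h2
    obtain ⟨k, hk⟩ := P.2 ⟨a, ha⟩
    have hk' : a ^ p ^ k = 1 := congrArg Subtype.val hk
    have h3 : orderOf a ∣ Nat.gcd (q ^ b) (p ^ k) :=
      Nat.dvd_gcd (orderOf_dvd_of_pow_eq_one h2) (orderOf_dvd_of_pow_eq_one hk')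
    have hcop : Nat.Coprime (q ^ b) (p ^ k) :=
      Nat.Coprime.pow _ _ ((Nat.coprime_primes hq hp.out).mpr hqp)
    rw [hcop.gcd_eq_one, Nat.dvd_one, orderOf_eq_one_iff] at h3
    rw [h3, one_mul]; exact hc
  exact ⟨hxP, hyK, hcomm x hxP y hyK⟩

theorem backward {G : Type*} [Group G] [Finite G] (p : ℕ) [hp : Fact p.Prime]
    (h : ∀ x y : G, (∃ a : ℕ, orderOf x = p ^ a) → (∃ q b : ℕ, q.Prime ∧ q ≠ p ∧ orderOf y = q ^ b) →
      x * y = y * x) :
    ∃ (P : Sylow p G) (K : Subgroup G), (P : Subgroup G).Normal ∧ K.Normal ∧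
      (P : Subgroup G) ⊓ K = ⊥ ∧ (P : Subgroup G) ⊔ K = ⊤ := by
  obtain ⟨P⟩ : Nonempty (Sylow p G) := inferInstance
  have hreg : ∀ x : G, (orderOf x).Coprime p → ¬ p ∣ (ConjClasses.mk x).carrier.ncard := by
    intro x hx
    rw [← index_centralizer_eq_ncard_carrier]
    have hPC : (P : Subgroup G) ≤ Subgroup.centralizer ({x} : Set G) := by
      intro u hu
      rw [Subgroup.mem_centralizer_singleton_iff]
      by_contra hne
      have hxK : x ∉ Subgroup.centralizer ({u} : Set G) := by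
        rw [Subgroup.mem_centralizer_singleton_iff]
        exact fun h' => hne h'.symm
      obtain ⟨q, b, y, hq, hqx, -, hoy, hyK⟩ := exists_primary_component_not_mem _ x hxK
      apply hyK
      rw [Subgroup.mem_centralizer_singleton_iff]
      have hqp : q ≠ p := by
        rintro rfl
        exact (Nat.Prime.coprime_iff_not_dvd hq).mp hx.symm hqx
      obtain ⟨k, hk⟩ := (IsPGroup.iff_orderOf.mp P.2) ⟨u, hu⟩
      rw [Subgroup.orderOf_mk] at hk
      exact (h u y ⟨k, hk⟩ ⟨q, b, hq, hqp, hoy⟩).symm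
    exact fun hd => P.not_dvd_index (hd.trans (Subgroup.index_dvd_of_le hPC))
  obtain ⟨hPn, H, hHn, -, h1, h2⟩ := Cfsg.Agent.S4035.result hreg P
  exact ⟨P, H, hPn, hHn, h1, h2⟩

/-- Let p be a prime and G a finite group. Then some Sylow p-subgroup of G is a direct factor of G (it is normal and has a normal complement) if and only if every element of p-power order commutes with every element whose order is a power of a prime other than p. -/
theorem result {G : Type*} [Group G] [Finite G] (p : ℕ) [Fact p.Prime] : (∃ (P : Sylow p G) (K : Subgroup G), (P : Subgroup G).Normal ∧ K.Normal ∧ (P : Subgroup G) ⊓ K = ⊥ ∧ (P : Subgroup G) ⊔ K = ⊤) ↔ ∀ x y : G, (∃ a : ℕ, orderOf x = p ^ a) → (∃ q b : ℕ, q.Prime ∧ q ≠ p ∧ orderOf y = q ^ b) → x * y = y * x := by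
  constructor
  · rintro ⟨P, K, h1, h2, h3, h4⟩ x y hx hy
    exact (forward p P K h1 h2 h3 h4 x y hx hy).2.2
  · exact backward p

end Cfsg.Agent.S3986
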