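import Cfsg.Statements.S4080
import Mathlib

set_option autoImplicit false
open Cfsg

namespace Cfsg.Agent.S4080


theorem ringA {E : Type*} [Ring E] {p : ℕ} (hp : p.Prime) (h5 : 3 < p) (N : E) (hN : N ^ 4 = 0)
    (h : (N + 1) ^ p = 1) : p • N = 0 := by
  have hsum := (Commute.one_right N).add_pow p
  obtain ⟨c2, hc2⟩ := hp.dvd_choose_self (k := 2) (by norm_num) (by omega)
  obtain ⟨c3, hc3⟩ := hp.dvd_choose_self (k := 3) (by norm_num) (by omega)
  obtain ⟨q, hq⟩ : ∃ q, p + 1 = 4 + q := ⟨p - 3, by omega⟩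
  rw [hq, Finset.sum_range_add] at hsum
  have hz : ∑ x ∈ Finset.range q, N ^ (4 + x) * 1 ^ (p - (4 + x)) * (p.choose (4 + x) : E) = 0 := by
    apply Finset.sum_eq_zero
    intro x _
    rw [pow_add, hN]
    simp
  rw [hz, h] at hsum
  simp only [Finset.sum_range_succ, Finset.sum_range_zero, one_pow, mul_one, pow_zero, Nat.choose_zero_right,
    Nat.cast_one, zero_add, pow_one, Nat.choose_one_right, add_zero, ← nsmul_eq_mul', hc2, hc3] at hsum
  have e0 : p • N + (p * c2) • N ^ 2 + (p * c3) • N ^ 3 = 0 := by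
    have : (1 : E) = 1 + (p • N + (p * c2) • N ^ 2 + (p * c3) • N ^ 3) := by
      rw [one_smul] at hsum
      rw [← add_assoc, ← add_assoc]
      exact hsum
    exact (left_eq_add.1 this)
  have a1 : N * N ^ 2 = N ^ 3 := by rw [← pow_succ']
  have a2 : N ^ 2 * N ^ 2 = 0 := by rw [← pow_add]; exact hN
  have a3 : N ^ 3 * N ^ 2 = 0 := by
    rw [← pow_add, show 3 + 2 = 4 + 1 from rfl, pow_add, hN, zero_mul]
  have a4 : N * N = N ^ 2 := by rw [sq]
  have a5 : N ^ 2 * N = N ^ 3 := by rw [← pow_succ]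
  have a6 : N ^ 3 * N = 0 := by rw [← pow_succ]; exact hN
  have h3 : p • N ^ 3 = 0 := by
    have := congrArg (· * N ^ 2) e0
    simpa only [add_mul, smul_mul_assoc, a1, a2, a3, smul_zero, add_zero, zero_mul] using this
  have h2 : p • N ^ 2 = 0 := by
    have := congrArg (· * N) e0
    simp only [add_mul, smul_mul_assoc, a4, a5, a6, smul_zero, add_zero, zero_mul] at this
    rwa [mul_comm p c2, mul_smul, h3, smul_zero, add_zero] at this
  rwa [mul_comm p c2, mul_smul, h2, smul_zero, add_zero, mul_comm p c3, mul_smul, h3, smul_zero,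
    add_zero] at e0

theorem ringB {E : Type*} [Ring E] {p : ℕ} (hp : p.Prime) (h2 : p ≠ 2) (hE : ((p : E)) ^ 2 = 0)
    (f : E) (hf : f ^ p = 1) : (f - 1) ^ (p * 2) = 0 := by
  obtain ⟨r, hr⟩ := (Commute.neg_one_right f).exists_add_pow_prime_eq hp
  have hodd : Odd p := hp.odd_of_ne_two h2
  rw [hf, hodd.neg_one_pow, add_neg_cancel, zero_add] at hr
  rw [sub_eq_add_neg, pow_mul, hr, sq]
  have : (p : E) * f * -1 * r = (p : E) * (f * -1 * r) := by simp only [mul_assoc]
  rw [this, (Nat.commute_cast (f * -1 * r) p).mul_mul_mul_comm, ← sq, hE, zero_mul]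

theorem endC {A : Type*} [AddCommGroup A] [Finite A] {p : ℕ} (hp : p.Prime)
    (hA : Nat.card A = p ^ 4) (N : A →+ A) (m : ℕ) (hm : ∀ y, N^[m] y = 0) : ∀ y, N^[4] y = 0 := by
  let R : ℕ → AddSubgroup A := fun k => Nat.rec (motive := fun _ => AddSubgroup A) ⊤ (fun _ r => r.map N) k
  have R0 : R 0 = ⊤ := rfl
  have Rs : ∀ k, R (k + 1) = (R k).map N := fun k => rfl
  have hmem : ∀ k y, N^[k] y ∈ R k := by
    intro k
    induction k with
    | zero => intro y; rw [R0]; exact AddSubgroup.mem_top _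
    | succ k ih =>
      intro y
      rw [Function.iterate_succ_apply', Rs]
      exact AddSubgroup.mem_map_of_mem N (ih y)
  have hex : ∀ k, ∀ z ∈ R k, ∃ y, N^[k] y = z := by
    intro k
    induction k with
    | zero => intro z _; exact ⟨z, rfl⟩
    | succ k ih =>
      intro z hz
      rw [Rs] at hz
      obtain ⟨w, hw, rfl⟩ := hz
      obtain ⟨y, rfl⟩ := ih w hw
      exact ⟨y, Function.iterate_succ_apply' _ _ _⟩
  have anti : ∀ k, R (k + 1) ≤ R k := by
    intro k
    induction k with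
    | zero => rw [R0]; exact le_top
    | succ k ih => rw [Rs (k + 1), Rs k]; exact AddSubgroup.map_mono ih
  have stab : ∀ k, R (k + 1) = R k → ∀ j, R (k + j) = R k := by
    intro k hk j
    induction j with
    | zero => rfl
    | succ j ih => rw [← add_assoc, Rs, ih, ← Rs, hk]
  have hbot : ∀ k, R (k + 1) = R k → R k = ⊥ := by
    intro k hk
    rw [← stab k hk m, eq_bot_iff]
    intro z hz
    obtain ⟨y, rfl⟩ := hex _ z hz
    rw [Function.iterate_add_apply, hm, iterate_map_zero]
    exact AddSubgroup.zero_mem _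
  have key : ∀ k, k ≤ 4 → Nat.card ↥(R k) ∣ p ^ (4 - k) := by
    intro k
    induction k with
    | zero => intro _; rw [← hA]; exact AddSubgroup.card_addSubgroup_dvd_card _
    | succ k ih =>
      intro hk
      rcases Classical.em (R (k + 1) = R k) with h | h
      · rw [h, hbot k h]
        simp
      · obtain ⟨c, hc, hc'⟩ := (Nat.dvd_prime_pow hp).1 (ih (by omega))
        have hd : Nat.card ↥(R (k + 1)) ∣ Nat.card ↥(R k) := AddSubgroup.card_dvd_of_le (anti k)
        rw [hc'] at hd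
        obtain ⟨b, hb, hb'⟩ := (Nat.dvd_prime_pow hp).1 hd
        have hne : b ≠ c := by
          rintro rfl
          exact h (AddSubgroup.eq_of_le_of_card_ge (H := R (k + 1)) (K := R k) (anti k)
            (by rw [hb', hc']))
        rw [hb']
        exact pow_dvd_pow p (by omega)
  intro y
  have h4 : Nat.card ↥(R 4) = 1 := Nat.dvd_one.1 (key 4 le_rfl)
  have h5 : R 4 = ⊥ := AddSubgroup.card_eq_one.1 h4
  have := hmem 4 y
  rw [h5] at this
  exact this

theorem gen {A : Type*} [AddCommGroup A] [Finite A] {p : ℕ} (hpp : p.Prime) (hp : 3 < p)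
    (hcard : Nat.card A = p ^ 4) (hsm : ∀ y : A, (p ^ 2) • y = 0)
    (hdiv : ∀ y : A, p • y = 0 → ∃ s : A, y = p • s)
    (a : MulAut (Multiplicative A)) (ha : a ^ p = 1) (x : Multiplicative A) (hx : x ^ p = 1) :
    a x = x := by
  let f : AddMonoid.End A := AddMonoidHom.toMultiplicative.symm a.toMonoidHom
  have hf1 : ∀ y, f y = Multiplicative.toAdd (a (Multiplicative.ofAdd y)) := fun y => rfl
  have hf : ∀ (k : ℕ) (y : A),
      (f ^ k) y = Multiplicative.toAdd ((a ^ k) (Multiplicative.ofAdd y)) := by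
    intro k
    induction k with
    | zero => intro y; rfl
    | succ k ih =>
      intro y
      rw [pow_succ', pow_succ']
      show f ((f ^ k) y) = _
      rw [ih, hf1]
      rfl
  have hfp : f ^ p = 1 := by
    ext y : 1
    rw [hf, ha]
    rfl
  have hE : ((p : AddMonoid.End A)) ^ 2 = 0 := by
    ext y : 1
    rw [← Nat.cast_pow, AddMonoid.End.natCast_apply, hsm]
    rfl
  have hnil := ringB hpp (by omega) hE f hfp
  set N : AddMonoid.End A := f - 1 with hN
  have h4 : N ^ 4 = 0 := by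
    ext y : 1
    rw [AddMonoid.End.coe_pow]
    refine endC hpp hcard N (p * 2) ?_ y
    intro z
    have hz : (N ^ (p * 2)) z = 0 := by rw [hnil]; rfl
    rw [AddMonoid.End.coe_pow] at hz
    exact hz
  have hpN := ringA hpp hp N h4 (by rw [hN, sub_add_cancel]; exact hfp)
  have hxp : p • Multiplicative.toAdd x = 0 := congrArg Multiplicative.toAdd hx
  obtain ⟨s, hs⟩ := hdiv _ hxp
  have h6 : N (Multiplicative.toAdd x) = 0 := by
    rw [hs, map_nsmul]
    have := congrArg (fun g : AddMonoid.End A => g s) hpN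
    exact this
  have h7 : f (Multiplicative.toAdd x) = Multiplicative.toAdd x := by
    have : N (Multiplicative.toAdd x) = f (Multiplicative.toAdd x) - Multiplicative.toAdd x := rfl
    rw [this] at h6
    exact sub_eq_zero.1 h6
  exact h7


/-- Let p > 3 be a prime and L the direct product of two cyclic groups of order p². Every automorphism of L of order p fixes every element of order p of L. -/
theorem result {p : ℕ} [Fact p.Prime] (hp : 3 < p)
    (a : MulAut (Multiplicative (ZMod (p ^ 2) × ZMod (p ^ 2)))) (ha : orderOf a = p)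
    (x : Multiplicative (ZMod (p ^ 2) × ZMod (p ^ 2))) (hx : orderOf x = p) : a x = x := by
  have hpp : p.Prime := Fact.out
  haveI : NeZero (p ^ 2) := ⟨pow_ne_zero 2 hpp.ne_zero⟩
  have hz : ((p : ZMod (p ^ 2))) ^ 2 = 0 := by exact_mod_cast ZMod.natCast_self (p ^ 2)
  have hdiv : ∀ t : ZMod (p ^ 2), p • t = 0 → ∃ s : ZMod (p ^ 2), t = p • s := by
    intro t ht
    have h1 : ((p * t.val : ℕ) : ZMod (p ^ 2)) = 0 := by
      rw [Nat.cast_mul, ZMod.natCast_zmod_val, ← nsmul_eq_mul]; exact ht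
    have h2 : p * p ∣ p * t.val :=
      (dvd_of_eq (sq p).symm).trans ((ZMod.natCast_eq_zero_iff _ _).1 h1)
    obtain ⟨s, hs⟩ := Nat.dvd_of_mul_dvd_mul_left hpp.pos h2
    refine ⟨(s : ZMod (p ^ 2)), ?_⟩
    rw [nsmul_eq_mul, ← Nat.cast_mul, ← hs, ZMod.natCast_zmod_val]
  apply gen hpp hp
  · rw [Nat.card_prod, Nat.card_zmod]; ring
  · intro y
    ext
    · simp [nsmul_eq_mul, hz]
    · simp [nsmul_eq_mul, hz]
  · intro y hy
    obtain ⟨s1, hs1⟩ := hdiv y.1 (congrArg Prod.fst hy)
    obtain ⟨s2, hs2⟩ := hdiv y.2 (congrArg Prod.snd hy)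
    exact ⟨(s1, s2), Prod.ext hs1 hs2⟩
  · have := pow_orderOf_eq_one a
    rwa [ha] at this
  · have := pow_orderOf_eq_one x
    rwa [hx] at this

end Cfsg.Agent.S4080
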