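import Cfsg.Statements.S4082
import Cfsg.Agent.Lib.Helper4.Dih2
import Cfsg.Agent.Lib.Helper18.Dihedral
import Cfsg.Agent.S4022

set_option autoImplicit false
open Cfsg

namespace Cfsg.Agent.S4082

open Cfsg.Agent.S4022 (cj mem_cj card_cj)

/-- the property in the statement -/
def Hyp (p : ℕ) (G : Type*) [Group G] : Prop :=
  ∀ H : Subgroup G, (∀ S : Sylow p ↥H, (S : Subgroup ↥H).Normal) →
        (∀ (S : Sylow p ↥H) [(S : Subgroup ↥H).Normal], IsCyclic (↥H ⧸ (S : Subgroup ↥H))) →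
        IsCyclic H ∨ (∃ n : ℕ, Nonempty (H ≃* DihedralGroup (p ^ n)))

theorem cyc_comm {C : Type*} [Group C] (h : IsCyclic C) (a b : C) : a * b = b * a := by
  obtain ⟨g, hg⟩ := h.exists_generator
  obtain ⟨i, rfl⟩ := Subgroup.mem_zpowers_iff.mp (hg a)
  obtain ⟨j, rfl⟩ := Subgroup.mem_zpowers_iff.mp (hg b)
  rw [← zpow_add, ← zpow_add, add_comm]

theorem cyc_quot_sup {G : Type*} [Group G] (K H : Subgroup G) (x : G) (hKH : K ≤ H) (hxH : x ∈ H)
    (hH : H ≤ K ⊔ Subgroup.zpowers x) (S : Subgroup ↥H) [S.Normal]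
    (hKS : K.subgroupOf H ≤ S) :
    ∀ y : ↥H ⧸ S, y ∈ Subgroup.zpowers (QuotientGroup.mk' S ⟨x, hxH⟩) := by
  set x' : ↥H := ⟨x, hxH⟩ with hx'
  set A : Subgroup ↥H := (Subgroup.zpowers (QuotientGroup.mk' S x')).comap (QuotientGroup.mk' S) with hAdef
  have h1 : H ≤ A.map H.subtype := by
    apply hH.trans
    apply sup_le
    · intro k hk
      refine ⟨⟨k, hKH hk⟩, ?_, rfl⟩
      show QuotientGroup.mk' S ⟨k, hKH hk⟩ ∈ Subgroup.zpowers (QuotientGroup.mk' S x')
      have : QuotientGroup.mk' S ⟨k, hKH hk⟩ = 1 := by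
        rw [QuotientGroup.mk'_apply, QuotientGroup.eq_one_iff]
        exact hKS (Subgroup.mem_subgroupOf.mpr hk)
      rw [this]
      exact Subgroup.one_mem _
    · rw [Subgroup.zpowers_le]
      exact ⟨x', Subgroup.mem_zpowers _, rfl⟩
  intro y
  obtain ⟨h, rfl⟩ := QuotientGroup.mk_surjective y
  obtain ⟨a, ha, hah⟩ := h1 h.2
  have : a = h := Subtype.ext hah
  rw [← this]
  exact ha

theorem lemL {G : Type*} [Group G] [Finite G] {p : ℕ} [hpf : Fact p.Prime] (hp : p ≠ 2) (hyp : Hyp p G)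
    (A : Subgroup G) (hA : IsPGroup p A) (x : G) (hxN : ∀ a ∈ A, x * a * x⁻¹ ∈ A)
    (hxC : x ∉ Subgroup.centralizer (A : Set G)) (hxo : (orderOf x).Coprime p) :
    x * x = 1 ∧ ∀ a ∈ A, x * a * x⁻¹ = a⁻¹ := by
  set H : Subgroup G := A ⊔ Subgroup.zpowers x with hH
  have hAH : A ≤ H := le_sup_left
  have hxH : x ∈ H := (le_sup_right : Subgroup.zpowers x ≤ H) (Subgroup.mem_zpowers x)
  set A' : Subgroup ↥H := A.subgroupOf H with hA'
  have hA'n : A'.Normal := by
    have h1 : H ≤ Subgroup.normalizer (A : Set G) := sup_le Subgroup.le_normalizer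
      (Subgroup.zpowers_le.mpr (Cfsg.Agent.Lib.Helper1.mem_normalizer_of_conj_mem hxN))
    exact (Subgroup.normal_subgroupOf_iff_le_normalizer hAH).mpr h1
  set x' : ↥H := ⟨x, hxH⟩ with hx'
  have hgen := cyc_quot_sup A H x hAH hxH le_rfl A' le_rfl
  have hcardq : Nat.card (↥H ⧸ A') = orderOf (QuotientGroup.mk' A' x') :=
    (orderOf_eq_card_of_forall_mem_zpowers hgen).symm
  have hcop : (Nat.card (↥H ⧸ A')).Coprime p := by
    rw [hcardq]
    have h1 : orderOf (QuotientGroup.mk' A' x') ∣ orderOf x := by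
      have := orderOf_map_dvd (QuotientGroup.mk' A') x'
      rwa [Subgroup.orderOf_mk] at this
    exact Nat.Coprime.coprime_dvd_left h1 hxo
  have hSA : ∀ S : Sylow p ↥H, (S : Subgroup ↥H) = A' := by
    intro S
    have hle : (S : Subgroup ↥H) ≤ A' := by
      intro s hs
      obtain ⟨j, hj⟩ := S.2 ⟨s, hs⟩
      have hj' : s ^ p ^ j = 1 := by simpa using congrArg Subtype.val hj
      have h1 : orderOf (QuotientGroup.mk' A' s) ∣ p ^ j :=
        orderOf_dvd_of_pow_eq_one (by rw [← map_pow, hj', map_one])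
      have h2 : orderOf (QuotientGroup.mk' A' s) ∣ Nat.card (↥H ⧸ A') := orderOf_dvd_natCard _
      have h3 := Nat.eq_one_of_dvd_coprimes (Nat.Coprime.pow_right j hcop) h2 h1
      rw [orderOf_eq_one_iff, QuotientGroup.mk'_apply, QuotientGroup.eq_one_iff] at h3
      exact h3
    exact (S.is_maximal' hA.comap_subtype hle).symm
  have hN : ∀ S : Sylow p ↥H, (S : Subgroup ↥H).Normal := fun S => by rw [hSA S]; exact hA'n
  have hB : ∀ (S : Sylow p ↥H) [(S : Subgroup ↥H).Normal], IsCyclic (↥H ⧸ (S : Subgroup ↥H)) := by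
    intro S _
    exact ⟨_, cyc_quot_sup A H x hAH hxH le_rfl (S : Subgroup ↥H) (hSA S).ge⟩
  rcases hyp H hN hB with hc | ⟨n, ⟨e⟩⟩
  · exfalso
    apply hxC
    rw [Subgroup.mem_centralizer_iff]
    intro a ha
    exact congrArg Subtype.val (cyc_comm hc ⟨a, hAH ha⟩ x')
  · have hr : ∀ a : ↥H, (a : G) ∈ A → ∃ i, e a = DihedralGroup.r i := by
      intro a ha
      rcases hea : e a with i | i
      · exact ⟨i, rfl⟩
      · exfalso
        have h1 : a * a = 1 := by
          apply e.injective; rw [map_mul, hea, DihedralGroup.sr_mul_self, map_one]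
        obtain ⟨j, hj⟩ := hA ⟨a, ha⟩
        have hj' : a ^ p ^ j = 1 := Subtype.ext (by simpa using congrArg Subtype.val hj)
        have h2 : orderOf a ∣ 2 := orderOf_dvd_of_pow_eq_one (by rw [pow_two]; exact h1)
        have h3 : orderOf a ∣ p ^ j := orderOf_dvd_of_pow_eq_one hj'
        have hcop2 : Nat.Coprime 2 (p ^ j) :=
          Nat.Coprime.pow_right j ((Nat.coprime_primes Nat.prime_two hpf.out).mpr (Ne.symm hp))
        have h4 := Nat.eq_one_of_dvd_coprimes hcop2 h2 h3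
        rw [orderOf_eq_one_iff] at h4
        rw [h4, map_one, DihedralGroup.one_def] at hea
        cases hea
    obtain ⟨j, hj⟩ : ∃ j, e x' = DihedralGroup.sr j := by
      rcases hex : e x' with i | i
      · exfalso
        apply hxC
        rw [Subgroup.mem_centralizer_iff]
        intro a ha
        obtain ⟨k, hk⟩ := hr ⟨a, hAH ha⟩ ha
        have : (⟨a, hAH ha⟩ : ↥H) * x' = x' * ⟨a, hAH ha⟩ := by
          apply e.injective
          rw [map_mul, map_mul, hk, hex, DihedralGroup.r_mul_r, DihedralGroup.r_mul_r, add_comm]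
        exact congrArg Subtype.val this
      · exact ⟨i, rfl⟩
    constructor
    · have : x' * x' = 1 := by
        apply e.injective; rw [map_mul, hj, DihedralGroup.sr_mul_self, map_one]
      exact congrArg Subtype.val this
    · intro a ha
      obtain ⟨k, hk⟩ := hr ⟨a, hAH ha⟩ ha
      have : x' * ⟨a, hAH ha⟩ * x'⁻¹ = (⟨a, hAH ha⟩ : ↥H)⁻¹ := by
        apply e.injective
        rw [map_mul, map_mul, map_inv, map_inv, hk, hj]
        simp
      exact congrArg Subtype.val this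

theorem claimX {G : Type*} [Group G] [Finite G] {p : ℕ} [hpf : Fact p.Prime] (hp : p ≠ 2) (hyp : Hyp p G)
    (A : Subgroup G) (hA : IsPGroup p A)
    (hstar : ∀ u : G, (∀ a ∈ A, u * a * u⁻¹ ∈ A) → (∃ j : ℕ, u ^ p ^ j = 1) →
      u ∈ Subgroup.centralizer (A : Set G))
    (x : G) (hxN : ∀ a ∈ A, x * a * x⁻¹ ∈ A) (hxC : x ∉ Subgroup.centralizer (A : Set G)) :
    x * x = 1 ∧ ∀ a ∈ A, x * a * x⁻¹ = a⁻¹ := by
  obtain ⟨k, m, hm, hkm⟩ := Nat.exists_eq_pow_mul_and_not_dvd (orderOf_pos x).ne' p hpf.out.ne_one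
  have hpowN : ∀ n : ℕ, ∀ a ∈ A, x ^ n * a * (x ^ n)⁻¹ ∈ A := by
    intro n
    induction n with
    | zero => intro a ha; simpa using ha
    | succ n ih =>
      intro a ha
      have : x ^ (n + 1) * a * (x ^ (n + 1))⁻¹ = x ^ n * (x * a * x⁻¹) * (x ^ n)⁻¹ := by
        rw [pow_succ]; group
      rw [this]; exact ih _ (hxN a ha)
  set t := x ^ p ^ k with ht
  have hcopm : Nat.Coprime (p ^ k) m :=
    Nat.Coprime.pow_left k ((Nat.Prime.coprime_iff_not_dvd hpf.out).mpr hm)
  have htC : t ∉ Subgroup.centralizer (A : Set G) := by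
    intro hcon
    apply hxC
    have h1 : x ^ m ∈ Subgroup.centralizer (A : Set G) :=
      hstar _ (hpowN m) ⟨k, by rw [← pow_mul, mul_comm, ← hkm]; exact pow_orderOf_eq_one x⟩
    have h2 := Nat.gcd_eq_gcd_ab (p ^ k) m
    rw [hcopm] at h2
    have h3 : x = (x ^ p ^ k) ^ (Nat.gcdA (p ^ k) m) * (x ^ m) ^ (Nat.gcdB (p ^ k) m) := by
      rw [← zpow_natCast x (p ^ k), ← zpow_natCast x m, ← zpow_mul, ← zpow_mul, ← zpow_add, ← h2]
      simp
    rw [h3]
    exact Subgroup.mul_mem _ (Subgroup.zpow_mem _ hcon _) (Subgroup.zpow_mem _ h1 _)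
  have hto : (orderOf t).Coprime p := by
    have h1 : orderOf t ∣ m :=
      orderOf_dvd_of_pow_eq_one (by rw [ht, ← pow_mul, ← hkm]; exact pow_orderOf_eq_one x)
    exact Nat.Coprime.coprime_dvd_left h1 ((Nat.Prime.coprime_iff_not_dvd hpf.out).mpr hm).symm
  obtain ⟨ht2, htinv⟩ := lemL hp hyp A hA t (hpowN _) htC hto
  set u := x ^ 2 with hu
  have hupk : u ^ p ^ k = 1 := by
    rw [hu, ← pow_mul, mul_comm, pow_mul, ← ht, pow_two]; exact ht2
  have huC : u ∈ Subgroup.centralizer (A : Set G) := hstar u (hpowN 2) ⟨k, hupk⟩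
  have htu : t * u * t⁻¹ = u := by
    have : t * u = u * t := by rw [ht, hu, ← pow_add, ← pow_add, add_comm]
    rw [this]; group
  set A₂ : Subgroup G := A ⊔ Subgroup.zpowers u with hA₂
  have hZp : IsPGroup p (Subgroup.zpowers u) := by
    rintro ⟨w, hw⟩
    obtain ⟨i, rfl⟩ := Subgroup.mem_zpowers_iff.mp hw
    refine ⟨k, Subtype.ext ?_⟩
    show (u ^ i) ^ p ^ k = 1
    rw [← zpow_natCast, ← zpow_mul, mul_comm, zpow_mul, zpow_natCast, hupk, one_zpow]
  have hA₂p : IsPGroup p A₂ := IsPGroup.to_sup_of_normal_left' hA hZp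
    (Subgroup.zpowers_le.mpr (Subgroup.centralizer_le_normalizer _ huC))
  have htN₂ : ∀ a ∈ A₂, t * a * t⁻¹ ∈ A₂ := by
    have h1 : A₂ ≤ A₂.comap (MulAut.conj t).toMonoidHom := by
      apply sup_le
      · intro a ha
        show t * a * t⁻¹ ∈ A₂
        exact (le_sup_left : A ≤ A₂) (hpowN _ a ha)
      · rw [Subgroup.zpowers_le]
        show t * u * t⁻¹ ∈ A₂
        rw [htu]
        exact (le_sup_right : Subgroup.zpowers u ≤ A₂) (Subgroup.mem_zpowers u)
    intro a ha
    exact h1 ha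
  have htC₂ : t ∉ Subgroup.centralizer (A₂ : Set G) :=
    fun h => htC (Subgroup.centralizer_le (le_sup_left : A ≤ A₂) h)
  obtain ⟨_, htinv₂⟩ := lemL hp hyp A₂ hA₂p t htN₂ htC₂ hto
  have h5 := htinv₂ u ((le_sup_right : Subgroup.zpowers u ≤ A₂) (Subgroup.mem_zpowers u))
  rw [htu] at h5
  have hu2 : u ^ 2 = 1 := by
    rw [pow_two]
    calc u * u = u⁻¹ * u := by rw [← h5]
      _ = 1 := inv_mul_cancel u
  have hu1 : u = 1 := by
    have h6 : orderOf u ∣ 2 := orderOf_dvd_of_pow_eq_one hu2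
    have h7 : orderOf u ∣ p ^ k := orderOf_dvd_of_pow_eq_one hupk
    have hcop2 : Nat.Coprime 2 (p ^ k) :=
      Nat.Coprime.pow_right k ((Nat.coprime_primes Nat.prime_two hpf.out).mpr (Ne.symm hp))
    exact orderOf_eq_one_iff.mp (Nat.eq_one_of_dvd_coprimes hcop2 h6 h7)
  have hxx : x * x = 1 := by rw [← pow_two]; exact hu1
  have htx : t = x := by
    have hodd : Odd (p ^ k) := (hpf.out.odd_of_ne_two hp).pow
    obtain ⟨r, hr⟩ := hodd
    rw [ht, hr, pow_succ, pow_mul, ← hu, hu1, one_pow, one_mul]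
  rw [htx] at htinv
  exact ⟨hxx, htinv⟩

theorem zpowers_pgroup {G : Type*} [Group G] {p : ℕ} (u : G) (k : ℕ) (hupk : u ^ p ^ k = 1) :
    IsPGroup p (Subgroup.zpowers u) := by
  rintro ⟨w, hw⟩
  obtain ⟨i, rfl⟩ := Subgroup.mem_zpowers_iff.mp hw
  refine ⟨k, Subtype.ext ?_⟩
  show (u ^ i) ^ p ^ k = 1
  rw [← zpow_natCast, ← zpow_mul, mul_comm, zpow_mul, zpow_natCast, hupk, one_zpow]

theorem forward {G : Type*} [Group G] [Finite G] {p : ℕ} [hpf : Fact p.Prime] (hp : p ≠ 2) (P : Sylow p G)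
    (hyp : Hyp p G) :
    (IsCyclic P ∧
      (Subgroup.normalizer ((P : Subgroup G) : Set G) = Subgroup.centralizer ((P : Subgroup G) : Set G) ∨
       ((Subgroup.centralizer ((P : Subgroup G) : Set G)).relIndex (Subgroup.normalizer ((P : Subgroup G) : Set G)) = 2 ∧
        ∀ Q : Subgroup G, Q ≤ P → Nat.card Q = p →
          IsMulCommutative ↥(Subgroup.centralizer (Q : Set G)) ∧
          ∀ x : G, x ∈ Subgroup.normalizer (Q : Set G) → x ∉ Subgroup.centralizer (Q : Set G) →
            orderOf x = 2 ∧ ∀ c : G, c ∈ Subgroup.centralizer (Q : Set G) → x * c * x⁻¹ = c⁻¹))) := by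
  have hPc : IsCyclic (P : Subgroup G) := by
    have h1 : ∀ S : Sylow p ↥(P : Subgroup G), (S : Subgroup ↥(P : Subgroup G)) = ⊤ :=
      fun S => (S.is_maximal' (Q := ⊤) (P.2.to_subgroup ⊤) le_top).symm
    have hA : ∀ S : Sylow p ↥(P : Subgroup G), (S : Subgroup ↥(P : Subgroup G)).Normal :=
      fun S => by rw [h1 S]; infer_instance
    have hB : ∀ (S : Sylow p ↥(P : Subgroup G)) [(S : Subgroup ↥(P : Subgroup G)).Normal],
        IsCyclic (↥(P : Subgroup G) ⧸ (S : Subgroup ↥(P : Subgroup G))) := by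
      intro S _
      have : Subsingleton (↥(P : Subgroup G) ⧸ (S : Subgroup ↥(P : Subgroup G))) := by
        constructor
        intro a b
        obtain ⟨a, rfl⟩ := QuotientGroup.mk_surjective a
        obtain ⟨b, rfl⟩ := QuotientGroup.mk_surjective b
        rw [QuotientGroup.eq, h1 S]
        exact Subgroup.mem_top _
      exact isCyclic_of_subsingleton
    rcases hyp P hA hB with h | ⟨n, ⟨e⟩⟩
    · exact h
    · exfalso
      obtain ⟨k, hk⟩ := P.2.exists_card_eq
      have h2 : Nat.card (P : Subgroup G) = 2 * p ^ n := by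
        rw [Nat.card_congr e.toEquiv, DihedralGroup.nat_card]
      rw [hk] at h2
      have h3 : 2 ∣ p ^ k := ⟨_, h2⟩
      have h4 := Nat.Prime.dvd_of_dvd_pow Nat.prime_two h3
      exact hp ((Nat.prime_dvd_prime_iff_eq Nat.prime_two hpf.out).mp h4).symm
  refine ⟨hPc, ?_⟩
  by_cases hNC : Subgroup.normalizer ((P : Subgroup G) : Set G) = Subgroup.centralizer ((P : Subgroup G) : Set G)
  · exact Or.inl hNC
  right
  have hCN : Subgroup.centralizer ((P : Subgroup G) : Set G) ≤ Subgroup.normalizer ((P : Subgroup G) : Set G) :=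
    Subgroup.centralizer_le_normalizer _
  obtain ⟨x₀, hx₀N, hx₀C⟩ := SetLike.not_le_iff_exists.mp (fun h => hNC (le_antisymm h hCN))
  have hstarP : ∀ u : G, (∀ a ∈ (P : Subgroup G), u * a * u⁻¹ ∈ (P : Subgroup G)) → (∃ j : ℕ, u ^ p ^ j = 1) →
      u ∈ Subgroup.centralizer ((P : Subgroup G) : Set G) := by
    rintro u huN ⟨j, hj⟩
    have hZp := zpowers_pgroup u j hj
    have huN' : u ∈ Subgroup.normalizer ((P : Subgroup G) : Set G) :=
      Cfsg.Agent.Lib.Helper1.mem_normalizer_of_conj_mem huN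
    have h1 := hZp.inf_normalizer_sylow P
    have huP : u ∈ (P : Subgroup G) := by
      have h2 : u ∈ Subgroup.zpowers u ⊓ Subgroup.normalizer (P : Set G) :=
        ⟨Subgroup.mem_zpowers u, huN'⟩
      rw [h1] at h2; exact h2.2
    rw [Subgroup.mem_centralizer_iff]
    intro a ha
    exact congrArg Subtype.val (cyc_comm hPc ⟨a, ha⟩ ⟨u, huP⟩)
  have hXP := claimX hp hyp P P.2 hstarP
  have hnorm : ∀ x ∈ Subgroup.normalizer ((P : Subgroup G) : Set G),
      ∀ a ∈ (P : Subgroup G), x * a * x⁻¹ ∈ (P : Subgroup G) :=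
    fun x hx a ha => (Subgroup.mem_normalizer_iff.mp hx a).mp ha
  have hx₀inv := (hXP x₀ (hnorm x₀ hx₀N) hx₀C).2
  refine ⟨?_, ?_⟩
  · rw [Subgroup.relIndex, Subgroup.index_eq_two_iff]
    refine ⟨⟨x₀, hx₀N⟩, fun b => ?_⟩
    by_cases hb : (b : G) ∈ Subgroup.centralizer ((P : Subgroup G) : Set G)
    · right
      refine ⟨Subgroup.mem_subgroupOf.mpr hb, fun hcon => hx₀C ?_⟩
      have hcon' : (b : G) * x₀ ∈ Subgroup.centralizer ((P : Subgroup G) : Set G) :=
        Subgroup.mem_subgroupOf.mp hcon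
      have := Subgroup.mul_mem _ (Subgroup.inv_mem _ hb) hcon'
      simpa using this
    · left
      refine ⟨Subgroup.mem_subgroupOf.mpr ?_, fun hcon => hb (Subgroup.mem_subgroupOf.mp hcon)⟩
      show (b : G) * x₀ ∈ Subgroup.centralizer ((P : Subgroup G) : Set G)
      rw [Subgroup.mem_centralizer_iff]
      intro a ha
      have h1 := hx₀inv a ha
      have h2 := (hXP b (hnorm b b.2) hb).2 a⁻¹ (Subgroup.inv_mem _ ha)
      have h3 : ((b : G) * x₀) * a * ((b : G) * x₀)⁻¹ = a := by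
        calc ((b : G) * x₀) * a * ((b : G) * x₀)⁻¹ = b * (x₀ * a * x₀⁻¹) * (b : G)⁻¹ := by group
          _ = a := by rw [h1, h2, inv_inv]
      calc a * ((b : G) * x₀) = (((b : G) * x₀) * a * ((b : G) * x₀)⁻¹) * ((b : G) * x₀) := by rw [h3]
        _ = ((b : G) * x₀) * a := by group
  · intro Q hQP hQp
    have hQ2 : IsPGroup p Q := P.2.to_le hQP
    have hQc : IsCyclic Q := isCyclic_of_prime_card hQp
    have hstarQ : ∀ u : G, (∀ a ∈ Q, u * a * u⁻¹ ∈ Q) → (∃ j : ℕ, u ^ p ^ j = 1) →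
        u ∈ Subgroup.centralizer (Q : Set G) := by
      rintro u huN ⟨j, hj⟩
      apply Cfsg.Agent.Lib.Helper4.mem_centralizer_of_coprime_card_mulAut
        (Cfsg.Agent.Lib.Helper1.mem_normalizer_of_conj_mem huN)
      rw [IsCyclic.card_mulAut, hQp, Nat.totient_prime hpf.out]
      have h1 : orderOf u ∣ p ^ j := orderOf_dvd_of_pow_eq_one hj
      apply Nat.Coprime.coprime_dvd_left h1
      apply Nat.Coprime.pow_left
      rw [Nat.Prime.coprime_iff_not_dvd hpf.out]
      intro h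
      have h2 := hpf.out.two_le
      have := Nat.le_of_dvd (by omega) h
      omega
    have hXQ := claimX hp hyp Q hQ2 hstarQ
    have hx₀NQ : ∀ a ∈ Q, x₀ * a * x₀⁻¹ ∈ Q := fun a ha => by
      rw [hx₀inv a (hQP ha)]; exact Q.inv_mem ha
    have hx₀CQ : x₀ ∉ Subgroup.centralizer (Q : Set G) := by
      intro hcon
      haveI : Nontrivial Q := Finite.one_lt_card_iff_nontrivial.mp (by rw [hQp]; exact hpf.out.one_lt)
      obtain ⟨q, hq1⟩ := exists_ne (1 : Q)
      apply hq1
      have h1 := hx₀inv q.1 (hQP q.2)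
      have h2 : (q : G) * x₀ = x₀ * q := Subgroup.mem_centralizer_iff.mp hcon q.1 q.2
      rw [← h2, mul_assoc, mul_inv_cancel, mul_one] at h1
      have h3 : (q : G) ^ 2 = 1 := by
        rw [pow_two]
        calc (q : G) * q = (q : G)⁻¹ * q := by rw [← h1]
          _ = 1 := inv_mul_cancel _
      have h4 : (q : G) ^ p = 1 := by
        have := pow_card_eq_one' (x := q)
        rw [hQp] at this
        simpa using congrArg Subtype.val this
      have h6 : orderOf (q : G) ∣ 2 := orderOf_dvd_of_pow_eq_one h3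
      have h7 : orderOf (q : G) ∣ p := orderOf_dvd_of_pow_eq_one h4
      have hcop2 : Nat.Coprime 2 p := (Nat.coprime_primes Nat.prime_two hpf.out).mpr (Ne.symm hp)
      exact Subtype.ext (orderOf_eq_one_iff.mp (Nat.eq_one_of_dvd_coprimes hcop2 h6 h7))
    have hinvC : ∀ x : G, x ∈ Subgroup.normalizer (Q : Set G) → x ∉ Subgroup.centralizer (Q : Set G) →
        orderOf x = 2 ∧ ∀ c : G, c ∈ Subgroup.centralizer (Q : Set G) → x * c * x⁻¹ = c⁻¹ := by
      intro x hxN hxC
      have hxN' : ∀ a ∈ Q, x * a * x⁻¹ ∈ Q := fun a ha => (Subgroup.mem_normalizer_iff.mp hxN a).mp ha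
      obtain ⟨hxx, _⟩ := hXQ x hxN' hxC
      have hx1 : x ≠ 1 := fun h => hxC (h ▸ Subgroup.one_mem _)
      refine ⟨orderOf_eq_prime (by rw [pow_two]; exact hxx) hx1, ?_⟩
      intro c hc
      have hxcN : x * c ∈ Subgroup.normalizer (Q : Set G) :=
        Subgroup.mul_mem _ hxN (Subgroup.centralizer_le_normalizer _ hc)
      have hxcC : x * c ∉ Subgroup.centralizer (Q : Set G) := fun h =>
        hxC (by simpa using Subgroup.mul_mem _ h (Subgroup.inv_mem _ hc))
      obtain ⟨h1, _⟩ := hXQ (x * c) (fun a ha => (Subgroup.mem_normalizer_iff.mp hxcN a).mp ha) hxcC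
      have hxi : x⁻¹ = x := inv_eq_of_mul_eq_one_left hxx
      rw [hxi]
      exact eq_inv_of_mul_eq_one_left (by simpa [mul_assoc] using h1)
    refine ⟨?_, hinvC⟩
    have hx₀NQ' : x₀ ∈ Subgroup.normalizer (Q : Set G) :=
      Cfsg.Agent.Lib.Helper1.mem_normalizer_of_conj_mem hx₀NQ
    have hi := (hinvC x₀ hx₀NQ' hx₀CQ).2
    refine ⟨⟨fun a b => ?_⟩⟩
    apply Subtype.ext
    show (a : G) * b = b * a
    have h1 := hi a a.2
    have h2 := hi b b.2
    have h3 := hi (a * b) (Subgroup.mul_mem _ a.2 b.2)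
    have h4 : x₀ * ((a : G) * b) * x₀⁻¹ = (x₀ * a * x₀⁻¹) * (x₀ * b * x₀⁻¹) := by group
    rw [h3, h1, h2] at h4
    have h5 : ((a : G) * b)⁻¹ = ((b : G) * a)⁻¹ := by rw [h4, mul_inv_rev]
    exact inv_injective h5

theorem lemM {G : Type*} [Group G] [Finite G] {p : ℕ} [hpf : Fact p.Prime] (P : Sylow p G)
    (hPc : IsCyclic (P : Subgroup G))
    (hR : Subgroup.normalizer ((P : Subgroup G) : Set G) = Subgroup.centralizer ((P : Subgroup G) : Set G) ∨
       (∀ Q : Subgroup G, Q ≤ P → Nat.card Q = p →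
          IsMulCommutative ↥(Subgroup.centralizer (Q : Set G)) ∧
          ∀ x : G, x ∈ Subgroup.normalizer (Q : Set G) → x ∉ Subgroup.centralizer (Q : Set G) →
            orderOf x = 2 ∧ ∀ c : G, c ∈ Subgroup.centralizer (Q : Set G) → x * c * x⁻¹ = c⁻¹))
    (T : Subgroup G) (hT : T ≤ P) (c : G) (hc : ∀ t ∈ T, c * t * c⁻¹ ∈ T) :
    (∀ t ∈ T, c * t * c⁻¹ = t) ∨ (c * c = 1 ∧ ∀ t ∈ T, c * t * c⁻¹ = t⁻¹) := by
  have hPcomm : ∀ a ∈ (P : Subgroup G), ∀ b ∈ (P : Subgroup G), a * b = b * a := fun a ha b hb =>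
    congrArg Subtype.val (cyc_comm hPc ⟨a, ha⟩ ⟨b, hb⟩)
  have hPC : (P : Subgroup G) ≤ Subgroup.centralizer ((P : Subgroup G) : Set G) := by
    intro a ha
    rw [Subgroup.mem_centralizer_iff]
    intro b hb
    exact hPcomm b hb a ha
  rcases hR with hR | hR
  · left
    intro t ht
    have h1 : c⁻¹⁻¹ * t * c⁻¹ ∈ Subgroup.centralizer ((P : Subgroup G) : Set G) := by
      rw [inv_inv]; exact hPC (hT (hc t ht))
    obtain ⟨n, hn, hn2⟩ := P.conj_eq_normalizer_conj_of_mem_centralizer t c⁻¹ (hPC (hT ht)) h1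
    rw [inv_inv] at hn2
    rw [hn2]
    have hn' : n ∈ Subgroup.centralizer ((P : Subgroup G) : Set G) := by rw [← hR]; exact hn
    have h3 : t * n = n * t := Subgroup.mem_centralizer_iff.mp hn' t (hT ht)
    rw [mul_assoc, h3, ← mul_assoc, inv_mul_cancel, one_mul]
  · by_cases hT1 : T = ⊥
    · left
      intro t ht
      rw [hT1, Subgroup.mem_bot] at ht
      rw [ht]; simp
    have hTp : IsPGroup p T := P.2.to_le hT
    have hTcyc : IsCyclic T := Subgroup.isCyclic_of_le hT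
    have hdvd : p ∣ Nat.card T := by
      obtain ⟨k, hk⟩ := hTp.exists_card_eq
      rcases Nat.eq_zero_or_pos k with rfl | hk0
      · exfalso
        apply hT1
        rw [pow_zero] at hk
        exact Subgroup.card_eq_one.mp hk
      · rw [hk]; exact dvd_pow_self p hk0.ne'
    obtain ⟨q, hq⟩ := exists_prime_orderOf_dvd_card' p hdvd
    set Q : Subgroup G := Subgroup.zpowers (q : G) with hQ
    have hoq : orderOf (q : G) = p := by rw [Subgroup.orderOf_coe]; exact hq
    have hQcard : Nat.card Q = p := by rw [hQ, Nat.card_zpowers, hoq]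
    have hQT : Q ≤ T := Subgroup.zpowers_le.mpr q.2
    have hcq : c * (q : G) * c⁻¹ ∈ Q := by
      set q₂ : ↥T := ⟨c * (q : G) * c⁻¹, hc q q.2⟩ with hq₂
      have ho2 : orderOf q₂ = p := by
        rw [hq₂, Subgroup.orderOf_mk]
        have := (MulAut.conj c).orderOf_eq (q : G)
        rw [MulAut.conj_apply] at this
        rw [this, hoq]
      have h1 := Cfsg.Agent.S4022.cyc_unique (Subgroup.zpowers q) (Subgroup.zpowers q₂)
        (by rw [Nat.card_zpowers, Nat.card_zpowers, hq, ho2])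
      have h2 : q₂ ∈ Subgroup.zpowers q := by rw [h1]; exact Subgroup.mem_zpowers q₂
      obtain ⟨i, hi⟩ := Subgroup.mem_zpowers_iff.mp h2
      have h3 : (q : G) ^ i = c * (q : G) * c⁻¹ := by simpa [hq₂] using congrArg Subtype.val hi
      rw [← h3]
      exact Subgroup.zpow_mem _ (Subgroup.mem_zpowers _) i
    have hcQ : ∀ a ∈ Q, c * a * c⁻¹ ∈ Q := by
      intro a ha
      obtain ⟨i, rfl⟩ := Subgroup.mem_zpowers_iff.mp ha
      rw [← conj_zpow]
      exact Subgroup.zpow_mem _ hcq i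
    obtain ⟨hcomm, hx⟩ := hR Q (hQT.trans hT) hQcard
    have hTC : T ≤ Subgroup.centralizer (Q : Set G) := by
      intro t ht
      rw [Subgroup.mem_centralizer_iff]
      intro b hb
      exact hPcomm b (hT (hQT hb)) t (hT ht)
    by_cases hcC : c ∈ Subgroup.centralizer (Q : Set G)
    · left
      intro t ht
      have h1 := hcomm.is_comm.comm (⟨c, hcC⟩ : Subgroup.centralizer (Q : Set G)) ⟨t, hTC ht⟩
      have h2 : c * t = t * c := congrArg Subtype.val h1
      rw [h2, mul_assoc, mul_inv_cancel, mul_one]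
    · right
      obtain ⟨ho, hinv⟩ := hx c (Cfsg.Agent.Lib.Helper1.mem_normalizer_of_conj_mem hcQ) hcC
      exact ⟨by rw [← pow_two, ← ho]; exact pow_orderOf_eq_one c, fun t ht => hinv t (hTC ht)⟩

theorem lemM' {G : Type*} [Group G] [Finite G] {p : ℕ} [hpf : Fact p.Prime] (P : Sylow p G)
    (hPc : IsCyclic (P : Subgroup G))
    (hR : Subgroup.normalizer ((P : Subgroup G) : Set G) = Subgroup.centralizer ((P : Subgroup G) : Set G) ∨
       (∀ Q : Subgroup G, Q ≤ P → Nat.card Q = p →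
          IsMulCommutative ↥(Subgroup.centralizer (Q : Set G)) ∧
          ∀ x : G, x ∈ Subgroup.normalizer (Q : Set G) → x ∉ Subgroup.centralizer (Q : Set G) →
            orderOf x = 2 ∧ ∀ c : G, c ∈ Subgroup.centralizer (Q : Set G) → x * c * x⁻¹ = c⁻¹))
    (g : G) (T : Subgroup G) (hT : T ≤ cj g P) (c : G) (hc : ∀ t ∈ T, c * t * c⁻¹ ∈ T) :
    (∀ t ∈ T, c * t * c⁻¹ = t) ∨ (c * c = 1 ∧ ∀ t ∈ T, c * t * c⁻¹ = t⁻¹) := by
  have hmem : ∀ t ∈ T, g⁻¹ * t * g ∈ cj g⁻¹ T := by
    intro t ht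
    rw [mem_cj]
    have : g⁻¹⁻¹ * (g⁻¹ * t * g) * g⁻¹ = t := by group
    rw [this]; exact ht
  have h := lemM P hPc hR (cj g⁻¹ T) ?_ (g⁻¹ * c * g) ?_
  · rcases h with h | ⟨h1, h2⟩
    · left
      intro t ht
      have h3 := h _ (hmem t ht)
      calc c * t * c⁻¹ = g * ((g⁻¹ * c * g) * (g⁻¹ * t * g) * (g⁻¹ * c * g)⁻¹) * g⁻¹ := by group
        _ = g * (g⁻¹ * t * g) * g⁻¹ := by rw [h3]
        _ = t := by group
    · right
      constructor
      · calc c * c = g * ((g⁻¹ * c * g) * (g⁻¹ * c * g)) * g⁻¹ := by group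
          _ = 1 := by rw [h1]; group
      · intro t ht
        have h3 := h2 _ (hmem t ht)
        calc c * t * c⁻¹ = g * ((g⁻¹ * c * g) * (g⁻¹ * t * g) * (g⁻¹ * c * g)⁻¹) * g⁻¹ := by group
          _ = g * (g⁻¹ * t * g)⁻¹ * g⁻¹ := by rw [h3]
          _ = t⁻¹ := by group
  · intro x hx
    rw [mem_cj] at hx
    have h6 := hT hx
    rw [mem_cj] at h6
    have h7 : g⁻¹ * (g⁻¹⁻¹ * x * g⁻¹) * g = x := by group
    rw [h7] at h6; exact h6
  · intro t ht
    rw [mem_cj] at ht ⊢
    have h6 := hc _ ht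
    have h7 : g⁻¹⁻¹ * (g⁻¹ * c * g * t * (g⁻¹ * c * g)⁻¹) * g⁻¹ = c * (g⁻¹⁻¹ * t * g⁻¹) * c⁻¹ := by group
    rw [h7]; exact h6

theorem backward {G : Type*} [Group G] [Finite G] {p : ℕ} [hpf : Fact p.Prime]
    (H : Subgroup G) (S : Sylow p ↥H) (hSn : (S : Subgroup ↥H).Normal)
    (hcyc : IsCyclic (↥H ⧸ (S : Subgroup ↥H)))
    (hTc : IsCyclic ((S : Subgroup ↥H).map H.subtype))
    (hM : ∀ c : G, (∀ t ∈ (S : Subgroup ↥H).map H.subtype, c * t * c⁻¹ ∈ (S : Subgroup ↥H).map H.subtype) →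
      (∀ t ∈ (S : Subgroup ↥H).map H.subtype, c * t * c⁻¹ = t) ∨
        (c * c = 1 ∧ ∀ t ∈ (S : Subgroup ↥H).map H.subtype, c * t * c⁻¹ = t⁻¹)) :
    IsCyclic H ∨ (∃ n : ℕ, Nonempty (H ≃* DihedralGroup (p ^ n))) := by
  set T : Subgroup G := (S : Subgroup ↥H).map H.subtype with hT
  have hTH : T ≤ H := Subgroup.map_subtype_le _
  have hcardT : Nat.card T = Nat.card (S : Subgroup ↥H) :=
    Subgroup.card_map_of_injective H.subtype_injective
  set a := Nat.card (S : Subgroup ↥H) with ha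
  set i := (S : Subgroup ↥H).index with hi
  have hai : a * i = Nat.card H := Subgroup.card_mul_index _
  have hcop : a.Coprime i := Sylow.card_coprime_index S
  obtain ⟨k, hk⟩ := S.2.exists_card_eq
  have hak : a = p ^ k := hk
  obtain ⟨gb, hgb⟩ := hcyc.exists_generator
  obtain ⟨h₀, rfl⟩ := QuotientGroup.mk_surjective gb
  have hcardq : Nat.card (↥H ⧸ (S : Subgroup ↥H)) = i := rfl
  have hog : orderOf (QuotientGroup.mk h₀ : ↥H ⧸ (S : Subgroup ↥H)) = i := by
    rw [orderOf_eq_card_of_forall_mem_zpowers hgb, hcardq]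
  set c' : ↥H := h₀ ^ a with hc'
  have hc'i : c' ^ i = 1 := by
    rw [hc', ← pow_mul, hai]
    exact pow_card_eq_one'
  have ho1 : orderOf c' ∣ i := orderOf_dvd_of_pow_eq_one hc'i
  have ho2 : i ∣ orderOf c' := by
    have h1 : orderOf (QuotientGroup.mk' (S : Subgroup ↥H) c') ∣ orderOf c' := orderOf_map_dvd _ _
    have h2 : QuotientGroup.mk' (S : Subgroup ↥H) c' = (QuotientGroup.mk h₀ : ↥H ⧸ (S : Subgroup ↥H)) ^ a := by
      rw [hc', map_pow]; rfl
    rw [h2, Nat.Coprime.orderOf_pow (by rw [hog]; exact hcop.symm), hog] at h1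
    exact h1
  have hoc' : orderOf c' = i := Nat.dvd_antisymm ho1 ho2
  set c : G := (c' : G) with hc
  have hcH : c ∈ H := c'.2
  have hoc : orderOf c = i := by rw [hc, Subgroup.orderOf_coe, hoc']
  have hconj : ∀ t ∈ T, c * t * c⁻¹ ∈ T := by
    rintro t ⟨t', ht', rfl⟩
    exact ⟨c' * t' * c'⁻¹, hSn.conj_mem t' ht' c', by simp [hc]⟩
  obtain ⟨t, ht⟩ := (Subgroup.isCyclic_iff_exists_zpowers_eq_top _).mp hTc
  have htT : t ∈ T := ht ▸ Subgroup.mem_zpowers t
  have hot : orderOf t = a := by rw [← Nat.card_zpowers, ht, hcardT]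
  have hcase : Commute t c → IsCyclic H := by
    intro hcomm
    have hord : orderOf (t * c) = a * i := by
      rw [hcomm.orderOf_mul_eq_mul_orderOf_of_coprime (by rw [hot, hoc]; exact hcop), hot, hoc]
    apply isCyclic_of_orderOf_eq_card (⟨t * c, H.mul_mem (hTH htT) hcH⟩ : ↥H)
    rw [Subgroup.orderOf_mk, hord, hai]
  rcases hM c hconj with h | ⟨hcc, hinv⟩
  · left
    apply hcase
    have h1 := h t htT
    have h3 : c * t = t * c := by rw [← mul_inv_eq_iff_eq_mul]; exact h1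
    exact h3.symm
  · by_cases hc1 : c = 1
    · left
      apply hcase
      rw [hc1]
      exact Commute.one_right t
    · right
      have hi2 : i = 2 := by
        rw [← hoc]
        exact orderOf_eq_prime (by rw [pow_two]; exact hcc) hc1
      refine ⟨k, ?_⟩
      apply Cfsg.Agent.Lib.Helper18.nonempty_mulEquiv_dihedralGroup (⟨t, hTH htT⟩ : ↥H) c' (p ^ k)
      · rw [Subgroup.orderOf_mk, hot, hak]
      · exact (pow_pos hpf.out.pos k).ne'
      · exact Subtype.ext hcc
      · exact Subtype.ext (hinv t htT)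
      · intro hcon
        obtain ⟨j, hj⟩ := Subgroup.mem_zpowers_iff.mp hcon
        have h1 : t ^ j = c := by simpa using congrArg Subtype.val hj
        have hcT : c ∈ T := by rw [← h1]; exact T.zpow_mem htT j
        have h2 : orderOf c ∣ Nat.card T := Subgroup.orderOf_dvd_natCard T hcT
        rw [hoc, hcardT] at h2
        have h3 := Nat.Coprime.eq_one_of_dvd hcop.symm h2
        omega
      · rw [← hai, hi2, hak, mul_comm]


/-- Let p be an odd prime and G a finite group with Sylow p-subgroup P. Say that G has restricted p-by-cyclic subgroups when every subgroup H of G whose Sylow p-subgroup is normal in H with cyclic quotient is itself cyclic or dihedral of order 2pⁿ for some n. Then G has restricted p-by-cyclic subgroups if and only if P is cyclic and one of the following holds: (1) N_G(P) = C_G(P); or (2) N_G(P)/C_G(P) has order 2 and, for the subgroup Q of order p of P, the centralizer C_G(Q) is abelian and every element of N_G(Q) outside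 C_G(Q) is an involution inverting every element of C_G(Q). -/
theorem result {G : Type*} [Group G] [Finite G] {p : ℕ}
    [Fact p.Prime] (hp : p ≠ 2) (P : Sylow p G) :
    (∀ H : Subgroup G, (∀ S : Sylow p ↥H, (S : Subgroup ↥H).Normal) →
        (∀ (S : Sylow p ↥H) [(S : Subgroup ↥H).Normal], IsCyclic (↥H ⧸ (S : Subgroup ↥H))) →
        IsCyclic H ∨ (∃ n : ℕ, Nonempty (H ≃* DihedralGroup (p ^ n)))) ↔
    (IsCyclic P ∧
      (Subgroup.normalizer ((P : Subgroup G) : Set G) = Subgroup.centralizer ((P : Subgroup G) : Set G) ∨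
       ((Subgroup.centralizer ((P : Subgroup G) : Set G)).relIndex (Subgroup.normalizer ((P : Subgroup G) : Set G)) = 2 ∧
        ∀ Q : Subgroup G, Q ≤ P → Nat.card Q = p →
          IsMulCommutative ↥(Subgroup.centralizer (Q : Set G)) ∧
          ∀ x : G, x ∈ Subgroup.normalizer (Q : Set G) → x ∉ Subgroup.centralizer (Q : Set G) →
            orderOf x = 2 ∧ ∀ c : G, c ∈ Subgroup.centralizer (Q : Set G) → x * c * x⁻¹ = c⁻¹))) := by
  constructor
  · intro hyp
    exact forward hp P hyp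
  · rintro ⟨hPc, hR⟩ H hA hB
    obtain ⟨S⟩ : Nonempty (Sylow p ↥H) := inferInstance
    have hSn := hA S
    have hcyc := hB S
    have hT2 : IsPGroup p ((S : Subgroup ↥H).map H.subtype) := S.2.map _
    obtain ⟨P', hP'⟩ := hT2.exists_le_sylow
    obtain ⟨g, hg⟩ := MulAction.exists_smul_eq G P P'
    have hPP : (P' : Subgroup G) = cj g P := by
      rw [← hg, Sylow.coe_subgroup_smul]; rfl
    have hle : (S : Subgroup ↥H).map H.subtype ≤ cj g P := hPP ▸ hP'
    let eq : (P : Subgroup G) ≃* cj g (P : Subgroup G) :=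
      Subgroup.equivMapOfInjective _ _ (MulAut.conj g).injective
    have hcjc : IsCyclic (cj g (P : Subgroup G)) := isCyclic_of_surjective eq eq.surjective
    apply backward H S hSn hcyc (Subgroup.isCyclic_of_le hle)
    intro c hc
    exact lemM' P hPc (hR.imp id (fun h => h.2)) g _ hle c hc

end Cfsg.Agent.S4082
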