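import Cfsg.Statements.S4083
import Cfsg.Agent.Lib.Helper4.Dih2
import Cfsg.Agent.Lib.Helper18.Dihedral
import Cfsg.Agent.Lib.Helper2.KleinMk
import Cfsg.Agent.S0228
import Cfsg.Agent.S4022

set_option autoImplicit false
open Cfsg

namespace Cfsg.Agent.S4083

open Cfsg.Agent.S4022 (cj mem_cj card_cj)
open Cfsg.Agent.Lib.Helper4 (DihLike)

/-- a group of order 4 and exponent 2 is not cyclic -/
theorem not_cyc {K : Type*} [Group K] (h4 : Nat.card K = 4) (h2 : ∀ k : K, k ^ 2 = 1) : ¬ IsCyclic K := by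
  intro hc
  obtain ⟨g, hg⟩ := hc.exists_generator
  have h1 : orderOf g = Nat.card K := orderOf_eq_card_of_forall_mem_zpowers hg
  have h3 : orderOf g ∣ 2 := orderOf_dvd_of_pow_eq_one (h2 g)
  rw [h1, h4] at h3
  omega

theorem not_cyc' {G : Type*} [Group G] (K : Subgroup G) (h4 : Nat.card K = 4) (h2 : ∀ k ∈ K, k ^ 2 = 1) :
    ¬ IsCyclic K :=
  not_cyc h4 (fun k => Subtype.ext (by simpa using h2 k.1 k.2))

theorem card_A4 : Nat.card (alternatingGroup (Fin 4)) = 12 := by
  rw [nat_card_alternatingGroup]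
  simp [Nat.factorial]

theorem sylow_top {R : Type*} [Group R] (hR : IsPGroup 2 R) (S : Sylow 2 R) : (S : Subgroup R) = ⊤ :=
  (S.is_maximal' (Q := ⊤) (hR.to_subgroup ⊤) le_top).symm

/-- the property in the statement -/
def Hyp (G : Type*) [Group G] : Prop :=
  ∀ H : Subgroup G, (∀ S : Sylow 2 ↥H, (S : Subgroup ↥H).Normal) →
        (∀ (S : Sylow 2 ↥H) [(S : Subgroup ↥H).Normal], IsCyclic (↥H ⧸ (S : Subgroup ↥H))) →
        IsCyclic H ∨ (∃ n : ℕ, Nonempty (H ≃* DihedralGroup (2 ^ n))) ∨ Nonempty (H ≃* alternatingGroup (Fin 4))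

theorem good_of_two {G : Type*} [Group G] [Finite G] (hyp : Hyp G)
    (R : Subgroup G) (hR : IsPGroup 2 R) :
    IsCyclic R ∨ (∃ n : ℕ, Nonempty (R ≃* DihedralGroup (2 ^ n))) := by
  have : Fact (Nat.Prime 2) := ⟨Nat.prime_two⟩
  have h1 : ∀ S : Sylow 2 ↥R, (S : Subgroup ↥R) = ⊤ := fun S => sylow_top hR S
  have hA : ∀ S : Sylow 2 ↥R, (S : Subgroup ↥R).Normal := fun S => by rw [h1 S]; infer_instance
  have hB : ∀ (S : Sylow 2 ↥R) [(S : Subgroup ↥R).Normal], IsCyclic (↥R ⧸ (S : Subgroup ↥R)) := by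
    intro S _
    have : Subsingleton (↥R ⧸ (S : Subgroup ↥R)) := by
      constructor
      intro a b
      obtain ⟨a, rfl⟩ := QuotientGroup.mk_surjective a
      obtain ⟨b, rfl⟩ := QuotientGroup.mk_surjective b
      rw [QuotientGroup.eq, h1 S]
      exact Subgroup.mem_top _
    exact isCyclic_of_subsingleton
  rcases hyp R hA hB with h | h | ⟨⟨e⟩⟩
  · exact Or.inl h
  · exact Or.inr h
  · exfalso
    obtain ⟨k, hk⟩ := hR.exists_card_eq
    have h12 : Nat.card R = 12 := by rw [Nat.card_congr e.toEquiv, card_A4]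
    rw [hk] at h12
    have h3 : 3 ∣ 2 ^ k := by rw [h12]; norm_num
    have := Nat.Prime.dvd_of_dvd_pow Nat.prime_three h3
    omega

theorem comm_of_sq {G : Type*} [Group G] (K : Subgroup G) (h2 : ∀ k ∈ K, k ^ 2 = 1) :
    ∀ a ∈ K, ∀ b ∈ K, a * b = b * a := by
  intro a ha b hb
  have h1 := h2 a ha
  have h3 := h2 b hb
  have h4 := h2 (a * b) (K.mul_mem ha hb)
  rw [pow_two] at h1 h3 h4
  have ha' : a⁻¹ = a := inv_eq_of_mul_eq_one_left h1
  have hb' : b⁻¹ = b := inv_eq_of_mul_eq_one_left h3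
  have h5 : (a * b)⁻¹ = a * b := inv_eq_of_mul_eq_one_left h4
  rw [mul_inv_rev, ha', hb'] at h5
  exact h5.symm

/-- 2-subgroups lie in a normal Sylow 2-subgroup -/
theorem le_sylow_of_normal {H : Type*} [Group H] [Finite H] (S : Sylow 2 H) (hS : (S : Subgroup H).Normal)
    (Q : Subgroup H) (hQ : IsPGroup 2 Q) : Q ≤ S := by
  have : Fact (Nat.Prime 2) := ⟨Nat.prime_two⟩
  obtain ⟨S', hS'⟩ := hQ.exists_le_sylow
  haveI := Sylow.unique_of_normal S hS
  rw [Subsingleton.elim S S']
  exact hS'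

theorem no_odd {G : Type*} [Group G] [Finite G] (hyp : Hyp G) (K : Subgroup G) (h4 : Nat.card K = 4)
    (h2 : ∀ k ∈ K, k ^ 2 = 1) (x : G) (q : ℕ) (hq : q.Prime) (hq2 : q ≠ 2) (hx : orderOf x = q)
    (hxK : x ∈ Subgroup.centralizer (K : Set G)) : False := by
  have : Fact (Nat.Prime 2) := ⟨Nat.prime_two⟩
  set H : Subgroup G := K ⊔ Subgroup.zpowers x with hH
  have hKH : K ≤ H := le_sup_left
  have hxH : x ∈ H := (le_sup_right : Subgroup.zpowers x ≤ H) (Subgroup.mem_zpowers x)
  have hKc := comm_of_sq K h2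
  have hKK : K ≤ Subgroup.centralizer (K : Set G) := by
    intro a ha
    rw [Subgroup.mem_centralizer_iff]
    intro b hb
    exact hKc b hb a ha
  have hZK : Subgroup.zpowers x ≤ Subgroup.centralizer (K : Set G) := Subgroup.zpowers_le.mpr hxK
  have hHK : H ≤ Subgroup.centralizer (K : Set G) := sup_le hKK hZK
  have hKH' : K ≤ Subgroup.centralizer (H : Set G) := Subgroup.le_centralizer_iff.mp hHK
  have hZZ : Subgroup.zpowers x ≤ Subgroup.centralizer (Subgroup.zpowers x : Set G) := by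
    intro a ha
    rw [Subgroup.mem_centralizer_iff]
    intro b hb
    obtain ⟨i, rfl⟩ := Subgroup.mem_zpowers_iff.mp ha
    obtain ⟨j, rfl⟩ := Subgroup.mem_zpowers_iff.mp hb
    rw [← zpow_add, ← zpow_add, add_comm]
  have hHZ : H ≤ Subgroup.centralizer (Subgroup.zpowers x : Set G) :=
    sup_le (Subgroup.le_centralizer_iff.mp hZK) hZZ
  have hHH : H ≤ Subgroup.centralizer (H : Set G) := sup_le hKH' (Subgroup.le_centralizer_iff.mp hHZ)
  have hcomm : ∀ a b : ↥H, a * b = b * a := by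
    intro a b
    apply Subtype.ext
    exact Subgroup.mem_centralizer_iff.mp (hHH b.2) a.1 a.2
  have hA : ∀ S : Sylow 2 ↥H, (S : Subgroup ↥H).Normal := by
    intro S
    constructor
    intro n hn g
    rw [hcomm g n, mul_assoc, mul_inv_cancel, mul_one]
    exact hn
  have hB : ∀ (S : Sylow 2 ↥H) [(S : Subgroup ↥H).Normal], IsCyclic (↥H ⧸ (S : Subgroup ↥H)) := by
    intro S hS
    have hK2 : IsPGroup 2 K := IsPGroup.of_card (n := 2) (by rw [h4]; norm_num)
    have hKS : K.subgroupOf H ≤ S := le_sylow_of_normal S hS _ hK2.comap_subtype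
    set x' : ↥H := ⟨x, hxH⟩ with hx'
    set A : Subgroup ↥H := (Subgroup.zpowers (QuotientGroup.mk' (S : Subgroup ↥H) x')).comap
      (QuotientGroup.mk' (S : Subgroup ↥H)) with hAdef
    have h1 : H ≤ A.map H.subtype := by
      apply sup_le
      · intro k hk
        refine ⟨⟨k, hKH hk⟩, ?_, rfl⟩
        show QuotientGroup.mk' (S : Subgroup ↥H) ⟨k, hKH hk⟩ ∈ Subgroup.zpowers (QuotientGroup.mk' (S : Subgroup ↥H) x')
        have : QuotientGroup.mk' (S : Subgroup ↥H) ⟨k, hKH hk⟩ = 1 := by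
          rw [QuotientGroup.mk'_apply, QuotientGroup.eq_one_iff]
          exact hKS (Subgroup.mem_subgroupOf.mpr hk)
        rw [this]
        exact Subgroup.one_mem _
      · rw [Subgroup.zpowers_le]
        exact ⟨x', Subgroup.mem_zpowers _, rfl⟩
    refine ⟨QuotientGroup.mk' (S : Subgroup ↥H) x', fun y => ?_⟩
    obtain ⟨h, rfl⟩ := QuotientGroup.mk_surjective y
    obtain ⟨a, ha, hah⟩ := h1 h.2
    have : a = h := Subtype.ext hah
    rw [← this]
    exact ha
  rcases hyp H hA hB with h | ⟨n, ⟨e⟩⟩ | ⟨⟨e⟩⟩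
  · exact not_cyc' K h4 h2 (Subgroup.isCyclic_of_le hKH)
  · have h1 : Nat.card H = 2 * 2 ^ n := by rw [Nat.card_congr e.toEquiv, DihedralGroup.nat_card]
    have h3 : q ∣ Nat.card H := by
      rw [← hx, ← Subgroup.orderOf_mk x hxH]
      exact orderOf_dvd_natCard _
    rw [h1, ← pow_succ'] at h3
    exact hq2 ((Nat.prime_dvd_prime_iff_eq hq Nat.prime_two).mp (hq.dvd_of_dvd_pow h3))
  · have hc : Subgroup.center (alternatingGroup (Fin 4)) = ⊥ :=
      alternatingGroup.center_eq_bot (by simp)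
    have h1 : e ⟨x, hxH⟩ ∈ Subgroup.center (alternatingGroup (Fin 4)) := by
      rw [Subgroup.mem_center_iff]
      intro g
      obtain ⟨g', rfl⟩ := e.surjective g
      rw [← map_mul, ← map_mul, hcomm]
    rw [hc, Subgroup.mem_bot] at h1
    have h3 : (⟨x, hxH⟩ : ↥H) = 1 := by
      apply e.injective
      rw [h1, map_one]
    have h5 : x = 1 := congrArg Subtype.val h3
    rw [h5, orderOf_one] at hx
    exact hq.one_lt.ne hx

theorem cent_eq {G : Type*} [Group G] [Finite G] (hyp : Hyp G) (K : Subgroup G) (h4 : Nat.card K = 4)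
    (h2 : ∀ k ∈ K, k ^ 2 = 1) : Subgroup.centralizer (K : Set G) = K := by
  have : Fact (Nat.Prime 2) := ⟨Nat.prime_two⟩
  set R : Subgroup G := Subgroup.centralizer (K : Set G) with hR
  have hKc := comm_of_sq K h2
  have hKR : K ≤ R := by
    intro a ha
    rw [hR, Subgroup.mem_centralizer_iff]
    intro b hb
    exact hKc b hb a ha
  have hR2 : IsPGroup 2 R := by
    rw [IsPGroup.iff_card]
    refine ⟨_, Nat.eq_prime_pow_of_unique_prime_dvd Nat.card_pos.ne' ?_⟩
    intro d hd hdvd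
    by_contra hd2
    haveI : Fact d.Prime := ⟨hd⟩
    obtain ⟨x, hx⟩ := exists_prime_orderOf_dvd_card' d hdvd
    exact no_odd hyp K h4 h2 x.1 d hd hd2 (by rw [Subgroup.orderOf_coe]; exact hx) x.2
  rcases good_of_two hyp R hR2 with h | ⟨n, ⟨e⟩⟩
  · exact absurd (Subgroup.isCyclic_of_le hKR) (not_cyc' K h4 h2)
  · have hcard : Nat.card R = 2 * 2 ^ n := by rw [Nat.card_congr e.toEquiv, DihedralGroup.nat_card]
    by_cases hn : n ≤ 1
    · symm
      apply Subgroup.eq_of_le_of_card_ge hKR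
      rw [hcard, h4]
      interval_cases n <;> norm_num
    · exfalso
      have hn := Nat.lt_of_not_le hn
      have hcen : ∀ k : ↥K, ∀ y : DihedralGroup (2 ^ n),
          e (Subgroup.inclusion hKR k) * y = y * e (Subgroup.inclusion hKR k) := by
        intro k y
        obtain ⟨y', rfl⟩ := e.surjective y
        rw [← map_mul, ← map_mul]
        congr 1
        apply Subtype.ext
        exact Subgroup.mem_centralizer_iff.mp y'.2 k.1 k.2
      have hmem : ∀ k : ↥K, (e.toMonoidHom.comp (Subgroup.inclusion hKR)) k ∈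
          Subgroup.zpowers (DihedralGroup.r (1 : ZMod (2 ^ n))) := by
        intro k
        show e (Subgroup.inclusion hKR k) ∈ _
        have h1 := hcen k (DihedralGroup.r 1)
        rcases hek : e (Subgroup.inclusion hKR k) with i | i
        · exact Subgroup.mem_zpowers_iff.mpr ⟨(i.val : ℤ), by rw [DihedralGroup.r_one_zpow]; simp⟩
        · exfalso
          rw [hek, DihedralGroup.sr_mul_r, DihedralGroup.r_mul_sr] at h1
          have h3 : i + 1 = i - 1 := by simpa using h1
          have h5 : ((2 : ℕ) : ZMod (2 ^ n)) = 0 := by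
            have : (1 : ZMod (2 ^ n)) + 1 = 0 := by
              have h6 : (1 : ZMod (2 ^ n)) = -1 := by
                have := congrArg (fun t => t - i) h3
                simpa [sub_eq_add_neg, add_comm, add_left_comm, add_assoc] using this
              nth_rewrite 1 [h6]
              simp
            push_cast
            rw [← this]; norm_num
          rw [ZMod.natCast_eq_zero_iff] at h5
          have h7 : 4 ∣ 2 ^ n := by
            obtain ⟨m, rfl⟩ := Nat.exists_eq_add_of_le hn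
            exact ⟨2 ^ m, by rw [pow_add]; norm_num⟩
          have := h7.trans h5
          omega
      have hcyc : IsCyclic K := by
        apply isCyclic_of_injective
          ((e.toMonoidHom.comp (Subgroup.inclusion hKR)).codRestrict _ hmem)
        intro a b hab
        have h1 := congrArg Subtype.val hab
        have h3 : e (Subgroup.inclusion hKR a) = e (Subgroup.inclusion hKR b) := h1
        exact Subgroup.inclusion_injective hKR (e.injective h3)
      exact not_cyc' K h4 h2 hcyc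

theorem forward {G : Type*} [Group G] [Finite G] (P : Sylow 2 G) (hyp : Hyp G) :
    (IsCyclic P ∨
      ((∃ n : ℕ, 1 ≤ n ∧ Nonempty ((P : Subgroup G) ≃* DihedralGroup (2 ^ n))) ∧
        ∀ K : Subgroup G, K ≤ P → Nat.card K = 4 → (∀ k ∈ K, k ^ 2 = 1) → Subgroup.centralizer (K : Set G) = K)) := by
  rcases good_of_two hyp P P.2 with h | ⟨n, ⟨e⟩⟩
  · exact Or.inl h
  · rcases Nat.eq_zero_or_pos n with rfl | hn
    · left
      have hcard : Nat.card (P : Subgroup G) = 2 := by
        rw [Nat.card_congr e.toEquiv, DihedralGroup.nat_card]; norm_num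
      have : Fact (Nat.Prime 2) := ⟨Nat.prime_two⟩
      exact isCyclic_of_prime_card (p := 2) hcard
    · right
      exact ⟨⟨n, hn, ⟨e⟩⟩, fun K _ h4 h2 => cent_eq hyp K h4 h2⟩

theorem dih_sub {G : Type*} [Group G] [Finite G] {P C : Subgroup G} (h : DihLike P C) (hP : IsPGroup 2 P)
    (Q : Subgroup G) (hQ : Q ≤ P) (hnc : ¬ IsCyclic Q) :
    (∃ n : ℕ, Nonempty (Q ≃* DihedralGroup (2 ^ n))) ∧
      ∃ K : Subgroup G, K ≤ Q ∧ Nat.card K = 4 ∧ ∀ k ∈ K, k ^ 2 = 1 := by
  have : Fact (Nat.Prime 2) := ⟨Nat.prime_two⟩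
  have hcycC := h.cyc
  have hQC : ¬ Q ≤ C := fun hle => hnc (Subgroup.isCyclic_of_le hle)
  obtain ⟨s, hs, hsC⟩ := SetLike.not_le_iff_exists.mp hQC
  obtain ⟨hdec, hcard⟩ := h.card_eq_two_mul hQ hs hsC
  have hcyc : IsCyclic (Q ⊓ C : Subgroup G) := Subgroup.isCyclic_of_le (inf_le_right : Q ⊓ C ≤ C)
  obtain ⟨y, hy⟩ := (Subgroup.isCyclic_iff_exists_zpowers_eq_top _).mp hcyc
  have hyQ : y ∈ Q ⊓ C := hy ▸ Subgroup.mem_zpowers y
  obtain ⟨j, hj⟩ := (hP.to_le (inf_le_left.trans hQ : Q ⊓ C ≤ P)).exists_card_eq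
  have hoy : orderOf y = 2 ^ j := by rw [← Nat.card_zpowers, hy, hj]
  have hj1 : 1 ≤ j := by
    by_contra hcon
    have hj0 : j = 0 := by omega
    subst hj0
    apply hnc
    exact isCyclic_of_prime_card (p := 2) (by rw [hcard, hj]; norm_num)
  have hs2 : s ^ 2 = 1 := h.sq s (hQ hs) hsC
  have hs1 : s ≠ 1 := fun h1 => hsC (h1 ▸ C.one_mem)
  have hss : s * s = 1 := by rw [← pow_two]; exact hs2
  have hsi : s⁻¹ = s := inv_eq_of_mul_eq_one_left hss
  have hinv : ∀ u ∈ C, u ∈ P → s * u * s⁻¹ = u⁻¹ := by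
    intro u hu huP
    have h1 : s * u ∉ C := fun hcon => hsC (by simpa using C.mul_mem hcon (C.inv_mem hu))
    have h2 := h.sq (s * u) (P.mul_mem (hQ hs) huP) h1
    rw [pow_two] at h2
    rw [hsi]
    exact eq_inv_of_mul_eq_one_left (by simpa [mul_assoc] using h2)
  refine ⟨⟨j, ?_⟩, ?_⟩
  · apply Cfsg.Agent.Lib.Helper18.nonempty_mulEquiv_dihedralGroup (⟨y, hyQ.1⟩ : ↥Q) ⟨s, hs⟩ (2 ^ j)
    · rw [Subgroup.orderOf_mk]; exact hoy
    · positivity
    · apply Subtype.ext; simpa using hss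
    · apply Subtype.ext; simpa using hinv y hyQ.2 (hQ hyQ.1)
    · intro hcon
      obtain ⟨k, hk⟩ := Subgroup.mem_zpowers_iff.mp hcon
      apply hsC
      have h1 : y ^ k = s := by simpa using congrArg Subtype.val hk
      rw [← h1]; exact C.zpow_mem hyQ.2 k
    · rw [hcard, hj]
  · set z := y ^ (2 ^ (j - 1)) with hz
    have hoz : orderOf z = 2 := by
      rw [hz, orderOf_pow_of_dvd (by positivity) (by rw [hoy]; exact pow_dvd_pow 2 (by omega)), hoy,
        Nat.pow_div (by omega) (by norm_num)]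
      have : j - (j - 1) = 1 := by omega
      rw [this]
    have hzC : z ∈ C := C.pow_mem hyQ.2 _
    have hzQ : z ∈ Q := Q.pow_mem hyQ.1 _
    have hos : orderOf s = 2 := orderOf_eq_prime hs2 hs1
    have hcomm : Commute z s := by
      have h1 := hinv z hzC (hQ hzQ)
      have hz2 : z ^ 2 = 1 := by rw [← hoz]; exact pow_orderOf_eq_one z
      have hzi : z⁻¹ = z := inv_eq_of_mul_eq_one_left (by rw [← pow_two]; exact hz2)
      rw [hzi] at h1
      have h3 : s * z = z * s := by rw [← mul_inv_eq_iff_eq_mul]; exact h1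
      exact h3.symm
    have hne : z ≠ s := fun hcon => hsC (hcon ▸ hzC)
    have hK := Cfsg.Agent.Lib.Helper2.isKleinFour_closure hoz hos hcomm hne
    refine ⟨Subgroup.closure {z, s}, ?_, hK.card_four, ?_⟩
    · rw [Subgroup.closure_le]
      intro t ht
      rcases ht with rfl | rfl
      · exact hzQ
      · exact hs
    · intro k hk
      have h1 := Monoid.pow_exponent_eq_one (⟨k, hk⟩ : Subgroup.closure ({z, s} : Set G))
      rw [hK.exponent_two] at h1
      simpa using congrArg Subtype.val h1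

theorem cent_conj {G : Type*} [Group G] (P : Subgroup G)
    (hK : ∀ K : Subgroup G, K ≤ P → Nat.card K = 4 → (∀ k ∈ K, k ^ 2 = 1) → Subgroup.centralizer (K : Set G) = K)
    (g : G) :
    ∀ K : Subgroup G, K ≤ cj g P → Nat.card K = 4 → (∀ k ∈ K, k ^ 2 = 1) →
      Subgroup.centralizer (K : Set G) = K := by
  intro K hKP h4 h2
  have h1 := hK (cj g⁻¹ K) ?_ (by rw [card_cj]; exact h4) ?_
  · ext x
    have h3 : g⁻¹ * x * g ∈ Subgroup.centralizer ((cj g⁻¹ K : Subgroup G) : Set G) ↔
        g⁻¹ * x * g ∈ cj g⁻¹ K := by rw [h1]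
    rw [mem_cj] at h3
    have h5 : g⁻¹⁻¹ * (g⁻¹ * x * g) * g⁻¹ = x := by group
    rw [h5] at h3
    rw [← h3, Subgroup.mem_centralizer_iff, Subgroup.mem_centralizer_iff]
    constructor
    · intro hx k hk
      have hk' : g⁻¹⁻¹ * k * g⁻¹ ∈ K := (mem_cj _ _ _).mp hk
      have h6 := hx _ hk'
      calc k * (g⁻¹ * x * g) = g⁻¹ * ((g⁻¹⁻¹ * k * g⁻¹) * x) * g := by group
        _ = g⁻¹ * (x * (g⁻¹⁻¹ * k * g⁻¹)) * g := by rw [h6]
        _ = g⁻¹ * x * g * k := by group
    · intro hx k hk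
      have hk' : g⁻¹ * k * g ∈ cj g⁻¹ K := by
        rw [mem_cj]
        have h7 : g⁻¹⁻¹ * (g⁻¹ * k * g) * g⁻¹ = k := by group
        rw [h7]; exact hk
      have h6 := hx _ hk'
      calc k * x = g * ((g⁻¹ * k * g) * (g⁻¹ * x * g)) * g⁻¹ := by group
        _ = g * ((g⁻¹ * x * g) * (g⁻¹ * k * g)) * g⁻¹ := by rw [h6]
        _ = x * k := by group
  · intro x hx
    rw [mem_cj] at hx
    have h6 := hKP hx
    rw [mem_cj] at h6
    have h7 : g⁻¹ * (g⁻¹⁻¹ * x * g⁻¹) * g = x := by group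
    rw [h7] at h6; exact h6
  · intro k hk
    rw [mem_cj] at hk
    have h6 := h2 _ hk
    have h7 : k ^ 2 = g⁻¹ * (g⁻¹⁻¹ * k * g⁻¹) ^ 2 * g := by simp only [pow_two]; group
    rw [h7, h6]; group

theorem eq_one_of_odd_mem {G : Type*} [Group G] (T : Subgroup G) (hT : IsPGroup 2 T) (x : G) (hx : x ∈ T)
    (ho : (orderOf x).Coprime 2) : x = 1 := by
  obtain ⟨k, hk⟩ := hT ⟨x, hx⟩
  have h1 : x ^ 2 ^ k = 1 := by simpa using congrArg Subtype.val hk
  have h2 : orderOf x ∣ 2 ^ k := orderOf_dvd_of_pow_eq_one h1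
  have h3 := Nat.Coprime.eq_one_of_dvd (Nat.Coprime.pow_right k ho) h2
  exact orderOf_eq_one_iff.mp h3

/-- the cube of an odd-order element normalizing a group of order four centralizes it -/
theorem cube_cent {G : Type*} [Group G] (T : Subgroup G) (h4 : Nat.card T = 4) (c : G)
    (hcN : c ∈ Subgroup.normalizer (T : Set G)) (ho : (orderOf c).Coprime 2) :
    c ^ 3 ∈ Subgroup.centralizer (T : Set G) := by
  have hfin : Finite T := Nat.finite_of_card_ne_zero (by rw [h4]; norm_num)
  set φ : ↥(Subgroup.normalizer (T : Set G)) →* Equiv.Perm T :=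
    (MulAut.toPerm T).comp T.normalizerMonoidHom with hφ
  have h1 : orderOf (φ ⟨c, hcN⟩) ∣ orderOf c := by
    have := orderOf_map_dvd φ (⟨c, hcN⟩ : Subgroup.normalizer (T : Set G))
    rwa [Subgroup.orderOf_mk] at this
  have h2 : orderOf (φ ⟨c, hcN⟩) ∣ 8 * 3 := by
    have h3 : Nat.card (Equiv.Perm T) = 8 * 3 := by
      rw [Nat.card_perm, h4]; rfl
    rw [← h3]
    exact orderOf_dvd_natCard _
  have h3 : (orderOf (φ ⟨c, hcN⟩)).Coprime 8 := by
    have h5 : (orderOf (φ ⟨c, hcN⟩)).Coprime 2 := Nat.Coprime.coprime_dvd_left h1 ho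
    exact Nat.Coprime.pow_right 3 h5
  have h5 : orderOf (φ ⟨c, hcN⟩) ∣ 3 := h3.dvd_of_dvd_mul_left h2
  have h6 : (φ ⟨c, hcN⟩) ^ 3 = 1 := orderOf_dvd_iff_pow_eq_one.mp h5
  rw [← map_pow] at h6
  have h7 : T.normalizerMonoidHom ((⟨c, hcN⟩ : Subgroup.normalizer (T : Set G)) ^ 3) = 1 := by
    apply MulEquiv.ext
    intro t
    have := congrArg (fun σ : Equiv.Perm T => σ t) h6
    exact this
  have h8 : ((⟨c, hcN⟩ : Subgroup.normalizer (T : Set G)) ^ 3) ∈ T.normalizerMonoidHom.ker := h7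
  rw [Subgroup.normalizerMonoidHom_ker] at h8
  exact h8

/-- an element of order dividing three normalizing a four-group and fixing an involution centralizes it -/
theorem cent_of_fix {G : Type*} [Group G] [Finite G] (T : Subgroup G) (h4 : Nat.card T = 4)
    (h2 : ∀ k ∈ T, k ^ 2 = 1) (c : G) (hc3 : c ^ 3 = 1) (hcT : ∀ t ∈ T, c * t * c⁻¹ ∈ T)
    (z : G) (hz : z ∈ T) (hz1 : z ≠ 1) (hcz : c * z * c⁻¹ = z) :
    c ∈ Subgroup.centralizer (T : Set G) := by
  rw [Subgroup.mem_centralizer_iff]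
  intro a ha
  have hTc := comm_of_sq T h2
  by_cases ha1 : a = 1
  · rw [ha1]; simp
  by_cases haz : a = z
  · rw [haz]
    have : c * z = z * c := by rw [← mul_inv_eq_iff_eq_mul]; exact hcz
    exact this.symm
  have hoz : orderOf z = 2 := orderOf_eq_prime (h2 z hz) hz1
  have hoa : orderOf a = 2 := orderOf_eq_prime (h2 a ha) ha1
  have hzz : z * z = 1 := by rw [← pow_two]; exact h2 z hz
  have haa : a * a = 1 := by rw [← pow_two]; exact h2 a ha
  have hcomm : Commute z a := hTc z hz a ha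
  have hK := Cfsg.Agent.Lib.Helper2.isKleinFour_closure hoz hoa hcomm (fun h => haz h.symm)
  have hle : Subgroup.closure {z, a} ≤ T := by
    rw [Subgroup.closure_le]
    intro t ht
    rcases ht with rfl | rfl
    · exact hz
    · exact ha
  have heq : Subgroup.closure {z, a} = T :=
    Subgroup.eq_of_le_of_card_ge hle (by rw [h4, hK.card_four])
  have hset : (T : Set G) = {1, z, a, z * a} := by
    rw [← heq]
    exact Cfsg.Agent.Lib.Helper2.coe_closure_commuting_involutions hzz haa hcomm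
  have hb : c * a * c⁻¹ ∈ (T : Set G) := hcT a ha
  rw [hset] at hb
  rcases hb with hb | hb | hb | hb
  · exfalso
    apply ha1
    have : a = c⁻¹ * (c * a * c⁻¹) * c := by group
    rw [this, hb]; group
  · exfalso
    apply haz
    have h5 : a = c⁻¹ * (c * a * c⁻¹) * c := by group
    have h6 : z = c⁻¹ * (c * z * c⁻¹) * c := by group
    rw [hb] at h5
    rw [hcz] at h6
    exact h5.trans h6.symm
  · have : c * a = a * c := by rw [← mul_inv_eq_iff_eq_mul]; exact hb
    exact this.symm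
  · exfalso
    apply hz1
    have hb' : c * a * c⁻¹ = z * a := hb
    have h5 : c * (z * a) * c⁻¹ = a := by
      have : c * (z * a) * c⁻¹ = (c * z * c⁻¹) * (c * a * c⁻¹) := by group
      rw [this, hcz, hb', ← mul_assoc, hzz, one_mul]
    have h6 : c ^ 3 * a * (c ^ 3)⁻¹ = c * (c * (c * a * c⁻¹) * c⁻¹) * c⁻¹ := by
      have h9 : c ^ 3 = c * c * c := by rw [pow_succ, pow_two]
      rw [h9]; group
    rw [hb', h5, hb', hc3] at h6
    have h7 : a = z * a := by simpa using h6
    have h8 : z * a = 1 * a := by rw [one_mul]; exact h7.symm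
    exact mul_right_cancel h8

theorem backward {G : Type*} [Group G] [Finite G] (P : Subgroup G) (hP2 : IsPGroup 2 P)
    (hP : IsCyclic P ∨ ((∃ C : Subgroup G, DihLike P C) ∧
      ∀ K : Subgroup G, K ≤ P → Nat.card K = 4 → (∀ k ∈ K, k ^ 2 = 1) → Subgroup.centralizer (K : Set G) = K))
    (H : Subgroup G) (S : Sylow 2 ↥H) (hSn : (S : Subgroup ↥H).Normal)
    (hcyc : IsCyclic (↥H ⧸ (S : Subgroup ↥H)))
    (hSP : (S : Subgroup ↥H).map H.subtype ≤ P) :
    IsCyclic H ∨ (∃ n : ℕ, Nonempty (H ≃* DihedralGroup (2 ^ n))) ∨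
      Nonempty (H ≃* alternatingGroup (Fin 4)) := by
  have : Fact (Nat.Prime 2) := ⟨Nat.prime_two⟩
  set T : Subgroup G := (S : Subgroup ↥H).map H.subtype with hT
  have hTH : T ≤ H := Subgroup.map_subtype_le _
  have hT2 : IsPGroup 2 T := hP2.to_le hSP
  have hcardT : Nat.card T = Nat.card (S : Subgroup ↥H) :=
    Subgroup.card_map_of_injective H.subtype_injective
  set a := Nat.card (S : Subgroup ↥H) with ha
  set i := (S : Subgroup ↥H).index with hi
  have hai : a * i = Nat.card H := Subgroup.card_mul_index _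
  have hcop : a.Coprime i := Sylow.card_coprime_index S
  obtain ⟨k, hk⟩ := S.2.exists_card_eq
  have hak : a = 2 ^ k := hk
  obtain ⟨gb, hgb⟩ := hcyc.exists_generator
  obtain ⟨h₀, rfl⟩ := QuotientGroup.mk_surjective gb
  have hcardq : Nat.card (↥H ⧸ (S : Subgroup ↥H)) = i := rfl
  have hog : orderOf (QuotientGroup.mk h₀ : ↥H ⧸ (S : Subgroup ↥H)) = i := by
    rw [orderOf_eq_card_of_forall_mem_zpowers hgb, hcardq]
  set c' : ↥H := h₀ ^ a with hc'
  have hc'i : c' ^ i = 1 := by
    rw [hc', ← pow_mul, hai]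
    exact pow_card_eq_one'
  have ho1 : orderOf c' ∣ i := orderOf_dvd_of_pow_eq_one hc'i
  have ho2 : i ∣ orderOf c' := by
    have h1 : orderOf (QuotientGroup.mk' (S : Subgroup ↥H) c') ∣ orderOf c' := orderOf_map_dvd _ _
    have h2 : QuotientGroup.mk' (S : Subgroup ↥H) c' = (QuotientGroup.mk h₀ : ↥H ⧸ (S : Subgroup ↥H)) ^ a := by
      rw [hc', map_pow]; rfl
    rw [h2, Nat.Coprime.orderOf_pow (by rw [hog]; exact hcop.symm), hog] at h1
    exact h1
  have hoc' : orderOf c' = i := Nat.dvd_antisymm ho1 ho2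
  set c : G := (c' : G) with hc
  have hcH : c ∈ H := c'.2
  have hoc : orderOf c = i := by rw [hc, Subgroup.orderOf_coe, hoc']
  have hodd : (orderOf c).Coprime 2 := by
    rw [hoc]
    rcases Nat.eq_zero_or_pos k with rfl | hk0
    · -- a = 1, so 2 does not divide |H|
      have h1 := Sylow.not_dvd_index S
      exact ((Nat.Prime.coprime_iff_not_dvd Nat.prime_two).mpr h1).symm
    · have h1 : (2 ^ k).Coprime i := hak ▸ hcop
      exact ((Nat.coprime_pow_left_iff hk0 2 i).mp h1).symm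
  have hconj : ∀ t ∈ T, c * t * c⁻¹ ∈ T := by
    rintro t ⟨t', ht', rfl⟩
    exact ⟨c' * t' * c'⁻¹, hSn.conj_mem t' ht' c', by simp [hc]⟩
  have hcN : c ∈ Subgroup.normalizer (T : Set G) :=
    Cfsg.Agent.Lib.Helper1.mem_normalizer_of_conj_mem hconj
  by_cases hTc : IsCyclic T
  · left
    have hcC := Cfsg.Agent.Lib.Helper4.odd_centralizes_cyclic_two (hcardT.trans hak) hcN hodd
    obtain ⟨t, ht⟩ := (Subgroup.isCyclic_iff_exists_zpowers_eq_top _).mp hTc
    have htT : t ∈ T := ht ▸ Subgroup.mem_zpowers t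
    have hot : orderOf t = a := by rw [← Nat.card_zpowers, ht, hcardT]
    have hcomm : Commute t c := Subgroup.mem_centralizer_iff.mp hcC t htT
    have hord : orderOf (t * c) = a * i := by
      rw [hcomm.orderOf_mul_eq_mul_orderOf_of_coprime (by rw [hot, hoc]; exact hcop), hot, hoc]
    apply isCyclic_of_orderOf_eq_card (⟨t * c, H.mul_mem (hTH htT) hcH⟩ : ↥H)
    rw [Subgroup.orderOf_mk, hord, hai]
  · have hPnc : ¬ IsCyclic P := fun h => hTc (Subgroup.isCyclic_of_le hSP)
    rcases hP with hP | ⟨⟨C, hD⟩, hK⟩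
    · exact absurd hP hPnc
    obtain ⟨⟨n, ⟨e⟩⟩, K, hKT, hK4, hK2⟩ := dih_sub hD hP2 T hSP hTc
    by_cases hcC : c ∈ Subgroup.centralizer (T : Set G)
    · right; left
      have h1 : c ∈ Subgroup.centralizer (K : Set G) := Subgroup.centralizer_le hKT hcC
      rw [hK K (hKT.trans hSP) hK4 hK2] at h1
      have h2 : c = 1 := eq_one_of_odd_mem T hT2 c (hKT h1) hodd
      have h3 : i = 1 := by rw [← hoc, h2, orderOf_one]
      have h5 : T = H := Subgroup.eq_of_le_of_card_ge hTH (by rw [← hai, h3, mul_one, hcardT])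
      exact ⟨n, ⟨(MulEquiv.subgroupCongr h5.symm).trans e⟩⟩
    · right; right
      have hKl : IsKleinFour T := by
        rcases hD.centralizes_or_klein hP2 hSP hcN hodd with h | h
        · exact absurd h hcC
        · exact h
      have hT4 : Nat.card T = 4 := hKl.card_four
      have hTsq : ∀ t ∈ T, t ^ 2 = 1 := by
        intro t ht
        have h1 := Monoid.pow_exponent_eq_one (⟨t, ht⟩ : T)
        rw [hKl.exponent_two] at h1
        simpa using congrArg Subtype.val h1
      have hCT := hK T hSP hT4 hTsq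
      have h3 : c ^ 3 ∈ T := by
        have := cube_cent T hT4 c hcN hodd
        rwa [hCT] at this
      have hc3 : c ^ 3 = 1 := eq_one_of_odd_mem T hT2 _ h3
        (Nat.Coprime.coprime_dvd_left (orderOf_pow_dvd 3) hodd)
      have hi3 : i = 3 := by
        have h5 : orderOf c ∣ 3 := orderOf_dvd_of_pow_eq_one hc3
        rcases (Nat.dvd_prime Nat.prime_three).mp h5 with h6 | h6
        · exfalso
          apply hcC
          rw [orderOf_eq_one_iff.mp h6]
          exact Subgroup.one_mem _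
        · rw [← hoc, h6]
      have hH12 : Nat.card H = 12 := by
        rw [← hai, hi3, ← hcardT, hT4]
      apply Cfsg.Agent.S0228.result hH12
      intro z hz hzc
      apply hcC
      have hzS : z ∈ (S : Subgroup ↥H) := by
        apply le_sylow_of_normal S hSn (Subgroup.zpowers z) _ (Subgroup.mem_zpowers z)
        exact IsPGroup.of_card (n := 1) (by rw [Nat.card_zpowers, hz]; norm_num)
      have hzT : (z : G) ∈ T := ⟨z, hzS, rfl⟩
      have hz1 : (z : G) ≠ 1 := by
        intro h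
        have : z = 1 := Subtype.ext h
        rw [this, orderOf_one] at hz
        omega
      have hcz : c * (z : G) * c⁻¹ = z := by
        have h5 := Subgroup.mem_center_iff.mp hzc c'
        have h6 : c * (z : G) = z * c := congrArg Subtype.val h5
        rw [h6]; group
      exact cent_of_fix T hT4 hTsq c hc3 hconj z hzT hz1 hcz


/-- Let G be a finite group with Sylow 2-subgroup P. Every subgroup H of G whose Sylow 2-subgroup is normal in H with cyclic quotient is cyclic, dihedral of 2-power order, or isomorphic to the alternating group of degree 4, if and only if either P is cyclic, or P is dihedral (of order at least 4) and every elementary abelian subgroup K of order 4 of P satisfies C_G(K) = K. -/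
theorem result {G : Type*} [Group G] [Finite G] (P : Sylow 2 G) :
    (∀ H : Subgroup G, (∀ S : Sylow 2 ↥H, (S : Subgroup ↥H).Normal) →
        (∀ (S : Sylow 2 ↥H) [(S : Subgroup ↥H).Normal], IsCyclic (↥H ⧸ (S : Subgroup ↥H))) →
        IsCyclic H ∨ (∃ n : ℕ, Nonempty (H ≃* DihedralGroup (2 ^ n))) ∨ Nonempty (H ≃* alternatingGroup (Fin 4))) ↔
    (IsCyclic P ∨
      ((∃ n : ℕ, 1 ≤ n ∧ Nonempty ((P : Subgroup G) ≃* DihedralGroup (2 ^ n))) ∧
        ∀ K : Subgroup G, K ≤ P → Nat.card K = 4 → (∀ k ∈ K, k ^ 2 = 1) → Subgroup.centralizer (K : Set G) = K)) := by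
  constructor
  · intro hyp
    exact forward P hyp
  · intro hP H hA hB
    have : Fact (Nat.Prime 2) := ⟨Nat.prime_two⟩
    obtain ⟨S⟩ : Nonempty (Sylow 2 ↥H) := inferInstance
    have hSn := hA S
    have hcyc := hB S
    have hT2 : IsPGroup 2 ((S : Subgroup ↥H).map H.subtype) := S.2.map _
    obtain ⟨P', hP'⟩ := hT2.exists_le_sylow
    obtain ⟨g, hg⟩ := MulAction.exists_smul_eq G P P'
    have hPP : (P' : Subgroup G) = cj g P := by
      rw [← hg, Sylow.coe_subgroup_smul]; rfl
    apply backward (cj g P) (hPP ▸ P'.2) ?_ H S hSn hcyc (hPP ▸ hP')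
    let eq : (P : Subgroup G) ≃* cj g (P : Subgroup G) :=
      Subgroup.equivMapOfInjective _ _ (MulAut.conj g).injective
    rcases hP with h | ⟨⟨n, hn, ⟨e⟩⟩, hK⟩
    · left
      exact isCyclic_of_surjective eq eq.surjective
    · right
      refine ⟨?_, cent_conj P hK g⟩
      haveI : NeZero (2 ^ n) := ⟨by positivity⟩
      exact Cfsg.Agent.Lib.Helper4.dihLike_of_equiv _ (2 ^ n) (eq.symm.trans e)

end Cfsg.Agent.S4083
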