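import Cfsg.Statements.S4113
import Mathlib

set_option autoImplicit false
open Cfsg

namespace Cfsg.Agent.S4113

/-- Let G be a finite group, M ≤ N non-trivial proper normal subgroups, and H a subgroup with HM = G and H ∩ M = 1. Then every element of G outside N acts fixed-point-freely on M (C_G(x) ≤ N for every x ∈ M, x ≠ 1) if and only if H ∩ gHg⁻¹ ≤ H ∩ N for every g outside H, with H proper and non-trivial and H ∩ N proper in H. -/
theorem result {G : Type*} [Group G] [Finite G] (N M : Subgroup G) [N.Normal] [M.Normal] (hMN : M ≤ N) (hM1 : M ≠ ⊥) (hN2 : N ≠ ⊤)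
    (H : Subgroup G) (hHM : H ⊔ M = ⊤) (hHM' : H ⊓ M = ⊥) :
    (∀ x ∈ M, x ≠ 1 → Subgroup.centralizer ({x} : Set G) ≤ N) ↔
      (H ≠ ⊥ ∧ H ≠ ⊤ ∧ H ⊓ N < H ∧ ∀ g : G, g ∉ H → H ⊓ H.map (MulAut.conj g).toMonoidHom ≤ N) := by
  classical
  have hdecomp : ∀ g : G, ∃ h ∈ H, ∃ m ∈ M, g = h * m := by
    intro g
    have : g ∈ H ⊔ M := hHM ▸ Subgroup.mem_top g
    rw [Subgroup.mem_sup_of_normal_right] at this
    obtain ⟨h, hh, m, hm, rfl⟩ := this
    exact ⟨h, hh, m, hm, rfl⟩
  have hinter : ∀ y, y ∈ H → y ∈ M → y = 1 := by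
    intro y h1 h2
    have : y ∈ H ⊓ M := ⟨h1, h2⟩
    rw [hHM'] at this
    exact Subgroup.mem_bot.mp this
  constructor
  · intro hC
    refine ⟨?_, ?_, ?_, ?_⟩
    · rintro rfl
      apply hN2
      rw [bot_sup_eq] at hHM
      rw [hHM] at hMN
      exact top_le_iff.mp hMN
    · rintro rfl
      apply hM1
      rwa [top_inf_eq] at hHM'
    · refine lt_of_le_of_ne inf_le_left ?_
      intro h
      have hHN : H ≤ N := inf_eq_left.mp h
      apply hN2
      rw [eq_top_iff, ← hHM]
      exact sup_le hHN hMN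
    · rintro g hg y ⟨hy1, k, hk, rfl⟩
      obtain ⟨h, hh, m, hm, rfl⟩ := hdecomp g
      have hm1 : m ≠ 1 := by
        rintro rfl
        apply hg
        simpa using hh
      have hy1' : (h * m) * k * (h * m)⁻¹ ∈ H := hy1
      have h2 : m * k * m⁻¹ ∈ H := by
        have := H.mul_mem (H.mul_mem (H.inv_mem hh) hy1') hh
        convert this using 1
        group
      have h3 : m * k * m⁻¹ * k⁻¹ ∈ H := H.mul_mem h2 (H.inv_mem hk)
      have h4 : m * k * m⁻¹ * k⁻¹ ∈ M := by
        have : k * m⁻¹ * k⁻¹ ∈ M := (inferInstance : M.Normal).conj_mem _ (M.inv_mem hm) k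
        have := M.mul_mem hm this
        convert this using 1
        group
      have h5 := hinter _ h3 h4
      have h6 : k ∈ Subgroup.centralizer ({m} : Set G) := by
        rw [Subgroup.mem_centralizer_singleton_iff]
        have : m * k = k * m := by
          have := congrArg (fun t => t * k * m) h5
          simpa [mul_assoc] using this
        exact this.symm
      have h7 : k ∈ N := hC m hm hm1 h6
      exact (inferInstance : N.Normal).conj_mem _ h7 _
  · rintro ⟨-, -, -, hT⟩ x hx hx1 c hc
    by_contra hcN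
    obtain ⟨h, hh, m, hm, rfl⟩ := hdecomp c
    have hhN : h ∉ N := by
      intro hhN
      exact hcN (N.mul_mem hhN (hMN hm))
    -- no nontrivial element of M commutes with h
    have hfree : ∀ z ∈ M, z * h = h * z → z = 1 := by
      intro z hz hzh
      by_contra hz1
      have hzH : z ∉ H := fun hzH => hz1 (hinter z hzH hz)
      apply hhN
      apply hT z hzH
      refine ⟨hh, h, hh, ?_⟩
      show z * h * z⁻¹ = h
      rw [hzh]; group
    -- the map m ↦ h⁻¹ * (m h m⁻¹) on M is injective
    let F : M → M := fun z => ⟨h⁻¹ * z.1 * h * z.1⁻¹, by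
      have : h⁻¹ * z.1 * h ∈ M := by
        have := (inferInstance : M.Normal).conj_mem _ z.2 h⁻¹
        simpa using this
      exact M.mul_mem this (M.inv_mem z.2)⟩
    have hF : Function.Injective F := by
      intro a b hab
      have h1 : h⁻¹ * a.1 * h * a.1⁻¹ = h⁻¹ * b.1 * h * b.1⁻¹ := congrArg Subtype.val hab
      have h2 : (b.1⁻¹ * a.1) * h = h * (b.1⁻¹ * a.1) := by
        have := congrArg (fun t => b.1⁻¹ * h * t * a.1) h1
        simpa [mul_assoc] using this
      have h3 := hfree _ (M.mul_mem (M.inv_mem b.2) a.2) h2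
      ext
      exact (inv_mul_eq_one.mp h3).symm
    have hFs : Function.Surjective F := Finite.surjective_of_injective hF
    obtain ⟨z, hz⟩ := hFs ⟨m, hm⟩
    have hz' : h⁻¹ * z.1 * h * z.1⁻¹ = m := congrArg Subtype.val hz
    have hc' : h * m = z.1 * h * z.1⁻¹ := by
      rw [← hz']; group
    rw [Subgroup.mem_centralizer_singleton_iff] at hc
    rw [hc'] at hc
    have h8 : (z.1⁻¹ * x * z.1) * h = h * (z.1⁻¹ * x * z.1) := by
      have := congrArg (fun t => z.1⁻¹ * t * z.1) hc
      simp only [mul_assoc, inv_mul_cancel_left, inv_mul_cancel, mul_one] at this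
      simp only [mul_assoc]
      exact this.symm
    have h9 : z.1⁻¹ * x * z.1 ∈ M := by
      have := (inferInstance : M.Normal).conj_mem _ hx z.1⁻¹
      simpa using this
    have h10 := hfree _ h9 h8
    apply hx1
    have := congrArg (fun t => z.1 * t * z.1⁻¹) h10
    simpa [mul_assoc] using this

end Cfsg.Agent.S4113
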