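import Mathlib
import Cfsg.Statements.S4143
import Cfsg.Agent.S0112


set_option autoImplicit false
open Cfsg

namespace Cfsg.Agent.S4143


open Cfsg.Agent.S0112 in
theorem key {X : Type*} [Group X] [Finite X] {p : ℕ} [hp : Fact p.Prime] (n : ℕ) (hX : Nat.card X = p ^ n)
    (B : Subgroup X) (hB : Nat.card B = p ^ 3) (hBna : ¬ IsMulCommutative B)
    (hC : Subgroup.centralizer (B : Set X) ≤ B) :
    Group.nilpotencyClass X = n - 1 := by
  have hpp := hp.out
  have hP : IsPGroup p X := IsPGroup.of_card hX
  have hnil := hP.isNilpotent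
  have hn3 : 3 ≤ n := by
    have := Subgroup.card_subgroup_dvd_card B
    rw [hB, hX] at this
    exact (Nat.pow_dvd_pow_iff_le_right hpp.one_lt).mp this
  -- noncommuting pair
  obtain ⟨y₁, hy₁, y₂, hy₂, hne⟩ : ∃ y₁ ∈ B, ∃ y₂ ∈ B, y₁ * y₂ ≠ y₂ * y₁ := by
    by_contra hcon
    push Not at hcon
    apply hBna
    exact ⟨⟨fun a b => Subtype.ext (hcon a a.2 b b.2)⟩⟩
  -- closure is B
  have hgen : Subgroup.closure ({y₁, y₂} : Set X) = B := by
    have hle : Subgroup.closure ({y₁, y₂} : Set X) ≤ B := by
      rw [Subgroup.closure_le]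
      intro x hx
      rcases hx with rfl | rfl
      · exact hy₁
      · exact hy₂
    have hd : Nat.card (Subgroup.closure ({y₁, y₂} : Set X)) ∣ p ^ 3 := hB ▸ Subgroup.card_dvd_of_le hle
    obtain ⟨i, hi, hi'⟩ := (Nat.dvd_prime_pow hpp).mp hd
    have hm1 : y₁ ∈ Subgroup.closure ({y₁, y₂} : Set X) := Subgroup.subset_closure (by simp)
    have hm2 : y₂ ∈ Subgroup.closure ({y₁, y₂} : Set X) := Subgroup.subset_closure (by simp)
    have hi3 : i = 3 := by
      by_contra hcon
      have hcomm : IsMulCommutative (Subgroup.closure ({y₁, y₂} : Set X)) := by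
        have hi2 : i = 0 ∨ i = 1 ∨ i = 2 := by omega
        rcases hi2 with rfl | rfl | rfl
        · rw [pow_zero] at hi'
          have hs : Subsingleton (Subgroup.closure ({y₁, y₂} : Set X)) :=
            (Nat.card_eq_one_iff_unique.mp hi').1
          exact ⟨⟨fun a b => Subsingleton.elim _ _⟩⟩
        · rw [pow_one] at hi'
          have hcyc := isCyclic_of_prime_card hi'
          exact ⟨⟨fun a b => hcyc.commGroup.mul_comm a b⟩⟩
        · exact IsPGroup.isMulCommutative_of_card_eq_prime_sq hi'
      exact hne (congrArg Subtype.val (hcomm.is_comm.comm ⟨y₁, hm1⟩ ⟨y₂, hm2⟩))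
    exact Subgroup.eq_of_le_of_card_ge hle (by rw [hi', hi3, hB])
  have hZC : Subgroup.center X ≤ Subgroup.centralizer (B : Set X) := Subgroup.center_le_centralizer _
  have hntX : Nontrivial X := by
    rw [← Finite.one_lt_card_iff_nontrivial, hX]
    exact Nat.one_lt_pow (by omega) hpp.one_lt
  have hcn := hP.center_nontrivial
  have hc1 : Nat.card (Subgroup.center X) ≠ 1 := by
    rw [← Finite.one_lt_card_iff_nontrivial] at hcn
    omega
  -- card of centralizer of B is p
  have hCB : Nat.card (Subgroup.centralizer (B : Set X)) = p := by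
    have hd : Nat.card (Subgroup.centralizer (B : Set X)) ∣ p ^ 3 := hB ▸ Subgroup.card_dvd_of_le hC
    obtain ⟨i, hi, hi'⟩ := (Nat.dvd_prime_pow hpp).mp hd
    have hy₁C : y₁ ∉ Subgroup.centralizer (B : Set X) := by
      intro h
      exact hne (Subgroup.mem_centralizer_iff.mp h y₂ hy₂).symm
    have hi0 : i ≠ 0 := by
      rintro rfl
      rw [pow_zero] at hi'
      have := Subgroup.card_dvd_of_le hZC
      rw [hi'] at this
      exact hc1 (Nat.dvd_one.mp this)
    have hi3 : i ≠ 3 := by
      rintro rfl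
      have : Subgroup.centralizer (B : Set X) = B := Subgroup.eq_of_le_of_card_ge hC (by rw [hi', hB])
      exact hy₁C (by rw [this]; exact hy₁)
    have hi2 : i ≠ 2 := by
      rintro rfl
      set H : Subgroup X := Subgroup.centralizer (B : Set X) ⊔ Subgroup.zpowers y₁ with hH
      have hHB : H ≤ B := sup_le hC (by rw [Subgroup.zpowers_le]; exact hy₁)
      have hdH : Nat.card H ∣ p ^ 3 := hB ▸ Subgroup.card_dvd_of_le hHB
      obtain ⟨j, hj, hj'⟩ := (Nat.dvd_prime_pow hpp).mp hdH
      have hCH : Subgroup.centralizer (B : Set X) ≤ H := le_sup_left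
      have hy₁H : y₁ ∈ H := (le_sup_right : Subgroup.zpowers y₁ ≤ H) (Subgroup.mem_zpowers y₁)
      have hj3 : j = 3 := by
        by_contra hcon
        have hj2 : j ≤ 2 := by omega
        have : Subgroup.centralizer (B : Set X) = H := Subgroup.eq_of_le_of_card_ge hCH (by
          rw [hi', hj']; exact Nat.pow_le_pow_right hpp.pos hj2)
        exact hy₁C (this ▸ hy₁H)
      have hHeq : H = B := Subgroup.eq_of_le_of_card_ge hHB (by rw [hj', hj3, hB])
      have hHc : H ≤ Subgroup.centralizer ({y₁} : Set X) := by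
        apply sup_le
        · intro g hg
          exact Subgroup.mem_centralizer_singleton_iff.mpr (Subgroup.mem_centralizer_iff.mp hg y₁ hy₁).symm
        · rw [Subgroup.zpowers_le]
          exact Subgroup.mem_centralizer_singleton_iff.mpr rfl
      have : y₂ ∈ H := hHeq ▸ hy₂
      exact hne (Subgroup.mem_centralizer_singleton_iff.mp (hHc this)).symm
    have : i = 1 := by omega
    rw [hi', this, pow_one]
  have hZp : Nat.card (Subgroup.center X) = p := by
    have := Subgroup.card_dvd_of_le hZC
    rw [hCB] at this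
    exact ((Nat.dvd_prime hpp).mp this).resolve_left hc1
  have hZeq : Subgroup.center X = Subgroup.centralizer (B : Set X) :=
    Subgroup.eq_of_le_of_card_ge hZC (by rw [hZp, hCB])
  have hZB : Subgroup.center X ≤ B := hZC.trans hC
  -- quotient
  have hq : Nat.card (X ⧸ Subgroup.center X) = p ^ (n - 1) := by
    have h3 := (Subgroup.center X).card_mul_index
    rw [Subgroup.index_eq_card, hZp, hX] at h3
    have : p ^ n = p * p ^ (n - 1) := by
      rw [← pow_succ']; congr 1; omega
    rw [this] at h3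
    exact Nat.eq_of_mul_eq_mul_left hpp.pos h3
  set Bb : Subgroup (X ⧸ Subgroup.center X) := B.map (QuotientGroup.mk' (Subgroup.center X)) with hBb
  have hcomapBb : Bb.comap (QuotientGroup.mk' (Subgroup.center X)) = B := by
    rw [hBb, Subgroup.comap_map_eq, QuotientGroup.ker_mk']
    exact sup_eq_left.mpr hZB
  have hBbc : Nat.card Bb = p ^ 2 := by
    have := card_comap_mk (Subgroup.center X) Bb
    rw [hcomapBb, hB, hZp, pow_succ' p 2] at this
    exact (Nat.eq_of_mul_eq_mul_left hpp.pos this).symm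
  have hBbcomm := IsPGroup.isMulCommutative_of_card_eq_prime_sq hBbc
  have hBbC : Bb ≤ Subgroup.centralizer (Bb : Set (X ⧸ Subgroup.center X)) := by
    intro y hy
    apply Subgroup.mem_centralizer_iff.mpr
    intro w hw
    exact congrArg Subtype.val (hBbcomm.is_comm.comm ⟨w, hw⟩ ⟨y, hy⟩)
  set D : Subgroup X := (Subgroup.centralizer (Bb : Set (X ⧸ Subgroup.center X))).comap
    (QuotientGroup.mk' (Subgroup.center X)) with hD
  have hBD : B ≤ D := by
    rw [← hcomapBb, hD]
    exact Subgroup.comap_mono hBbC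
  have hDmem : ∀ b ∈ B, ∀ x ∈ D, x * b * x⁻¹ * b⁻¹ ∈ Subgroup.center X := by
    intro b hb x hx
    rw [hD, Subgroup.mem_comap] at hx
    have hbb : (QuotientGroup.mk' (Subgroup.center X)) b ∈ Bb := Subgroup.mem_map_of_mem _ hb
    have h1 := Subgroup.mem_centralizer_iff.mp hx _ hbb
    rw [← QuotientGroup.eq_one_iff, QuotientGroup.mk_mul, QuotientGroup.mk_mul,
      QuotientGroup.mk_mul, QuotientGroup.mk_inv, QuotientGroup.mk_inv]
    change (QuotientGroup.mk b : X ⧸ Subgroup.center X) * QuotientGroup.mk x =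
      QuotientGroup.mk x * QuotientGroup.mk b at h1
    rw [← h1]
    group
  set K₁ := (psi y₁ D (hDmem y₁ hy₁)).ker with hK₁
  set K₂ := (psi y₂ D (hDmem y₂ hy₂)).ker with hK₂
  have hidx : ∀ (b : X) (hb : b ∈ B), (psi b D (hDmem b hb)).ker.index ≤ p := by
    intro b hb
    rw [Subgroup.index_ker]
    have h2 : Nat.card (psi b D (hDmem b hb)).range ∣ p := hZp ▸ Subgroup.card_subgroup_dvd_card _
    exact Nat.le_of_dvd hpp.pos h2
  have hmemK : ∀ (b : X) (hb : b ∈ B) (g : D), g ∈ (psi b D (hDmem b hb)).ker → (g : X) * b = b * g := by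
    intro b hb g hg
    have := congrArg Subtype.val (MonoidHom.mem_ker.mp hg)
    change (g : X) * b * (g : X)⁻¹ * b⁻¹ = 1 at this
    rw [mul_inv_eq_one, mul_inv_eq_iff_eq_mul] at this
    exact this
  have hKle : Nat.card (K₁ ⊓ K₂ : Subgroup D) ≤ p := by
    rw [← hCB]
    have hmap : ∀ g : (K₁ ⊓ K₂ : Subgroup D), ((g : D) : X) ∈ Subgroup.centralizer (B : Set X) := by
      intro g
      have h1 := hmemK y₁ hy₁ g.1 g.2.1
      have h2 := hmemK y₂ hy₂ g.1 g.2.2
      have : B ≤ Subgroup.centralizer ({((g : D) : X)} : Set X) := by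
        rw [← hgen, Subgroup.closure_le]
        intro x hx
        rcases hx with rfl | rfl
        · exact Subgroup.mem_centralizer_singleton_iff.mpr h1.symm
        · exact Subgroup.mem_centralizer_singleton_iff.mpr h2.symm
      apply Subgroup.mem_centralizer_iff.mpr
      intro b hb
      exact (Subgroup.mem_centralizer_singleton_iff.mp (this hb))
    apply Nat.card_le_card_of_injective (fun g : (K₁ ⊓ K₂ : Subgroup D) =>
      (⟨((g : D) : X), hmap g⟩ : Subgroup.centralizer (B : Set X)))
    intro a b hab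
    have := congrArg Subtype.val hab
    exact Subtype.ext (Subtype.ext this)
  have hDle : Nat.card D ≤ p ^ 3 := by
    have h1 := Subgroup.card_mul_index (K₁ ⊓ K₂ : Subgroup D)
    have h2 : (K₁ ⊓ K₂ : Subgroup D).index ≤ K₁.index * K₂.index := Subgroup.index_inf_le
    have h3 : K₁.index * K₂.index ≤ p * p := Nat.mul_le_mul (hidx y₁ hy₁) (hidx y₂ hy₂)
    calc Nat.card D = Nat.card (K₁ ⊓ K₂ : Subgroup D) * (K₁ ⊓ K₂ : Subgroup D).index := h1.symm
      _ ≤ p * (p * p) := Nat.mul_le_mul hKle (h2.trans h3)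
      _ = p ^ 3 := by ring
  have hDB : B = D := Subgroup.eq_of_le_of_card_ge hBD (by rw [hB]; exact hDle)
  have hCBb : Subgroup.centralizer (Bb : Set (X ⧸ Subgroup.center X)) = Bb := by
    have h1 : D.map (QuotientGroup.mk' (Subgroup.center X)) =
        Subgroup.centralizer (Bb : Set (X ⧸ Subgroup.center X)) := by
      rw [hD]
      exact Subgroup.map_comap_eq_self_of_surjective (QuotientGroup.mk'_surjective _) _
    rw [← h1, ← hDB]
  have := Cfsg.Agent.S0112.result (n - 1) hq Bb hBbc hCBb
  rw [Group.nilpotencyClass_quotient_center] at this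
  have hne0 : Group.nilpotencyClass X ≠ 0 := by
    rw [Ne, Group.nilpotencyClass_zero_iff_subsingleton]
    intro hs
    exact not_subsingleton X hs
  omega


/-- Let X be a finite p-group of order p^n containing a non-abelian subgroup B of order p³ with C_X(B) ≤ B. Then X has nilpotency class n − 1 (maximal class). -/
theorem result {X : Type*} [Group X] [Finite X] {p : ℕ} [Fact p.Prime] (n : ℕ) (hX : Nat.card X = p ^ n)
    (B : Subgroup X) (hB : Nat.card B = p ^ 3) (hBna : ¬ IsMulCommutative B) (hC : Subgroup.centralizer (B : Set X) ≤ B) :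
    Group.nilpotencyClass X = n - 1 := by
  exact key n hX B hB hBna hC

end Cfsg.Agent.S4143
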