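import Cfsg.Statements.S4348
import Mathlib

set_option autoImplicit false
open Cfsg

namespace Cfsg.Agent.S4348

theorem normal_pgroup_le_sylow {G : Type*} [Group G] [Finite G] (p : ℕ) [Fact p.Prime]
    (N : Subgroup G) (hN : N.Normal) (hp : IsPGroup p N) (Q : Sylow p G) : N ≤ Q := by
  obtain ⟨Q0, hQ0⟩ := hp.exists_le_sylow
  obtain ⟨g, hg⟩ := MulAction.exists_smul_eq G Q0 Q
  intro n hn
  have h1 : g⁻¹ * n * g ∈ N := by
    have := hN.conj_mem n hn g⁻¹
    simpa using this
  have h2 : g⁻¹ * n * g ∈ (Q0 : Subgroup G) := hQ0 h1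
  have : n ∈ ((g • Q0 : Sylow p G) : Subgroup G) := by
    rw [Sylow.coe_subgroup_smul, Subgroup.mem_pointwise_smul_iff_inv_smul_mem]
    simp only [← map_inv, MulAut.smul_def, MulAut.conj_apply, inv_inv]
    exact h2
  rw [hg] at this
  exact this

theorem pCore_le_sylow {G : Type*} [Group G] [Finite G] (p : ℕ) [Fact p.Prime]
    (Q : Sylow p G) : Cfsg.pCore p G ≤ Q := by
  unfold Cfsg.pCore
  apply sSup_le
  rintro N ⟨hN, hp⟩
  exact normal_pgroup_le_sylow p N hN hp Q

/-- Let G be a finite group, p a prime and P a Sylow p-subgroup of G, and let O_p(G) be the largest normal p-subgroup of G. If P/O_p(G) is cyclic, then some element of p-power order of G lies in exactly one Sylow p-subgroup. -/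
theorem result {G : Type*} [Group G] [Finite G]
    (p : ℕ) [Fact p.Prime] (P : Sylow p G)
    [hn : ((Cfsg.pCore p G).subgroupOf (P : Subgroup G)).Normal]
    (hc : IsCyclic ((P : Subgroup G) ⧸ (Cfsg.pCore p G).subgroupOf (P : Subgroup G))) :
    ∃ x : G, (∃ k : ℕ, orderOf x = p ^ k) ∧ ∃! Q : Sylow p G, x ∈ Q := by
  obtain ⟨c, hc⟩ := hc.exists_generator
  obtain ⟨x', rfl⟩ := QuotientGroup.mk_surjective c
  refine ⟨(x' : G), ?_, P, x'.2, ?_⟩
  · obtain ⟨k, hk⟩ := P.isPGroup' x'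
    have : (x' : G) ^ p ^ k = 1 := by
      have := congrArg (Subtype.val) hk
      simpa using this
    obtain ⟨j, _, hj⟩ := (Nat.dvd_prime_pow (Fact.out : p.Prime)).1 (orderOf_dvd_of_pow_eq_one this)
    exact ⟨j, hj⟩
  · intro Q hQ
    have hPQ : (P : Subgroup G) ≤ Q := by
      intro y hy
      obtain ⟨k, hk⟩ := Subgroup.mem_zpowers_iff.1 (hc (QuotientGroup.mk ⟨y, hy⟩))
      rw [← QuotientGroup.mk_zpow, QuotientGroup.eq] at hk
      rw [Subgroup.mem_subgroupOf] at hk
      have h1 := pCore_le_sylow p Q hk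
      have h2 : (x' : G) ^ k ∈ (Q : Subgroup G) := Subgroup.zpow_mem _ hQ k
      have h3 := Subgroup.mul_mem _ h2 h1
      simpa using h3
    exact (Sylow.ext (P.3 Q.2 hPQ)).symm ▸ rfl

end Cfsg.Agent.S4348
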