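import Cfsg.Statements.S4398
import Mathlib
import Cfsg.Agent.S4399
import Cfsg.Agent.S0115
import Cfsg.Agent.S4143
import Cfsg.Agent.Lib.Helper23.SecRank
import Cfsg.Agent.Lib.Helper23.MaxClass

set_option autoImplicit false
open Cfsg

namespace Cfsg.Agent.S4398


theorem cent_le {S : Type*} [Group S] [Finite S] (h2 : IsPGroup 2 S)
    (hr : Cfsg.SectionalPRankLE 2 2 S)
    (B : Subgroup S) (hB : Nat.card B = 8) (hna : ¬ IsMulCommutative B) :
    Subgroup.centralizer (B : Set S) ≤ B := by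
  classical
  haveI : Fact (Nat.Prime 2) := ⟨Nat.prime_two⟩
  have hZ : Nat.card (Subgroup.center B) = 2 := by
    obtain ⟨k, hk1, hk3, hkc, hkq⟩ := Cfsg.Agent.Lib.Helper23.card_center_quotient (p := 2)
      (G := B) (n := 3) (by rw [hB]; norm_num) (by norm_num)
    have hk : k = 1 := by
      by_contra hk
      apply hna
      apply Cfsg.Agent.Lib.Helper23.isMulCommutative_of_card_center_quotient_dvd (p := 2)
      rw [hkq]
      have h1 : 3 - k ≤ 1 := by omega
      calc 2 ^ (3 - k) ∣ 2 ^ 1 := pow_dvd_pow 2 h1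
        _ = 2 := by norm_num
    rw [hkc, hk]; norm_num
  obtain ⟨N, hNB, hBN, hsq, hcard, hcen⟩ :=
    Cfsg.Agent.Lib.Helper23.exists_sq_subgroup h2 B hna hZ
  by_contra hcon
  obtain ⟨c0, hc0C, hc0B⟩ := SetLike.not_le_iff_exists.mp hcon
  obtain ⟨c, hcC, hcB, hc2⟩ : ∃ c, c ∈ Subgroup.centralizer (B : Set S) ∧ c ∉ B ∧ c ^ 2 ∈ B := by
    obtain ⟨k, hk⟩ := (IsPGroup.iff_orderOf.mp h2) c0
    have hex : ∃ j, c0 ^ (2 ^ j) ∈ B := ⟨k, by rw [← hk, pow_orderOf_eq_one]; exact one_mem _⟩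
    have hjs := Nat.find_spec hex
    have hj0 : Nat.find hex ≠ 0 := by
      intro h0
      rw [h0] at hjs
      simp only [pow_zero, pow_one] at hjs
      exact hc0B hjs
    obtain ⟨i, hi⟩ : ∃ i, Nat.find hex = i + 1 := ⟨Nat.find hex - 1, by omega⟩
    refine ⟨c0 ^ (2 ^ i), Subgroup.pow_mem _ hc0C _, ?_, ?_⟩
    · exact Nat.find_min hex (by omega)
    · rw [← pow_mul, ← pow_succ, ← hi]; exact hjs
  have hcomm : ∀ b ∈ B, c * b = b * c := by
    intro b hb
    exact (Subgroup.mem_centralizer_iff.mp hcC b hb).symm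
  have hcommz : ∀ b ∈ B, ∀ i : ℤ, c ^ i * b = b * c ^ i :=
    fun b hb i => ((show Commute c b from hcomm b hb).zpow_left i)
  let K : Subgroup S :=
    { carrier := {x | ∃ b ∈ B, ∃ i : ℤ, x = b * c ^ i}
      one_mem' := ⟨1, one_mem _, 0, by simp⟩
      mul_mem' := by
        rintro _ _ ⟨b1, hb1, i1, rfl⟩ ⟨b2, hb2, i2, rfl⟩
        refine ⟨b1 * b2, mul_mem hb1 hb2, i1 + i2, ?_⟩
        rw [zpow_add]
        calc b1 * c ^ i1 * (b2 * c ^ i2) = b1 * (c ^ i1 * b2) * c ^ i2 := by
              simp only [mul_assoc]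
          _ = b1 * (b2 * c ^ i1) * c ^ i2 := by rw [hcommz b2 hb2]
          _ = b1 * b2 * (c ^ i1 * c ^ i2) := by simp only [mul_assoc]
      inv_mem' := by
        rintro _ ⟨b, hb, i, rfl⟩
        refine ⟨b⁻¹, inv_mem hb, -i, ?_⟩
        rw [mul_inv_rev, ← zpow_neg, hcommz _ (inv_mem hb)] }
  have hmemK : ∀ x, x ∈ K ↔ ∃ b ∈ B, ∃ i : ℤ, x = b * c ^ i := fun x => Iff.rfl
  have hBK : B ≤ K := fun x hx => (hmemK x).mpr ⟨x, hx, 0, by simp⟩
  have hcK : c ∈ K := (hmemK c).mpr ⟨1, one_mem _, 1, by simp⟩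
  have hc2N : c ^ 2 ∈ N := by
    apply hcen _ hc2
    intro y hy
    exact ((show Commute c y from hcomm y hy).pow_left 2)
  have hcn : c ∈ Subgroup.normalizer (N : Set S) := by
    rw [Subgroup.mem_normalizer_iff]
    intro h
    constructor
    · intro hh
      have : c * h * c⁻¹ = h := by rw [hcomm h (hNB hh)]; group
      rw [this]; exact hh
    · intro hh
      have h1 := hcomm _ (hNB hh)
      have : h = c * h * c⁻¹ := by
        calc h = c⁻¹ * ((c * h * c⁻¹) * c) := by group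
          _ = c⁻¹ * (c * (c * h * c⁻¹)) := by rw [h1]
          _ = c * h * c⁻¹ := by group
      rw [this]; exact hh
  have hKn : K ≤ Subgroup.normalizer (N : Set S) := by
    intro x hx
    obtain ⟨b, hb, i, rfl⟩ := (hmemK x).mp hx
    exact mul_mem (hBN hb) (Subgroup.zpow_mem _ hcn i)
  have hsqK : ∀ x ∈ K, x ^ 2 ∈ N := by
    intro x hx
    obtain ⟨b, hb, i, rfl⟩ := (hmemK x).mp hx
    have : (b * c ^ i) ^ 2 = b ^ 2 * (c ^ 2) ^ i := by
      rw [sq, sq]
      calc b * c ^ i * (b * c ^ i) = b * (c ^ i * b) * c ^ i := by simp only [mul_assoc]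
        _ = b * (b * c ^ i) * c ^ i := by rw [hcommz b hb]
        _ = b * b * (c ^ i * c ^ i) := by simp only [mul_assoc]
        _ = b * b * (c ^ 2) ^ i := by
          rw [← zpow_add, ← zpow_natCast, ← zpow_mul]
          congr 2
          push_cast
          ring
    rw [this]
    exact mul_mem (hsq b hb) (Subgroup.zpow_mem _ hc2N i)
  have hrel := Cfsg.Agent.Lib.Helper23.relIndex_le_of_sectionalPRankLE hr K N (hNB.trans hBK)
    hKn hsqK
  have hcardK : Nat.card K ≤ Nat.card B := by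
    have h1 := Subgroup.relIndex_mul_relIndex ⊥ N K bot_le (hNB.trans hBK)
    rw [Subgroup.relIndex_bot_left, Subgroup.relIndex_bot_left] at h1
    rw [← h1]
    calc Nat.card N * N.relIndex K ≤ Nat.card N * 2 ^ 2 := Nat.mul_le_mul_left _ hrel
      _ = 4 * Nat.card N := by ring
      _ ≤ Nat.card B := hcard
  have hEq : B = K := Subgroup.eq_of_le_of_card_ge hBK hcardK
  exact hcB (hEq ▸ hcK)


/-- Let S be a finite 2-group of sectional 2-rank at most 2 that contains a subgroup isomorphic to the dihedral group of order 8 or to the quaternion group of order 8. Then S is dihedral of order at least 8, semidihedral of order at least 16 (order 2^(k+4) with an element a of order 2^(k+3) and an involution b with b a b⁻¹ = a^(2^(k+2)−1)), or generalized quaternion of order at least 8. -/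
theorem result {S : Type*} [Group S] [Finite S] (h2 : IsPGroup 2 S) (hr : Cfsg.SectionalPRankLE 2 2 S)
    (hsub : ∃ H : Subgroup S, Nonempty (↥H ≃* DihedralGroup 4) ∨ Nonempty (↥H ≃* QuaternionGroup 2)) :
    ((∃ k : ℕ, Nonempty (S ≃* DihedralGroup (2 ^ (k + 2)))) ∨
      (∃ k : ℕ, Nat.card S = 2 ^ (k + 4) ∧ ∃ a b : S, orderOf a = 2 ^ (k + 3) ∧ orderOf b = 2 ∧ b * a * b⁻¹ = a ^ (2 ^ (k + 2) - 1)) ∨
      (∃ k : ℕ, Nonempty (S ≃* QuaternionGroup (2 ^ (k + 1))))) := by
  classical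
  haveI : Fact (Nat.Prime 2) := ⟨Nat.prime_two⟩
  obtain ⟨H, hH⟩ := hsub
  have hH8 : Nat.card H = 8 ∧ ¬ IsMulCommutative H := by
    rcases hH with ⟨⟨e⟩⟩ | ⟨⟨e⟩⟩
    · refine ⟨by rw [Nat.card_congr e.toEquiv, DihedralGroup.nat_card], ?_⟩
      intro hc
      have h1 : e.symm (DihedralGroup.r 1) * e.symm (DihedralGroup.sr 0) =
          e.symm (DihedralGroup.sr 0) * e.symm (DihedralGroup.r 1) := mul_comm' _ _
      rw [← map_mul, ← map_mul] at h1
      have := e.symm.injective h1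
      revert this
      decide
    · refine ⟨by rw [Nat.card_congr e.toEquiv, Nat.card_eq_fintype_card, QuaternionGroup.card], ?_⟩
      intro hc
      have h1 : e.symm (QuaternionGroup.a 1) * e.symm (QuaternionGroup.xa 0) =
          e.symm (QuaternionGroup.xa 0) * e.symm (QuaternionGroup.a 1) := mul_comm' _ _
      rw [← map_mul, ← map_mul] at h1
      have := e.symm.injective h1
      revert this
      decide
  obtain ⟨n, hn⟩ := IsPGroup.iff_card.mp h2
  have hC := cent_le h2 hr H hH8.1 hH8.2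
  have hcl := Cfsg.Agent.S4143.result (p := 2) n hn H (by rw [hH8.1]; norm_num) hH8.2 hC
  have hn3 : 3 ≤ n := by
    have h1 : Nat.card H ∣ Nat.card S := Subgroup.card_subgroup_dvd_card H
    rw [hH8.1, hn] at h1
    have h2' : 2 ^ 3 ∣ 2 ^ n := by simpa using h1
    exact (Nat.pow_dvd_pow_iff_le_right (by norm_num)).mp h2'
  have hK := (Cfsg.Agent.S0115.result n hn3 hn).mp hcl
  have hexp : ∀ x : S ⧸ commutator S, x ^ 2 = 1 := fun x => by
    have := Monoid.pow_exponent_eq_one x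
    rwa [hK.exponent_two] at this
  rcases Cfsg.Agent.S4399.result h2 hK.card_four hexp with h4 | h
  · exfalso
    rw [hn] at h4
    have : 2 ^ 3 ≤ 2 ^ n := Nat.pow_le_pow_right (by norm_num) hn3
    omega
  · exact h

end Cfsg.Agent.S4398
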