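import Cfsg.Statements.S4520
import Cfsg.Agent.Lib.Helper25.OddBlock

set_option autoImplicit false
open Cfsg
open Cfsg.Agent.Lib.Helper2 Cfsg.Agent.Lib.Helper6 Cfsg.Agent.Lib.Helper25 Cfsg.Agent.Lib.Helper23.RealBlock
open scoped ComplexConjugate

namespace Cfsg.Agent.S4520

attribute [local instance] irrFintype

theorem centralizer_pow {G : Type*} [Group G] [Finite G] {k : ℕ} (hk : k.Coprime (Nat.card G)) (g : G) :
    Subgroup.centralizer ({g ^ k} : Set G) = Subgroup.centralizer ({g} : Set G) := by
  obtain ⟨m, hm⟩ := exists_pow_eq_self_of_coprime (hk.coprime_dvd_right (orderOf_dvd_natCard g))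
  ext z
  rw [Subgroup.mem_centralizer_singleton_iff, Subgroup.mem_centralizer_singleton_iff]
  constructor
  · intro h
    have : Commute z (g ^ k) := h
    have h2 := this.pow_right m
    rw [hm] at h2
    exact h2
  · intro h
    have : Commute z g := h
    exact this.pow_right _

theorem centralChar_tw {G : Type*} [Group G] [Finite G] {k : ℕ} (hk : k.Coprime (Nat.card G))
    (ψ : G → ℂ) (g : G) : centralChar (Twist.tw k ψ) g = centralChar ψ (g ^ k) := by
  unfold centralChar
  rw [centralizer_pow hk, Twist.tw_apply, Twist.tw_apply, one_pow]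

theorem sameBlock_tw {G : Type*} [Group G] [Finite G] {M : Ideal AlgInt} {k : ℕ}
    (hk : k.Coprime (Nat.card G)) {a b : G → ℂ} (h : SameBlock M a b) :
    SameBlock M (Twist.tw k a) (Twist.tw k b) := by
  intro g
  rw [centralChar_tw hk, centralChar_tw hk]
  exact h _

theorem centralChar_comp_equiv {N : Type*} [Group N] (α : N ≃* N) (θ : N → ℂ) (n : N) :
    centralChar (θ ∘ α) n = centralChar θ (α n) := by
  unfold centralChar
  have : Subgroup.centralizer ({n} : Set N)
      = (Subgroup.centralizer ({α n} : Set N)).comap α.toMonoidHom := by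
    ext x
    rw [Subgroup.mem_comap, Subgroup.mem_centralizer_singleton_iff,
      Subgroup.mem_centralizer_singleton_iff]
    show _ ↔ α x * α n = α n * α x
    rw [← map_mul, ← map_mul, α.injective.eq_iff]
  rw [this, Subgroup.index_comap_of_surjective _ α.surjective]
  simp

/-- Let N be a normal subgroup of odd index in the finite group G, M a maximal ideal of the algebraic integers containing 2, and k coprime to the order of G with k ^ (2 ^ e) ≡ 1 modulo the order of G for some e and g ^ k = g⁻¹ for every element g of odd order. Let θ be an irreducible character of N and χ an irreducible character of G over θ, both unchanged by composing with g ↦ g ^ k. Then χ lies in the principal 2-block of G if and only if θ lies in the principal 2-block of N. -/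
theorem result {G : Type*} [Group G] [Fintype G] (M : Ideal Cfsg.AlgInt) (hM : Cfsg.IsPModular 2 M) (N : Subgroup G) [N.Normal] [Fintype N] (hidx : Odd N.index) (k e : ℕ) (hk : Nat.Coprime k (Nat.card G)) (hke : k ^ (2 ^ e) ≡ 1 [MOD Nat.card G]) (hk₂ : ∀ g : G, Odd (orderOf g) → g ^ k = g⁻¹) (θ : Cfsg.IrrCharacter N) (hθ : ∀ n : N, (θ : N → ℂ) (n ^ k) = (θ : N → ℂ) n) (χ : Cfsg.IrrCharacter G) (hχ : ∀ g : G, (χ : G → ℂ) (g ^ k) = (χ : G → ℂ) g) (hover : Cfsg.classInner (fun n : N => (χ : G → ℂ) n) (θ : N → ℂ) ≠ 0) : χ ∈ Cfsg.principalBlock M G ↔ θ ∈ Cfsg.principalBlock M N := by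
  classical
  haveI := IsPModular.isPrime hM
  let oneG : IrrCharacter G := ⟨fun _ => 1, isIrrCharacter_one⟩
  let oneN : IrrCharacter N := ⟨fun _ => 1, isIrrCharacter_one⟩
  have hone : classInner (fun n : N => (oneG : G → ℂ) n) (oneN : N → ℂ) ≠ 0 := by
    have : (fun n : N => (oneG : G → ℂ) n) = (oneN : N → ℂ) := rfl
    rw [this, classInner_irr oneN.2 oneN.2, if_pos rfl]
    exact one_ne_zero
  constructor
  · intro hχB
    have hcov : Covers N (principalBlock M G) (principalBlock M N) :=
      ⟨oneG, mem_blockOf_self oneG, oneN, mem_blockOf_self oneN, hone⟩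
    obtain ⟨g, hg⟩ := Covers.mem_orbSet N isPBlock_principalBlock isPBlock_principalBlock hcov
      hχB hover
    -- `hg : conjIrr N g θ ∈ principalBlock M N`
    have hg' : SameBlock M (fun _ : N => (1 : ℂ)) (conjFun N g θ) := hg
    show SameBlock M (fun _ : N => (1 : ℂ)) (θ : N → ℂ)
    intro n
    have h1 := hg' ((MulAut.conjNormal g : N ≃* N) n)
    rw [conjFun_eq_comp, centralChar_comp_equiv] at h1
    have h2 : (fun _ : N => (1 : ℂ)) = (fun _ : N => (1 : ℂ)) ∘ (MulAut.conjNormal g⁻¹ : N ≃* N) := rfl
    rw [h2, centralChar_comp_equiv] at h1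
    have h3 : (MulAut.conjNormal g⁻¹ : N ≃* N) ((MulAut.conjNormal g : N ≃* N) n) = n := by
      rw [map_inv]
      exact (MulAut.conjNormal g : N ≃* N).symm_apply_apply n
    rw [h3] at h1
    exact h1
  · intro hθB
    set B := blockOf M (χ : G → ℂ) with hBdef
    have hB : IsPBlock M B := ⟨χ, rfl⟩
    have hχB : χ ∈ B := mem_blockOf_self χ
    let τ : IrrCharacter G → IrrCharacter G := fun ψ => ⟨Twist.tw k ψ, Twist.isIrr_tw hk ψ.2⟩
    have hτχ : Twist.tw k (χ : G → ℂ) = χ := by
      funext g; exact hχ g
    have hτB : ∀ ψ ∈ B, τ ψ ∈ B := by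
      intro ψ hψ
      have h1 : SameBlock M (χ : G → ℂ) (ψ : G → ℂ) := hψ
      have h2 := sameBlock_tw hk h1
      rw [hτχ] at h2
      exact h2
    have hinj : Set.InjOn τ B := by
      intro a _ b _ hab
      apply Subtype.ext
      funext g
      have h1 : Twist.tw k (a : G → ℂ) = Twist.tw k (b : G → ℂ) := congrArg Subtype.val hab
      obtain ⟨m, hm⟩ := exists_pow_eq_self_of_coprime (hk.coprime_dvd_right (orderOf_dvd_natCard g))
      have h2 := congrFun h1 (g ^ m)
      rw [Twist.tw_apply, Twist.tw_apply, ← pow_mul, mul_comm, pow_mul, hm] at h2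
      exact h2
    obtain ⟨H1, H2⟩ := stable_of_tau hM hB τ hτB hinj (by
      intro ψ _ g hg
      show (ψ : G → ℂ) (g ^ k) = _
      rw [hk₂ g hg])
    set F := coef (B.indicator 1) with hFdef
    have hF : IsClassFunction G F := isClassFunction_coef _
    have hFl : ∀ g, MemLocalRing M (F g) := mem_ZS.1 (IsPBlock.indicator_mem_ZS hB)
    have hF0 : ∀ g, 2 ∣ orderOf g → F g = 0 := fun g hg => coef_indicator_eq_zero hM hB hg
    have key := OddBlock.om_sub_om_mem hM N hidx hF hFl hF0 H1 χ.2 oneG.2 (H2 χ hχB) (by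
      intro g _
      have : centralChar (oneG : G → ℂ) g⁻¹ = centralChar (oneG : G → ℂ) g := by
        unfold centralChar
        rw [centralizer_inv]
      rw [this, sub_self]
      exact memLocalIdeal_zero) (by
      intro n hn
      have e1 := centralChar_eq_of_constituent N χ.2 θ hover ⟨n, hn⟩
      have e2 := centralChar_eq_of_constituent N oneG.2 oneN hone ⟨n, hn⟩
      rw [e1, e2]
      have hsb : SameBlock M (θ : N → ℂ) (oneN : N → ℂ) := SameBlock.symm hθB
      exact inducedCentralChar_sub_memLocalIdeal N hsb n)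
    rw [hFdef, om_coef, om_coef, Set.indicator_of_mem hχB, Pi.one_apply] at key
    have honeB : oneG ∈ B := by
      by_contra hcon
      rw [Set.indicator_of_notMem hcon, sub_zero] at key
      exact not_memLocalIdeal_one key
    have h5 := IsPBlock.eq_blockOf hB honeB
    have : B = principalBlock M G := h5
    rw [← this]
    exact hχB

end Cfsg.Agent.S4520
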