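import Cfsg.Statements.S4550
import Cfsg.Agent.Lib.Helper25.OddBlock
import Cfsg.Agent.Lib.Helper6.DimBlock
import Cfsg.Agent.S4520

set_option autoImplicit false
open Cfsg
open Cfsg.Agent.Lib.Helper2 Cfsg.Agent.Lib.Helper6 Cfsg.Agent.Lib.Helper25 Cfsg.Agent.Lib.Helper24
open scoped ComplexConjugate

namespace Cfsg.Agent.S4550

attribute [local instance] irrFintype

theorem coprime_of {G : Type*} [Group G] [Finite G] (k : ℕ)
    (hk₁ : ∀ g : G, (∃ j : ℕ, orderOf g = 2 ^ j) → g ^ k = g ^ 3)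
    (hk₂ : ∀ g : G, Odd (orderOf g) → g ^ k = g) : k.Coprime (Nat.card G) := by
  by_contra hne
  obtain ⟨r, hr, hrk, hrG⟩ := Nat.Prime.not_coprime_iff_dvd.1 hne
  haveI := Fact.mk hr
  obtain ⟨g, hg⟩ := exists_prime_orderOf_dvd_card' r hrG
  have h1 : g ^ k = 1 := orderOf_dvd_iff_pow_eq_one.1 (hg ▸ hrk)
  have hg1 : g ≠ 1 := by
    intro h
    rw [h, orderOf_one] at hg
    exact hr.one_lt.ne hg
  rcases hr.eq_two_or_odd' with h2 | h2
  · have h3 := hk₁ g ⟨1, by rw [hg, h2, pow_one]⟩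
    have h4 : g ^ 2 = 1 := by rw [← h2, ← hg]; exact pow_orderOf_eq_one g
    rw [h1, pow_succ, h4, one_mul] at h3
    exact hg1 h3.symm
  · have h3 := hk₂ g (hg ▸ h2)
    rw [h1] at h3
    exact hg1 h3.symm

theorem pow_pow_eq {G : Type*} [Group G] [Finite G] (k : ℕ)
    (hk₁ : ∀ g : G, (∃ j : ℕ, orderOf g = 2 ^ j) → g ^ k = g ^ 3)
    (hk₂ : ∀ g : G, Odd (orderOf g) → g ^ k = g) (g : G) : g ^ (k ^ (2 ^ Nat.card G)) = g := by
  obtain ⟨b, m, hm, hn⟩ := Nat.exists_eq_two_pow_mul_odd (orderOf_pos g).ne'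
  have hm0 : m ≠ 0 := by rintro rfl; exact absurd hm (by decide)
  have ho1 : orderOf (g ^ (2 ^ b)) = m := by
    rw [orderOf_pow_of_dvd (pow_ne_zero _ two_ne_zero) (hn ▸ Dvd.intro _ rfl), hn,
      Nat.mul_div_cancel_left _ (pow_pos two_pos _)]
  have ho2 : orderOf (g ^ m) = 2 ^ b := by
    rw [orderOf_pow_of_dvd hm0 (hn ▸ Dvd.intro_left _ rfl), hn,
      Nat.mul_div_cancel _ (Nat.pos_of_ne_zero hm0)]
  have e1 : k ≡ 1 [MOD m] := by
    have := hk₂ (g ^ (2 ^ b)) (ho1 ▸ hm)
    have h2 : (g ^ (2 ^ b)) ^ k = (g ^ (2 ^ b)) ^ 1 := by rw [this, pow_one]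
    rw [pow_eq_pow_iff_modEq, ho1] at h2
    exact h2
  have e2 : k ≡ 3 [MOD 2 ^ b] := by
    have := hk₁ (g ^ m) ⟨b, ho2⟩
    rw [pow_eq_pow_iff_modEq, ho2] at this
    exact this
  have e3 : k ^ (2 ^ Nat.card G) ≡ 1 [MOD m] := by
    have := e1.pow (2 ^ Nat.card G)
    rwa [one_pow] at this
  have e4 : (3 : ℕ) ^ (2 ^ Nat.card G) ≡ 1 [MOD 2 ^ b] := by
    have hcop : Nat.Coprime 3 (2 ^ b) := Nat.Coprime.pow_right _ (by decide)
    have h1 := Nat.ModEq.pow_totient hcop
    have hdvd : Nat.totient (2 ^ b) ∣ 2 ^ Nat.card G := by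
      rcases Nat.eq_zero_or_pos b with rfl | hb
      · simp
      · rw [Nat.totient_prime_pow Nat.prime_two hb]
        simp only [Nat.add_one_sub_one, mul_one]
        apply pow_dvd_pow
        have h2 : 2 ^ b ≤ Nat.card G := by
          calc 2 ^ b ≤ 2 ^ b * m := Nat.le_mul_of_pos_right _ (Nat.pos_of_ne_zero hm0)
            _ = orderOf g := hn.symm
            _ ≤ Nat.card G := orderOf_le_card
        have h3 : b < 2 ^ b := Nat.lt_two_pow_self
        omega
    obtain ⟨c, hc⟩ := hdvd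
    rw [hc, pow_mul]
    have := h1.pow c
    rwa [one_pow] at this
  have e5 : k ^ (2 ^ Nat.card G) ≡ 1 [MOD 2 ^ b] := (e2.pow _).trans e4
  have hcop : Nat.Coprime (2 ^ b) m := Nat.Coprime.pow_left _ (Nat.coprime_two_left.2 hm)
  have e6 : k ^ (2 ^ Nat.card G) ≡ 1 [MOD orderOf g] := by
    rw [hn]
    exact (Nat.modEq_and_modEq_iff_modEq_mul hcop).1 ⟨e5, e3⟩
  have := pow_eq_pow_iff_modEq.2 e6
  rwa [pow_one] at this

/-- Let G be a finite group of even order and M a maximal ideal of the algebraic integers containing 2. Let k be a natural number with g ^ k = g ^ 3 for every 2-element g and g ^ k = g for every element g of odd order (such k exist); an irreducible character χ is unchanged by g ↦ g ^ k exactly when it is fixed by the field automorphism that cubes the 2-power roots of unity and fixes the roots of unity of odd order. Then the number of members χ of the principal 2-block of odd degree with χ (g ^ k) = χ g for all g is even. -/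
theorem result {G : Type*} [Group G] [Finite G] (M : Ideal Cfsg.AlgInt) (hM : Cfsg.IsPModular 2 M) (hev : Even (Nat.card G)) (k : ℕ) (hk₁ : ∀ g : G, (∃ j : ℕ, orderOf g = 2 ^ j) → g ^ k = g ^ 3) (hk₂ : ∀ g : G, Odd (orderOf g) → g ^ k = g) : Even (Nat.card {χ : Cfsg.IrrCharacter G // χ ∈ Cfsg.principalBlock M G ∧ Odd (Cfsg.charDegree (χ : G → ℂ)) ∧ ∀ g : G, (χ : G → ℂ) (g ^ k) = (χ : G → ℂ) g}) := by
  classical
  haveI := Fintype.ofFinite G
  haveI := IsPModular.isPrime hM
  haveI : Fact (Nat.Prime 2) := ⟨Nat.prime_two⟩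
  have hk := coprime_of k hk₁ hk₂
  have hK := pow_pow_eq k hk₁ hk₂
  let triv : IrrCharacter G := ⟨fun _ => 1, isIrrCharacter_one⟩
  have hB : IsPBlock M (principalBlock M G) := isPBlock_principalBlock
  have htB : triv ∈ principalBlock M G := mem_blockOf_self triv
  have hdtriv : charDegree (triv : G → ℂ) = 1 := by
    have h1 := charDegree_cast (IsIrrCharacter.isCharacter triv.2)
    have : ((charDegree (triv : G → ℂ) : ℕ) : ℂ) = ((1 : ℕ) : ℂ) := by
      rw [h1]; simp [triv]
    exact_mod_cast this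
  -- the sum of squares is even
  have h0 : blockHeight 2 (principalBlock M G) (triv : G → ℂ) = 0 := by
    unfold blockHeight
    rw [hdtriv]; simp
  have h1 := factorization_sum_degree_sq hM hB htB h0
  rw [hdtriv] at h1
  simp only [Nat.factorization_one, Finsupp.coe_zero, Pi.zero_apply, add_zero] at h1
  have h2 : 1 ≤ (Nat.card G).factorization 2 :=
    (Nat.Prime.dvd_iff_one_le_factorization Nat.prime_two (Nat.card_pos).ne').mp
      (even_iff_two_dvd.1 hev)
  have h3 : 2 ∣ ∑ χ ∈ Finset.univ.filter (· ∈ principalBlock M G), charDegree (χ : G → ℂ) ^ 2 := by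
    apply Nat.dvd_of_factorization_pos
    omega
  -- the set X
  let X := {χ : IrrCharacter G // χ ∈ principalBlock M G ∧ Odd (charDegree (χ : G → ℂ))}
  have hXcard : 2 ∣ Fintype.card X := by
    rw [Fintype.card_subtype]
    rw [← ZMod.natCast_eq_zero_iff] at h3 ⊢
    rw [← h3, Finset.card_filter]
    push_cast
    rw [Finset.sum_filter]
    apply Finset.sum_congr rfl
    intro χ _
    by_cases hχ : χ ∈ principalBlock M G
    · by_cases ho : Odd (charDegree (χ : G → ℂ))
      · rw [if_pos ⟨hχ, ho⟩, if_pos hχ]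
        obtain ⟨t, ht⟩ := ho
        rw [ht]
        push_cast
        have : (2 : ZMod 2) = 0 := rfl
        rw [this]; ring
      · rw [if_neg (fun h => ho h.2), if_pos hχ]
        obtain ⟨t, ht⟩ := Nat.not_odd_iff_even.1 ho
        rw [ht]
        push_cast
        have : (2 : ZMod 2) = 0 := rfl
        have e : ((t : ZMod 2) + t) = 2 * t := by ring
        rw [e, this]; ring
    · rw [if_neg (fun h => hχ h.1), if_neg hχ]
  have hdeg : ∀ χ : IrrCharacter G, charDegree (Twist.tw k (χ : G → ℂ)) = charDegree (χ : G → ℂ) := by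
    intro χ
    unfold charDegree
    rw [Twist.tw_apply, one_pow]
  let f : Function.End X := fun χ => ⟨⟨Twist.tw k χ.1, Twist.isIrr_tw hk χ.1.2⟩, by
    have h1 : SameBlock M (fun _ : G => (1 : ℂ)) (χ.1 : G → ℂ) := χ.2.1
    exact Cfsg.Agent.S4520.sameBlock_tw hk h1, by
    show Odd (charDegree (Twist.tw k (χ.1 : G → ℂ)))
    rw [hdeg]; exact χ.2.2⟩
  have hfpow : ∀ (m : ℕ) (χ : X), (((f ^ m) χ).1 : G → ℂ) = Twist.tw (k ^ m) (χ.1 : G → ℂ) := by
    intro m
    induction m with
    | zero =>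
      intro χ
      funext n
      rw [pow_zero, pow_zero, Twist.tw_apply, pow_one]
      rfl
    | succ m ih =>
      intro χ
      rw [pow_succ']
      show Twist.tw k (((f ^ m) χ).1 : G → ℂ) = _
      rw [ih, Twist.tw_tw, pow_succ']
  have hf : f ^ 2 ^ (Nat.card G) = 1 := by
    funext χ
    apply Subtype.ext
    apply Subtype.ext
    rw [hfpow]
    funext g
    rw [Twist.tw_apply, hK]
    rfl
  have h4 := Equiv.Perm.card_fixedPoints_modEq hf
  have h5 : 2 ∣ Fintype.card (Function.fixedPoints f) :=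
    (Nat.modEq_zero_iff_dvd).1 (h4.symm.trans ((Nat.modEq_zero_iff_dvd).2 hXcard))
  rw [even_iff_two_dvd]
  have h6 : Nat.card {χ : Cfsg.IrrCharacter G // χ ∈ Cfsg.principalBlock M G ∧ Odd (Cfsg.charDegree (χ : G → ℂ)) ∧ ∀ g : G, (χ : G → ℂ) (g ^ k) = (χ : G → ℂ) g}
      = Fintype.card (Function.fixedPoints f) := by
    rw [← Nat.card_eq_fintype_card]
    apply Nat.card_congr
    exact
      { toFun := fun χ => ⟨⟨χ.1, χ.2.1, χ.2.2.1⟩, by
          apply Subtype.ext
          apply Subtype.ext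
          funext g
          exact χ.2.2.2 g⟩
        invFun := fun χ => ⟨χ.1.1, χ.1.2.1, χ.1.2.2, fun g => by
          have := congrArg (fun z : X => (z.1 : G → ℂ) g) χ.2
          exact this⟩
        left_inv := fun _ => rfl
        right_inv := fun _ => rfl }
  rw [h6]
  exact h5

end Cfsg.Agent.S4550
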