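import Cfsg.Statements.S4814
import Cfsg.Agent.Lib.Helper25.CommCount
import Cfsg.Agent.Lib.Helper2.Kernel

set_option autoImplicit false
open Cfsg
open Cfsg.Agent.Lib.Helper25 Cfsg.Agent.Lib.Helper6 Cfsg.Agent.Lib.Helper2
open scoped ComplexConjugate

namespace Cfsg.Agent.S4814

theorem norm_le_one {G : Type*} [Group G] [Finite G] {χ : G → ℂ} (hχ : IsCharacter G χ) (g : G) :
    ‖χ g‖ ≤ ‖χ 1‖ := by
  obtain ⟨n, ρ, rfl⟩ := hχ
  have h1 := norm_char_le ρ g
  have h2 : ρ.character 1 = (Module.finrank ℂ (Fin n → ℂ) : ℂ) := Representation.char_one ρ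
  rw [h2]
  simpa using h1

/-- Let G be a finite group such that the sum, over the irreducible complex characters χ of G, of 1/χ(1)² is less than 2. Then every element of G is a product of two commutators. -/
theorem result {G : Type*} [Group G] [Finite G]
    (h : ∑ᶠ χ : Cfsg.IrrCharacter G, 1 / ‖(χ : G → ℂ) 1‖ ^ 2 < (2 : ℝ)) (g : G) :
    ∃ a b c d : G, (a * b * a⁻¹ * b⁻¹) * (c * d * c⁻¹ * d⁻¹) = g := by
  classical
  haveI := Fintype.ofFinite G
  letI := irrFintype G
  rw [finsum_eq_sum_of_fintype] at h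
  by_contra hcon
  push Not at hcon
  have h1 : conv CommCount.commCount CommCount.commCount g = 0 := by
    rw [conv_apply]
    apply Finset.sum_eq_zero
    intro x _
    by_cases hx : CommCount.commCount x = 0
    · rw [hx, zero_mul]
    · by_cases hy : CommCount.commCount (x⁻¹ * g) = 0
      · rw [hy, mul_zero]
      · exfalso
        have e1 : ∃ a b : G, a * b * a⁻¹ * b⁻¹ = x := by
          by_contra hne
          push Not at hne
          apply hx
          unfold CommCount.commCount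
          apply Finset.sum_eq_zero; intro a _
          apply Finset.sum_eq_zero; intro b _
          rw [if_neg (hne a b)]
        have e2 : ∃ a b : G, a * b * a⁻¹ * b⁻¹ = x⁻¹ * g := by
          by_contra hne
          push Not at hne
          apply hy
          unfold CommCount.commCount
          apply Finset.sum_eq_zero; intro a _
          apply Finset.sum_eq_zero; intro b _
          rw [if_neg (hne a b)]
        obtain ⟨a, b, hab⟩ := e1
        obtain ⟨c, d, hcd⟩ := e2
        apply hcon a b c d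
        rw [hab, hcd]; group
  rw [CommCount.conv_commCount_apply] at h1
  have h0 : (Nat.card G : ℂ) ≠ 0 := by
    exact_mod_cast (Nat.card_pos (α := G)).ne'
  have h2 : ∑ χ : IrrCharacter G, conj ((χ : G → ℂ) g) / ((χ : G → ℂ) 1) ^ 3 = 0 := by
    rcases mul_eq_zero.mp h1 with h3 | h3
    · exact absurd h3 (pow_ne_zero 3 h0)
    · exact h3
  let triv : IrrCharacter G := ⟨fun _ => 1, isIrrCharacter_one⟩
  rw [← Finset.add_sum_erase _ _ (Finset.mem_univ triv)] at h2 h
  have h3 : conj ((triv : G → ℂ) g) / ((triv : G → ℂ) 1) ^ 3 = 1 := by simp [triv]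
  have h4 : 1 / ‖(triv : G → ℂ) 1‖ ^ 2 = (1 : ℝ) := by simp [triv]
  rw [h3] at h2
  rw [h4] at h
  have h5 : ‖∑ χ ∈ Finset.univ.erase triv, conj ((χ : G → ℂ) g) / ((χ : G → ℂ) 1) ^ 3‖ = 1 := by
    have : ∑ χ ∈ Finset.univ.erase triv, conj ((χ : G → ℂ) g) / ((χ : G → ℂ) 1) ^ 3 = -1 := by
      linear_combination h2
    rw [this]; simp
  have h6 : ‖∑ χ ∈ Finset.univ.erase triv, conj ((χ : G → ℂ) g) / ((χ : G → ℂ) 1) ^ 3‖
      ≤ ∑ χ ∈ Finset.univ.erase triv, 1 / ‖(χ : G → ℂ) 1‖ ^ 2 := by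
    refine (norm_sum_le _ _).trans (Finset.sum_le_sum fun χ _ => ?_)
    have h7 : 0 < ‖(χ : G → ℂ) 1‖ := norm_pos_iff.mpr (irr_one_ne_zero χ.2)
    rw [norm_div, norm_pow, RCLike.norm_conj, div_le_div_iff₀ (by positivity) (by positivity)]
    have h8 := norm_le_one (IsIrrCharacter.isCharacter χ.2) g
    calc ‖(χ : G → ℂ) g‖ * ‖(χ : G → ℂ) 1‖ ^ 2 ≤ ‖(χ : G → ℂ) 1‖ * ‖(χ : G → ℂ) 1‖ ^ 2 := by gcongr
      _ = 1 * ‖(χ : G → ℂ) 1‖ ^ 3 := by ring
  linarith

end Cfsg.Agent.S4814
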