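import Cfsg.Statements.S4996
import Cfsg.Agent.Lib.Helper25.AvgNormal
import Cfsg.Agent.S4814

set_option autoImplicit false
open Cfsg
open Cfsg.Agent.Lib.Helper2 Cfsg.Agent.Lib.Helper6 Cfsg.Agent.Lib.Helper24 Cfsg.Agent.Lib.Helper25
open scoped ComplexConjugate

namespace Cfsg.Agent.S4996

/-- Let N be a normal subgroup of the finite group G and χ an irreducible complex character of G. Then the restriction of χ to N is not irreducible if and only if χ vanishes on some whole coset Nx of N in G. -/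
theorem result {G : Type*} [Group G] [Finite G] (N : Subgroup G) [N.Normal] (χ : Cfsg.IrrCharacter G) : ¬ Cfsg.IsIrrCharacter ↥N (fun n : ↥N => (χ : G → ℂ) n) ↔ ∃ x : G, ∀ n : ↥N, (χ : G → ℂ) ((n : G) * x) = 0 := by
  classical
  haveI := Fintype.ofFinite G
  haveI : Fintype N := Fintype.ofFinite N
  have hc := IsIrrCharacter.isCharacter χ.2
  have hF : IsCharacter G ((χ : G → ℂ) * fun g => conj ((χ : G → ℂ) g)) := IsCharacter.mul hc (IsCharacter.conj hc)
  have hΨ := avgN_isCharacter N hF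
  obtain ⟨Ψ, hΨdef⟩ : ∃ Ψ, Ψ = avgN N ((χ : G → ℂ) * fun g => conj ((χ : G → ℂ) g)) := ⟨_, rfl⟩
  rw [← hΨdef] at hΨ
  have hNpos : (0 : ℝ) < (Nat.card N : ℝ) := by exact_mod_cast Nat.card_pos
  obtain ⟨r, hr⟩ : ∃ r : G → ℝ, r = fun g => (Nat.card N : ℝ)⁻¹ * ∑ n : N, ‖(χ : G → ℂ) ((n : G) * g)‖ ^ 2 :=
    ⟨_, rfl⟩
  have hΨr : ∀ g, Ψ g = (r g : ℂ) := by
    intro g
    rw [hΨdef, hr, avgN_apply]
    push_cast
    congr 1
    refine Finset.sum_congr rfl fun n _ => ?_
    simp only [Pi.mul_apply]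
    rw [Complex.mul_conj, Complex.normSq_eq_norm_sq]
    push_cast
    rfl
  have hr0 : ∀ g, 0 ≤ r g := by
    intro g
    rw [hr]
    positivity
  have hnorm : ∀ g, ‖Ψ g‖ = r g := by
    intro g
    rw [hΨr, Complex.norm_real, Real.norm_eq_abs, abs_of_nonneg (hr0 g)]
  have hsum : ∑ g, r g = (Nat.card G : ℝ) := by
    have h1 : ∑ g, Ψ g = (Nat.card G : ℂ) := by
      rw [hΨdef, sum_avgN, ← sum_mul_conj_self χ.2]
      rfl
    simp only [hΨr] at h1
    exact_mod_cast h1
  have hzero : ∀ g, r g = 0 ↔ ∀ n : N, (χ : G → ℂ) ((n : G) * g) = 0 := by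
    intro g
    rw [hr]
    simp only
    rw [mul_eq_zero, or_iff_right (inv_ne_zero hNpos.ne'),
      Finset.sum_eq_zero_iff_of_nonneg (fun n _ => by positivity)]
    constructor
    · intro h n
      have := h n (Finset.mem_univ n)
      simpa using this
    · intro h n _
      rw [h n]; simp
  have hone : (r 1 : ℂ) = classInner (fun n : ↥N => (χ : G → ℂ) n) (fun n : ↥N => (χ : G → ℂ) n) := by
    rw [hr, classInner]
    push_cast
    congr 1
    refine Finset.sum_congr rfl fun n _ => ?_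
    rw [Complex.mul_conj, Complex.normSq_eq_norm_sq, mul_one]
    push_cast
    rfl
  have hcN : IsCharacter ↥N (fun n : ↥N => (χ : G → ℂ) n) := IsCharacter.restrict N hc
  constructor
  · intro hirr
    by_contra hcon
    push Not at hcon
    have h0 : ∀ x, Ψ x ≠ 0 := by
      intro x hx
      rw [hΨr] at hx
      have hx' : r x = 0 := by exact_mod_cast hx
      obtain ⟨n, hn⟩ := hcon x
      exact hn ((hzero x).mp hx' n)
    have h1 := card_le_sum_norm_of_ne_zero hΨ h0
    simp only [hnorm] at h1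
    rw [hsum] at h1
    have h2 : r 1 ≤ 1 := by linarith
    obtain ⟨m, hm⟩ := IsCharacter.classInner_nat hcN hcN
    rw [← hone] at hm
    have hm' : r 1 = (m : ℝ) := by exact_mod_cast hm
    have hm0 : m ≠ 0 := by
      rintro rfl
      apply h0 1
      rw [hΨr, hm]
      simp
    have hm1 : m ≤ 1 := by
      rw [hm'] at h2
      exact_mod_cast h2
    have hm2 : m = 1 := by omega
    apply hirr
    apply isIrrCharacter_of_classInner_eq_one hcN
    rw [← hone, hm, hm2]
    simp
  · rintro ⟨x, hx⟩ hirr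
    have h1 := classInner_irr hirr hirr
    rw [if_pos rfl, ← hone] at h1
    have h1' : r 1 = 1 := by exact_mod_cast h1
    have h2 : ∀ g, r g ≤ 1 := by
      intro g
      have := Cfsg.Agent.S4814.norm_le_one hΨ g
      rwa [hnorm, hnorm, h1'] at this
    have h3 : ∑ g, (1 - r g) = 0 := by
      rw [Finset.sum_sub_distrib, hsum]
      simp [Nat.card_eq_fintype_card]
    have h4 := (Finset.sum_eq_zero_iff_of_nonneg (fun g _ => sub_nonneg.mpr (h2 g))).mp h3 x (Finset.mem_univ x)
    have h5 := (hzero x).mpr hx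
    rw [h5] at h4
    norm_num at h4

end Cfsg.Agent.S4996
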