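import Cfsg.Statements.S5126
import Cfsg.Agent.Lib.Helper26.FusModel3

set_option autoImplicit false
open Cfsg

namespace Cfsg.Agent.S5126

open Cfsg.Agent.Lib.Helper26 Cfsg.FusionSystem

/-- In a saturated fusion system over a finite p-group S, the normalizer system of a fully normalized, centric, radical subgroup R is constrained, and in every model of that normalizer system the largest normal p-subgroup is the image of R. -/
theorem result {Ω : Type*} [Group Ω] {S : Subgroup Ω} [Finite S] (p : ℕ) [Fact p.Prime] (hS : IsPGroup p S) (F : Cfsg.FusionSystem S) (hF : F.IsSaturated p) (R : Subgroup Ω) (hRn : F.IsFullyNormalized R) (hRc : F.IsCentric R) (hRr : F.IsRadical p R) (E : Cfsg.FusionSystem (Cfsg.FusionSystem.normalizerIn S R)) (hE : F.IsNormalizerSystem R E) {G : Type*} [Group G] (ι : ↥(Cfsg.FusionSystem.normalizerIn S R) →* G) : E.IsConstrained p ∧ (E.IsModel p G ι → (Cfsg.pCore p G : Subgroup G) = (R.subgroupOf (Cfsg.FusionSystem.normalizerIn S R)).map ι) := by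
    have hRS : R ≤ S := hRc.1
    have hE' := isNormalizerSystem_iff.1 hE
    have hfinT : Finite (normalizerIn S R) := finite_of_le normalizerIn_le
    have hTp : IsPGroup p (normalizerIn S R) := hS.to_le normalizerIn_le
    refine ⟨?_, fun hG => ?_⟩
    · obtain ⟨G', _, ι', π, md⟩ := exists_MD hS hF hRc hRn
      exact IsModel.isConstrained (md.isModel_aux hS hF hRc hRn E hE')
    · have hRnE : E.IsNormal R := isNormal_of_normC hRS hE'
      have hN := le_normalizerIn hRS
      obtain ⟨hfin, hreal, ⟨Ts, hTs⟩, hcent⟩ := id hG
      have hreal : E.IsRealizedBy ι := hreal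
      have hOT : pCore p G ≤ ι.range := hTs ▸ pCore_le_sylow Ts
      apply le_antisymm
      · intro u hu
        obtain ⟨x, rfl⟩ := hOT hu
        have hx : (x : Ω) ∈ preimageAlong ι (pCore p G) := mem_preimageAlong.2 ⟨x.2, by rw [tv_coe]; exact hu⟩
        have hrad : E.IsRadical p R := by
          refine ⟨hN, ?_⟩
          rw [autGroup_of_normC hRS hE']
          exact hRr.2
        have hle := le_of_isNormal_of_centric_radical hTp
          (IsRealizedBy.isNormal_preimage hreal (pCore_normal' p G) hOT) (isCentric_of_normC hRc hE') hrad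
        exact ⟨x, hle hx, rfl⟩
      · apply le_pCore'
        · constructor
          rintro _ ⟨r, hr, rfl⟩ g
          obtain ⟨r', hr', e⟩ := IsModel.conj_normal hG hRnE g (show (r : Ω) ∈ R from hr)
          rw [tv_coe] at e
          rw [e, tv_mem ι (hN hr')]
          exact ⟨⟨r', hN hr'⟩, hr', rfl⟩
        · exact (hTp.to_subgroup _).map ι

end Cfsg.Agent.S5126
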