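import Cfsg.Statements.S5148
import Cfsg.Agent.Lib.Helper26.FusSub
import Cfsg.Agent.Lib.Helper26.FusSolv

set_option autoImplicit false
open Cfsg

namespace Cfsg.Agent.S5148

open Cfsg.Agent.Lib.Helper26 Cfsg.FusionSystem

/-- A quasisimple fusion system over a finite p-group S (saturated, equal to its p-residual subsystem, with simple — in particular nontrivial — factor system modulo its centre) has S nonabelian. -/
theorem result {Ω : Type*} [Group Ω] {S : Subgroup Ω} [Finite S] (p : ℕ) [Fact p.Prime] (hS : IsPGroup p S) (F : Cfsg.FusionSystem S) (hq : F.Quasisimple p) : ¬ IsMulCommutative S := by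
  intro hab
  obtain ⟨hF, hhyp, hsimple⟩ := hq
  have hcomm : ∀ a ∈ S, ∀ b ∈ S, a * b = b * a := fun a ha b hb =>
    congrArg Subtype.val (hab.is_comm.comm ⟨a, ha⟩ ⟨b, hb⟩)
  -- the centre is strongly closed
  have hZc := isCentral_center F
  have hZn : F.IsNormal F.center := by
    obtain ⟨hZS, h⟩ := isCentral_iff.1 hZc
    rw [isNormal_iff]
    refine ⟨hZS, fun P f hf => ?_⟩
    obtain ⟨f', hf', h1, h2⟩ := h P f hf
    refine ⟨f', hf', h1, ?_⟩
    rw [im_congr h2]
    exact im_id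
  have hZsc := IsNormal.stronglyClosed hZn
  obtain ⟨E, hE⟩ := exists_factorSystem (facData_mk' hZn.1) hZsc
  obtain ⟨d, hmaps⟩ := isFactorSystem_iff.1 hE
  obtain ⟨hEs, hne, hnorm⟩ := hsimple E hE
  have hfin := d.finite
  have hp' := d.isPGroup hS
  have hcomm' : ∀ a ∈ (⊤ : Subgroup (S ⧸ (F.center).subgroupOf S)), ∀ b ∈ (⊤ : Subgroup (S ⧸ (F.center).subgroupOf S)),
      a * b = b * a := by
    intro a _ b _
    obtain ⟨x, rfl⟩ := QuotientGroup.mk_surjective a
    obtain ⟨y, rfl⟩ := QuotientGroup.mk_surjective b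
    rw [← QuotientGroup.mk_mul, ← QuotientGroup.mk_mul, hab.is_comm.comm x y]
  have hTn : E.IsNormal ⊤ := isNormal_of_abelian_sc hp' hEs stronglyClosed_S hcomm'
  rcases hnorm ⊤ _ (inner_isNormalIn hp' hEs hTn) with h | ⟨-, h⟩
  · exact hne h
  · have hhE : E.hyperfocalSubgroup p = ⊥ := by
      rw [eq_bot_iff, hyp_le_iff]
      intro P hP β _ x hx
      have hm := (mem_autGroup_iff hP).1 β.2
      have hm2 : Map (innerFusionSystem ⊤) P (aev β.1) := by
        obtain ⟨φ, hφ, h5⟩ := hm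
        exact ⟨φ, (h P).symm ▸ hφ, h5⟩
      obtain ⟨-, a, ha, h1⟩ := map_inner_iff.1 hm2
      rw [h1 x hx, hcomm' a ha x (hP hx), Subgroup.mem_bot]
      group
    rw [hyp_factor hS hF hZsc hE, hhyp] at hhE
    apply hne
    rw [eq_bot_iff, ← hhE]
    intro y _
    obtain ⟨x, hx, rfl⟩ := d.exists_tv_eq (Subgroup.mem_top y)
    exact tv_mem_imageAlong hx hx

end Cfsg.Agent.S5148
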