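import Cfsg.Statements.S5185
import Mathlib
import Cfsg.Agent.Lib.Helper5.El2
import Cfsg.Agent.Lib.Helper5.Dk9
import Cfsg.Agent.Lib.Helper16.SPE

set_option autoImplicit false
universe u
open Cfsg

namespace Cfsg.Agent.S5185

open Cfsg.Agent.Lib.Helper5.Dk Cfsg.Agent.Lib.Helper16

/-- Let F be a saturated fusion system over a finite p-group S and H an essential subgroup of order p². Then H is elementary abelian (isomorphic to C_p × C_p) and its F-automorphism group contains a subgroup isomorphic to SL(2,p). -/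
theorem result {Ω : Type u} [Group Ω] {S : Subgroup Ω} [Finite S] (p : ℕ) [Fact p.Prime] (hS : IsPGroup p S)
    (F : Cfsg.FusionSystem S) (hF : F.IsSaturated p) (H : Subgroup Ω) (hH : F.IsEssential p H) (hcard : Nat.card H = p ^ 2) :
    Cfsg.IsElementaryAbelian p H ∧
      ∃ K : Subgroup ↥(F.autGroup H), Nonempty (↥K ≃* Matrix.SpecialLinearGroup (Fin 2) (ZMod p)) := by
  classical
  have hpp : p.Prime := Fact.out
  have hfinH : Finite H := Nat.finite_of_card_ne_zero (by rw [hcard]; exact pow_ne_zero 2 hpp.ne_zero)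
  have hfinAut : Finite (MulAut H) :=
    Finite.of_injective (fun e : MulAut H => (e : H → H)) DFunLike.coe_injective
  have hcommI := IsPGroup.isMulCommutative_of_card_eq_prime_sq hcard
  have hcomm : ∀ a b : H, a * b = b * a := hcommI.is_comm.comm
  obtain ⟨-, -, hnorm, E, hd, hE, P, hP⟩ := hH
  have hIbot : (Cfsg.Inn H).subgroupOf (F.autGroup H) = ⊥ := by
    rw [eq_bot_iff]
    intro a ha
    obtain ⟨h, hh⟩ := Subgroup.mem_subgroupOf.mp ha
    rw [Subgroup.mem_bot]
    apply Subtype.ext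
    rw [← hh]
    ext x
    simp [MulAut.conj_apply, hcomm h x]
  rw [kGeneratedCore_one_le_iff P.2] at hP
  have hPne := P.ne_bot_of_dvd_card hd
  have hNP := hP _ le_rfl hPne
  have hsyl : 1 < Nat.card (Sylow p (F.autGroup H ⧸ (Cfsg.Inn H).subgroupOf (F.autGroup H))) := by
    rw [P.card_eq_index_normalizer]
    by_contra h
    have h0 := Subgroup.index_ne_zero_of_finite (H := Subgroup.normalizer (P : Set (F.autGroup H ⧸ (Cfsg.Inn H).subgroupOf (F.autGroup H))))
    have h1 := Subgroup.index_eq_one.mp (show (Subgroup.normalizer (P : Set (F.autGroup H ⧸ (Cfsg.Inn H).subgroupOf (F.autGroup H)))).index = 1 by omega)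
    apply hE; rw [eq_top_iff, ← h1]; exact hNP
  obtain ⟨u₁, u₂, ⟨j₁, h₁⟩, ⟨j₂, h₂⟩, hnc⟩ := exists_noncomm_of_sylow p hsyl
  obtain ⟨a₁, rfl⟩ := QuotientGroup.mk_surjective u₁
  obtain ⟨a₂, rfl⟩ := QuotientGroup.mk_surjective u₂
  have lift : ∀ a : F.autGroup H,
      (QuotientGroup.mk a : F.autGroup H ⧸ (Cfsg.Inn H).subgroupOf (F.autGroup H)) = 1 → a = 1 := by
    intro a ha
    rw [QuotientGroup.eq_one_iff, hIbot, Subgroup.mem_bot] at ha; exact ha
  have e₁ : a₁ ^ p ^ j₁ = 1 := lift _ (by rw [QuotientGroup.mk_pow]; exact h₁)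
  have e₂ : a₂ ^ p ^ j₂ = 1 := lift _ (by rw [QuotientGroup.mk_pow]; exact h₂)
  have hnc' : (a₁ : MulAut H) * a₂ ≠ a₂ * a₁ := by
    intro h; apply hnc
    rw [← QuotientGroup.mk_mul, ← QuotientGroup.mk_mul]
    congr 1; exact Subtype.ext h
  have hexp : ∀ x : H, x ^ p = 1 := by
    intro x
    by_contra hx
    have h1 : orderOf x ∣ p ^ 2 := hcard ▸ orderOf_dvd_natCard x
    obtain ⟨k, hk, hok⟩ := (Nat.dvd_prime_pow hpp).mp h1
    have hk2 : k = 2 := by
      interval_cases k
      · exfalso; apply hx; rw [pow_zero, orderOf_eq_one_iff] at hok; rw [hok, one_pow]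
      · exfalso; apply hx; rw [pow_one] at hok; rw [← hok, pow_orderOf_eq_one]
      · rfl
    have hcyc : IsCyclic H := isCyclic_of_orderOf_eq_card x (by rw [hok, hk2, hcard])
    apply hnc'
    apply (IsCyclic.mulAutMulEquiv H).injective
    rw [map_mul, map_mul, mul_comm]
  refine ⟨⟨hcommI, fun a ha => ?_⟩, ?_⟩
  · exact congrArg Subtype.val (hexp ⟨a, ha⟩)
  · exact exists_sl2_of_noncomm hcard hexp (F.autGroup H) a₁ a₂ a₁.2 a₂.2 j₁ j₂
      (by simpa using congrArg Subtype.val e₁) (by simpa using congrArg Subtype.val e₂) hnc'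

end Cfsg.Agent.S5185
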