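import Cfsg.Statements.S5236
import Cfsg.Agent.Lib.Helper26.FusOmega

set_option autoImplicit false
open Cfsg

namespace Cfsg.Agent.S5236

open Cfsg.Agent.Lib.Helper26 Cfsg.FusionSystem

/-- Let p be an odd prime, F a saturated fusion system over a finite p-group S and P a subgroup of S strongly closed in F. Then P is normal in F if and only if Ω₁(P) (the subgroup generated by the elements of order p of P) has a chain of subgroups 1 = Q₀ ≤ Q₁ ≤ ⋯ ≤ Qₙ = Ω₁(P), each strongly closed in F, with [Qᵢ₊₁, P] ≤ Qᵢ for all i. -/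
theorem result {Ω : Type*} [Group Ω] {S : Subgroup Ω} [Finite S] (p : ℕ) [Fact p.Prime] (hS : IsPGroup p S) (F : Cfsg.FusionSystem S) (hF : F.IsSaturated p) (hp : p ≠ 2) (P : Subgroup Ω) (hP : F.StronglyClosed P) : F.IsNormal P ↔ ∃ (n : ℕ) (Q : Fin (n + 1) → Subgroup Ω), Q 0 = ⊥ ∧ Q (Fin.last n) = Cfsg.omegaOne p P ∧ Monotone Q ∧ (∀ i : Fin (n + 1), F.StronglyClosed (Q i)) ∧ ∀ i : Fin n, ⁅Q i.succ, P⁆ ≤ Q i.castSucc := by
    constructor
    · intro hN
      obtain ⟨n, hn⟩ := exists_ucs_eq hS hP.1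
      refine ⟨n, fun i => ucs P i ⊓ Cfsg.omegaOne p P, ?_, ?_, ?_, ?_, ?_⟩
      · show ucs P 0 ⊓ _ = ⊥
        rw [ucs_zero, bot_inf_eq]
      · show ucs P n ⊓ _ = _
        rw [hn]
        exact inf_eq_right.2 (omegaOne_le' p P)
      · intro i j hij
        exact inf_le_inf_right _ (Subgroup.map_mono (Subgroup.upperCentralSeries_mono P hij))
      · intro i
        exact stronglyClosed_inf (IsNormal.stronglyClosed (IsNormal.ucs hN i))
          (IsNormal.stronglyClosed (isNormal_of_characteristic hN (omegaOne_le' p P) (omegaOne_characteristic p P)))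
      · intro i
        exact le_inf ((Subgroup.commutator_mono inf_le_left le_rfl).trans (ucs_comm P i))
          ((Subgroup.commutator_mono inf_le_right le_rfl).trans (omegaOne_comm_le p P))
    · rintro ⟨n, Q, h0, hn, -, hsc, hcomm⟩
      have hlt : ∀ i : ℕ, min i n < n + 1 := fun i => by omega
      have e1 : ∀ i (hi : i < n), (⟨min i n, hlt i⟩ : Fin (n + 1)) = (⟨i, hi⟩ : Fin n).castSucc := by
        intro i hi
        apply Fin.ext
        simp only [Fin.val_castSucc]
        omega
      have e2 : ∀ i (hi : i < n), (⟨min (i + 1) n, hlt (i + 1)⟩ : Fin (n + 1)) = (⟨i, hi⟩ : Fin n).succ := by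
        intro i hi
        apply Fin.ext
        simp only [Fin.val_succ]
        omega
      refine isNormal_of_omegaChain hp hS hF hP n (fun i => Q ⟨min i n, hlt i⟩) ?_ ?_ ?_ ?_
      · rw [← h0]
        congr 1
      · intro x hx hxp
        have e3 : (⟨min n n, hlt n⟩ : Fin (n + 1)) = Fin.last n := by
          apply Fin.ext
          simp
        show x ∈ Q ⟨min n n, hlt n⟩
        rw [e3, hn]
        exact mem_omegaOne' hx hxp
      · intro i hi
        show ⁅Q ⟨min (i + 1) n, hlt (i + 1)⟩, P⁆ ≤ Q ⟨min i n, hlt i⟩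
        rw [e1 i hi, e2 i hi]
        exact hcomm ⟨i, hi⟩
      · intro i
        exact hsc _

end Cfsg.Agent.S5236
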