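import Cfsg.Statements.S5245
import Cfsg.Agent.Lib.Helper26.FusAutSys

set_option autoImplicit false
open Cfsg

namespace Cfsg.Agent.S5245

open Cfsg.Agent.Lib.Helper26 Cfsg.FusionSystem

/-- Let F be an extremely sparse fusion system over a finite p-group S (saturated, not the inner system, and every saturated fusion system over any subgroup T of S contained in F is F itself or the inner system of T). Then S is normal in F, the focal and hyperfocal subgroups of F are both S, and Aut_F(S) is generated by the inner automorphisms of S together with a single automorphism of prime order q ≠ p (F is the fusion system of the semidirect product of S by a cyclic group of prime order). -/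
theorem result {Ω : Type*} [Group Ω] {S : Subgroup Ω} [Finite S] (p : ℕ) [Fact p.Prime] (hS : IsPGroup p S) (F : Cfsg.FusionSystem S) (hF : F.IsSaturated p) (hxs : ¬ (∀ P : Subgroup Ω, F.Hom P = (Cfsg.innerFusionSystem S).Hom P) ∧ ∀ (T : Subgroup Ω) (E : Cfsg.FusionSystem T), E.IsSaturated p → E.IsSubsystemOf F → (T = S ∧ ∀ P : Subgroup Ω, E.Hom P = F.Hom P) ∨ (∀ P : Subgroup Ω, E.Hom P = (Cfsg.innerFusionSystem T).Hom P)) : F.IsNormal S ∧ F.focalSubgroup = S ∧ F.hyperfocalSubgroup p = S ∧ ∃ (q : ℕ) (β : MulAut ↥S), q.Prime ∧ q ≠ p ∧ β ∈ F.autGroup S ∧ orderOf β = q ∧ (F.autGroup S : Subgroup (MulAut ↥S)) = Cfsg.Inn ↥S ⊔ Subgroup.zpowers β := by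
  obtain ⟨hni, hsp⟩ := hxs
  have hpq : ∀ {M : Type _} [Group M] (β : M) (q k : ℕ), q.Prime → q ≠ p → orderOf β = q → β ^ p ^ k = 1 → False := by
    intro M _ β q k hq hqp hβ hk
    have h1 : q ∣ p ^ k := hβ ▸ orderOf_dvd_of_pow_eq_one hk
    exact hqp ((Nat.prime_dvd_prime_iff_eq hq Fact.out).1 (hq.dvd_of_dvd_pow h1))
  have hX : ∀ (P : Subgroup Ω) (β : MulAut P) (q : ℕ), P ≤ S → β ∈ F.autGroup P → q.Prime → q ≠ p →
      orderOf β = q → P = S ∧ ∀ R f, Map F R f → R ≤ P ∧ ∃ α ∈ Cfsg.Inn P ⊔ Subgroup.zpowers β, ∀ x ∈ R, f x = aev α x := by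
    intro P β q hP hβ hq hqp hβq
    have hfP : Finite P := finite_of_le hP
    have hPp : IsPGroup p P := hS.to_le hP
    obtain ⟨E, hE⟩ := exists_autSys P (Cfsg.Inn P ⊔ Subgroup.zpowers β) le_sup_left
    have hEsat := autSys_isSaturated hPp hE (isSylowIn_Inn_sup hPp hq hqp hβq)
    have hA : Cfsg.Inn P ⊔ Subgroup.zpowers β ≤ F.autGroup P :=
      sup_le (Inn_le_autGroup hP) ((Subgroup.zpowers_le).2 hβ)
    have hEF : E.IsSubsystemOf F := by
      rw [isSubsystemOf_iff]
      intro R f hf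
      obtain ⟨h1, α, hα, h2⟩ := (hE _ _).1 hf
      exact (((mem_autGroup_iff hP).1 (hA hα)).restrict h1).congr fun x hx => (h2 x hx).symm
    rcases hsp P E hEsat hEF with ⟨h1, h2⟩ | h2
    · refine ⟨h1, fun R f hf => ?_⟩
      obtain ⟨φ, hφ, h3⟩ := hf
      exact (hE _ _).1 ⟨φ, (h2 R).symm ▸ hφ, h3⟩
    · exfalso
      have h3 : Map E P (aev β) := (hE _ _).2 ⟨le_rfl, β, Subgroup.mem_sup_right (Subgroup.mem_zpowers β), fun _ _ => rfl⟩
      obtain ⟨φ, hφ, h4⟩ := h3
      have h5 : Map (Cfsg.innerFusionSystem P) P (aev β) := ⟨φ, h2 P ▸ hφ, h4⟩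
      obtain ⟨-, a, ha, h6⟩ := map_inner_iff.1 h5
      have h7 : β ∈ Cfsg.Inn P := mem_Inn_iff.2 ⟨a, ha, h6⟩
      have hInn : IsPGroup p (Cfsg.Inn P) := by
        rw [Inn_eq_autInducedBy]
        exact isPGroup_autInducedBy hPp
      obtain ⟨k, hk⟩ := hInn ⟨β, h7⟩
      exact hpq β q k hq hqp hβq (by simpa using congrArg Subtype.val hk)
  have h1 : ∃ P ≤ S, ¬ IsPGroup p (F.autGroup P) := by
    by_contra hcon
    push Not at hcon
    exact hni (fun P => by rw [eq_inner_of_aut_pGroups hS hF hcon])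
  obtain ⟨P, hP, hPn⟩ := h1
  have hfin : Finite (F.autGroup P) := finite_autGroup hP
  have h2 : ∃ q : ℕ, q.Prime ∧ q ≠ p ∧ q ∣ Nat.card (F.autGroup P) := by
    by_contra hcon
    push Not at hcon
    apply hPn
    have := Nat.eq_prime_pow_of_unique_prime_dvd (n := Nat.card (F.autGroup P)) (p := p) Nat.card_pos.ne'
      (fun {d} hd hdn => by
        by_contra hne
        exact hcon d hd hne hdn)
    exact IsPGroup.of_card this
  obtain ⟨q, hq, hqp, hqd⟩ := h2
  haveI : Fact q.Prime := ⟨hq⟩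
  obtain ⟨β', hβ'⟩ := exists_prime_orderOf_dvd_card' q hqd
  obtain ⟨β, hβ⟩ : ∃ β : MulAut P, β = β'.1 := ⟨_, rfl⟩
  have hβF : β ∈ F.autGroup P := hβ ▸ β'.2
  have hβq : orderOf β = q := by rw [hβ, Subgroup.orderOf_coe, hβ']
  obtain ⟨rfl, hchar⟩ := hX P β q hP hβF hq hqp hβq
  have hβm : Map F P (aev β) := (mem_autGroup_iff le_rfl).1 hβF
  have hA : Cfsg.Inn P ⊔ Subgroup.zpowers β ≤ F.autGroup P :=
    sup_le (Inn_le_autGroup le_rfl) ((Subgroup.zpowers_le).2 hβF)
  have hhyp : F.hyperfocalSubgroup p = P := by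
    have hHs := hyp_stronglyClosed hS hF
    have hHS := hHs.1
    obtain ⟨βH, hβH, hβH'⟩ := (hβm.restrict hHS).exists_aut (StronglyClosed.im_eq hHs hβm hHS)
    have hpow : βH ^ q = 1 := by
      apply aut_ext
      intro x hx
      rw [← aev_pow_restrict hHS (fun y hy => (hβH' y hy).symm) q x hx, ← hβq, pow_orderOf_eq_one,
        aev_one hx, aev_one (hHS hx)]
    have hne : βH ≠ 1 := by
      intro h1
      have hres : (⟨β, hβF⟩ : F.autGroup P) ∈ Cfsg.pResidual p (F.autGroup P) := by
        apply mem_pRes_of_coprime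
        rw [← Subgroup.orderOf_coe]
        show Nat.Coprime (orderOf β) p
        rw [hβq]
        exact (Nat.coprime_primes hq Fact.out).2 hqp
      have h2 : β ∈ (Cfsg.pCore p ↥(F.autGroup P)).map (F.autGroup P).subtype := by
        refine mem_pCore_of_chain hS le_rfl 2
          (fun j => if j = 0 then ⊥ else if j = 1 then F.hyperfocalSubgroup p else ⊤) rfl (by simp) ?_ hβF ?_
        · intro γ hγ j y hy hyj
          by_cases h0 : j = 0
          · subst h0
            simp only [if_true, Subgroup.mem_bot] at hyj ⊢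
            rw [hyj]
            exact ((mem_autGroup_iff le_rfl).1 hγ).map_one
          by_cases h1 : j = 1
          · subst h1
            simp only [one_ne_zero, if_false, if_true] at hyj ⊢
            exact StronglyClosed.aev_mem hHs le_rfl hγ hy hyj
          · simp [h0, h1]
        · intro j hj y hy hyj
          have hj' : j = 0 ∨ j = 1 := by omega
          rcases hj' with rfl | rfl
          · simp only [zero_add, one_ne_zero, if_false, if_true, Subgroup.mem_bot] at hyj ⊢
            rw [← hβH' y hyj, h1, aev_one hyj]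
            group
          · simp only [one_ne_zero, if_false, if_true]
            exact mem_hyp le_rfl hres hy
      obtain ⟨b, hb, hbβ⟩ := h2
      obtain ⟨k, hk⟩ := pCore_isPGroup (p := p) (G := F.autGroup P) ⟨b, hb⟩
      have hk' : β ^ p ^ k = 1 := by
        rw [← hbβ]
        have := congrArg (fun z => ((z : F.autGroup P) : MulAut P)) (congrArg Subtype.val hk)
        simpa using this
      exact hpq β q k hq hqp hβq hk'
    exact (hX _ βH q hHS hβH hq hqp (orderOf_eq_prime hpow hne)).1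
  refine ⟨?_, ?_, hhyp, q, β, hq, hqp, hβF, hβq, ?_⟩
  · rw [isNormal_iff]
    refine ⟨le_rfl, fun R f hf => ?_⟩
    obtain ⟨h1, α, hα, h2⟩ := hchar R f hf
    have e : R ⊔ P = P := sup_eq_right.2 h1
    rw [e]
    exact ⟨aev α, (mem_autGroup_iff le_rfl).1 (hA hα), fun x hx => (h2 x hx).symm, im_aev α⟩
  · apply le_antisymm
    · rw [foc_le_iff]
      intro R f hf x hx
      exact P.mul_mem (P.inv_mem (hf.le hx)) (hf.mem_S hx)
    · conv_lhs => rw [← hhyp]
      exact hyp_le_foc
  · apply le_antisymm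
    · intro α hα
      obtain ⟨-, α', hα', h2⟩ := hchar P _ ((mem_autGroup_iff le_rfl).1 hα)
      rwa [aut_ext h2]
    · exact hA

end Cfsg.Agent.S5245
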