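import Cfsg.Statements.S5299
import Cfsg.Agent.Lib.Helper1.TA6

set_option autoImplicit false
universe u
open Cfsg

namespace Cfsg.Agent.S5299

open Cfsg.FusionSystem

/-- Let F be a saturated fusion system over a finite p-group S, H a finite group and Q a p-subgroup of H. If Q is not involved in S (no section of S is isomorphic to Q), then F is H-free: H is involved in no model of the normalizer system of a fully normalized centric subgroup. -/
theorem result {Ω : Type u} [Group Ω] {S : Subgroup Ω} [Finite S] (p : ℕ) [Fact p.Prime] (hS : IsPGroup p S)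
    (F : Cfsg.FusionSystem S) (hF : F.IsSaturated p) (H : Type*) [Group H] [Finite H] (Q : Subgroup H) (hQ : IsPGroup p Q)
    (hfree : ¬ Cfsg.Involves (↥Q) (↥S)) : F.IsSectionFree p H := by
  intro Q0 _ _ N _ L _ ι hmod hinv
  obtain ⟨hfin, ⟨hinj, _⟩, ⟨T, hT⟩, _⟩ := hmod
  apply hfree
  rw [Cfsg.Agent.Lib.Helper1.involves_iff] at hinv
  obtain ⟨K, f, hf⟩ := hinv
  let K1 : Subgroup K := Q.comap f
  let f1 : K1 →* Q := f.subgroupComap Q
  have hf1 : Function.Surjective f1 := f.subgroupComap_surjective_of_surjective Q hf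
  obtain ⟨P1⟩ : Nonempty (Sylow p K1) := inferInstance
  have htop : (P1 : Subgroup K1).map f1 = ⊤ := by
    have h1 := (P1.mapSurjective hf1).is_maximal' (Q := ⊤)
      (hQ.of_equiv Subgroup.topEquiv.symm) le_top
    rw [h1]; rfl
  -- the embedding of `P1` into `L`
  let j : (P1 : Subgroup K1) →* L := K.subtype.comp (K1.subtype.comp (P1 : Subgroup K1).subtype)
  have hj : Function.Injective j := fun a b hab => by
    apply Subtype.ext; apply Subtype.ext; apply Subtype.ext; exact hab
  have hRp : IsPGroup p j.range := by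
    have := P1.2
    exact this.of_surjective j.rangeRestrict j.rangeRestrict_surjective
  obtain ⟨T', hT'⟩ := hRp.exists_le_sylow
  obtain ⟨g, hg⟩ := MulAction.exists_smul_eq L T' T
  have hmem : ∀ x, g * j x * g⁻¹ ∈ ι.range := by
    intro x
    rw [← hT, ← hg]
    exact ⟨j x, hT' ⟨x, rfl⟩, rfl⟩
  let φ1 : (P1 : Subgroup K1) →* ι.range :=
    ((MulAut.conj g).toMonoidHom.comp j).codRestrict ι.range hmem
  have hφ1 : Function.Injective φ1 := fun a b hab => by
    have h2 : g * j a * g⁻¹ = g * j b * g⁻¹ := congrArg Subtype.val hab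
    apply hj
    simpa using h2
  let φ : (P1 : Subgroup K1) →* S :=
    (Subgroup.inclusion (inf_le_left : normalizerIn S Q0 ≤ S)).comp
      ((MonoidHom.ofInjective hinj).symm.toMonoidHom.comp φ1)
  have hφ : Function.Injective φ :=
    (Subgroup.inclusion_injective (inf_le_left : normalizerIn S Q0 ≤ S)).comp
      ((MonoidHom.ofInjective hinj).symm.injective.comp hφ1)
  refine Cfsg.Agent.Lib.Helper1.Involves.of_injective φ hφ ?_
  rw [Cfsg.Agent.Lib.Helper1.involves_iff]
  refine ⟨⊤, (f1.comp (P1 : Subgroup K1).subtype).comp (⊤ : Subgroup (P1 : Subgroup K1)).subtype, ?_⟩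
  intro q
  have hq : q ∈ (P1 : Subgroup K1).map f1 := by rw [htop]; trivial
  obtain ⟨x, hx, rfl⟩ := hq
  exact ⟨⟨⟨x, hx⟩, trivial⟩, rfl⟩

end Cfsg.Agent.S5299
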