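import Cfsg.Statements.S5615
import Mathlib
import Cfsg.Agent.Lib.Helper10.OctStab
import Cfsg.Agent.Lib.Helper10.TrioArr
import Cfsg.Agent.S5610

set_option autoImplicit false
open scoped Pointwise
open Cfsg

namespace Cfsg.Agent.S5615

open Cfsg.Agent.Lib.Helper28 Cfsg.Agent.Lib.Helper10
open scoped Pointwise

def tq_gens : List (List ℕ) := [
  [17,23,0,2,19,1,10,16,6,13,9,21,11,7,14,22,8,5,18,15,20,4,12,3],
  [3,2,17,5,4,1,8,10,7,9,18,22,21,6,14,12,13,23,16,20,15,11,19,0]]

def tq_masks : ℕ := 0x789810182d505d14406592804cac80311350742a4020ab906920d00cb2505481d0149f00710d80293e004539106c071051a6103da1003886c011b8c02c19c0401ed0258c501d0a9058338060b540343490498b400995900527c0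

def tq_pg : ℕ := 0x1d0015101300121011101100101010000f100d100c000b1009100800071007000610060005100500041004000310030002100200011001000100000

def tq_pos : ℕ := 0x1d00000000000000000000000000000000000000000000000000000000000000000000000000000000000000000000000000000000000000000000000000000000000000000000000000000000000000000000000000000000000000000000000000000000000000000001700000000000000000000000000000000000000000000000000000000000000000000000000000000000000000000000000000000000000000000000000000000000000000000000000001100000000000000000000000000000000000000000000000000000000000000000000000000000000000000000000000000000000000000000000000000000000000000000000000000000000000000000000000000000000000000000000000000000000000000000000000000000000000000000000000e00000000000000000000000000000000000000000000000000000000000000000000000000000000000000000000000000000000000000000000000000000000000000001500000000000000000000000000000000000000000000000000000000000000000000000000000000000000000000000000000000000000000000000000000000000000000000000000000000000000000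000000001a00000000000000000000000000000000000000000000000000000000000000000000000000000000000000000000000000000000000000000000000000000000000000000000000000000000000000000000000000000000000000000000000000000000000000000000000000000000000000000400000000000000000000000000000000000000000000000000000000000000000000000000000000000000000000000000000000000000000000000000000000000000000000000000000000000000000000000000001b00000000000000000000000000000000000000000000000000000000000000000000000000000000000000000000000000000000000000000000000000000000000000000000000000000000000000000000000000000000000000000000000000000000000000000000000000000000000000000500000000000000000000000000000000000000000000000000000000000000000000000000000000000000000000000000000000000000000000000000000000000000000000000000000000000000000000000000000001300000000000000000000000000000000000000000000000000000000000000000000000000000000000000000000000000000000000000000000000000000000000000000d000000000000000000000000000000000000000000000000000000000000000000000000000000000000000000000000000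00000000000000000000000000000000000000000000000000000000000000000000000000000000000000000000000000000000000000000000000000000000000000000001900000000000000000000000000000000000000000000000000000000000000000000000000000000000000000000000000000000000000000000000000000000000000000000000000000200000000000000000000000000000000000000000000000000000000000000000000000000000000000000000000000000000000000000000000000000000000000000000000000000000000000000000000000000000000000000000000000000000000000000f00000000000000000000000000000000000000000000000000000000000000000000000000000000000000000000000000000000000000000000000000000000000000000000000000000000000000000000000000000000000000000000000000000000000000000000000000000000000000000000000000000800000000000000000000000000000000000000000000000000000000000000000000000000000000000000000000000000000000000000000000c0000000000000000000000000000000000000000000000000000000000000000000000000000000000000000000000000000000000000000000000000000000000000000000000000000000000000000000000000000000000000000000000000000000000000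0000000000000000000000000000000000000000b00000000000000000000000000000000000000000000000000000000000000000000000000000000000000000000000000000000000000000000000000000000000000000000000000000000000000000000000000000000000000000000000000000000000000300000000000000000000000000000000000000000000000000000000000000000000000000000000000000000000000000000000000000000000000000000000000000000000000000001800000000000000000000000000000000000000000000000000000000000000000000000000000000000000000000000000000000000000000000000000000000000000000000000000000000000000000000000000000000000000000000000000000000000000000000000000000000000000000000000900000000000000000000000000000000000000000000000000000000000000000000000000000000000000000000000000000000000000000000000000000000000000001000000000000000000000000000000000000000000000000000000000000000000000000000000000000000000000000000000000000000000000000000000000000000000000000000000000000000000000000000000000700000000000000000000000000000000000000000000000000000000000000000000000000000000000000000000000000000000000000000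000000000000000000000000000000000000000000000000000000000000000000000000000000000000000000000000000000000000000000000001600000000000000000000000000000000000000000000000000000000000000000000000000000000000000000000000000000000000000000000000000000000000000000000000000000000000000000000000000000600000000000000000000000000000000000000000000000000000000000000000000000000000000000000000000000000000000000000000000000000000000000000000000000000000000000000000000000000000000000000000000000000000000000000000000000000000000000000001c00000000000000000000000000000000000000000000000000000000000000000000000000000000000000000000000000000000000000000000000000000000000000000000000000000000000000000000000001200000000000000000000000000000000000000000000000000000000000000000000000000000000000000000000000000000000000000000000000000000000000000000a000000000000000000000000000000000000000000000000000000000000000000000000000000000000000000000000000000000000000000000000000000000000000000000000000000000000000000000000000000000000000000000000000000000000000000000000000000000000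000000000014000000000000000000000000000000000000000000000000000000000000000000000000000000000000000000000000000000000000000000000000000000000000000000000000000001000000000000000000000000000000000000000000000000000000000000000000000000000000000000000000000000000000000000000000000000000000000000000000000000000000000000000000000000000000000000000000000000000000000000000000000000000000000000000000000000000000000000000000000000000000000000000000000000000000000000000000000000000000000000000000000000000000000000000000000000000000000000000000000000000000000000000000000000000000000000000000000000000000000000000000000000000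

def tq_rep (c : ℕ) : ℕ := cond (Nat.beq c 0) 7903248 (cond (Nat.beq c 4) 628112 (cond (Nat.beq c 8) 337856 (0)))

def tqP (m : ℕ) : Bool := and (Nat.beq (pcF m) 8) (Nat.beq (pcF (Nat.land 8536111 m)) 0)
def tqCls (m : ℕ) : ℕ := pcF (Nat.land 337856 m)

theorem tq_gens_ok : tq_gens.all (inK [8536111, 337856]) = true := by decide +kernel
theorem tq_orb_ok : orbCheck tq_gens tqCls tq_rep tq_masks tq_pg 30 = true := by decide +kernel
theorem tq_cov_ok : covCheck tqP tq_masks tq_pos 30 = true := by decide +kernel

theorem A0_mem : unmask 337856 ∈ octads :=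
  unmask_mem_octads (by norm_num) (by decide +kernel) (by decide +kernel)

theorem std_pair {s t : Finset GolayPt} (hs : s ∈ octads) (ht : t ∈ octads)
    (hs0 : (stdOctad ∩ s).card = 0) (ht0 : (stdOctad ∩ t).card = 0)
    (h : (unmask 337856 ∩ s).card = (unmask 337856 ∩ t).card) :
    ∃ g ∈ M24, g • stdOctad = stdOctad ∧ g • unmask 337856 = unmask 337856 ∧ g • s = t := by
  rw [mem_octads_iff'] at hs ht
  rw [card_inter_eq_pcF, mask_stdOctad] at hs0 ht0
  rw [card_inter_eq_pcF, card_inter_eq_pcF, mask_unmask _ (by norm_num)] at h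
  have hPs : tqP (mask s) = true := by
    unfold tqP; rw [hs.2, hs0]; rfl
  have hPt : tqP (mask t) = true := by
    unfold tqP; rw [ht.2, ht0]; rfl
  obtain ⟨g, hg, hgs⟩ := orbits_by_class (gens_spec tq_gens_ok) tq_orb_ok tq_cov_ok hs.1 ht.1
    hPs hPt h
  exact ⟨g, (mem_stabK.1 hg).1, (mem_stabK.1 hg).2 _ (by simp), (mem_stabK.1 hg).2 _ (by simp), hgs⟩

theorem norm_pair {o a : Finset GolayPt} (ho : o ∈ octads) (ha : a ∈ octads)
    (h : (o ∩ a).card = 0) : ∃ c ∈ M24, c • o = stdOctad ∧ c • a = unmask 337856 := by
  obtain ⟨x, hx, hxo⟩ := octad_std0 ho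
  have h1 : (stdOctad ∩ x • a).card = (stdOctad ∩ unmask 337856).card := by
    rw [← hxo, card_smul_inter, h, hxo, card_inter_eq_pcF, mask_stdOctad,
      mask_unmask _ (by norm_num)]
    decide +kernel
  obtain ⟨b, hb, hb1, hb2⟩ := stdOct_orbits (Cfsg.Agent.Lib.Helper28.smul_mem_octads hx ha) A0_mem h1
  exact ⟨b * x, M24.mul_mem hb hx, by rw [mul_smul, hxo, hb1], by rw [mul_smul, hb2]⟩

theorem pairP {o a b c d : Finset GolayPt} (ho : o ∈ octads) (ha : a ∈ octads) (hb : b ∈ octads)
    (hc : c ∈ octads) (hd : d ∈ octads) (h1 : (o ∩ a).card = 0) (h2 : (o ∩ b).card = 0)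
    (h3 : (o ∩ c).card = 0) (h4 : (o ∩ d).card = 0) (h5 : (a ∩ b).card = (c ∩ d).card) :
    ∃ g ∈ M24, g • o = o ∧ g • a = c ∧ g • b = d := by
  obtain ⟨x, hx, hxo, hxa⟩ := norm_pair ho ha h1
  obtain ⟨y, hy, hyo, hyc⟩ := norm_pair ho hc h3
  obtain ⟨k, hk, hk1, hk2, hk3⟩ := std_pair (Cfsg.Agent.Lib.Helper28.smul_mem_octads hx hb)
    (Cfsg.Agent.Lib.Helper28.smul_mem_octads hy hd)
    (by rw [← hxo, card_smul_inter, h2]) (by rw [← hyo, card_smul_inter, h4])
    (by
      calc (unmask 337856 ∩ x • b).card = (x • a ∩ x • b).card := by rw [hxa]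
        _ = (a ∩ b).card := card_smul_inter _ _ _
        _ = (c ∩ d).card := h5
        _ = (y • c ∩ y • d).card := (card_smul_inter _ _ _).symm
        _ = (unmask 337856 ∩ y • d).card := by rw [hyc])
  refine ⟨y⁻¹ * k * x, M24.mul_mem (M24.mul_mem (M24.inv_mem hy) hk) hx, ?_, ?_, ?_⟩
  · rw [mul_smul, mul_smul, hxo, hk1, ← hyo, inv_smul_smul]
  · rw [mul_smul, mul_smul, hxa, hk2, ← hyc, inv_smul_smul]
  · rw [mul_smul, mul_smul, hk3, inv_smul_smul]

theorem disj_iff {a b : Finset GolayPt} : Disjoint a b ↔ (a ∩ b).card = 0 := by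
  rw [Finset.card_eq_zero, Finset.disjoint_iff_inter_eq_empty]

/-- structure of a trio through a given octad -/
theorem trio_of_mem {T : Finset (Finset GolayPt)} (hT : T ∈ trios) {o : Finset GolayPt}
    (ho : o ∈ T) : ∃ a ∈ octads, (o ∩ a).card = 0 ∧ (o ∪ a)ᶜ ∈ octads ∧ T = {o, a, (o ∪ a)ᶜ} := by
  obtain ⟨h3, hoct, hdis⟩ := hT
  have h2 : (T.erase o).card = 2 := by rw [Finset.card_erase_of_mem ho, h3]
  obtain ⟨a, a', haa', he⟩ := Finset.card_eq_two.1 h2
  have ha : a ∈ T.erase o := by rw [he]; simp
  have ha' : a' ∈ T.erase o := by rw [he]; simp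
  obtain ⟨hao, haT⟩ := Finset.mem_erase.1 ha
  obtain ⟨ha'o, ha'T⟩ := Finset.mem_erase.1 ha'
  have e3 : a' = (o ∪ a)ᶜ := third_octad (hoct a' ha'T) (hoct o ho) (hoct a haT)
    (hdis a' ha'T o ho ha'o) (hdis a' ha'T a haT haa'.symm) (hdis o ho a haT hao.symm)
  refine ⟨a, hoct a haT, disj_iff.1 (hdis o ho a haT hao.symm), e3 ▸ hoct a' ha'T, ?_⟩
  rw [← e3, ← he, Finset.insert_erase ho]

theorem smul_trio (g : Equiv.Perm GolayPt) (o a : Finset GolayPt) :
    g • ({o, a, (o ∪ a)ᶜ} : Finset (Finset GolayPt)) = {g • o, g • a, (g • o ∪ g • a)ᶜ} := by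
  rw [Finset.smul_finset_insert, Finset.smul_finset_insert, Finset.smul_finset_singleton,
    smul_compl', Finset.smul_finset_union]

/-- two octads disjoint from `o`, one not in the trio of the other, meet in four points -/
theorem inter_four {o a b : Finset GolayPt} (ho : o ∈ octads) (ha : a ∈ octads) (hb : b ∈ octads)
    (ha' : (o ∪ a)ᶜ ∈ octads) (h1 : (o ∩ a).card = 0) (h2 : (o ∩ b).card = 0) (hne : b ≠ a)
    (hne' : b ≠ (o ∪ a)ᶜ) : (a ∩ b).card = 4 := by
  have hsum : (a ∩ b).card + ((o ∪ a)ᶜ ∩ b).card = 8 := by
    rw [← octad_card hb, ← Finset.card_union_of_disjoint]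
    · congr 1
      ext p
      simp only [Finset.mem_union, Finset.mem_inter, Finset.mem_compl, not_or]
      constructor
      · rintro (h | h)
        · exact h.2
        · exact h.2
      · intro hp
        have hpo : p ∉ o := fun hpo =>
          Finset.disjoint_left.1 (disj_iff.2 h2) hpo hp
        by_cases hpa : p ∈ a
        · exact Or.inl ⟨hpa, hp⟩
        · exact Or.inr ⟨⟨hpo, hpa⟩, hp⟩
    · rw [Finset.disjoint_left]
      intro p hp hp'
      simp only [Finset.mem_inter, Finset.mem_compl, Finset.mem_union, not_or] at hp hp'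
      exact hp'.1.2 hp.1
  rcases oct_inter_card ha hb with h | h | h | h
  · exfalso
    apply hne'
    exact (octad_eq_of_inter ha' hb (by omega)).symm
  · exfalso
    rcases oct_inter_card ha' hb with h' | h' | h' | h' <;> omega
  · exact h
  · exfalso
    apply hne
    exact (octad_eq_of_inter ha hb (by omega)).symm

theorem two_trans {o : Finset GolayPt} (ho : o ∈ octads) {T₁ T₂ T₁' T₂' : Finset (Finset GolayPt)}
    (h1 : T₁ ∈ trios) (h2 : T₂ ∈ trios) (h1' : T₁' ∈ trios) (h2' : T₂' ∈ trios)
    (o1 : o ∈ T₁) (o2 : o ∈ T₂) (o1' : o ∈ T₁') (o2' : o ∈ T₂') (hne : T₁ ≠ T₂) (hne' : T₁' ≠ T₂') :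
    ∃ g ∈ M24, g • o = o ∧ g • T₁ = T₁' ∧ g • T₂ = T₂' := by
  obtain ⟨a, ha, hoa, ha', rfl⟩ := trio_of_mem h1 o1
  obtain ⟨b, hb, hob, hb', rfl⟩ := trio_of_mem h2 o2
  obtain ⟨c, hc, hoc, hc', rfl⟩ := trio_of_mem h1' o1'
  obtain ⟨d, hd, hod, hd', rfl⟩ := trio_of_mem h2' o2'
  have key : ∀ {a b : Finset GolayPt}, a ∈ octads → b ∈ octads → (o ∩ a).card = 0 →
      (o ∩ b).card = 0 → (o ∪ a)ᶜ ∈ octads →
      ({o, a, (o ∪ a)ᶜ} : Finset (Finset GolayPt)) ≠ {o, b, (o ∪ b)ᶜ} → (a ∩ b).card = 4 := by
    intro a b ha hb hoa hob ha' hne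
    apply inter_four ho ha hb ha' hoa hob
    · rintro rfl; exact hne rfl
    · intro e
      apply hne
      have e2 : (o ∪ b)ᶜ = a := by
        rw [e]
        ext p
        simp only [Finset.mem_compl, Finset.mem_union, not_or, not_and, not_not]
        constructor
        · intro h
          exact h.2 h.1
        · intro hp
          exact ⟨fun hpo => Finset.disjoint_left.1 (disj_iff.2 hoa) hpo hp, fun _ => hp⟩
      rw [e2, ← e]
      ext t; simp only [Finset.mem_insert, Finset.mem_singleton]; tauto
  obtain ⟨g, hg, hgo, hga, hgb⟩ := pairP ho ha hb hc hd hoa hob hoc hod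
    ((key ha hb hoa hob ha' hne).trans (key hc hd hoc hod hc' hne').symm)
  refine ⟨g, hg, hgo, ?_, ?_⟩
  · rw [smul_trio, hgo, hga]
  · rw [smul_trio, hgo, hgb]

theorem one_trans {o : Finset GolayPt} (ho : o ∈ octads) {T₁ T₁' : Finset (Finset GolayPt)}
    (h1 : T₁ ∈ trios) (h1' : T₁' ∈ trios) (o1 : o ∈ T₁) (o1' : o ∈ T₁') :
    ∃ g ∈ M24, g • o = o ∧ g • T₁ = T₁' := by
  obtain ⟨a, ha, hoa, ha', rfl⟩ := trio_of_mem h1 o1
  obtain ⟨c, hc, hoc, hc', rfl⟩ := trio_of_mem h1' o1'
  obtain ⟨g, hg, hgo, hga, -⟩ := pairP ho ha ha hc hc hoa hoa hoc hoc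
    (by rw [Finset.inter_self, Finset.inter_self, octad_card ha, octad_card hc])
  exact ⟨g, hg, hgo, by rw [smul_trio, hgo, hga]⟩

theorem exists_trio {o : Finset GolayPt} (ho : o ∈ octads) : ∃ T₀ ∈ trios, o ∈ T₀ := by
  have h0 : Dtr 0 ∈ trios := Dtr_mem (by norm_num)
  obtain ⟨b, c, hb, hc, -, -, hT⟩ := trio_struct h0
  obtain ⟨g, hg, hgb⟩ := M24_trans_octads hb ho
  refine ⟨g • Dtr 0, smul_mem_trios hg h0, ?_⟩
  rw [← hgb]
  apply Finset.smul_mem_smul_finset
  rw [hT]; simp

theorem count15 {o : Finset GolayPt} (ho : o ∈ octads) :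
    {T : Finset (Finset GolayPt) | T ∈ trios ∧ o ∈ T}.ncard = 15 := by
  obtain ⟨T₀, hT₀, hoT₀⟩ := exists_trio ho
  have horb : {T : Finset (Finset GolayPt) | T ∈ trios ∧ o ∈ T}
      = MulAction.orbit ↥(MulAction.stabilizer M24 o) T₀ := by
    ext T
    constructor
    · rintro ⟨hT, hoT⟩
      obtain ⟨g, hg, hgo, hgT⟩ := one_trans ho hT₀ hT hoT₀ hoT
      exact ⟨⟨⟨g, hg⟩, hgo⟩, hgT⟩
    · rintro ⟨s, rfl⟩
      have hs : (s.1.1 : Equiv.Perm GolayPt) • o = o := s.2
      refine ⟨smul_mem_trios s.1.2 hT₀, ?_⟩
      show o ∈ (s.1.1 : Equiv.Perm GolayPt) • T₀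
      have h5 : (s.1.1 : Equiv.Perm GolayPt) • o ∈ (s.1.1 : Equiv.Perm GolayPt) • T₀ :=
        Finset.smul_mem_smul_finset hoT₀
      rwa [hs] at h5
  have hle : {T : Finset (Finset GolayPt) | T ∈ trios ∧ o ∈ T}.ncard ≤ 30 := by
    have hsub : {T : Finset (Finset GolayPt) | T ∈ trios ∧ o ∈ T} ⊆
        (fun a => ({o, a, (o ∪ a)ᶜ} : Finset (Finset GolayPt))) ''
          {s : Finset GolayPt | s ∈ octads ∧ (o ∩ s).card = 0} := by
      rintro T ⟨hT, hoT⟩
      obtain ⟨a, ha, hoa, -, rfl⟩ := trio_of_mem hT hoT
      exact ⟨a, ⟨ha, hoa⟩, rfl⟩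
    calc {T : Finset (Finset GolayPt) | T ∈ trios ∧ o ∈ T}.ncard
        ≤ ((fun a => ({o, a, (o ∪ a)ᶜ} : Finset (Finset GolayPt))) ''
          {s : Finset GolayPt | s ∈ octads ∧ (o ∩ s).card = 0}).ncard :=
          Set.ncard_le_ncard hsub (Set.toFinite _)
      _ ≤ {s : Finset GolayPt | s ∈ octads ∧ (o ∩ s).card = 0}.ncard :=
          Set.ncard_image_le (Set.toFinite _)
      _ = 30 := by rw [oct_count ho 0, oct_count0]
  obtain ⟨⟨X₁, hX₁, X₂, hX₂, X₃, hX₃, n1, n2, n3, hU⟩, -⟩ := Cfsg.Agent.S5610.result o ho
  have hmem : T₀ ∈ MulAction.orbit ↥(MulAction.stabilizer M24 o) X₁ ∪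
      MulAction.orbit ↥(MulAction.stabilizer M24 o) X₂ ∪
      MulAction.orbit ↥(MulAction.stabilizer M24 o) X₃ := hU ▸ hT₀
  rw [horb] at hle ⊢
  rcases hmem with (h | h) | h
  · rw [MulAction.orbit_eq_iff.2 h]; exact n1
  · rw [MulAction.orbit_eq_iff.2 h] at hle; omega
  · rw [MulAction.orbit_eq_iff.2 h] at hle; omega

theorem compl_compl2 {o a : Finset GolayPt} (h : (o ∩ a).card = 0) : (o ∪ (o ∪ a)ᶜ)ᶜ = a := by
  ext p
  simp only [Finset.mem_compl, Finset.mem_union, not_or, not_and, not_not]
  constructor
  · intro h
    exact h.2 h.1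
  · intro hp
    exact ⟨fun hpo => Finset.disjoint_left.1 (disj_iff.2 h) hpo hp, fun _ => hp⟩

theorem std_N {g : Equiv.Perm GolayPt} (hg : g ∈ fixG [23, 0, 1, 2, 3, 5]) {a : Finset GolayPt}
    (ha : a ∈ octads) (h0 : (stdOctad ∩ a).card = 0) : g • a = a ∨ g • a = (stdOctad ∪ a)ᶜ := by
  obtain ⟨z, hz, rfl⟩ := fixG6_enum hg
  obtain ⟨hv, -⟩ := checkLevel_spec' level7 (by norm_num) (by simp) _ hz
  have key := forall_octads_of_check (f := fun m => or (not (Nat.beq (pcF (Nat.land 8536111 m)) 0))
    (tg7.all fun z => or (Nat.beq (permMask (trans7.getD z []) m) m)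
      (Nat.beq (permMask (trans7.getD z []) m) (Nat.xor 16777215 (Nat.lor 8536111 m)))))
    (by decide +kernel) ha
  rw [card_inter_eq_pcF, mask_stdOctad] at h0
  have key2 : (tg7.all fun z => or (Nat.beq (permMask (trans7.getD z []) (mask a)) (mask a))
      (Nat.beq (permMask (trans7.getD z []) (mask a))
        (Nat.xor 16777215 (Nat.lor 8536111 (mask a))))) = true := by
    have key' : or (not (Nat.beq (pcF (Nat.land 8536111 (mask a))) 0))
      (tg7.all fun z => or (Nat.beq (permMask (trans7.getD z []) (mask a)) (mask a))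
      (Nat.beq (permMask (trans7.getD z []) (mask a))
        (Nat.xor 16777215 (Nat.lor 8536111 (mask a))))) = true := key
    rw [h0] at key'
    simpa using key'
  have h3 := List.all_eq_true.1 key2 z hz
  rcases Bool.or_eq_true _ _ ▸ h3 with h | h
  · left
    apply mask_injective
    rw [mask_smul, pm_permOf hv]
    exact Nat.eq_of_beq_eq_true h
  · right
    apply mask_injective
    rw [mask_smul, pm_permOf hv, mask_compl', mask_union, mask_stdOctad]
    exact Nat.eq_of_beq_eq_true h

theorem ptfix_trio {o : Finset GolayPt} (ho : o ∈ octads) {g : Equiv.Perm GolayPt} (hg : g ∈ M24)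
    (hfix : ∀ p ∈ o, g p = p) (T : Finset (Finset GolayPt)) (hT : T ∈ trios) (hoT : o ∈ T) :
    g • T = T := by
  obtain ⟨a, ha, hoa, ha', rfl⟩ := trio_of_mem hT hoT
  obtain ⟨h, hh, hho⟩ := octad_std0 ho
  have hgo : g • o = o := smul_eq_of_maps (fun p hp => by rw [hfix p hp]; exact hp)
  have h3 : h * g * h⁻¹ ∈ fixG [23, 0, 1, 2, 3, 5] := by
    refine ⟨M24.mul_mem (M24.mul_mem hh hg) (M24.inv_mem hh), ?_⟩
    intro f hf
    have hf' : pt f ∈ stdOctad := by
      revert f; decide
    rw [← hho] at hf'
    obtain ⟨x, hx, hxe⟩ := Finset.mem_smul_finset.1 hf'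
    have hxe' : h x = pt f := hxe
    rw [← hxe']; simp [hfix x hx]
  have h4 := std_N h3 (Cfsg.Agent.Lib.Helper28.smul_mem_octads hh ha)
    (by rw [← hho, card_smul_inter, hoa])
  have e1 : (h * g * h⁻¹) • h • a = h • g • a := by
    rw [mul_smul, mul_smul, inv_smul_smul]
  rw [e1] at h4
  rw [smul_trio, hgo]
  rcases h4 with h5 | h5
  · rw [smul_left_cancel h h5]
  · have h6 : g • a = (o ∪ a)ᶜ := by
      apply smul_left_cancel h
      rw [h5, smul_compl', Finset.smul_finset_union, hho]
    rw [h6, compl_compl2 hoa]
    ext t; simp only [Finset.mem_insert, Finset.mem_singleton]; tauto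

theorem ker_imp {o : Finset GolayPt} (ho : o ∈ octads) {g : Equiv.Perm GolayPt} (hg : g ∈ M24)
    (hgo : g • o = o) (hT : ∀ T ∈ trios, o ∈ T → g • T = T) : ∀ p ∈ o, g p = p := by
  let K : Subgroup ↥(MulAction.stabilizer M24 o) :=
    { carrier := {s | ∀ T ∈ trios, o ∈ T → (s.1.1 : Equiv.Perm GolayPt) • T = T}
      mul_mem' := by
        intro a b ha hb T hT hoT
        show ((a.1.1 : Equiv.Perm GolayPt) * b.1.1) • T = T
        rw [mul_smul, hb T hT hoT, ha T hT hoT]
      one_mem' := by
        intro T _ _
        exact one_smul _ T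
      inv_mem' := by
        intro a ha T hT hoT
        show ((a.1.1 : Equiv.Perm GolayPt))⁻¹ • T = T
        rw [inv_smul_eq_iff, ha T hT hoT] }
  have hKn : K.Normal := by
    constructor
    intro k hk t T hT hoT
    show ((t.1.1 : Equiv.Perm GolayPt) * k.1.1 * (t.1.1)⁻¹) • T = T
    have ht : (t.1.1 : Equiv.Perm GolayPt) • o = o := t.2
    have h1 : ((t.1.1 : Equiv.Perm GolayPt))⁻¹ • T ∈ trios := smul_mem_trios (M24.inv_mem t.1.2) hT
    have h2 : o ∈ ((t.1.1 : Equiv.Perm GolayPt))⁻¹ • T := by
      have h5 : ((t.1.1 : Equiv.Perm GolayPt))⁻¹ • o ∈ ((t.1.1 : Equiv.Perm GolayPt))⁻¹ • T :=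
        Finset.smul_mem_smul_finset hoT
      rwa [inv_smul_eq_iff.2 ht.symm] at h5
    rw [mul_smul, mul_smul, hk _ h1 h2, smul_inv_smul]
  have hsimple : IsSimpleGroup ↥(restrictHom M24 o).range := by
    rw [range_restrict ho]
    exact alternatingGroup.isSimpleGroup
      (by rw [Nat.card_eq_fintype_card, Fintype.card_coe, octad_card ho]; norm_num)
  have hmapn : (K.map (restrictHom M24 o).rangeRestrict).Normal :=
    hKn.map _ (restrictHom M24 o).rangeRestrict_surjective
  rcases hmapn.eq_bot_or_eq_top with hb | ht
  · have h0 : (restrictHom M24 o).rangeRestrict ⟨⟨g, hg⟩, hgo⟩ ∈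
        K.map (restrictHom M24 o).rangeRestrict :=
      ⟨⟨⟨g, hg⟩, hgo⟩, (show (⟨⟨g, hg⟩, hgo⟩ : ↥(MulAction.stabilizer M24 o)) ∈ K from hT), rfl⟩
    rw [hb, Subgroup.mem_bot] at h0
    have h1 : restrictHom M24 o ⟨⟨g, hg⟩, hgo⟩ = 1 := congrArg Subtype.val h0
    intro p hp
    exact congrArg (fun σ : Equiv.Perm o => ((σ ⟨p, hp⟩ : o) : GolayPt)) h1
  · exfalso
    have hall : ∀ s : ↥(MulAction.stabilizer M24 o), s ∈ K := by
      intro s
      have h0 : (restrictHom M24 o).rangeRestrict s ∈ K.map (restrictHom M24 o).rangeRestrict := by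
        rw [ht]; trivial
      obtain ⟨k, hk, hks⟩ := h0
      have h1 : restrictHom M24 o k = restrictHom M24 o s := congrArg Subtype.val hks
      have h2 : ∀ p ∈ o, ((k⁻¹ * s).1.1 : Equiv.Perm GolayPt) p = p := by
        have h3 : restrictHom M24 o (k⁻¹ * s) = 1 := by rw [map_mul, map_inv, h1, inv_mul_cancel]
        intro p hp
        exact congrArg (fun σ : Equiv.Perm o => ((σ ⟨p, hp⟩ : o) : GolayPt)) h3
      have h4 : k⁻¹ * s ∈ K := fun T hT hoT => ptfix_trio ho (k⁻¹ * s).1.2 h2 T hT hoT
      have e : s = k * (k⁻¹ * s) := by group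
      rw [e]; exact K.mul_mem hk h4
    have h15 := count15 ho
    obtain ⟨T₁, T₂, h1, h2, hne⟩ := (Set.one_lt_ncard_iff (Set.toFinite _)).1
      (show 1 < {T : Finset (Finset GolayPt) | T ∈ trios ∧ o ∈ T}.ncard by rw [h15]; norm_num)
    obtain ⟨g', hg', hg'o, hg'T⟩ := one_trans ho h1.1 h2.1 h1.2 h2.2
    have h5 := hall ⟨⟨g', hg'⟩, hg'o⟩ T₁ h1.1 h1.2
    exact hne (h5.symm.trans hg'T)

/-- An octad of the length-24 code lies in exactly 15 trios; the stabiliser of the octad in the code's group acts doubly transitively on these 15 trios, and the kernel of this action is the pointwise stabiliser of the octad. -/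
theorem result (o : Finset Cfsg.GolayPt) (ho : o ∈ Cfsg.octads) : {T : Finset (Finset Cfsg.GolayPt) | T ∈ Cfsg.trios ∧ o ∈ T}.ncard = 15 ∧ (∀ T₁ T₂ T₁' T₂' : Finset (Finset Cfsg.GolayPt), T₁ ∈ Cfsg.trios → T₂ ∈ Cfsg.trios → T₁' ∈ Cfsg.trios → T₂' ∈ Cfsg.trios → o ∈ T₁ → o ∈ T₂ → o ∈ T₁' → o ∈ T₂' → T₁ ≠ T₂ → T₁' ≠ T₂' → ∃ g ∈ Cfsg.M24, g • o = o ∧ g • T₁ = T₁' ∧ g • T₂ = T₂') ∧ ∀ g ∈ Cfsg.M24, g • o = o → ((∀ T ∈ Cfsg.trios, o ∈ T → g • T = T) ↔ ∀ p ∈ o, g p = p) := by
  refine ⟨count15 ho, ?_, ?_⟩
  · intro T₁ T₂ T₁' T₂' h1 h2 h1' h2' o1 o2 o1' o2' hne hne'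
    exact two_trans ho h1 h2 h1' h2' o1 o2 o1' o2' hne hne'
  · intro g hg hgo
    exact ⟨ker_imp ho hg hgo, fun h T hT hoT => ptfix_trio ho hg h T hT hoT⟩

end Cfsg.Agent.S5615
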