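import Cfsg.Statements.S5726
import Cfsg.Agent.Lib.Helper14.Derang

set_option autoImplicit false
open Cfsg

namespace Cfsg.Agent.S5726

/-- If a finite group acts faithfully and transitively on a set with p^k elements, p a prime and k ≥ 1, then some element of order p fixes no point. -/
theorem result {G Ω : Type*} [Group G] [Finite G] [MulAction G Ω] [FaithfulSMul G Ω] [Fintype Ω] (htr : MulAction.IsPretransitive G Ω)
    (p k : ℕ) (hp : p.Prime) (hk : 1 ≤ k) (hΩ : Fintype.card Ω = p ^ k) :
    ∃ g : G, orderOf g = p ∧ ∀ ω : Ω, g • ω ≠ ω := by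
  classical
  have := Fact.mk hp
  obtain ⟨P⟩ : Nonempty (Sylow p G) := inferInstance
  obtain ⟨H, hHdef⟩ : ∃ H : Subgroup G, H = P := ⟨_, rfl⟩
  have hH : Nat.card H = p ^ (Nat.card G).factorization p := hHdef ▸ P.card_eq_multiplicity
  have hHp : IsPGroup p H := hHdef ▸ P.isPGroup'
  have horb : ∀ ω : Ω, MulAction.orbit H ω = Set.univ := by
    intro ω
    have h := Cfsg.Agent.Lib.Helper14.Derang.pow_dvd_card_orbit htr p hp H hH k
      (by rw [Nat.card_eq_fintype_card, hΩ]) ω
    have hpos : 0 < Nat.card (MulAction.orbit H ω) :=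
      Nat.card_pos_iff.mpr ⟨⟨⟨ω, MulAction.mem_orbit_self ω⟩⟩, inferInstance⟩
    have h1 := Nat.le_of_dvd hpos h
    rw [Nat.card_coe_set_eq] at h1
    rw [Set.eq_univ_iff_ncard, Nat.card_eq_fintype_card, hΩ]
    apply le_antisymm _ h1
    rw [← hΩ, ← Nat.card_eq_fintype_card, ← Set.ncard_univ]
    exact Set.ncard_le_ncard (Set.subset_univ _)
  have hne : Nonempty Ω := Fintype.card_pos_iff.mp (by rw [hΩ]; exact pow_pos hp.pos k)
  obtain ⟨ω₀⟩ := hne
  have hnt : Nontrivial H := by
    by_contra hcon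
    rw [not_nontrivial_iff_subsingleton] at hcon
    have h1 : MulAction.orbit H ω₀ = {ω₀} := by
      ext x
      constructor
      · rintro ⟨h, rfl⟩
        rw [Subsingleton.elim h 1]; simp
      · rintro rfl; exact MulAction.mem_orbit_self _
    have h2 : (Set.univ : Set Ω).ncard = 1 := by rw [← horb ω₀, h1, Set.ncard_singleton]
    rw [Set.ncard_univ, Nat.card_eq_fintype_card, hΩ] at h2
    have h3 : p ^ 1 ≤ p ^ k := Nat.pow_le_pow_right hp.pos hk
    rw [pow_one] at h3
    have := hp.two_le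
    omega
  have := hHp.center_nontrivial
  have hZp : IsPGroup p (Subgroup.center H) := hHp.to_subgroup _
  have hdvd : p ∣ Nat.card (Subgroup.center H) := by
    obtain ⟨j, hj⟩ := hZp.exists_card_eq
    rw [hj]
    rcases Nat.eq_zero_or_pos j with rfl | hj0
    · rw [pow_zero] at hj
      have := Finite.one_lt_card (α := Subgroup.center H)
      omega
    · exact dvd_pow_self p hj0.ne'
  obtain ⟨z, hz⟩ := exists_prime_orderOf_dvd_card' p hdvd
  refine ⟨((z : H) : G), by rw [Subgroup.orderOf_coe, Subgroup.orderOf_coe, hz], ?_⟩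
  intro ω hω
  have hall : ∀ ω' : Ω, ((z : H) : G) • ω' = ω' := by
    intro ω'
    have : ω' ∈ MulAction.orbit H ω := horb ω ▸ Set.mem_univ ω'
    obtain ⟨h, rfl⟩ := this
    have hc : (z : H) * h = h * (z : H) := (Subgroup.mem_center_iff.mp z.2 h).symm
    have hc' : ((z : H) : G) * (h : G) = (h : G) * ((z : H) : G) := by
      exact_mod_cast congrArg (Subtype.val) hc
    show ((z : H) : G) • ((h : G) • ω) = (h : G) • ω
    rw [smul_smul, hc', ← smul_smul, hω]
  have h1 : ((z : H) : G) = 1 := by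
    apply FaithfulSMul.eq_of_smul_eq_smul (α := Ω)
    intro ω'; rw [hall, one_smul]
  have : orderOf ((z : H) : G) = p := by rw [Subgroup.orderOf_coe, Subgroup.orderOf_coe, hz]
  rw [h1, orderOf_one] at this
  exact hp.one_lt.ne this

end Cfsg.Agent.S5726
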