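import Cfsg.Statements.S5727
import Cfsg.Agent.Lib.Helper14.Derang
import Cfsg.Agent.S5726

set_option autoImplicit false
open Cfsg

namespace Cfsg.Agent.S5727

/-- If a finite group acts faithfully and transitively on a set with m·p elements, where p is a prime and 1 ≤ m ≤ p, then some element of order p fixes no point. -/
theorem result {G Ω : Type*} [Group G] [Finite G] [MulAction G Ω] [FaithfulSMul G Ω] [Fintype Ω] (htr : MulAction.IsPretransitive G Ω)
    (p m : ℕ) (hp : p.Prime) (hm : 1 ≤ m) (hmp : m ≤ p) (hΩ : Fintype.card Ω = m * p) :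
    ∃ g : G, orderOf g = p ∧ ∀ ω : Ω, g • ω ≠ ω := by
  classical
  rcases eq_or_lt_of_le hmp with rfl | hlt
  · exact Cfsg.Agent.S5726.result htr m 2 hp (by norm_num) (by rw [hΩ, sq])
  have := Fact.mk hp
  obtain ⟨P⟩ : Nonempty (Sylow p G) := inferInstance
  obtain ⟨H, hHdef⟩ : ∃ H : Subgroup G, H = P := ⟨_, rfl⟩
  have hH : Nat.card H = p ^ (Nat.card G).factorization p := hHdef ▸ P.card_eq_multiplicity
  have hHp : IsPGroup p H := hHdef ▸ P.isPGroup'
  have : Fintype H := Fintype.ofFinite H
  -- every orbit has exactly `p` points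
  have horb : ∀ ω : Ω, (MulAction.orbit H ω).ncard = p := by
    intro ω
    have h := Cfsg.Agent.Lib.Helper14.Derang.pow_dvd_card_orbit htr p hp H hH 1
      (by rw [Nat.card_eq_fintype_card, hΩ, pow_one]; exact Dvd.intro_left m rfl) ω
    rw [Nat.card_coe_set_eq, pow_one] at h
    have h1 : (MulAction.orbit H ω).ncard ∣ Nat.card H := by
      rw [← MulAction.index_stabilizer]; exact Subgroup.index_dvd_card _
    rw [hH] at h1
    obtain ⟨j, -, hj⟩ := (Nat.dvd_prime_pow hp).mp h1
    have h2 : (MulAction.orbit H ω).ncard ≤ m * p := by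
      rw [← hΩ, ← Nat.card_eq_fintype_card, ← Set.ncard_univ]
      exact Set.ncard_le_ncard (Set.subset_univ _)
    have h3 : j < 2 := by
      by_contra hcon
      have : p ^ 2 ≤ p ^ j := Nat.pow_le_pow_right hp.pos (by omega)
      rw [hj] at h2
      nlinarith
    have h4 : j ≠ 0 := by
      rintro rfl
      rw [hj, pow_zero] at h
      exact hp.one_lt.ne' (Nat.dvd_one.mp h)
    have : j = 1 := by omega
    rw [hj, this, pow_one]
  have hidx : ∀ ω : Ω, (MulAction.stabilizer H ω).index = p := fun ω => by
    rw [MulAction.index_stabilizer, horb]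
  have hne : Nonempty Ω := Fintype.card_pos_iff.mp (by rw [hΩ]; exact Nat.mul_pos hm hp.pos)
  obtain ⟨ω₀⟩ := hne
  have hpH : p ∣ Nat.card H := by rw [← hidx ω₀]; exact Subgroup.index_dvd_card _
  have hmin : (Nat.card H).minFac = p := by
    rw [hH] at hpH ⊢
    apply Nat.Prime.pow_minFac hp
    rintro h0
    rw [h0, pow_zero] at hpH
    exact hp.one_lt.ne' (Nat.dvd_one.mp hpH)
  have hnorm : ∀ ω : Ω, (MulAction.stabilizer H ω).Normal := fun ω =>
    Subgroup.normal_of_index_eq_minFac_card (by rw [hidx, hmin])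
  -- an element of `H` fixing a point fixes its whole orbit
  have hfixorb : ∀ (g : H) (ω : Ω), g • ω = ω → ∀ h : H, g • (h • ω) = h • ω := by
    intro g ω hg h
    have h1 : h⁻¹ * g * h⁻¹⁻¹ ∈ MulAction.stabilizer H ω := (hnorm ω).conj_mem g hg h⁻¹
    rw [inv_inv] at h1
    have h2 : (h⁻¹ * g * h) • ω = ω := h1
    calc g • (h • ω) = h • ((h⁻¹ * g * h) • ω) := by simp [smul_smul, mul_assoc]
      _ = h • ω := by rw [h2]
  let f : H → ℕ := fun g => (Finset.univ.filter fun ω : Ω => g • ω = ω).card
  have hf : ∀ g : H, f g = 0 ∨ p ≤ f g := by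
    intro g
    by_cases h0 : ∃ ω : Ω, g • ω = ω
    · right
      obtain ⟨ω, hω⟩ := h0
      rw [← horb ω, Set.ncard_eq_toFinset_card']
      apply Finset.card_le_card
      intro x hx
      rw [Set.mem_toFinset] at hx
      obtain ⟨h, rfl⟩ := hx
      exact Finset.mem_filter.mpr ⟨Finset.mem_univ _, hfixorb g ω hω h⟩
    · left
      push Not at h0
      exact Finset.card_eq_zero.mpr (Finset.filter_eq_empty_iff.mpr fun ω _ => h0 ω)
  have hsum : (∑ g : H, f g) * p = m * p * Fintype.card H := by
    have h1 : ∑ g : H, f g = ∑ ω : Ω, (Finset.univ.filter fun g : H => g • ω = ω).card := by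
      simp only [f, Finset.card_filter]
      exact Finset.sum_comm
    have h2 : ∀ ω : Ω, (Finset.univ.filter fun g : H => g • ω = ω).card * p = Fintype.card H := by
      intro ω
      have h3 := Subgroup.index_mul_card (MulAction.stabilizer H ω)
      rw [hidx, Nat.card_eq_fintype_card, Nat.card_eq_fintype_card, Fintype.card_subtype] at h3
      rw [mul_comm, ← h3]
      rfl
    rw [h1, Finset.sum_mul]
    simp only [h2]
    rw [Finset.sum_const, Finset.card_univ, hΩ, smul_eq_mul]
  have hf1 : f 1 = m * p := by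
    simp [f, hΩ]
  -- some non-identity element has no fixed point
  have hex : ∃ g : H, f g = 0 := by
    by_contra hcon
    push Not at hcon
    have hge : ∀ g : H, p + (if g = 1 then (m * p - p) else 0) ≤ f g := by
      intro g
      by_cases hg : g = 1
      · subst hg
        rw [hf1, if_pos rfl]
        have : p ≤ m * p := Nat.le_mul_of_pos_left p hm
        omega
      · rw [if_neg hg, add_zero]
        exact (hf g).resolve_left (hcon g)
    have h1 := Finset.sum_le_sum fun g (_ : g ∈ Finset.univ) => hge g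
    rw [Finset.sum_add_distrib, Finset.sum_ite_eq' Finset.univ (1 : H), if_pos (Finset.mem_univ _),
      Finset.sum_const, Finset.card_univ, smul_eq_mul] at h1
    have hc : 0 < Fintype.card H := Fintype.card_pos
    have h2 : (Fintype.card H * p + (m * p - p)) * p ≤ m * p * Fintype.card H := by
      rw [← hsum]; exact Nat.mul_le_mul_right p h1
    have h3 : (m + 1) * Fintype.card H ≤ p * Fintype.card H := Nat.mul_le_mul_right _ hlt
    have h4 : (Fintype.card H * p) * p ≤ m * p * Fintype.card H :=
      le_trans (Nat.mul_le_mul_right p (Nat.le_add_right _ _)) h2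
    have hp0 := hp.pos
    nlinarith
  obtain ⟨g, hg⟩ := hex
  have hg0 : ∀ ω : Ω, g • ω ≠ ω := by
    intro ω hω
    have : ω ∈ (Finset.univ.filter fun ω : Ω => g • ω = ω) := Finset.mem_filter.mpr ⟨Finset.mem_univ _, hω⟩
    rw [Finset.card_eq_zero.mp hg] at this
    simp at this
  refine ⟨(g : G), ?_, fun ω => hg0 ω⟩
  apply orderOf_eq_prime
  · apply FaithfulSMul.eq_of_smul_eq_smul (α := Ω)
    intro ω
    rw [one_smul]
    have := hnorm ω
    have h1 := (MulAction.stabilizer H ω).pow_index_mem g
    rw [hidx] at h1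
    exact h1
  · intro h1
    apply hg0 ω₀
    show (g : G) • ω₀ = ω₀
    rw [h1, one_smul]

end Cfsg.Agent.S5727
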