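import Cfsg.Statements.S5728

set_option autoImplicit false
open Cfsg

namespace Cfsg.Agent.S5728

theorem mem_prime_field {K : Type*} [Field K] (p : ℕ) [Fact p.Prime] [CharP K p] [Algebra (ZMod p) K]
    {a : K} (h : a ^ p = a) : ∃ a' : ZMod p, algebraMap (ZMod p) K a' = a := by
  have h1 : a ∈ (⊥ : Subfield K) := (Subfield.mem_bot_iff_pow_eq_self K p).2 h
  obtain ⟨n, hn⟩ := (mem_bot_iff_intCast p K).1 h1
  exact ⟨(n : ZMod p), by rw [map_intCast, hn]⟩

theorem scal_pow {K : Type*} [Field K] (h : Equiv.Perm K) (a : K) (hh : ∀ y, h y = a * y) (k : ℕ) :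
    ∀ y, (h ^ k) y = a ^ k * y := by
  induction k with
  | zero => intro y; simp
  | succ k ih =>
    intro y
    rw [pow_succ, Equiv.Perm.mul_apply, hh, ih, pow_succ]
    ring

/-- An elusive transitive action. Let p = 2^s − 1 be a prime and let F be the field with p² elements. Inside the group of affine maps x ↦ a·x + b of F (a ≠ 0), consider the subgroup of maps with both coefficients in the prime field. Then every element of prime order of the affine group is conjugate, within the affine group, to an element of that subgroup; equivalently, in the transitive action of the affine group on the cosets of that subgroup (of degree p(p + 1)) every element of prime order fixes a point. -/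
theorem result (p s : ℕ) [Fact p.Prime] (hs : p = 2 ^ s - 1)
    (g : Equiv.Perm (GaloisField p 2)) (hg : g ∈ Cfsg.affineGroup (GaloisField p 2)) (hord : (orderOf g).Prime) :
    ∃ x ∈ Cfsg.affineGroup (GaloisField p 2), ∃ a b : ZMod p, a ≠ 0 ∧
      ∀ y : GaloisField p 2, (x * g * x⁻¹) y = algebraMap (ZMod p) (GaloisField p 2) a * y + algebraMap (ZMod p) (GaloisField p 2) b := by
  obtain ⟨a, b, hab⟩ := hg
  by_cases ha : (a : GaloisField p 2) = 1
  · have hb : b ≠ 0 := by
      rintro rfl
      have h1 : g = 1 := by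
        ext y
        simp [hab, ha]
      rw [h1, orderOf_one] at hord
      exact Nat.not_prime_one hord
    obtain ⟨x, hx⟩ : ∃ x : Equiv.Perm (GaloisField p 2), x = Equiv.mulLeft₀ b⁻¹ (inv_ne_zero hb) :=
      ⟨_, rfl⟩
    have hx1 : ∀ y, x y = b⁻¹ * y := by
      intro y
      rw [hx]
      rfl
    refine ⟨x, ⟨Units.mk0 b⁻¹ (inv_ne_zero hb), 0, fun y => by rw [hx1]; simp⟩, 1, 1,
      one_ne_zero, fun y => ?_⟩
    have hxinv : x⁻¹ y = b * y := by
      rw [Equiv.Perm.inv_def, Equiv.symm_apply_eq, hx1, ← mul_assoc, inv_mul_cancel₀ hb, one_mul]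
    rw [Equiv.Perm.mul_apply, Equiv.Perm.mul_apply, hxinv, hab, ha, hx1, map_one, one_mul, one_mul,
      mul_add, ← mul_assoc, inv_mul_cancel₀ hb, one_mul]
  · have h1a : (1 : GaloisField p 2) - a ≠ 0 := fun h => ha (sub_eq_zero.1 h).symm
    obtain ⟨c, hc⟩ : ∃ c : GaloisField p 2, c = b / (1 - a) := ⟨_, rfl⟩
    have hc' : (1 - (a : GaloisField p 2)) * c = b := by
      rw [hc]
      field_simp
    obtain ⟨x, hx⟩ : ∃ x : Equiv.Perm (GaloisField p 2), x = Equiv.addRight (-c) := ⟨_, rfl⟩
    have hx1 : ∀ y, x y = y + -c := by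
      intro y
      rw [hx]
      rfl
    have hxinv : ∀ y, x⁻¹ y = y + c := by
      intro y
      rw [Equiv.Perm.inv_def, Equiv.symm_apply_eq, hx1]
      ring
    have hh : ∀ y, (x * g * x⁻¹) y = (a : GaloisField p 2) * y := by
      intro y
      rw [Equiv.Perm.mul_apply, Equiv.Perm.mul_apply, hxinv, hab, hx1]
      linear_combination - hc'
    have hpow : (x * g * x⁻¹) ^ orderOf g = 1 := by
      rw [conj_pow, pow_orderOf_eq_one, mul_one, mul_inv_cancel]
    have har : (a : GaloisField p 2) ^ orderOf g = 1 := by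
      have h1 := scal_pow _ _ hh (orderOf g) 1
      rw [hpow, mul_one] at h1
      exact h1.symm
    have haru : a ^ orderOf g = 1 := by
      apply Units.ext
      rw [Units.val_pow_eq_pow_val, har, Units.val_one]
    have hau : a ≠ 1 := fun h => ha (by rw [h, Units.val_one])
    have : Fact (orderOf g).Prime := ⟨hord⟩
    have hoa : orderOf a = orderOf g := orderOf_eq_prime haru hau
    have hdvd : orderOf g ∣ p ^ 2 - 1 := by
      rw [← hoa, ← GaloisField.card p 2 two_ne_zero, ← Nat.card_units]
      exact orderOf_dvd_natCard a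
    have hp1 : 1 ≤ p := (Fact.out : p.Prime).one_lt.le
    have hs2 : p + 1 = 2 ^ s := by omega
    have hfac : p ^ 2 - 1 = (p - 1) * 2 ^ s := by
      rw [← hs2]
      obtain ⟨k, rfl⟩ : ∃ k, p = k + 1 := ⟨p - 1, by omega⟩
      simp only [Nat.add_sub_cancel]
      have : (k + 1) ^ 2 = k * (k + 1 + 1) + 1 := by ring
      omega
    rw [hfac] at hdvd
    have hex : ∃ a' : ZMod p, algebraMap (ZMod p) (GaloisField p 2) a' = a := by
      rcases (Nat.Prime.dvd_mul hord).1 hdvd with h | h
      · apply mem_prime_field p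
        obtain ⟨k, hk⟩ := h
        have h2 : (a : GaloisField p 2) ^ (p - 1) = 1 := by rw [hk, pow_mul, har, one_pow]
        have h3 : (a : GaloisField p 2) ^ (p - 1 + 1) = a := by rw [pow_succ, h2, one_mul]
        have h4 : p - 1 + 1 = p := by omega
        calc (a : GaloisField p 2) ^ p = (a : GaloisField p 2) ^ (p - 1 + 1) :=
              congrArg (fun e : ℕ => (a : GaloisField p 2) ^ e) h4.symm
          _ = a := h3
      · have h2 : orderOf g = 2 := (Nat.prime_dvd_prime_iff_eq hord Nat.prime_two).1
          (hord.dvd_of_dvd_pow h)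
        rw [h2] at har
        refine ⟨-1, ?_⟩
        rw [map_neg, map_one]
        have h3 : ((a : GaloisField p 2) - 1) * (a + 1) = 0 := by linear_combination har
        rcases mul_eq_zero.1 h3 with h4 | h4
        · exact absurd (sub_eq_zero.1 h4) ha
        · exact (eq_neg_of_add_eq_zero_left h4).symm
    obtain ⟨a', ha'⟩ := hex
    refine ⟨x, ⟨1, -c, fun y => by rw [hx1]; simp⟩, a', 0, ?_, fun y => ?_⟩
    · rintro rfl
      rw [map_zero] at ha'
      exact a.ne_zero ha'.symm
    · rw [hh, ha', map_zero, add_zero]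

end Cfsg.Agent.S5728
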