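import Cfsg.Statements.S5947
import Cfsg.Agent.Lib.Helper14.SingerConj
import Cfsg.Agent.S2904
open Cfsg.Agent.Lib.Helper14.SingerConj

set_option autoImplicit false
open Cfsg

namespace Cfsg.Agent.S5947

/-- Let F ⊆ K be finite fields with |F| = q and [K : F] = n ≥ 2, regard K as an n-dimensional F-vector space, and let M ≤ GL_F(K) be the Singer group of multiplications by non-zero elements of K (cyclic of order q^n − 1). Assume (n, q) ≠ (6, 2), and that it is not the case that n = 2 with q a prime such that q + 1 is a power of 2. Then every abelian subgroup of GL_F(K) of order q^n − 1 is conjugate to M. -/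
theorem result {F K : Type*} [Field F] [Fintype F] [Field K] [Fintype K] [Algebra F K] (n : ℕ) (hn : 2 ≤ n) (hdim : Module.finrank F K = n)
    (hex1 : ¬ (n = 6 ∧ Fintype.card F = 2))
    (hex2 : ¬ (n = 2 ∧ (Fintype.card F).Prime ∧ ∃ a : ℕ, Fintype.card F + 1 = 2 ^ a))
    (U : Subgroup (Module.End F K)ˣ) (hU : IsMulCommutative U) (hcard : Nat.card U = Fintype.card K - 1) :
    ∃ g : (Module.End F K)ˣ, U.map (MulAut.conj g).toMonoidHom = (Units.map ((Algebra.lmul F K : K →ₐ[F] Module.End F K) : K →* Module.End F K)).range := by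
  classical
  set q := Fintype.card F with hq
  have hq1 : 1 < q := Fintype.one_lt_card
  have hK : Fintype.card K = q ^ n := by rw [← hdim]; exact Module.card_eq_pow_finrank
  have hprime : ∀ m : ℕ, q + 1 = 2 ^ m → q.Prime := by
    intro m hm
    obtain ⟨p, k, hp, hk, hpk⟩ := FiniteField.isPrimePow_card F
    have hp' : p.Prime := Nat.prime_iff.2 hp
    rw [← hq] at hpk
    by_cases hk1 : k = 1
    · subst hk1; rw [pow_one] at hpk; rwa [← hpk]
    exfalso
    have hk2 : 2 ≤ k := by omega
    have hm0 : m ≠ 0 := by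
      rintro rfl
      simp at hm
      omega
    have hp2 : p ≠ 2 := by
      rintro rfl
      have h1 : 2 ∣ q := by rw [← hpk]; exact dvd_pow_self 2 (by omega)
      have h2 : 2 ∣ q + 1 := by rw [hm]; exact dvd_pow_self 2 hm0
      omega
    obtain ⟨s, hs, hs1, hs2⟩ := Cfsg.Agent.S2904.result p (2*k) hp'.one_lt (by omega)
      (by tauto) (by omega)
    have h1 : p ^ (2 * k) - 1 = (q - 1) * (q + 1) := by
      rw [mul_comm 2 k, pow_mul, hpk]
      obtain ⟨t, ht⟩ : ∃ t, q = t + 1 := ⟨q - 1, by omega⟩
      rw [ht]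
      simp only [Nat.add_sub_cancel]
      have : (t + 1) ^ 2 = t * (t + 1 + 1) + 1 := by ring
      rw [this, Nat.add_sub_cancel]
    rw [h1] at hs1
    rcases (Nat.Prime.dvd_mul hs).1 hs1 with h | h
    · apply hs2 k (by omega) (by omega)
      rwa [hpk]
    · rw [hm] at h
      have h3 := (Nat.prime_dvd_prime_iff_eq hs Nat.prime_two).1 (hs.dvd_of_dvd_pow h)
      subst h3
      apply hs2 1 (by omega) (by omega)
      rw [pow_one]
      rcases hp'.eq_two_or_odd with h4 | h4
      · exact absurd h4 hp2
      · omega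
  obtain ⟨r, hr, hr1, hr2⟩ := Cfsg.Agent.S2904.result q n hq1 (by omega) (by tauto) (by
    rintro ⟨h2, m, hm⟩
    exact hex2 ⟨h2, hprime m hm, m, hm⟩)
  have : Fact r.Prime := ⟨hr⟩
  have hfinE : Finite (Module.End F K) := Finite.of_injective (fun f : Module.End F K => (f : K → K))
    DFunLike.coe_injective
  have hfinU : Finite (Module.End F K)ˣ := inferInstance
  obtain ⟨x, hx⟩ := exists_prime_orderOf_dvd_card' (G := U) r (by rw [hcard, hK]; exact hr1)
  have hxr : (x.1 : (Module.End F K)ˣ) ^ r = 1 := by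
    have := pow_orderOf_eq_one x
    rw [hx] at this
    exact congrArg Subtype.val this
  have hx1 : (x.1 : (Module.End F K)ˣ) ≠ 1 := by
    intro h
    have : x = 1 := Subtype.ext h
    rw [this, orderOf_one] at hx
    exact hr.one_lt.ne hx
  have hirrOf : ∀ z : (Module.End F K)ˣ, z ^ r = 1 → z ≠ 1 →
      ∀ W : Submodule F K, (∀ w ∈ W, (z : Module.End F K) w ∈ W) → W = ⊥ ∨ W = ⊤ := by
    intro z hz hz1
    exact irreducible_of_order hdim hr hr1 hr2 (z : Module.End F K)
      (by rw [← Units.val_pow_eq_pow_val, hz, Units.val_one])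
      (fun h => hz1 (Units.ext h))
  have hxK : ((x.1 : (Module.End F K)ˣ) : Module.End F K) ^ Fintype.card K = x.1 := by
    obtain ⟨c, hc⟩ := hr1
    have h1 : Fintype.card K = r * c + 1 := by
      rw [hK, ← hc]
      have := Nat.one_le_pow n q (by omega)
      omega
    rw [h1, pow_succ, pow_mul, ← Units.val_pow_eq_pow_val, hxr, Units.val_one, one_pow, one_mul]
  obtain ⟨g, θ, hg⟩ := exists_conj_lmul x.1 (hirrOf x.1 hxr hx1) hxK
  refine ⟨g, ?_⟩
  set y : (Module.End F K)ˣ := MulAut.conj g x.1 with hy
  have hyθ : (y : Module.End F K) = Algebra.lmul F K θ := by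
    rw [hy, MulAut.conj_apply, Units.val_mul, Units.val_mul, hg, mul_assoc, Units.mul_inv, mul_one]
  have hyr : y ^ r = 1 := by rw [hy, ← map_pow, hxr, map_one]
  have hy1 : y ≠ 1 := by
    intro h
    apply hx1
    apply (MulAut.conj g).injective
    rw [map_one]; exact h
  have hcent := card_centralizer_le y (hirrOf y hyr hy1)
  rw [Nat.card_eq_fintype_card (α := K)] at hcent
  have hU1 : U.map (MulAut.conj g).toMonoidHom ≤ Subgroup.centralizer {y} := by
    rintro _ ⟨u, hu, rfl⟩
    rw [Subgroup.mem_centralizer_iff]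
    rintro _ rfl
    have h1 : x * ⟨u, hu⟩ = ⟨u, hu⟩ * x := mul_comm' _ _
    have h2 : x.1 * u = u * x.1 := congrArg Subtype.val h1
    change MulAut.conj g x.1 * MulAut.conj g u = MulAut.conj g u * MulAut.conj g x.1
    rw [← map_mul, ← map_mul, h2]
  have hM1 : (Units.map ((Algebra.lmul F K : K →ₐ[F] Module.End F K) : K →* Module.End F K)).range
      ≤ Subgroup.centralizer {y} := by
    rintro _ ⟨a, rfl⟩
    rw [Subgroup.mem_centralizer_iff]
    rintro _ rfl
    apply Units.ext
    rw [Units.val_mul, Units.val_mul, hyθ]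
    change Algebra.lmul F K θ * Algebra.lmul F K a = Algebra.lmul F K a * Algebra.lmul F K θ
    rw [← map_mul, ← map_mul, mul_comm]
  have hUc : Nat.card (U.map (MulAut.conj g).toMonoidHom) = Fintype.card K - 1 := by
    rw [Subgroup.card_map_of_injective (MulAut.conj g).injective, hcard]
  have hMc : Nat.card (Units.map
      ((Algebra.lmul F K : K →ₐ[F] Module.End F K) : K →* Module.End F K)).range
      = Fintype.card K - 1 := by
    rw [← Nat.card_eq_fintype_card, ← Nat.card_units]
    apply Nat.card_congr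
    exact (MonoidHom.ofInjective (f := Units.map
      ((Algebra.lmul F K : K →ₐ[F] Module.End F K) : K →* Module.End F K)) (by
        apply Units.map_injective
        exact Algebra.lmul_injective)).symm.toEquiv
  rw [Subgroup.eq_of_le_of_card_ge hU1 (by rw [hUc]; exact hcent),
    Subgroup.eq_of_le_of_card_ge hM1 (by rw [hMc]; exact hcent)]

end Cfsg.Agent.S5947
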